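import Cfsg.Agent.Lib.PF.Sec14Main
import Cfsg.Agent.Lib.FTCons.Basic

/-!
# The Odd Order Theorem
-/

set_option autoImplicit false

namespace CfsgLib.PF

universe u

/-- There is no minimal simple group of odd order. -/
theorem not_isMinSimpleOddOrder (H : Type u) [Group H] [Finite H] :
    ¬ Cfsg.IsMinSimpleOddOrder H := fun hG => by
  have := Fintype.ofFinite H
  exact false_of_pairFinal hG (propPairFinal hG)

/-- The Odd Order Theorem. -/
theorem oddSolvable : CfsgLib.FTCons.OddSolvable.{u} :=
  oddSolvable_of_false fun H _ _ hG => not_isMinSimpleOddOrder H hG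

end CfsgLib.PF
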