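import Mathlib
import Cfsg.Agent.Lib.CNCount.LinearChars
import Cfsg.Agent.Lib.Characters.Values
import Cfsg.Agent.Lib.Characters.Induction
import Cfsg.Agent.Lib.Coprime.Action

/-!
# Linear characters of a subgroup as functions on the ambient group

`lval η` is the extension by zero of a linear character.  Counting of the linear characters trivial on a
subgroup with abelian quotient, and extension to a semidirect product.
-/

set_option autoImplicit false
set_option linter.style.haveILetI false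

namespace CfsgLib.PF.Nine

open Cfsg CfsgLib.Characters
open scoped Classical

universe u

variable {G : Type u} [Group G] {X : Subgroup G}

/-- A linear character of `X`, extended by zero. -/
noncomputable def lval {X : Subgroup G} (η : X →* ℂˣ) : G → ℂ :=
  extendByZero X fun x => (η x : ℂ)

theorem lval_mem {X : Subgroup G} (η : X →* ℂˣ) {g : G} (hg : g ∈ X) :
    lval η g = (η ⟨g, hg⟩ : ℂ) :=
  CfsgLib.Induction.extendByZero_mem X _ hg

theorem lval_coe {X : Subgroup G} (η : X →* ℂˣ) (x : X) : lval η x = (η x : ℂ) := lval_mem η x.2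

theorem lval_one {X : Subgroup G} (η : X →* ℂˣ) : lval η 1 = 1 := by
  rw [lval_mem η X.one_mem, show (⟨1, X.one_mem⟩ : X) = 1 from rfl, map_one, Units.val_one]

theorem lval_mul {X : Subgroup G} (η : X →* ℂˣ) {a b : G} (ha : a ∈ X) (hb : b ∈ X) :
    lval η (a * b) = lval η a * lval η b := by
  rw [lval_mem η ha, lval_mem η hb, lval_mem η (X.mul_mem ha hb), ← Units.val_mul, ← map_mul]
  rfl

theorem lval_inv {X : Subgroup G} (η : X →* ℂˣ) {a : G} (ha : a ∈ X) :
    lval η a⁻¹ = (lval η a)⁻¹ := by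
  rw [lval_mem η ha, lval_mem η (X.inv_mem ha), ← Units.val_inv_eq_inv_val, ← map_inv]
  rfl

theorem lval_ne_zero {X : Subgroup G} (η : X →* ℂˣ) {a : G} (ha : a ∈ X) : lval η a ≠ 0 := by
  rw [lval_mem η ha]; exact Units.ne_zero _

theorem lval_conj {X : Subgroup G} (η : X →* ℂˣ) {a b : G} (ha : a ∈ X) (hb : b ∈ X) :
    lval η (a * b * a⁻¹) = lval η b := by
  rw [lval_mul η (X.mul_mem ha hb) (X.inv_mem ha), lval_mul η ha hb, lval_inv η ha]
  field_simp [lval_ne_zero η ha]

theorem lval_ext {X : Subgroup G} {η η' : X →* ℂˣ} (h : ∀ x ∈ X, lval η x = lval η' x) : η = η' :=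
  MonoidHom.ext fun x => Units.ext (by have := h x x.2; rwa [lval_coe, lval_coe] at this)

theorem exists_apply_ne {X : Subgroup G} {η : X →* ℂˣ} (h : η ≠ 1) : ∃ x ∈ X, lval η x ≠ 1 := by
  by_contra hc
  push Not at hc
  refine h (lval_ext fun x hx => ?_)
  rw [hc x hx, lval_mem _ hx, MonoidHom.one_apply, Units.val_one]

/-- `d` fixes the linear character `η`. -/
def LFix (η : X →* ℂˣ) (d : G) : Prop := ∀ x ∈ X, lval η (d * x * d⁻¹) = lval η x

theorem LFix.mul {η : X →* ℂˣ} {a b : G} (ha : LFix η a) (hb : LFix η b)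
    (hbX : ∀ x ∈ X, b * x * b⁻¹ ∈ X) : LFix η (a * b) := fun x hx => by
  have e : a * b * x * (a * b)⁻¹ = a * (b * x * b⁻¹) * a⁻¹ := by group
  rw [e, ha _ (hbX x hx), hb x hx]

theorem lfix_of_mem (η : X →* ℂˣ) {a : G} (ha : a ∈ X) : LFix η a := fun _ hx => lval_conj η ha hx

/-- The linear characters trivial on `A` are those of the quotient. -/
theorem card_hom_ker {K : Type u} [Group K] [Finite K] (N : Subgroup K) [N.Normal]
    (h : ∀ a b : K, a * b * a⁻¹ * b⁻¹ ∈ N) :
    Nat.card {f : K →* ℂˣ // ∀ x ∈ N, f x = 1} = N.index := by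
  have hc : commutator (K ⧸ N) = ⊥ := by
    rw [eq_bot_iff, commutator_def, Subgroup.commutator_le]
    intro a _ b _
    obtain ⟨a, rfl⟩ := QuotientGroup.mk'_surjective N a
    obtain ⟨b, rfl⟩ := QuotientGroup.mk'_surjective N b
    rw [Subgroup.mem_bot, ← map_commutatorElement, QuotientGroup.mk'_apply, QuotientGroup.eq_one_iff,
      commutatorElement_def]
    exact h a b
  have h1 : Nat.card (K ⧸ N →* ℂˣ) = N.index := by
    rw [CfsgLib.CNCount.card_unitsHom, hc, Subgroup.index_bot, Subgroup.index_eq_card]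
  rw [← h1]
  exact Nat.card_congr
    { toFun := fun f => QuotientGroup.lift N f.1 fun x hx => MonoidHom.mem_ker.mpr (f.2 x hx)
      invFun := fun f => ⟨f.comp (QuotientGroup.mk' N), fun x hx => by
        rw [MonoidHom.comp_apply, QuotientGroup.mk'_apply, (QuotientGroup.eq_one_iff x).mpr hx, map_one]⟩
      left_inv := fun f => Subtype.ext (MonoidHom.ext fun x => rfl)
      right_inv := fun f => MonoidHom.ext fun x => QuotientGroup.induction_on x fun y => rfl }

variable {A : Subgroup G}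

theorem normal_subgroupOf_of_comm (hA : A ≤ X) (h : ∀ a ∈ X, ∀ b ∈ X, a * b * a⁻¹ * b⁻¹ ∈ A) :
    (A.subgroupOf X).Normal :=
  Subgroup.normal_subgroupOf_of_le_normalizer (Subgroup.le_normalizer_iff.2 fun g hg a ha => by
    have e : g * a * g⁻¹ = g * a * g⁻¹ * a⁻¹ * a := by group
    rw [e]; exact A.mul_mem (h g hg a (hA ha)) ha)

theorem card_lin [Finite G] (hA : A ≤ X) (h : ∀ a ∈ X, ∀ b ∈ X, a * b * a⁻¹ * b⁻¹ ∈ A) :
    Nat.card {f : X →* ℂˣ // ∀ x ∈ A, lval f x = 1} = A.relIndex X := by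
  haveI := normal_subgroupOf_of_comm hA h
  rw [Subgroup.relIndex, ← card_hom_ker (A.subgroupOf X) fun a b => h a a.2 b b.2]
  refine Nat.card_congr (Equiv.subtypeEquivRight fun f => ⟨fun hf x hx => ?_, fun hf x hx => ?_⟩)
  · have := hf x hx
    rw [lval_coe] at this
    exact Units.ext this
  · rw [lval_mem f (hA hx), hf ⟨x, hA hx⟩ hx, Units.val_one]

theorem card_lin_ne_one [Finite G] (hA : A ≤ X) (h : ∀ a ∈ X, ∀ b ∈ X, a * b * a⁻¹ * b⁻¹ ∈ A) :
    Nat.card {f : X →* ℂˣ // f ≠ 1 ∧ ∀ x ∈ A, lval f x = 1} = A.relIndex X - 1 := by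
  haveI : Fintype (X →* ℂˣ) := Fintype.ofFinite _
  rw [← card_lin hA h, Nat.card_eq_fintype_card, Nat.card_eq_fintype_card, Fintype.card_subtype,
    Fintype.card_subtype]
  have h1 : (1 : X →* ℂˣ) ∈ Finset.univ.filter fun f : X →* ℂˣ => ∀ x ∈ A, lval f x = 1 :=
    Finset.mem_filter.mpr ⟨Finset.mem_univ _, fun x hx => by
      rw [lval_mem _ (hA hx), MonoidHom.one_apply, Units.val_one]⟩
  rw [← Finset.card_erase_of_mem h1]
  congr 1
  ext f
  simp

theorem exists_lin [Finite G] (hA : A ≤ X) (h : ∀ a ∈ X, ∀ b ∈ X, a * b * a⁻¹ * b⁻¹ ∈ A) {x : G}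
    (hx : x ∈ X) (hxA : x ∉ A) : ∃ f : X →* ℂˣ, (∀ y ∈ A, lval f y = 1) ∧ lval f x ≠ 1 := by
  haveI := normal_subgroupOf_of_comm hA h
  let π := QuotientGroup.mk' (A.subgroupOf X)
  have hc : commutator (X ⧸ A.subgroupOf X) = ⊥ := by
    rw [eq_bot_iff, commutator_def, Subgroup.commutator_le]
    intro a _ b _
    obtain ⟨a, rfl⟩ := QuotientGroup.mk'_surjective (A.subgroupOf X) a
    obtain ⟨b, rfl⟩ := QuotientGroup.mk'_surjective (A.subgroupOf X) b
    rw [Subgroup.mem_bot, ← map_commutatorElement, QuotientGroup.mk'_apply, QuotientGroup.eq_one_iff,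
      commutatorElement_def]
    exact h a a.2 b b.2
  have hπ : π ⟨x, hx⟩ ∉ commutator (X ⧸ A.subgroupOf X) := by
    rw [hc, Subgroup.mem_bot]
    exact fun e => hxA ((QuotientGroup.eq_one_iff (N := A.subgroupOf X) (⟨x, hx⟩ : X)).mp e)
  obtain ⟨φ, hφ⟩ := CfsgLib.CNCount.exists_unitsHom_ne_one hπ
  refine ⟨φ.comp π, fun y hy => ?_, fun e => hφ ?_⟩
  · rw [lval_mem _ (hA hy), MonoidHom.comp_apply,
      show π ⟨y, hA hy⟩ = 1 from (QuotientGroup.eq_one_iff _).mpr hy, map_one, Units.val_one]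
  · rw [lval_mem _ hx] at e
    exact Units.ext e

/-- A character of `N` and one of `K` combine on `N ⊔ K` when the first is `K`-invariant. -/
theorem exists_hom_sup {N K : Subgroup G} (f : N →* ℂˣ) (g : K →* ℂˣ)
    (hK : K ≤ Subgroup.normalizer (N : Set G)) (hd : N ⊓ K = ⊥)
    (hinv : ∀ k ∈ K, ∀ n ∈ N, lval f (k * n * k⁻¹) = lval f n) :
    ∃ η : ↥(N ⊔ K) →* ℂˣ, (∀ n ∈ N, lval η n = lval f n) ∧ ∀ k ∈ K, lval η k = lval g k := by
  let φ : K →* MulAut N := (Subgroup.normalizerMonoidHom N).comp (Subgroup.inclusion hK)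
  have hφ : ∀ (k : K) (n : N), (φ k n : G) = (k : G) * n * (k : G)⁻¹ := fun k n => rfl
  let mm : N ⋊[φ] K →* ↥(N ⊔ K) := SemidirectProduct.lift (Subgroup.inclusion le_sup_left)
    (Subgroup.inclusion le_sup_right) fun k => MonoidHom.ext fun n => Subtype.ext (hφ k n)
  have hmm : ∀ x : N ⋊[φ] K, (mm x : G) = (x.left : G) * (x.right : G) := fun x => rfl
  have hinj : Function.Injective mm := (injective_iff_map_eq_one mm).mpr fun x hx => by
    have e : (x.left : G) * (x.right : G) = 1 := by rw [← hmm, hx]; rfl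
    have hm : (x.left : G) ∈ N ⊓ K := ⟨x.left.2, by
      rw [mul_eq_one_iff_eq_inv.mp e]; exact K.inv_mem x.right.2⟩
    rw [hd, Subgroup.mem_bot] at hm
    refine SemidirectProduct.ext (Subtype.ext hm) (Subtype.ext ?_)
    rw [hm, one_mul] at e
    exact e
  have hsurj : Function.Surjective mm := fun y => by
    have h1 : (y : G) ∈ ((K ⊔ N : Subgroup G) : Set G) := by rw [sup_comm]; exact y.2
    rw [Subgroup.coe_mul_of_left_le_normalizer_right K N hK] at h1
    obtain ⟨k, hk, n, hn, e⟩ := Set.mem_mul.mp h1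
    refine ⟨⟨⟨k * n * k⁻¹, (Subgroup.mem_normalizer_iff.mp (hK hk) n).mp hn⟩, ⟨k, hk⟩⟩, Subtype.ext ?_⟩
    rw [hmm, ← e]
    group
  let e := MulEquiv.ofBijective mm ⟨hinj, hsurj⟩
  let F : N ⋊[φ] K →* ℂˣ := SemidirectProduct.lift f g fun k => MonoidHom.ext fun n => Units.ext (by
    simp only [MonoidHom.coe_comp, MulEquiv.coe_toMonoidHom, Function.comp_apply, MulAut.conj_apply,
      mul_inv_cancel_comm]
    rw [← lval_coe, ← lval_coe, hφ, hinv k k.2 n n.2])
  have key : ∀ z : N ⋊[φ] K, lval (F.comp e.symm.toMonoidHom) (mm z : G) = (F z : ℂ) := fun z => by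
    rw [lval_coe, MonoidHom.comp_apply]
    exact congrArg (fun t => (F t : ℂ)) (e.symm_apply_apply z)
  refine ⟨F.comp e.symm.toMonoidHom, fun n hn => ?_, fun k hk => ?_⟩
  · have h1 := key (SemidirectProduct.inl ⟨n, hn⟩)
    rw [hmm] at h1
    simpa [F, lval_mem f hn] using h1
  · have h1 := key (SemidirectProduct.inr ⟨k, hk⟩)
    rw [hmm] at h1
    simpa [F, lval_mem g hk] using h1

/-- An irreducible character trivial on the kernel of a surjection comes from below. -/
theorem exists_descend {K Q : Type u} [Group K] [Finite K] [Group Q] (f : K →* Q)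
    (hf : Function.Surjective f) {θ : K → ℂ} (hθ : IsIrrCharacter K θ)
    (hker : ∀ x, f x = 1 → θ x = θ 1) : ∃ ψ : Q → ℂ, IsIrrCharacter Q ψ ∧ ∀ x, θ x = ψ (f x) := by
  obtain ⟨n, ρ, hρ, rfl⟩ := hθ
  have hid : ∀ a b, f a = f b → ρ a = ρ b := by
    intro a b e
    have h1 : f (b⁻¹ * a) = 1 := by rw [map_mul, map_inv, e, inv_mul_cancel]
    have h2 : ρ (b⁻¹ * a) = LinearMap.id :=
      (char_eq_degree_iff ρ _).mp ((hker _ h1).trans ρ.char_one)
    calc ρ a = ρ b * ρ (b⁻¹ * a) := by rw [← map_mul, mul_inv_cancel_left]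
      _ = ρ b := by rw [h2]; rfl
  let s := Function.surjInv hf
  have hs : ∀ q, f (s q) = q := Function.surjInv_eq hf
  let σ : Representation ℂ Q (Fin n → ℂ) :=
    { toFun := fun q => ρ (s q)
      map_one' := by rw [hid (s 1) 1 (by rw [hs, map_one]), map_one]
      map_mul' := fun a b => by
        rw [← map_mul]; exact hid _ _ (by rw [map_mul, hs, hs, hs]) }
  have hσ : ∀ x, σ (f x) = ρ x := fun x => hid _ _ (hs _)
  refine ⟨σ.character, ⟨n, σ, ?_, rfl⟩, fun x => ?_⟩
  · rw [isIrreducible_iff] at hρ ⊢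
    exact ⟨hρ.1, fun V hV => hρ.2 V fun g v hv => by rw [← hσ]; exact hV _ v hv⟩
  · show LinearMap.trace ℂ _ (ρ x) = LinearMap.trace ℂ _ (σ (f x))
    rw [hσ]

/-- A character taking its degree at `c` is invariant under translation by `c`. -/
theorem char_translate_right {K : Type u} [Group K] [Finite K] {χ : K → ℂ} (h : IsCharacter K χ)
    {c : K} (hc : χ c = χ 1) (g : K) : χ (g * c) = χ g := by
  obtain ⟨n, ρ, rfl⟩ := h
  have e : ρ c = LinearMap.id :=
    (char_eq_degree_iff ρ c).mp (by rw [hc, Representation.char_one])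
  simp only [Representation.character, map_mul, e]
  rfl

theorem char_mul_eq_one {K : Type u} [Group K] [Finite K] {χ : K → ℂ} (h : IsCharacter K χ)
    {a b : K} (ha : χ a = χ 1) (hb : χ b = χ 1) : χ (a * b) = χ 1 := by
  rw [char_translate_right h hb, ha]

end CfsgLib.PF.Nine
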