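import Mathlib
import Cfsg.Prelude.Def_OddOrderLocal
import Cfsg.Prelude.Def_OddOrderChar

/-!
# Peterfalvi §8–14: shared vocabulary

`OfTypeI` is Type I with the cyclicity clause put on `O_{p'}(M_F)`, as the character theory uses it.
`suppA`, `suppA0` are the sets A(M), A₀(M) relative to it.
-/

set_option autoImplicit false

namespace CfsgLib.PF

open scoped Classical

universe u

variable {G : Type u} [Group G]

/-- Type I, the cyclicity clause being on `O_{p'}(M_F)`. -/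
def OfTypeI (M : Subgroup G) : Prop :=
  Cfsg.IsOfTypeF M ∧
  ( Cfsg.IsTISubset (Cfsg.fittingHallOf M : Set G) ∨
    (IsMulCommutative (Cfsg.fittingHallOf M) ∧ Cfsg.RankLE 2 (Cfsg.fittingHallOf M) ∧
      ¬ Cfsg.RankLE 1 (Cfsg.fittingHallOf M)) ∨
    ((∀ p : ℕ, p.Prime → p ∣ Nat.card (Cfsg.fittingHallOf M) →
        Monoid.exponent (M ⧸ Cfsg.fittingHall M) ∣ p - 1) ∧
      ∃ p : ℕ, p.Prime ∧ p ∣ Nat.card (Cfsg.fittingHallOf M) ∧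
        IsCyclic (Cfsg.pPrimeCore p (Cfsg.fittingHallOf M))) )

/-- One of the Types II–V. -/
def OfTypeII_V (M : Subgroup G) : Prop :=
  Cfsg.IsOfTypeII M ∨ Cfsg.IsOfTypeIII M ∨ Cfsg.IsOfTypeIV M ∨ Cfsg.IsOfTypeV M

/-- `M` is a Frobenius group with kernel `M_F`, in centraliser form. -/
def IsFrobF (M : Subgroup G) : Prop :=
  ∀ x ∈ Cfsg.fittingHallOf M, x ≠ 1 →
    M ⊓ Subgroup.centralizer ({x} : Set G) ≤ Cfsg.fittingHallOf M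

/-- Type II in terms of given type P data. -/
structure Kind2 (M W₁ U W₂ : Subgroup G) : Prop where
  data : Cfsg.IsTypePWith M W₁ U W₂
  U_ne : U ≠ ⊥
  W₁_prime : (Nat.card W₁).Prime
  TI : Cfsg.IsTISubset (Cfsg.fittingOf M : Set G)
  U_comm : IsMulCommutative U
  normalizer_not_le : ¬ Subgroup.normalizer (U : Set G) ≤ M
  derived_typeF : Cfsg.IsOfTypeF ↥⁅M, M⁆
  derived_fittingHall : Cfsg.fittingHallOf ⁅M, M⁆ = Cfsg.fittingHallOf M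

/-- Type III or IV in terms of given type P data (Type III exactly when `U` is abelian). -/
structure Kind34 (M W₁ U W₂ : Subgroup G) : Prop where
  data : Cfsg.IsTypePWith M W₁ U W₂
  U_ne : U ≠ ⊥
  W₁_prime : (Nat.card W₁).Prime
  TI : Cfsg.IsTISubset (Cfsg.fittingOf M : Set G)
  normalizer_le : Subgroup.normalizer (U : Set G) ≤ M

/-- Type V in terms of given type P data. -/
structure Kind5 (M W₁ U W₂ : Subgroup G) : Prop where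
  data : Cfsg.IsTypePWith M W₁ U W₂
  U_eq : U = ⊥
  cases : Cfsg.IsTISubset (Cfsg.fittingHallOf M : Set G) ∨
    (∃ p : ℕ, p.Prime ∧ p ∣ Nat.card (Cfsg.fittingHallOf M) ∧ Nat.card W₁ ∣ p - 1 ∧
      IsCyclic (Cfsg.pPrimeCore p (Cfsg.fittingHallOf M))) ∨
    (∃ p : ℕ, p.Prime ∧ p ∣ Nat.card (Cfsg.fittingHallOf M) ∧
      Nat.card (Cfsg.pCore p (Cfsg.fittingHallOf M)) = p ^ 3 ∧ Nat.card W₁ ∣ p + 1 ∧
      IsCyclic (Cfsg.pPrimeCore p (Cfsg.fittingHallOf M)))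

/-- The pair `S`, `T` of maximal subgroups of type P meeting in `W₁W₂`. -/
structure TypePPair (S T W₁ W₂ U V : Subgroup G) : Prop where
  left_max : IsCoatom S
  right_max : IsCoatom T
  left : Cfsg.IsTypePWith S W₁ U W₂
  right : Cfsg.IsTypePWith T W₂ V W₁
  inter : S ⊓ T = W₁ ⊔ W₂
  some_II : Cfsg.IsOfTypeII S ∨ Cfsg.IsOfTypeII T
  left_II_V : OfTypeII_V S
  right_II_V : OfTypeII_V T

/-- The non-identity elements of `D` centralising a non-identity element of `C`. -/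
def centSupp (D C : Subgroup G) : Set G :=
  {a | a ∈ D ∧ a ≠ 1 ∧ ∃ x ∈ C, x ≠ 1 ∧ a * x = x * a}

/-- A(M). -/
noncomputable def suppA (M : Subgroup G) : Set G :=
  if OfTypeI M then centSupp M (Cfsg.fittingHallOf M) else centSupp ⁅M, M⁆ (Cfsg.typeCore M)

/-- A₀(M). -/
noncomputable def suppA0 (M : Subgroup G) : Set G :=
  suppA M ∪ {v | ¬ OfTypeI M ∧ ∃ W₁ U W₂ : Subgroup G, Cfsg.IsTypePWith M W₁ U W₂ ∧
    ∃ m ∈ M, ∃ w ∈ W₁ ⊔ W₂, w ∉ W₁ ∧ w ∉ W₂ ∧ v = m * w * m⁻¹}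

/-- `L` supports `M`. -/
def SupportsA0 (L M : Subgroup G) : Prop :=
  IsCoatom L ∧ ∃ x ∈ suppA0 M, ¬ Subgroup.centralizer ({x} : Set G) ≤ M ∧
    Subgroup.centralizer ({x} : Set G) ≤ L

/-- The Dade map of A₀(M) (of A(M) when `M` is of Type I). -/
noncomputable def tau (M : Subgroup G) : (↥M → ℂ) → (G → ℂ) :=
  Cfsg.dadeIsometry (suppA0 M) M (Cfsg.supportR M)

/-- The characters of `L` induced from the irreducible characters of `K` whose kernel contains `A` but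
not `Kh`. -/
def seqInd {L : Type u} [Group L] [Fintype L] (K Kh A : Subgroup L) : Set (L → ℂ) :=
  Cfsg.inducedIrrAbove K A \ Cfsg.inducedIrrAbove K Kh

/-- For subgroups `Kh`, `A` of `G`: the characters of `M` induced from the irreducible characters of
`M'` whose kernel contains `A` but not `Kh`. -/
noncomputable def calS [Fintype G] (M Kh A : Subgroup G) : Set (↥M → ℂ) :=
  seqInd ((⁅M, M⁆ : Subgroup G).subgroupOf M) (Kh.subgroupOf M) (A.subgroupOf M)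

/-- The characters of `M` induced from the non-principal irreducible characters of `M_F`. -/
noncomputable def calI [Fintype G] (M : Subgroup G) : Set (↥M → ℂ) :=
  Cfsg.inducedIrrAbove (Cfsg.fittingHall ↥M) ⊥

/-- A chief factor `M_F / H₀` and the kernel `C` of `U` on it (PF 9.2–9.4). -/
structure CoreFactor (M W₁ U W₂ H₀ C : Subgroup G) (p : ℕ) : Prop where
  lt : H₀ < Cfsg.fittingHallOf M
  normal : M ≤ Subgroup.normalizer (H₀ : Set G)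
  chief : ∀ X : Subgroup G, H₀ ≤ X → X ≤ Cfsg.fittingHallOf M →
    M ≤ Subgroup.normalizer (X : Set G) → X = H₀ ∨ X = Cfsg.fittingHallOf M
  prime : p.Prime
  W₂_rel : H₀.relIndex W₂ = p
  card : H₀.relIndex (Cfsg.fittingHallOf M) = p ^ Nat.card W₁
  pow_mem : ∀ h ∈ Cfsg.fittingHallOf M, h ^ p ∈ H₀
  comm_mem : ∀ a ∈ Cfsg.fittingHallOf M, ∀ b ∈ Cfsg.fittingHallOf M, a * b * a⁻¹ * b⁻¹ ∈ H₀
  centralizer_U : Cfsg.fittingHallOf M ⊓ Subgroup.centralizer (U : Set G) ≤ H₀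
  mem_C : ∀ u : G, u ∈ C ↔ u ∈ U ∧ ∀ h ∈ Cfsg.fittingHallOf M, u * h * u⁻¹ * h⁻¹ ∈ H₀
  C_lt : C < U
  C_normal : U ⊔ W₁ ≤ Subgroup.normalizer (C : Set G)
  derived_le : ⁅U, U⁆ ≤ C
  fpf : ∀ w ∈ W₁, w ≠ 1 → ∀ u ∈ U, w * u * w⁻¹ * u⁻¹ ∈ C → u ∈ C

/-- `U` acts irreducibly on `M_F / H₀` (PF 9.6). -/
def Galois (M U H₀ : Subgroup G) : Prop :=
  ∀ X : Subgroup G, H₀ ≤ X → X ≤ Cfsg.fittingHallOf M → U ≤ Subgroup.normalizer (X : Set G) →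
    X = H₀ ∨ X = Cfsg.fittingHallOf M

/-- Two linear characters of `W₁W₂` agree on `W₂` (same column). -/
def AgreeR (W₁ W₂ : Subgroup G) (ω ω' : ↥(W₁ ⊔ W₂) →* ℂˣ) : Prop :=
  ∀ w : ↥(W₁ ⊔ W₂), (w : G) ∈ W₂ → ω w = ω' w

/-- Two linear characters of `W₁W₂` agree on `W₁` (same row). -/
def AgreeL (W₁ W₂ : Subgroup G) (ω ω' : ↥(W₁ ⊔ W₂) →* ℂˣ) : Prop :=
  ∀ w : ↥(W₁ ⊔ W₂), (w : G) ∈ W₁ → ω w = ω' w

/-- Restriction of a function on `M` to `M'`. -/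
def resD (M : Subgroup G) (f : ↥M → ℂ) : ↥((⁅M, M⁆ : Subgroup G).subgroupOf M) → ℂ :=
  fun x => f x

/-- The characters `μ`, the signs `δ` of a maximal subgroup of type P and the family `η` of `G`
(PF 4.3–4.9). -/
structure TIData [Fintype G] (M W₁ W₂ : Subgroup G) (μ : (↥(W₁ ⊔ W₂) →* ℂˣ) → (↥M → ℂ))
    (δ : (↥(W₁ ⊔ W₂) →* ℂˣ) → ℂ) (η : (↥(W₁ ⊔ W₂) →* ℂˣ) → (G → ℂ)) : Prop where
  family : Cfsg.IsCyclicTIFamily W₁ W₂ η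
  η_conj : ∀ ω, η ω⁻¹ = Cfsg.conjFun (η ω)
  μ_inj : Function.Injective μ
  μ_irr : ∀ ω, Cfsg.IsIrrCharacter ↥M (μ ω)
  μ_conj : ∀ ω, μ ω⁻¹ = Cfsg.conjFun (μ ω)
  μ_one : μ 1 = fun _ => 1
  δ_sign : ∀ ω, δ ω = 1 ∨ δ ω = -1
  δ_col : ∀ ω ω', AgreeR W₁ W₂ ω ω' → δ ω = δ ω'
  trivial_col : ∀ ω, AgreeR W₁ W₂ ω 1 → δ ω = 1 ∧ ∀ x : ↥M, (x : G) ∈ (⁅M, M⁆ : Subgroup G) → μ ω x = 1
  μ_value : ∀ ω (x : ↥M) (hx : (x : G) ∈ W₁ ⊔ W₂), (x : G) ∉ W₂ →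
    μ ω x = δ ω * (ω ⟨x, hx⟩ : ℂ)
  vanish : ∀ θ : ↥M → ℂ, Cfsg.IsIrrCharacter ↥M θ → (∀ ω, θ ≠ μ ω) →
    ∀ x : ↥M, (x : G) ∈ W₁ ⊔ W₂ → (x : G) ∉ W₂ → θ x = 0
  degree : ∀ ω, ∃ n : ℤ, μ ω 1 - δ ω = n * (Nat.card W₁ : ℂ)
  res_eq : ∀ ω ω', AgreeR W₁ W₂ ω ω' → resD M (μ ω) = resD M (μ ω')
  res_irr : ∀ ω, Cfsg.IsIrrCharacter ↥((⁅M, M⁆ : Subgroup G).subgroupOf M) (resD M (μ ω))
  ind_res : ∀ ω, Cfsg.indFun ((⁅M, M⁆ : Subgroup G).subgroupOf M) (resD M (μ ω)) =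
    ∑ᶠ ω' ∈ {ω' | AgreeR W₁ W₂ ω ω'}, μ ω'
  reducible : ∀ θ : ↥((⁅M, M⁆ : Subgroup G).subgroupOf M) → ℂ,
    Cfsg.IsIrrCharacter ↥((⁅M, M⁆ : Subgroup G).subgroupOf M) θ →
    ¬ Cfsg.IsIrrCharacter ↥M (Cfsg.indFun ((⁅M, M⁆ : Subgroup G).subgroupOf M) θ) →
    ∃ ω, θ = resD M (μ ω)
  tau_square : ∀ φ ψ, AgreeR W₁ W₂ φ 1 → AgreeL W₁ W₂ ψ 1 → φ ≠ 1 → ψ ≠ 1 →
    tau M (δ ψ • (μ (φ * ψ) - μ ψ) - μ φ + μ 1) = η (φ * ψ) - η ψ - η φ + η 1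
  tau_row : ∀ ω ω', AgreeL W₁ W₂ ω ω' → ¬ AgreeR W₁ W₂ ω 1 → ¬ AgreeR W₁ W₂ ω' 1 →
    μ ω 1 = μ ω' 1 → δ ω = δ ω' ∧ tau M (μ ω - μ ω') = δ ω • (η ω - η ω')

end CfsgLib.PF
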