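import Mathlib
import Cfsg.Prelude.Def_OddOrderLocal
import Cfsg.Prelude.Def_OddOrderChar
import Cfsg.Agent.Lib.PF.Defs

/-!
# Choice-free sets attached to a maximal subgroup

`Cfsg.typeA` branches on the strict `Cfsg.IsOfTypeI`; inside the character-theoretic half we use
these sets instead, and identify the two once every `κ(M) = ∅` subgroup is known to be Frobenius.
-/

set_option autoImplicit false

namespace CfsgLib.PF

universe u

variable {G : Type u} [Group G]

/-- `A₁(M)`. -/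
def setA1 (M : Subgroup G) : Set G := (Cfsg.sigmaCore M : Set G) \ {1}

/-- `A(M)`: the non-identity `κ(M)'`-elements of `M̂_σ`. -/
def setA (M : Subgroup G) : Set G :=
  {a | a ∈ Cfsg.sigmaHat M ∧ a ≠ 1 ∧ ∀ p : ℕ, p.Prime → p ∣ orderOf a → p ∉ Cfsg.kappa M}

/-- `A₀(M)`: the elements of `M̂_σ` that are not `κ(M)`-elements. -/
def setA0 (M : Subgroup G) : Set G :=
  {a | a ∈ Cfsg.sigmaHat M ∧ a ≠ 1 ∧ ∃ p : ℕ, p.Prime ∧ p ∣ orderOf a ∧ p ∉ Cfsg.kappa M}

end CfsgLib.PF
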