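import Mathlib
import Cfsg.Agent.Lib.PF.Defs

/-!
# Peterfalvi §10–11 (Types II–V): named propositions
-/

set_option autoImplicit false

namespace CfsgLib.PF

open scoped Classical

universe u

variable (G : Type u) [Group G] [Fintype G]

/-- PF (10.3): constants of a subgroup of Type III–V. -/
def PropConstants : Prop :=
  ∀ (M W₁ U W₂ : Subgroup G), IsCoatom M → (Kind34 M W₁ U W₂ ∨ Kind5 M W₁ U W₂) →
    ∀ μ δ η, TIData M W₁ W₂ μ δ η →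
      ∃ (d : ℕ) (δ₀ : ℤ), (δ₀ = 1 ∨ δ₀ = -1) ∧ 1 < d ∧ (Nat.card W₁ : ℤ) ∣ (d : ℤ) - δ₀ ∧
        ∀ ω, ¬ AgreeR W₁ W₂ ω 1 → μ ω 1 = (d : ℂ) ∧ δ ω = (δ₀ : ℂ)

/-- PF (10.8): non-coherence for Types III–V. -/
def PropNoncoherence : Prop :=
  ∀ (M W₁ U W₂ : Subgroup G), IsCoatom M → (Kind34 M W₁ U W₂ ∨ Kind5 M W₁ U W₂) →
    ¬ Cfsg.IsCoherent (calS M ⁅M, M⁆ ⊥) ({1}ᶜ : Set ↥M) (tau M)

/-- PF (10.10): no maximal subgroup is of Type V. -/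
def PropNoTypeV : Prop :=
  ∀ (M W₁ U W₂ : Subgroup G), IsCoatom M → Cfsg.IsTypePWith M W₁ U W₂ →
    Kind2 M W₁ U W₂ ∨ Kind34 M W₁ U W₂

/-- PF (10.11a). -/
def PropPrimes : Prop :=
  ∀ (M W₁ U W₂ : Subgroup G), IsCoatom M → Cfsg.IsTypePWith M W₁ U W₂ →
    (Nat.card W₁).Prime ∧ (Nat.card W₂).Prime

/-- PF (10.11b). -/
def PropTypeII : Prop :=
  ∀ (M W₁ U W₂ : Subgroup G), IsCoatom M → Kind2 M W₁ U W₂ →
    Cfsg.IsElementaryAbelian (Nat.card W₂) (Cfsg.fittingHallOf M) ∧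
      Nat.card (Cfsg.fittingHallOf M) = Nat.card W₂ ^ Nat.card W₁ ∧
      Cfsg.IsCoherent (calS M (Cfsg.fittingHallOf M) ⊥) ({1}ᶜ : Set ↥M) (tau M)

/-- PF (11.6), (11.7), (11.9): Type IV does not occur, the structure in Type III. -/
def PropTypeIII : Prop :=
  ∀ (M W₁ U W₂ : Subgroup G), IsCoatom M → Kind34 M W₁ U W₂ →
    IsMulCommutative U ∧ Nat.card W₂ < Nat.card W₁ ∧
      Cfsg.IsElementaryAbelian (Nat.card W₂) (Cfsg.fittingHallOf M) ∧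
      Nat.card (Cfsg.fittingHallOf M) = Nat.card W₂ ^ Nat.card W₁ ∧
      U ⊓ Subgroup.centralizer (Cfsg.fittingHallOf M : Set G) = ⊥ ∧
      Galois M U ⊥ ∧
      Cfsg.IsCoherent (calS M (Cfsg.fittingHallOf M) ⊥) ({1}ᶜ : Set ↥M) (tau M)

end CfsgLib.PF
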