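import Mathlib
import Cfsg.Agent.Lib.PF.Defs

/-!
# Peterfalvi §12–14: named propositions
-/

set_option autoImplicit false

namespace CfsgLib.PF

open scoped Classical

universe u

variable (G : Type u) [Group G] [Fintype G]

/-- PF (12.2): the coherence system of a Type I subgroup. -/
def PropSubcoherentI : Prop :=
  ∀ L : Subgroup G, IsCoatom L → OfTypeI L →
    ∃ R : (↥L → ℂ) → Finset (G → ℂ), Cfsg.IsCoherenceSystem (calI L) (tau L) R

/-- PF (12.6): coherence for a Frobenius subgroup of Type I. -/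
def PropTypeICoherent : Prop :=
  ∀ L : Subgroup G, IsCoatom L → OfTypeI L → IsFrobF L →
    (∀ χ ∈ calI L, Cfsg.IsIrrCharacter ↥L χ) ∧
      Cfsg.IsCoherent (calI L) ({1}ᶜ : Set ↥L) (tau L)

/-- PF (12.7): every subgroup of Type I is a Frobenius group. -/
def PropTypeIFrobenius : Prop :=
  ∀ L : Subgroup G, IsCoatom L → OfTypeI L → IsFrobF L

/-- PF (12.17): not every maximal subgroup is of Type I. -/
def PropNotAllI : Prop :=
  ¬ ∀ M : Subgroup G, IsCoatom M → OfTypeI M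

/-- PF (13.2): the two sides of a pair. -/
def PropPairFacts : Prop :=
  ∀ (S T W₁ W₂ U V : Subgroup G), TypePPair S T W₁ W₂ U V →
    (Nat.card W₁).Prime ∧ (Nat.card W₂).Prime ∧ Nat.card W₁ ≠ Nat.card W₂ ∧
      (Kind2 S W₁ U W₂ ∨ (Kind34 S W₁ U W₂ ∧ IsMulCommutative U ∧ Nat.card W₂ < Nat.card W₁)) ∧
      (Nat.card W₁ < Nat.card W₂ → Kind2 S W₁ U W₂) ∧
      Cfsg.IsElementaryAbelian (Nat.card W₂) (Cfsg.fittingHallOf S) ∧
      Nat.card (Cfsg.fittingHallOf S) = Nat.card W₂ ^ Nat.card W₁ ∧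
      (∀ w ∈ W₁, w ≠ 1 → ∀ u ∈ U, w * u = u * w → u = 1) ∧
      Cfsg.IsTISubset (suppA0 S) ∧ Subgroup.normalizer (suppA0 S) = S ∧
      Cfsg.IsCoherent (calS S (Cfsg.fittingHallOf S) ⊥) ({1}ᶜ : Set ↥S) (tau S)

/-- PF (13.12). -/
def PropRegFcore : Prop :=
  ∀ (S T W₁ W₂ U V : Subgroup G), TypePPair S T W₁ W₂ U V →
    U ⊓ Subgroup.centralizer (Cfsg.fittingHallOf S : Set G) = ⊥

/-- PF (13.16). -/
def PropNormCent : Prop :=
  ∀ (S T W₁ W₂ U V : Subgroup G), TypePPair S T W₁ W₂ U V →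
    Subgroup.normalizer (W₁ : Set G) = Subgroup.centralizer (W₁ : Set G) ∧
      Subgroup.centralizer (W₁ : Set G) = Cfsg.fittingHallOf T ⊔ W₂

/-- PF (13.17): the maximal subgroup over `N(U)` for `S` of Type II. -/
def PropTypeIISupport : Prop :=
  ∀ (S T W₁ W₂ U V : Subgroup G), TypePPair S T W₁ W₂ U V → Kind2 S W₁ U W₂ →
    ∀ L : Subgroup G, IsCoatom L → Subgroup.normalizer (U : Set G) ≤ L →
      IsFrobF L ∧ OfTypeI L ∧ U ≤ Cfsg.fittingHallOf L ∧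
        ((Cfsg.fittingHallOf L ⊓ W₁ = ⊥ ∧ Cfsg.fittingHallOf L ⊔ W₁ = L) ∨
          ∃ y ∈ Cfsg.fittingHallOf T,
            Cfsg.fittingHallOf L ⊓ (W₁ ⊔ W₂.map (MulAut.conj y).toMonoidHom) = ⊥ ∧
              Cfsg.fittingHallOf L ⊔ (W₁ ⊔ W₂.map (MulAut.conj y).toMonoidHom) = L)

/-- PF (14.16) with (13.19): the final configuration. -/
def PropPairFinal : Prop :=
  ∀ (S T W₁ W₂ U V : Subgroup G), TypePPair S T W₁ W₂ U V → Nat.card W₁ < Nat.card W₂ →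
    IsCyclic U ∧
      Nat.card U * (Nat.card W₂ - 1) = Nat.card W₂ ^ Nat.card W₁ - 1 ∧
      Nat.Coprime ((Nat.card W₂ ^ Nat.card W₁ - 1) / (Nat.card W₂ - 1)) (Nat.card W₂ - 1) ∧
      (Nat.card (Cfsg.fittingHallOf T)).Coprime (Nat.card W₂) ∧
      Cfsg.IsElementaryAbelian (Nat.card W₁) (Cfsg.fittingHallOf T) ∧
      W₂ ≤ Subgroup.normalizer (Cfsg.fittingHallOf T : Set G) ∧
      (∃ y ∈ Cfsg.fittingHallOf T,
        W₂.map (MulAut.conj y).toMonoidHom ≤ Subgroup.normalizer (U : Set G)) ∧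
      ∃ (F : Type) (_ : Field F) (_ : Fintype F) (f : G → F) (ψ : G → F),
        Fintype.card F = Nat.card W₂ ^ Nat.card W₁ ∧
        Set.BijOn f (Cfsg.fittingHallOf S : Set G) Set.univ ∧
        (∀ x ∈ Cfsg.fittingHallOf S, ∀ x' ∈ Cfsg.fittingHallOf S, f (x * x') = f x + f x') ∧
        (∀ u ∈ U, ψ u ≠ 0 ∧ ∀ x ∈ Cfsg.fittingHallOf S, f (u * x * u⁻¹) = ψ u * f x) ∧
        (∀ u ∈ U, ∀ u' ∈ U, ψ (u * u') = ψ u * ψ u') ∧ Set.InjOn ψ (U : Set G) ∧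
        (∀ x ∈ Cfsg.fittingHallOf S, x ∈ W₂ ↔ f x ^ Nat.card W₂ = f x)

end CfsgLib.PF
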