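import Mathlib
import Cfsg.Agent.Lib.PF.Defs

/-!
# Peterfalvi §8: the interface as named propositions
-/

set_option autoImplicit false

namespace CfsgLib.PF

open scoped Classical

universe u

variable (G : Type u) [Group G] [Finite G]

/-- Every maximal subgroup is of Type I or of type P of one of the Types II–V, not both. -/
def PropTypes : Prop :=
  ∀ M : Subgroup G, IsCoatom M →
    (OfTypeI M ∨ ∃ W₁ U W₂ : Subgroup G, Cfsg.IsTypePWith M W₁ U W₂) ∧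
      (∀ W₁ U W₂ : Subgroup G, Cfsg.IsTypePWith M W₁ U W₂ → ¬ OfTypeI M)

/-- For given type P data the kind is II, III/IV or V, and it is the type of `M`. -/
def PropKinds : Prop :=
  ∀ (M W₁ U W₂ : Subgroup G), IsCoatom M → Cfsg.IsTypePWith M W₁ U W₂ →
    (Kind2 M W₁ U W₂ ∨ Kind34 M W₁ U W₂ ∨ Kind5 M W₁ U W₂) ∧
      (Cfsg.IsOfTypeII M ↔ Kind2 M W₁ U W₂) ∧
      ((Cfsg.IsOfTypeIII M ∨ Cfsg.IsOfTypeIV M) ↔ Kind34 M W₁ U W₂) ∧
      (Cfsg.IsOfTypeV M ↔ Kind5 M W₁ U W₂) ∧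
      OfTypeII_V M

/-- BG Theorem I / PF (8.8). -/
def PropStructure : Prop :=
  (∀ M : Subgroup G, IsCoatom M → OfTypeI M) ∨
    ∃ S T W₁ W₂ U V : Subgroup G, TypePPair S T W₁ W₂ U V

/-- Any type P data belong to a pair. -/
def PropPartner : Prop :=
  ∀ (M W₁ U W₂ : Subgroup G), IsCoatom M → Cfsg.IsTypePWith M W₁ U W₂ →
    ∃ T V : Subgroup G, TypePPair M T W₁ W₂ U V

/-- A pair meets every class of maximal subgroups that are not of Type I. -/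
def PropPairConj : Prop :=
  ∀ (S T W₁ W₂ U V : Subgroup G), TypePPair S T W₁ W₂ U V →
    (∀ g : G, T.map (MulAut.conj g).toMonoidHom ≠ S) ∧
      ∀ M : Subgroup G, IsCoatom M → ¬ OfTypeI M →
        ∃ g : G, M = S.map (MulAut.conj g).toMonoidHom ∨ M = T.map (MulAut.conj g).toMonoidHom

/-- PF (8.11). -/
def PropCore : Prop :=
  ∀ M : Subgroup G, IsCoatom M →
    (∀ p : ℕ, p.Prime → ∀ P : Sylow p ↥(Cfsg.typeCore M),
        (P : Subgroup ↥(Cfsg.typeCore M)) ≠ ⊥ →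
        Subgroup.normalizer ((((P : Subgroup ↥(Cfsg.typeCore M)).map
          (Cfsg.typeCore M).subtype : Subgroup G)) : Set G) ≤ M) ∧
      (Nat.card (Cfsg.fittingHallOf M)).Coprime (Cfsg.fittingHallOf M).index ∧
      (Nat.card (Cfsg.typeCore M)).Coprime (Cfsg.typeCore M).index ∧
      Cfsg.fittingHallOf M ≠ ⊥ ∧
      Subgroup.normalizer (Cfsg.fittingHallOf M : Set G) = M

/-- PF (8.12). -/
def PropTypeI_II : Prop :=
  ∀ (M U : Subgroup G), IsCoatom M →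
    ((OfTypeI M ∧ Cfsg.IsComplIn (Cfsg.fittingHallOf M) U M) ∨
      (Cfsg.IsOfTypeII M ∧ Cfsg.IsComplIn (Cfsg.fittingHallOf M) U ⁅M, M⁆)) →
    (∀ p : ℕ, p.Prime → ∀ P : Sylow p U,
        IsMulCommutative (P : Subgroup U) ∧ Cfsg.PRankLE p 2 (P : Subgroup U)) ∧
      (∀ X : Set G, X ⊆ (U : Set G) \ {1} → X.Nonempty →
        Cfsg.fittingHallOf M ⊓ Subgroup.centralizer X ≠ ⊥ →
        Subgroup.centralizer X ≤ M ∧
          ∀ L : Subgroup G, IsCoatom L → Subgroup.centralizer X ≤ L → L = M) ∧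
      Cfsg.IsTISubset (suppA M \ Cfsg.typeA1 M)

/-- PF (8.13), the tame embedding. -/
def PropTame : Prop :=
  ∀ (M : Subgroup G), IsCoatom M →
    (∀ x ∈ suppA0 M, ∀ g : G, g * x * g⁻¹ ∈ suppA0 M → ∃ m ∈ M, m * x * m⁻¹ = g * x * g⁻¹) ∧
      ∀ x ∈ suppA0 M, ¬ Subgroup.centralizer ({x} : Set G) ≤ M →
        x ∈ Cfsg.typeA1 M ∧
        (∃! L : Subgroup G, IsCoatom L ∧ Subgroup.centralizer ({x} : Set G) ≤ L) ∧
        ∀ L : Subgroup G, IsCoatom L → Subgroup.centralizer ({x} : Set G) ≤ L →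
          Cfsg.IsComplIn (Cfsg.fittingHallOf L) (M ⊓ L) L ∧
          Cfsg.IsComplIn (Cfsg.fittingHallOf L ⊓ Subgroup.centralizer ({x} : Set G))
            (M ⊓ Subgroup.centralizer ({x} : Set G)) (Subgroup.centralizer ({x} : Set G)) ∧
          (∀ y ∈ suppA0 M, (Nat.card (Cfsg.fittingHallOf L)).Coprime
            (Nat.card ↥(M ⊓ Subgroup.centralizer ({y} : Set G)))) ∧
          (x ∈ suppA L ∧ x ∉ Cfsg.typeA1 L) ∧
          (OfTypeI L ∨ Cfsg.IsOfTypeII L) ∧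
          (Cfsg.IsOfTypeII L → IsFrobF M ∧ OfTypeI M)

/-- PF (8.15): the Dade set-up for A₁(M), A(M), A₀(M). -/
def PropDade : Prop :=
  ∀ (M : Subgroup G) (A : Set G), IsCoatom M →
    (A = Cfsg.typeA1 M ∨ A = suppA M ∨ A = suppA0 M) →
    Subgroup.normalizer A = M ∧ Cfsg.DadeHypothesis A M (Cfsg.supportR M)

/-- PF (8.15) for Type II: trivial intersection sets. -/
def PropTypeIITI : Prop :=
  ∀ (M : Subgroup G) (A : Set G), IsCoatom M → Cfsg.IsOfTypeII M →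
    (A = Cfsg.typeA1 M ∨ A = suppA M ∨ A = suppA0 M) → Cfsg.IsTISubset A

/-- PF (8.17): supports and disjointness. -/
def PropSupports : Prop :=
  ∀ (S T : Subgroup G), IsCoatom S → IsCoatom T →
    (∀ g : G, T.map (MulAut.conj g).toMonoidHom ≠ S) →
    (SupportsA0 T S ↔ (Cfsg.typeA1 S ∩ suppA T).Nonempty) ∧
      (∀ x ∈ Cfsg.typeA1 S ∩ suppA T, ¬ Subgroup.centralizer ({x} : Set G) ≤ S ∧
        Subgroup.centralizer ({x} : Set G) ≤ T) ∧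
      ((∃ g : G, SupportsA0 (T.map (MulAut.conj g).toMonoidHom) S) ↔
        (Cfsg.tildeOf S (Cfsg.typeA1 S) ∩ Cfsg.tildeOf T (suppA T)).Nonempty) ∧
      (Cfsg.tildeOf S (Cfsg.typeA1 S) ∩ Cfsg.tildeOf T (suppA T) = ∅ ∨
        Cfsg.tildeOf T (Cfsg.typeA1 T) ∩ Cfsg.tildeOf S (suppA S) = ∅) ∧
      Cfsg.tildeOf S (Cfsg.typeA1 S) ∩ Cfsg.tildeOf T (Cfsg.typeA1 T) = ∅

/-- PF (8.18): the covering of `G#`. -/
def PropCover : Prop :=
  ((∀ M : Subgroup G, IsCoatom M → OfTypeI M) →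
      ∀ g : G, g ≠ 1 → ∃ M : Subgroup G, IsCoatom M ∧ g ∈ Cfsg.tildeOf M (Cfsg.typeA1 M)) ∧
    ∀ (S T W₁ W₂ U V : Subgroup G), TypePPair S T W₁ W₂ U V →
      (∀ g : G, g ≠ 1 →
        (∃ N : Subgroup G, IsCoatom N ∧ g ∈ Cfsg.tildeOf N (Cfsg.typeA1 N)) ∨
          ∃ y : G, ∃ z ∈ W₁ ⊔ W₂, z ∉ W₁ ∧ z ∉ W₂ ∧ g = y * z * y⁻¹) ∧
      ∀ (N : Subgroup G), IsCoatom N → ∀ y : G, ∀ z ∈ W₁ ⊔ W₂, z ∉ W₁ → z ∉ W₂ →
        y * z * y⁻¹ ∉ Cfsg.tildeOf N (Cfsg.typeA1 N)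

end CfsgLib.PF
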