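import Mathlib
import Cfsg.Agent.Lib.PF.Props8
import Cfsg.Agent.Lib.PF.Props10
import Cfsg.Agent.Lib.PF.Props12
import Cfsg.Agent.Lib.OddOrder42.Core16

/-!
# Peterfalvi (13.2): the two sides of a pair
-/

set_option autoImplicit false

namespace CfsgLib.PF.Sec13

open Subgroup CfsgLib.OddOrder CfsgLib.OddOrder.Transitivity CfsgLib.OddOrder41
open scoped commutatorElement Classical

universe u

variable {G : Type u} [Group G]

theorem TypePPair.symm {S T W₁ W₂ U V : Subgroup G} (h : TypePPair S T W₁ W₂ U V) :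
    TypePPair T S W₂ W₁ V U where
  left_max := h.right_max
  right_max := h.left_max
  left := h.right
  right := h.left
  inter := by rw [inf_comm, h.inter, sup_comm]
  some_II := h.some_II.symm
  left_II_V := h.right_II_V
  right_II_V := h.left_II_V

variable {S W₁ U W₂ : Subgroup G} (d : Cfsg.IsTypePWith S W₁ U W₂)

include d in
theorem W₂_le_fittingHall : W₂ ≤ Cfsg.fittingHallOf S := d.W₂_le.trans inf_le_left

include d in
theorem U_le : U ≤ S := d.U_compl.2.1.trans (Subgroup.commutator_le_self S)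

include d in
theorem W₁_le : W₁ ≤ S := d.W₁_compl.2.1

include d in
/-- `W₁` acts fixed-point-freely on `U`. -/
theorem U_fpf {w u : G} (hw : w ∈ W₁) (hw1 : w ≠ 1) (hu : u ∈ U) (h : w * u = u * w) : u = 1 := by
  have h1 : u ∈ W₂ := (d.W₂_centralizer w hw hw1).le
    ⟨d.U_compl.2.1 hu, Subgroup.mem_centralizer_singleton_iff.mpr h.symm⟩
  exact Subgroup.mem_bot.mp (d.U_compl.2.2.1 ▸
    (⟨W₂_le_fittingHall d h1, hu⟩ : u ∈ Cfsg.fittingHallOf S ⊓ U))

variable [Finite G]

include d in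
theorem card_derived_mul : Nat.card ↥⁅S, S⁆ * Nat.card W₁ = Nat.card S := by
  rw [← IsComplIn.relIndex_left d.W₁_compl, card_mul_relIndex_of_le d.W₁_compl.1]

include d in
theorem coprime_W₁_derived : (Nat.card W₁).Coprime (Nat.card ↥⁅S, S⁆) := by
  have h1 := card_mul_relIndex_of_le (W₁_le d)
  rw [← card_derived_mul d, mul_comm (Nat.card ↥⁅S, S⁆)] at h1
  exact Nat.eq_of_mul_eq_mul_left Nat.card_pos h1 ▸ d.W₁_hall

include d in
theorem coprime_W₁_fittingHall : (Nat.card W₁).Coprime (Nat.card (Cfsg.fittingHallOf S)) :=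
  (coprime_W₁_derived d).coprime_dvd_right (Subgroup.card_dvd_of_le d.U_compl.1)

include d in
theorem coprime_W₁_U : (Nat.card W₁).Coprime (Nat.card U) :=
  (coprime_W₁_derived d).coprime_dvd_right (Subgroup.card_dvd_of_le d.U_compl.2.1)

include d in
theorem coprime_fittingHall_U : (Nat.card (Cfsg.fittingHallOf S)).Coprime (Nat.card U) := by
  refine (fittingHallOf_coprime_relIndex S).coprime_dvd_right ?_
  rw [← IsComplIn.relIndex_left d.U_compl,
    ← Subgroup.relIndex_mul_relIndex _ _ S d.U_compl.1 d.W₁_compl.1]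
  exact dvd_mul_right _ _

include d in
theorem W₁_prime_ne (hp : (Nat.card W₂).Prime) : Nat.card W₁ ≠ Nat.card W₂ := fun e =>
  hp.ne_one (Nat.eq_one_of_dvd_coprimes (coprime_W₁_fittingHall d) (by rw [e])
    (Subgroup.card_dvd_of_le (W₂_le_fittingHall d)))

variable (hG : Cfsg.IsMinSimpleOddOrder G)

include hG in
/-- `N_G(F(S)) = S`. -/
theorem normalizer_fittingOf (hS : IsCoatom S) (d : Cfsg.IsTypePWith S W₁ U W₂) :
    Subgroup.normalizer (Cfsg.fittingOf S : Set G) = S := by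
  refine normalizer_eq_of_isCoatom hG hS (fittingOf_le S) (fun h => ?_) (fittingOf_normal S)
  refine d.H_not_cyclic ?_
  rw [le_bot_iff.mp ((OddOrder42.fittingHallOf_le_fitting S).trans h.le)]
  infer_instance

variable (hT : PropTypes G) (hK : PropKinds G)

include hT in
theorem not_typeI {M : Subgroup G} (hM : IsCoatom M) (h : Cfsg.IsOfTypeP M) : ¬ OfTypeI M := by
  obtain ⟨W₁, U, W₂, d⟩ := h
  exact (hT M hM).2 W₁ U W₂ d

include hT in
theorem typeCore_of_typeI {M : Subgroup G} (hM : IsCoatom M) (h : OfTypeI M) :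
    Cfsg.typeCore M = Cfsg.fittingHallOf M := by
  rw [Cfsg.typeCore, if_neg]
  rintro (⟨W₁, U, W₂, d, -⟩ | ⟨W₁, U, W₂, d, -⟩) <;> exact not_typeI hT hM ⟨W₁, U, W₂, d⟩ h

include hT in
/-- `A₀(S)` is a TI-set with normalizer `S` for `S` of type P. -/
theorem suppA0_TI (hTame : PropTame G) (hD : PropDade G) (hF : PropTypeIFrobenius G)
    (hS : IsCoatom S) (d : Cfsg.IsTypePWith S W₁ U W₂) :
    Cfsg.IsTISubset (suppA0 S) ∧ Subgroup.normalizer (suppA0 S) = S := by
  have hN := (hD S (suppA0 S) hS (Or.inr (Or.inr rfl))).1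
  refine ⟨fun g hg x hx hx' => absurd ?_ hg, hN⟩
  rw [hN]
  obtain ⟨hconj, hsupp⟩ := hTame S hS
  obtain ⟨m, hm, he⟩ := hconj x hx g hx'
  have hc : m⁻¹ * g ∈ Subgroup.centralizer ({x} : Set G) :=
    Subgroup.mem_centralizer_singleton_iff.mpr (by
      calc m⁻¹ * g * x = m⁻¹ * (g * x * g⁻¹) * g := by group
        _ = m⁻¹ * (m * x * m⁻¹) * g := by rw [he]
        _ = x * (m⁻¹ * g) := by group)
  have hle : Subgroup.centralizer ({x} : Set G) ≤ S := by
    by_contra hle
    obtain ⟨-, ⟨L, ⟨hL, hxL⟩, -⟩, hall⟩ := hsupp x hx hle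
    obtain ⟨-, -, -, ⟨hxA, hxA1⟩, htype, hII⟩ := hall L hL hxL
    have hI : OfTypeI L := htype.resolve_right fun h => not_typeI hT hS ⟨W₁, U, W₂, d⟩ (hII h).2
    rw [suppA, if_pos hI] at hxA
    obtain ⟨hxL', hx1, y, hy, hy1, hxy⟩ := hxA
    refine hxA1 ⟨?_, hx1⟩
    rw [typeCore_of_typeI hT hL hI]
    exact hF L hL hI y hy hy1 ⟨hxL', Subgroup.mem_centralizer_singleton_iff.mpr hxy⟩
  simpa using mul_mem hm (hle hc)

end CfsgLib.PF.Sec13

namespace CfsgLib.PF

universe u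

variable {G : Type u} [Group G] [Fintype G]

/-- **PF (13.2)**. -/
theorem propPairFacts (hT : PropTypes G) (hK : PropKinds G) (hTame : PropTame G) (hD : PropDade G)
    (hV : PropNoTypeV G) (hp : PropPrimes G) (hII : PropTypeII G) (hIII : PropTypeIII G)
    (hF : PropTypeIFrobenius G) : PropPairFacts G := by
  intro S T W₁ W₂ U V h
  obtain ⟨hq, hp'⟩ := hp S W₁ U W₂ h.left_max h.left
  obtain ⟨hTI, hN⟩ := Sec13.suppA0_TI hT hTame hD hF h.left_max h.left
  refine ⟨hq, hp', Sec13.W₁_prime_ne h.left hp', ?_⟩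
  rcases hV S W₁ U W₂ h.left_max h.left with h2 | h34
  · obtain ⟨hab, hcard, hcoh⟩ := hII S W₁ U W₂ h.left_max h2
    exact ⟨Or.inl h2, fun _ => h2, hab, hcard, fun w hw hw1 u hu he => Sec13.U_fpf h.left hw hw1 hu he,
      hTI, hN, hcoh⟩
  · obtain ⟨hc, hlt, hab, hcard, -, -, hcoh⟩ := hIII S W₁ U W₂ h.left_max h34
    exact ⟨Or.inr ⟨h34, hc, hlt⟩, fun h' => absurd h' (lt_asymm hlt), hab, hcard,
      fun w hw hw1 u hu he => Sec13.U_fpf h.left hw hw1 hu he, hTI, hN, hcoh⟩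

end CfsgLib.PF
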