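import Mathlib
import Cfsg.Agent.Lib.Frobenius.Action
import Cfsg.Agent.Lib.OddOrder41.Sigma14NonP1
import Cfsg.Agent.Lib.OddOrder42.Core16

/-!
# Subgroups of prime order of an odd fixed-point-free group of operators are normal
-/

set_option autoImplicit false

namespace CfsgLib.PF.Sec13

open Subgroup CfsgLib.OddOrder CfsgLib.OddOrder.Transitivity CfsgLib.OddOrder41
open scoped commutatorElement

universe u

variable {G : Type u} [Group G] [Finite G] {E H : Subgroup G}
  (hEH : E ≤ Subgroup.normalizer (H : Set G)) (hH : H ≠ ⊥)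
  (hfree : ∀ e ∈ E, e ≠ 1 → ∀ h ∈ H, e * h = h * e → h = 1)

include hEH hH hfree in
theorem cyclic_of_fpf {A : Subgroup G} (hA : A ≤ E)
    (h : IsMulCommutative A ∨ ∃ r s : ℕ, r.Prime ∧ s.Prime ∧ Nat.card A = r * s) : IsCyclic A := by
  letI act : MulDistribMulAction A H :=
    MulDistribMulAction.compHom H (H.normalizerMonoidHom.comp (Subgroup.inclusion (hA.trans hEH)))
  have : Nontrivial H := (Subgroup.nontrivial_iff_ne_bot _).mpr hH
  have hf : CfsgLib.Frobenius.IsFPF A H := fun a ha k hk => by
    have h1 : (a : G) * k * (a : G)⁻¹ = k := congrArg Subtype.val hk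
    exact Subtype.ext (hfree a (hA a.2) (fun e => ha (Subtype.ext e)) k k.2 (mul_inv_eq_iff_eq_mul.mp h1))
  rcases h with h | ⟨r, s, hr, hs, hc⟩
  · exact hf.isCyclic_of_commutative
  · exact hf.isCyclic_of_card_eq_mul hr hs hc

include hEH hH hfree in
theorem isZGroup_of_fpf (hodd : Odd (Nat.card E)) : IsZGroup E := ⟨fun r hr P => by
  have := Fact.mk hr
  by_cases hd : r ∣ Nat.card E
  swap
  · have hP : (P : Subgroup E) = ⊥ := by
      by_contra h
      exact hd ((Uniq.prime_dvd_card P.isPGroup' h).trans (Subgroup.card_subgroup_dvd_card _))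
    exact isCyclic_of_surjective (MulEquiv.subgroupCongr hP).symm.toMonoidHom (MulEquiv.surjective _)
  have hr2 : r ≠ 2 := by
    rintro rfl
    exact (Nat.not_even_iff_odd.mpr hodd) (even_iff_two_dvd.mpr hd)
  set P' := (P : Subgroup E).map E.subtype with hP'
  have hP'E : P' ≤ E := Subgroup.map_subtype_le _
  have hc : IsCyclic P' := isCyclic_of_pRankLE_one hr2 (P.isPGroup'.map _) (pRankLE_iff.mpr fun A hA => by
    have he := elemAb_map hA P'.subtype
    have hcA : IsCyclic ↥(A.map P'.subtype) :=
      cyclic_of_fpf hEH hH hfree ((Subgroup.map_subtype_le A).trans hP'E) (Or.inl he.1)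
    rw [← Subgroup.card_map_of_injective P'.subtype_injective (K := A), pow_one]
    rw [← IsCyclic.exponent_eq_card]
    exact Nat.le_of_dvd hr.pos (Monoid.exponent_dvd_of_forall_pow_eq_one fun a =>
      Subtype.ext (by simpa using he.2 a a.2)))
  exact isCyclic_of_injective
    ((P : Subgroup E).equivMapOfInjective E.subtype E.subtype_injective).toMonoidHom (MulEquiv.injective _)⟩

include hEH hH hfree in
/-- Every subgroup of prime order of an odd fixed-point-free group of operators is normal. -/
theorem normal_of_prime (hodd : Odd (Nat.card E)) {X : Subgroup G} (hXE : X ≤ E)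
    (hX : (Nat.card X).Prime) : E ≤ Subgroup.normalizer (X : Set G) := by
  have := isZGroup_of_fpf hEH hH hfree hodd
  set D := ⁅E, E⁆ with hD
  have hDE : D ≤ E := Subgroup.commutator_le_self E
  have hDn : E ≤ Subgroup.normalizer (D : Set G) :=
    InvariantCore.le_normalizer_commutator Subgroup.le_normalizer Subgroup.le_normalizer
  have hsub : D.subgroupOf E = commutator E := by
    rw [hD, ← Subgroup.map_subtype_commutator, Subgroup.subgroupOf,
      Subgroup.comap_map_eq_self_of_injective E.subtype_injective]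
  have hDc : IsCyclic D := by
    have : IsCyclic (D.subgroupOf E) := hsub ▸ IsZGroup.isCyclic_commutator E
    exact isCyclic_of_surjective (Subgroup.subgroupOfEquivOfLe hDE).toMonoidHom (MulEquiv.surjective _)
  have hcop : (Nat.card D).Coprime (D.relIndex E) := by
    rw [← Nat.card_congr (Subgroup.subgroupOfEquivOfLe hDE).toEquiv, Subgroup.relIndex, hsub]
    exact IsZGroup.coprime_commutator_index E
  set r := Nat.card X with hr
  have := Fact.mk hX
  intro e he
  refine mem_normalizer_of_cj_eq ?_
  by_cases hd : r ∣ Nat.card D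
  · have hXD : X ≤ D := fun x hx => OddOrder42.mem_of_coprime_relIndex hDE hDn (hXE hx)
      ((hcop.coprime_dvd_left hd).coprime_dvd_left (Subgroup.orderOf_dvd_natCard _ hx))
    exact eq_of_card_eq_of_cyclic hDc ((cj_mono hXD).trans (cj_eq_of_mem_normalizer (hDn he)).le) hXD
      (card_cj _ _)
  obtain ⟨x', hx'⟩ := exists_prime_orderOf_dvd_card' (G := X) r dvd_rfl
  set x : G := (x' : G) with hxdef
  have hxo : orderOf x = r := (Subgroup.orderOf_coe x').trans hx'
  have hgen : X = Subgroup.zpowers x := (Subgroup.eq_of_le_of_card_ge (Subgroup.zpowers_le.mpr x'.2)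
    (by rw [Nat.card_zpowers, hxo])).symm
  -- `X` centralizes `D`
  have hXn : X ≤ Subgroup.normalizer (D : Set G) := hXE.trans hDn
  have hcop' : (Nat.card X).Coprime (Nat.card D) := hX.coprime_iff_not_dvd.mpr hd
  have hbot : ⁅D, X⁆ = ⊥ := by
    by_contra hne
    obtain ⟨s, y, hs, hy, hyo⟩ := exists_prime_elt hne
    have hyD : y ∈ D := Coprime.commutator_le_of_normalizes hXn hy
    have := Fact.mk hs
    set Y := Subgroup.zpowers y with hY
    have hYc : Nat.card Y = s := by rw [hY, Nat.card_zpowers, hyo]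
    have hYD : Y ≤ D := Subgroup.zpowers_le.mpr hyD
    have hXY : X ≤ Subgroup.normalizer (Y : Set G) := fun z hz => mem_normalizer_of_cj_eq
      (eq_of_card_eq_of_cyclic hDc ((cj_mono hYD).trans (cj_eq_of_mem_normalizer (hXn hz)).le) hYD
        (card_cj _ _))
    have hinf : Y ⊓ X = ⊥ := le_bot_iff.mp ((inf_le_inf_right X hYD).trans
      (Subgroup.inf_eq_bot_of_coprime hcop'.symm).le)
    have hc := cyclic_of_fpf hEH hH hfree (sup_le hXE (hYD.trans hDE))
      (Or.inr ⟨r, s, hX, hs, by rw [CfsgLib.Coprime.card_sup_of_disjoint hXY hinf, ← hr, hYc]⟩)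
    have hmem : y ∈ ⁅D, X⁆ ⊓ Subgroup.centralizer (X : Set G) := ⟨hy, Subgroup.mem_centralizer_iff.mpr
      fun z hz => mul_comm_of_mem (haveI := hc; IsCyclic.isMulCommutative)
        (Subgroup.mem_sup_left hz) (Subgroup.mem_sup_right (Subgroup.mem_zpowers y))⟩
    rw [Coprime.commutator_inf_centralizer_eq_bot X D hXn hcop', Subgroup.mem_bot] at hmem
    exact hs.ne_one (by rw [← hyo, hmem, orderOf_one])
  set c := ⁅e, x⁆ with hc
  have hcD : c ∈ D := Subgroup.commutator_mem_commutator he (hXE x'.2)
  have hcx : Commute c x := (Subgroup.mem_centralizer_iff.mp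
    (Subgroup.commutator_eq_bot_iff_le_centralizer.mp hbot hcD) x x'.2).symm
  have hconj : e * x * e⁻¹ = c * x := by rw [hc, commutatorElement_def]; group
  have hcr : c ^ r = 1 := by
    have h1 : (c * x) ^ r = 1 := by
      rw [← hconj, conj_pow, ← hxo, pow_orderOf_eq_one, mul_one, mul_inv_cancel]
    rwa [hcx.mul_pow, ← hxo, pow_orderOf_eq_one, mul_one, hxo] at h1
  have hc1 : c = 1 := orderOf_eq_one_iff.mp (Nat.eq_one_of_dvd_coprimes hcop'
    (orderOf_dvd_of_pow_eq_one hcr) (Subgroup.orderOf_dvd_natCard _ hcD))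
  rw [hgen, cj_zpowers, hconj, hc1, one_mul]

end CfsgLib.PF.Sec13
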