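import Mathlib
import Cfsg.Agent.Lib.PF.Sec13Facts
import Cfsg.Agent.Lib.PF.Sec13Complement
import Cfsg.Agent.Lib.OddOrder41.FixedFormula
import Cfsg.Agent.Lib.OddOrder42.TypeMk16

/-!
# Peterfalvi (13.16), (13.17): the group theory
-/

set_option autoImplicit false

namespace CfsgLib.PF.Sec13

open Subgroup CfsgLib.OddOrder CfsgLib.OddOrder.Transitivity CfsgLib.OddOrder41
open scoped commutatorElement Classical

universe u

variable {G : Type u} [Group G] [Finite G] {S W₁ U W₂ : Subgroup G}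
  (d : Cfsg.IsTypePWith S W₁ U W₂)

include d in
theorem U_eq_commutator {X : Subgroup G} (hX : X ≤ U) (hn : W₁ ≤ Subgroup.normalizer (X : Set G))
    (hW : W₁ ≠ ⊥) : X = ⁅X, W₁⁆ := by
  have := d.U_nilpotent
  have hs : Group.IsSolvable X :=
    solvable_of_solvable_injective (Subgroup.inclusion_injective hX)
  have h := Coprime.commutator_sup_centralizer W₁ X hn
    ((coprime_W₁_U d).coprime_dvd_right (Subgroup.card_dvd_of_le hX)) (Or.inr hs)
  obtain ⟨w, hw, hw1⟩ := (Subgroup.bot_or_exists_ne_one W₁).resolve_left hW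
  have hbot : X ⊓ Subgroup.centralizer (W₁ : Set G) = ⊥ := (Subgroup.eq_bot_iff_forall _).mpr fun u hu =>
    U_fpf d hw hw1 (hX hu.1) (Subgroup.mem_centralizer_iff.mp hu.2 w hw)
  rw [hbot, sup_bot_eq] at h
  exact h.symm

include d in
theorem fittingHall_inf_centralizer :
    Cfsg.fittingHallOf S ⊓ Subgroup.centralizer (W₁ : Set G) = W₂ := by
  obtain ⟨w, hw, hw1⟩ := (Subgroup.bot_or_exists_ne_one W₁).resolve_left d.W₁_ne
  refine le_antisymm ((inf_le_inf d.U_compl.1
    (Subgroup.centralizer_le (Set.singleton_subset_iff.mpr hw))).trans (d.W₂_centralizer w hw hw1).le)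
    (le_inf (W₂_le_fittingHall d) fun z hz => Subgroup.mem_centralizer_iff.mpr fun y hy =>
      d.selfNormalizing.2.2.2.1 y hy z hz)

end CfsgLib.PF.Sec13

namespace CfsgLib.PF

open Subgroup CfsgLib.OddOrder CfsgLib.OddOrder.Transitivity CfsgLib.OddOrder41
open scoped commutatorElement Classical

universe u

variable {G : Type u} [Group G] [Fintype G] (hG : Cfsg.IsMinSimpleOddOrder G)

include hG in
/-- (13.16) for `W₂`. -/
theorem normCent_right (hP : PropPairFacts G) (hR : PropRegFcore G) {S T W₁ W₂ U V : Subgroup G}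
    (h : TypePPair S T W₁ W₂ U V) :
    Subgroup.normalizer (W₂ : Set G) = Subgroup.centralizer (W₂ : Set G) ∧
      Subgroup.centralizer (W₂ : Set G) = Cfsg.fittingHallOf S ⊔ W₁ := by
  have d := h.left
  obtain ⟨hq, hp, hne, hkind, -, hab, hcard, -, -, -, -⟩ := hP S T W₁ W₂ U V h
  set P := Cfsg.fittingHallOf S with hPdef
  have hreg : U ⊓ Subgroup.centralizer (P : Set G) = ⊥ := hR S T W₁ W₂ U V h
  obtain ⟨hU1, hTI, hUc⟩ : U ≠ ⊥ ∧ Cfsg.IsTISubset (Cfsg.fittingOf S : Set G) ∧ IsMulCommutative U := by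
    rcases hkind with h2 | ⟨h3, hc, -⟩
    · exact ⟨h2.U_ne, h2.TI, h2.U_comm⟩
    · exact ⟨h3.U_ne, h3.TI, hc⟩
  have hW2P : W₂ ≤ P := Sec13.W₂_le_fittingHall d
  have hPn : S ≤ Subgroup.normalizer (P : Set G) := fittingHallOf_normal S
  have hPC : P ≤ Subgroup.centralizer (W₂ : Set G) :=
    (Subgroup.le_centralizer_iff_isMulCommutative.mpr hab.1).trans (Subgroup.centralizer_le hW2P)
  have hW1C : W₁ ≤ Subgroup.centralizer (W₂ : Set G) := fun a ha =>
    Subgroup.mem_centralizer_iff.mpr fun b hb => (d.selfNormalizing.2.2.2.1 a ha b hb).symm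
  set N := Subgroup.normalizer (W₂ : Set G) with hN
  have hNS : N ≤ S := fun g hg => by
    obtain ⟨x, hx, hx1⟩ := (Subgroup.bot_or_exists_ne_one W₂).resolve_left
      fun e => hp.ne_one (by rw [e, Subgroup.card_bot])
    by_contra hgS
    refine hx1 (hTI g ?_ x (OddOrder42.fittingHallOf_le_fitting S (hW2P hx))
      (OddOrder42.fittingHallOf_le_fitting S (hW2P ((Subgroup.mem_normalizer_iff.mp hg x).mp hx))))
    rwa [Sec13.normalizer_fittingOf hG h.left_max d]
  have hUS := Sec13.U_le d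
  have hWU : W₁ ≤ Subgroup.normalizer (U : Set G) := d.U_normal
  -- `N ⊓ U` centralizes `W₂`
  set X := U ⊓ N with hX
  have hXn : W₁ ≤ Subgroup.normalizer (X : Set G) := fun a ha =>
    OddOrder38.mem_normalizer_inf (hWU ha)
      (Subgroup.le_normalizer (Subgroup.centralizer_le_normalizer _ (hW1C ha)))
  have hW2c : IsCyclic W₂ := haveI := Fact.mk hp; isCyclic_of_prime_card rfl
  have hXC : X ≤ Subgroup.centralizer (W₂ : Set G) := by
    rw [Sec13.U_eq_commutator d (X := X) (inf_le_left : X ≤ U) hXn d.W₁_ne]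
    exact Subgroup.commutator_le.mpr fun u hu a ha =>
      OddOrder38.commutator_mem_centralizer_of_cyclic hW2c hu.2 (Subgroup.centralizer_le_normalizer _ (hW1C ha))
  -- `U W₁` acts on `P` with `C_P(U) = 1`
  have hn : U ⊔ W₁ ≤ Subgroup.normalizer (P : Set G) := sup_le (hUS.trans hPn) ((Sec13.W₁_le d).trans hPn)
  have hfree : ∀ e ∈ W₁, e ≠ 1 → ∀ u ∈ U, e * u = u * e → u = 1 :=
    fun e he he1 u hu heu => Sec13.U_fpf d he he1 hu heu
  have hcopP : (Nat.card P).Coprime (Nat.card ↥(U ⊔ W₁)) := by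
    refine (Nat.Coprime.mul_right (Sec13.coprime_fittingHall_U d)
      (Sec13.coprime_W₁_fittingHall d).symm).coprime_dvd_right ?_
    rw [sup_comm, mul_comm]
    exact Coprime.card_sup_dvd hWU
  have hPs : Group.IsSolvable P := by
    have := fittingHallOf_isNilpotent S
    infer_instance
  have hWc : P ⊓ Subgroup.centralizer (W₁ : Set G) = W₂ := Sec13.fittingHall_inf_centralizer d
  have hPU : P ⊓ Subgroup.centralizer (U : Set G) = ⊥ := by
    have hf := FixedFormula.fixed_formula U W₁ d.W₁_ne hWU (Sec13.coprime_W₁_U d).symm hfree P hn hPs hcopP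
    rw [hWc, hcard, mul_comm (_ ^ Nat.card W₁)] at hf
    have hf' := Nat.eq_of_mul_eq_mul_left (pow_pos Nat.card_pos _) hf
    set Z := P ⊓ Subgroup.centralizer ((U ⊔ W₁ : Subgroup G) : Set G) with hZ
    have hZW : Z ≤ W₂ := hWc ▸ inf_le_inf_left P (Subgroup.centralizer_le fun _ hy => Subgroup.mem_sup_right hy)
    rcases (Nat.dvd_prime hp).mp (Subgroup.card_dvd_of_le hZW) with e | e
    · rw [e, one_pow] at hf'
      exact Subgroup.card_eq_one.mp hf'.symm
    · exfalso
      rw [e, ← hcard] at hf'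
      refine hU1 (le_bot_iff.mp (hreg ▸ le_inf le_rfl ?_))
      rw [Subgroup.le_centralizer_iff]
      exact (Subgroup.eq_of_le_of_card_ge (inf_le_left : P ⊓ Subgroup.centralizer (U : Set G) ≤ P)
        hf'.le).ge.trans inf_le_right
  -- `C_U(W₂) = 1`
  have hX1 : X = ⊥ := by
    set Y := P ⊓ Subgroup.centralizer (X : Set G) with hY
    have hYn : U ⊔ W₁ ≤ Subgroup.normalizer (Y : Set G) := by
      refine sup_le (fun u hu => ?_) (fun a ha => ?_)
      · refine OddOrder38.mem_normalizer_inf (hPn (hUS hu)) (Subgroup.le_normalizer ?_)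
        exact Subgroup.mem_centralizer_iff.mpr fun x hx => mul_comm_of_mem hUc hx.1 hu
      · exact OddOrder38.mem_normalizer_inf (hPn (Sec13.W₁_le d ha)) (normalizer_centralizer_le _ (hXn ha))
    have hYW : Y ⊓ Subgroup.centralizer (W₁ : Set G) = W₂ := le_antisymm
      ((inf_le_inf_right _ inf_le_left).trans hWc.le)
      (le_inf (le_inf hW2P (Subgroup.le_centralizer_iff.mp hXC)) (hWc.ge.trans inf_le_right))
    have hYU : Y ⊓ Subgroup.centralizer (U : Set G) = ⊥ :=
      le_bot_iff.mp (hPU ▸ inf_le_inf_right _ inf_le_left)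
    have hYs : Group.IsSolvable Y :=
      solvable_of_solvable_injective (Subgroup.inclusion_injective (inf_le_left : Y ≤ P))
    have hf := FixedFormula.fixed_formula U W₁ d.W₁_ne hWU (Sec13.coprime_W₁_U d).symm hfree Y hYn hYs
      (hcopP.coprime_dvd_left (Subgroup.card_dvd_of_le inf_le_left))
    have hZ : Y ⊓ Subgroup.centralizer ((U ⊔ W₁ : Subgroup G) : Set G) = ⊥ :=
      le_bot_iff.mp (hYU ▸ inf_le_inf_left Y (Subgroup.centralizer_le fun _ hy => Subgroup.mem_sup_left hy))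
    rw [hZ, hYW, hYU, Subgroup.card_bot, one_pow, one_mul, mul_one, ← hcard] at hf
    refine le_bot_iff.mp (hreg ▸ le_inf inf_le_left ?_)
    rw [Subgroup.le_centralizer_iff]
    exact (Subgroup.eq_of_le_of_card_ge (inf_le_left : Y ≤ P) hf.ge).ge.trans inf_le_right
  have hNle : N ≤ P ⊔ W₁ := fun g hg => by
    obtain ⟨a, ha, b, hb, rfl⟩ := d.W₁_compl.2.2.2 g (hNS hg)
    obtain ⟨z, hz, u, hu, rfl⟩ := d.U_compl.2.2.2 a ha
    have hzN : z ∈ N := Subgroup.centralizer_le_normalizer _ (hPC hz)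
    have hbN : b ∈ N := Subgroup.centralizer_le_normalizer _ (hW1C hb)
    have huN : u ∈ X := ⟨hu, by
      simpa [mul_assoc] using N.mul_mem (N.mul_mem (N.inv_mem hzN) hg) (N.inv_mem hbN)⟩
    rw [hX1, Subgroup.mem_bot] at huN
    rw [huN, mul_one]
    exact mul_mem (Subgroup.mem_sup_left hz) (Subgroup.mem_sup_right hb)
  have hCN := Subgroup.centralizer_le_normalizer (G := G) (W₂ : Set G)
  have hle : P ⊔ W₁ ≤ Subgroup.centralizer (W₂ : Set G) := sup_le hPC hW1C
  exact ⟨le_antisymm (hNle.trans hle) hCN, le_antisymm (hCN.trans hNle) hle⟩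

include hG in
/-- **PF (13.16)**. -/
theorem propNormCent (hP : PropPairFacts G) (hR : PropRegFcore G) : PropNormCent G :=
  fun _ _ _ _ _ _ h => normCent_right hG hP hR (Sec13.TypePPair.symm h)

include hG in
/-- **PF (13.17)**. -/
theorem propTypeIISupport (hT : PropTypes G) (hK : PropKinds G) (hC : PropPairConj G) (hCore : PropCore G)
    (hF : PropTypeIFrobenius G) (hP : PropPairFacts G) (hN : PropNormCent G) : PropTypeIISupport G := by
  intro S T W₁ W₂ U V h h2 L hL hNU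
  have d := h.left
  obtain ⟨hq, hp, hne, -, -, -, -, -, -, -, -⟩ := hP S T W₁ W₂ U V h
  obtain ⟨-, -, -, -, -, hQab, hQcard, -, -, -, -⟩ := hP T S W₂ W₁ V U (Sec13.TypePPair.symm h)
  set q := Nat.card W₁ with hqdef
  set p := Nat.card W₂ with hpdef
  set Q := Cfsg.fittingHallOf T with hQdef
  have := Fact.mk hq
  have hUS := Sec13.U_le d
  have hUL : U ≤ L := Subgroup.le_normalizer.trans hNU
  have hW1L : W₁ ≤ L := d.U_normal.trans hNU
  have hUW : U = ⁅U, W₁⁆ := Sec13.U_eq_commutator d le_rfl d.U_normal d.W₁_ne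
  have hUq : (Nat.card W₁).Coprime (Nat.card U) := Sec13.coprime_W₁_U d
  -- an element of `q`-power order
  have hW1o : ∀ w ∈ W₁, orderOf w ∣ q := fun w hw => Subgroup.orderOf_dvd_natCard _ hw
  -- `L` is not a conjugate of `S` or `T`
  have hI : OfTypeI L := by
    by_contra hI
    obtain ⟨g, hg | hg⟩ := (hC S T W₁ W₂ U V h).2 L hL hI
    · change L = cj g S at hg
      set D := ⁅L, L⁆ with hD
      have hDeq : D = cj g ⁅S, S⁆ := by rw [hD, hg, Transitivity.cj, ← Subgroup.map_commutator]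
      have hUD : U ≤ D := hUW.le.trans (Subgroup.commutator_mono hUL hW1L)
      have := minSimple_solvable hG (H := D) fun e => hL.1 (top_le_iff.mp (e ▸ Subgroup.commutator_le_self L))
      have hWD : cj g U ≤ D := hDeq ▸ cj_mono d.U_compl.2.1
      have hrel : (cj g U).relIndex D = Nat.card (Cfsg.fittingHallOf S) := by
        have h1 := card_mul_relIndex_of_le hWD
        have h3 := card_mul_relIndex_of_le d.U_compl.1
        rw [IsComplIn.relIndex_left d.U_compl] at h3
        rw [hDeq, card_cj, card_cj, ← h3, mul_comm (Nat.card (Cfsg.fittingHallOf S)), ← hDeq] at h1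
        exact Nat.eq_of_mul_eq_mul_left Nat.card_pos h1
      obtain ⟨x, hx, hle⟩ := exists_conj_into (π := {r | r ∣ Nat.card U}) hWD (fun r hr hrU hd => by
        rw [hrel] at hd
        exact hr.ne_one (Nat.eq_one_of_dvd_coprimes (Sec13.coprime_fittingHall_U d) hd hrU)) hUD
        fun r _ hd => hd
      have heq : cj x U = cj g U := Subgroup.eq_of_le_of_card_ge hle (by rw [card_cj, card_cj])
      have hgx : g⁻¹ * x ∈ L := hNU (mem_normalizer_of_cj_eq (by
        rw [← cj_mul, heq, cj_mul, inv_mul_cancel, cj_one]))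
      have hg' : g ∈ L := by
        have := mul_mem (Subgroup.commutator_le_self L hx) (inv_mem hgx)
        simpa [mul_assoc] using this
      have hLS : L = S := cj_inj (g := g) ((cj_eq_of_mem hg').trans hg)
      exact h2.normalizer_not_le (hLS ▸ hNU)
    · change L = cj g T at hg
      set Qg := cj g Q with hQg
      have hQL : Qg ≤ L := hg ▸ cj_mono (fittingHallOf_le T)
      have hQn : L ≤ Subgroup.normalizer (Qg : Set G) := by
        rw [hg, hQg, ← cj_normalizer]
        exact cj_mono (fittingHallOf_normal T)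
      have hqQ : q ∣ Nat.card Q := hQcard ▸ dvd_pow_self _ hp.ne_zero
      have hrel : Qg.relIndex L = Q.relIndex T := by
        have h1 := card_mul_relIndex_of_le hQL
        rw [hg, hQg, card_cj, card_cj, ← card_mul_relIndex_of_le (fittingHallOf_le T)] at h1
        rw [hQg, hg]
        exact Nat.eq_of_mul_eq_mul_left Nat.card_pos h1
      have hcop : q.Coprime (Qg.relIndex L) := hrel ▸ (fittingHallOf_coprime_relIndex T).coprime_dvd_left hqQ
      have hWQ : W₁ ≤ Qg := fun w hw =>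
        OddOrder42.mem_of_coprime_relIndex hQL hQn (hW1L hw) (hcop.coprime_dvd_left (hW1o w hw))
      have hUQ : U ≤ Qg := hUW.le.trans ((Subgroup.commutator_mono le_rfl hWQ).trans
        (Coprime.commutator_le_of_normalizes (hUL.trans hQn) |> fun h => (Subgroup.commutator_comm U Qg).le.trans h))
      refine h2.U_ne (Subgroup.card_eq_one.mp (Nat.eq_one_of_dvd_coprimes (hUq.symm.pow_right p) dvd_rfl ?_))
      rw [← hQcard, ← card_cj g Q]
      exact Subgroup.card_dvd_of_le hUQ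
  have hFr : IsFrobF L := hF L hL hI
  set H := Cfsg.fittingHallOf L with hH
  have hHL : H ≤ L := fittingHallOf_le L
  have hHn : L ≤ Subgroup.normalizer (H : Set G) := fittingHallOf_normal L
  have hH1 : H ≠ ⊥ := (hCore L hL).2.2.2.1
  have hqH : ¬ q ∣ Nat.card H := fun hd => by
    have hcop : q.Coprime (H.relIndex L) := (fittingHallOf_coprime_relIndex L).coprime_dvd_left hd
    have hWH : W₁ ≤ H := fun w hw =>
      OddOrder42.mem_of_coprime_relIndex hHL hHn (hW1L hw) (hcop.coprime_dvd_left (hW1o w hw))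
    have hUH : U ≤ H := hUW.le.trans ((Subgroup.commutator_mono le_rfl hWH).trans
      ((Subgroup.commutator_comm U H).le.trans (Coprime.commutator_le_of_normalizes (hUL.trans hHn))))
    obtain ⟨u, hu, hu1⟩ := (Subgroup.bot_or_exists_ne_one U).resolve_left h2.U_ne
    obtain ⟨w, hw, hw1⟩ := (Subgroup.bot_or_exists_ne_one W₁).resolve_left d.W₁_ne
    exact hu1 (Sec13.U_fpf d hw hw1 hu (OddOrder42.commute_of_coprime_nilpotent
      (fittingHallOf_isNilpotent L) (hWH hw) (hUH hu)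
      ((hUq.coprime_dvd_left (hW1o w hw)).coprime_dvd_right (Subgroup.orderOf_dvd_natCard _ hu))).eq)
  have hdis : H ⊓ W₁ = ⊥ := (Subgroup.disjoint_of_coprime_natCard
    (hq.coprime_iff_not_dvd.mpr hqH).symm).eq_bot
  -- a complement containing `W₁`
  obtain ⟨E₀, hE₀⟩ := OddOrder42.exists_complIn hHL hHn (fittingHallOf_coprime_relIndex L)
  have := minSimple_solvable hG hL.1
  have hrel₀ : E₀.relIndex L = Nat.card H := by
    have h1 := card_mul_relIndex_of_le hE₀.2.1
    have h2' := card_mul_relIndex_of_le hHL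
    rw [IsComplIn.relIndex_left hE₀] at h2'
    rw [← h2', mul_comm (Nat.card H)] at h1
    exact Nat.eq_of_mul_eq_mul_left Nat.card_pos h1
  obtain ⟨x, hx, hxle⟩ := exists_conj_into (π := {q}) hE₀.2.1 (fun r _ hrq hd => hqH (by
    rw [Set.mem_singleton_iff] at hrq
    rw [hrel₀] at hd
    exact hrq ▸ hd)) hW1L fun r hr hd => (Nat.prime_dvd_prime_iff_eq hr hq).mp hd
  set E := cj x⁻¹ E₀ with hEdef
  have hWE : W₁ ≤ E := by
    have := cj_mono (g := x⁻¹) hxle
    rwa [cj_mul, inv_mul_cancel, cj_one] at this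
  have hEL : E ≤ L := (cj_mono hE₀.2.1).trans (cj_eq_of_mem (inv_mem hx)).le
  have hHx : cj x⁻¹ H = H := cj_eq_of_mem_normalizer (hHn (inv_mem hx))
  have hsup : ∀ l ∈ L, ∃ a ∈ H, ∃ b ∈ E, l = a * b := fun l hl => by
    obtain ⟨a, ha, b, hb, he⟩ := hE₀.2.2.2 (x * l * x⁻¹) (mul_mem (mul_mem hx hl) (inv_mem hx))
    refine ⟨x⁻¹ * a * x, hHx ▸ mem_cj.mpr (by simpa [mul_assoc] using ha), x⁻¹ * b * x,
      mem_cj.mpr (by simpa [mul_assoc] using hb), ?_⟩
    calc l = x⁻¹ * (x * l * x⁻¹) * x := by group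
      _ = _ := by rw [he]; group
  have hHE : H ⊓ E = ⊥ := by
    rw [hEdef, ← hHx, Transitivity.cj, Transitivity.cj, ← Subgroup.map_inf _ _ _ (MulAut.conj x⁻¹).injective,
      hE₀.2.2.1, Subgroup.map_bot]
  have hfree : ∀ e ∈ E, e ≠ 1 → ∀ y ∈ H, e * y = y * e → y = 1 := fun e he he1 y hy hey => by
    by_contra hy1
    exact he1 (Subgroup.mem_bot.mp (hHE ▸ (⟨hFr y hy hy1
      ⟨hEL he, Subgroup.mem_centralizer_singleton_iff.mpr hey⟩, he⟩ : e ∈ H ⊓ E)))
  have hEW : E ≤ Subgroup.normalizer (W₁ : Set G) :=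
    Sec13.normal_of_prime (hEL.trans hHn) hH1 hfree (minSimple_odd hG E) hWE hq
  -- `U ≤ H`
  have hUH : U ≤ H := by
    rw [hUW]
    refine Subgroup.commutator_le.mpr fun u hu w hw => ?_
    obtain ⟨a, ha, e, he, hue⟩ := hsup u (hUL hu)
    have ht : ⁅e, w⁆ ∈ W₁ := by
      rw [commutatorElement_def]
      exact mul_mem ((Subgroup.mem_normalizer_iff.mp (hEW he) w).mp hw) (inv_mem hw)
    have hcU : ⁅u, w⁆ ∈ U := by
      rw [commutatorElement_def, show u * w * u⁻¹ * w⁻¹ = u * (w * u⁻¹ * w⁻¹) by group]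
      exact mul_mem hu ((Subgroup.mem_normalizer_iff.mp (d.U_normal hw) _).mp (inv_mem hu))
    set t := ⁅e, w⁆ with htdef
    have htL : t ∈ L := hW1L ht
    have hc : ⁅u, w⁆ = a * (t * (w * a⁻¹ * w⁻¹) * t⁻¹) * t := by
      rw [htdef, hue, commutatorElement_def, commutatorElement_def]; group
    have hmem : a * (t * (w * a⁻¹ * w⁻¹) * t⁻¹) ∈ H := mul_mem ha ((Subgroup.mem_normalizer_iff.mp (hHn htL) _).mp
      ((Subgroup.mem_normalizer_iff.mp (hHn (hW1L hw)) _).mp (inv_mem ha)))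
    have ht1 : t = 1 := by
      have ht' : t ∈ U ⊔ H := by
        rw [show t = (a * (t * (w * a⁻¹ * w⁻¹) * t⁻¹))⁻¹ * ⁅u, w⁆ by rw [hc]; group]
        exact mul_mem (Subgroup.mem_sup_right (inv_mem hmem)) (Subgroup.mem_sup_left hcU)
      refine orderOf_eq_one_iff.mp (Nat.eq_one_of_dvd_coprimes
        (Nat.Coprime.mul_right hUq (hq.coprime_iff_not_dvd.mpr hqH)) (hW1o t ht) ?_)
      exact (Subgroup.orderOf_dvd_natCard _ ht').trans (Coprime.card_sup_dvd (hUL.trans hHn))
    rw [hc, ht1]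
    simpa [ht1] using hmem
  refine ⟨hFr, hI, hUH, ?_⟩
  -- the complement
  obtain ⟨hNeq, hCeq⟩ := hN S T W₁ W₂ U V h
  have hEX : E ≤ Q ⊔ W₂ := hEW.trans (hNeq.trans hCeq).le
  have hW1Q : W₁ ≤ Q := Sec13.W₂_le_fittingHall h.right
  have hEQ : E ⊓ Q = W₁ := by
    refine (Subgroup.eq_of_le_of_card_ge (le_inf hWE hW1Q) ?_).symm
    have hc : IsCyclic ↥(E ⊓ Q) := Sec13.cyclic_of_fpf (hEL.trans hHn) hH1 hfree inf_le_left
      (Or.inl ⟨⟨fun a b => Subtype.ext (mul_comm_of_mem hQab.1 a.2.2 b.2.2)⟩⟩)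
    rw [← IsCyclic.exponent_eq_card]
    exact Nat.le_of_dvd hq.pos (Monoid.exponent_dvd_of_forall_pow_eq_one fun a =>
      Subtype.ext (by rw [Subgroup.coe_pow, Subgroup.coe_one]; exact hQab.2 a a.2.2))
  have hW2T : W₂ ≤ T := Sec13.W₁_le h.right
  have hXn : Q ⊔ W₂ ≤ Subgroup.normalizer (Q : Set G) :=
    (sup_le (fittingHallOf_le T) hW2T).trans (fittingHallOf_normal T)
  have hQW : W₂ ≤ Subgroup.normalizer (Q : Set G) := le_sup_right.trans hXn
  have hpQ : p.Coprime (Nat.card Q) := Sec13.coprime_W₁_fittingHall h.right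
  have hXc : Nat.card ↥(Q ⊔ W₂) = Nat.card W₂ * Nat.card Q := by
    rw [sup_comm]
    exact CfsgLib.Coprime.card_sup_of_disjoint hQW
      (Subgroup.disjoint_of_coprime_natCard hpQ.symm).eq_bot
  have hQrel : Q.relIndex (Q ⊔ W₂) = p := by
    have h1 := card_mul_relIndex_of_le (le_sup_left : Q ≤ Q ⊔ W₂)
    rw [hXc, mul_comm (Nat.card W₂)] at h1
    exact Nat.eq_of_mul_eq_mul_left Nat.card_pos h1
  have hdvd : Q.relIndex E ∣ p := by
    have : (Q.subgroupOf (Q ⊔ W₂)).Normal :=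
      (Subgroup.normal_subgroupOf_iff_le_normalizer le_sup_left).mpr hXn
    have h1 := Subgroup.relIndex_dvd_index_of_normal (Q.subgroupOf (Q ⊔ W₂)) (E.subgroupOf (Q ⊔ W₂))
    rwa [Subgroup.relIndex_subgroupOf hEX, ← Subgroup.relIndex, hQrel] at h1
  have hEc : Nat.card E = q * Q.relIndex E := by
    rw [← Subgroup.inf_relIndex_right Q E, inf_comm, hEQ, hqdef, card_mul_relIndex_of_le hWE]
  have hLeq : H ⊔ E = L := le_antisymm (sup_le hHL hEL) fun l hl => by
    obtain ⟨a, ha, b, hb, rfl⟩ := hsup l hl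
    exact mul_mem (Subgroup.mem_sup_left ha) (Subgroup.mem_sup_right hb)
  rcases (Nat.dvd_prime hp).mp hdvd with h1 | h1
  · left
    have hE : E = W₁ := (Subgroup.eq_of_le_of_card_ge hWE (by rw [hEc, h1, mul_one])).symm
    exact ⟨hdis, hE ▸ hLeq⟩
  · right
    have := Fact.mk hp
    obtain ⟨e, he⟩ := exists_prime_orderOf_dvd_card' (G := E) p (by rw [hEc, h1]; exact dvd_mul_left _ _)
    have heo : orderOf (e : G) = p := (Subgroup.orderOf_coe e).trans he
    have hs : Group.IsSolvable ↥(Q ⊔ W₂) := by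
      have := minSimple_solvable hG h.right_max.1
      exact solvable_of_solvable_injective (Subgroup.inclusion_injective (sup_le (fittingHallOf_le T) hW2T))
    have hrelW : W₂.relIndex (Q ⊔ W₂) = Nat.card Q := by
      have h1 := card_mul_relIndex_of_le (le_sup_right : W₂ ≤ Q ⊔ W₂)
      rw [hXc] at h1
      exact Nat.eq_of_mul_eq_mul_left Nat.card_pos h1
    obtain ⟨g, hg, hle⟩ := exists_conj_into (π := {p}) (le_sup_right : W₂ ≤ Q ⊔ W₂) (fun r hr hrp hd => by
      rw [Set.mem_singleton_iff] at hrp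
      rw [hrelW, hrp] at hd
      exact hp.ne_one (Nat.eq_one_of_dvd_coprimes hpQ dvd_rfl hd))
      (Y := Subgroup.zpowers (e : G)) (Subgroup.zpowers_le.mpr (hEX e.2)) fun r hr hd => by
        rw [Nat.card_zpowers, heo] at hd
        exact (Nat.prime_dvd_prime_iff_eq hr hp).mp hd
    have heq : cj g (Subgroup.zpowers (e : G)) = W₂ :=
      Subgroup.eq_of_le_of_card_ge hle (by rw [card_cj, Nat.card_zpowers, heo])
    obtain ⟨b, hb, y, hy, hgy⟩ := CfsgLib.Coprime.exists_mul_of_mem_sup hQW (sup_comm Q W₂ ▸ inv_mem hg)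
    have hy' : b * y * b⁻¹ ∈ Q := (Subgroup.mem_normalizer_iff.mp (hQW hb) y).mp hy
    have heW : Subgroup.zpowers (e : G) = cj (b * y * b⁻¹) W₂ := by
      calc Subgroup.zpowers (e : G) = cj g⁻¹ W₂ := by rw [← heq, OddOrder38.cj_cancel]
        _ = cj (b * y * b⁻¹) (cj b W₂) := by rw [hgy, cj_mul]; congr 1; group
        _ = _ := by rw [cj_eq_of_mem_normalizer (Subgroup.le_normalizer hb)]
    refine ⟨b * y * b⁻¹, hy', ?_⟩
    change H ⊓ (W₁ ⊔ cj (b * y * b⁻¹) W₂) = ⊥ ∧ H ⊔ (W₁ ⊔ cj (b * y * b⁻¹) W₂) = L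
    have hE : W₁ ⊔ cj (b * y * b⁻¹) W₂ = E := by
      refine Subgroup.eq_of_le_of_card_ge (sup_le hWE (heW ▸ Subgroup.zpowers_le.mpr e.2)) ?_
      rw [hEc, h1]
      have hd1 : q ∣ Nat.card ↥(W₁ ⊔ cj (b * y * b⁻¹) W₂) := Subgroup.card_dvd_of_le le_sup_left
      have hd2 : p ∣ Nat.card ↥(W₁ ⊔ cj (b * y * b⁻¹) W₂) :=
        dvd_trans (by rw [card_cj]) (Subgroup.card_dvd_of_le le_sup_right)
      exact Nat.le_of_dvd Nat.card_pos (((Nat.coprime_primes hq hp).mpr hne).mul_dvd_of_dvd_of_dvd hd1 hd2)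
    rw [hE]
    exact ⟨hHE, hLeq⟩

end CfsgLib.PF
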