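import Mathlib
import Cfsg.Agent.Lib.PF.Props8
import Cfsg.Agent.Lib.PF.Props12
import Cfsg.Agent.S1472

/-!
# The final contradiction of the Odd Order Theorem

The last step of Peterfalvi's book (Appendix C applied to the configuration of §14), and the reduction
of the theorem to the non-existence of a minimal simple group of odd order.
-/

set_option autoImplicit false

namespace CfsgLib.PF

open scoped Classical

universe u

variable {G : Type u} [Group G]

/-- The pair relation is symmetric. -/
theorem TypePPair.symm {S T W₁ W₂ U V : Subgroup G} (h : TypePPair S T W₁ W₂ U V) :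
    TypePPair T S W₂ W₁ V U where
  left_max := h.right_max
  right_max := h.left_max
  left := h.right
  right := h.left
  inter := by rw [inf_comm, h.inter, sup_comm]
  some_II := h.some_II.symm
  left_II_V := h.right_II_V
  right_II_V := h.left_II_V

/-- Appendix C: no pair has `|W₁| < |W₂|` in the final configuration. -/
theorem pair_not_lt [Fintype G] (hF : PropPairFinal G) (hP : PropPairFacts G)
    {S T W₁ W₂ U V : Subgroup G} (h : TypePPair S T W₁ W₂ U V)
    (hlt : Nat.card W₁ < Nat.card W₂) : False := by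
  obtain ⟨hq, hp, -⟩ := hP S T W₁ W₂ U V h
  obtain ⟨-, hU, hA, hcop, hQ, hW₂Q, ⟨y, hy, hyU⟩, F, iF, iFt, f, ψ, hcard, hbij, hadd, hψ, hψm,
    hψi, hpr⟩ := hF S T W₁ W₂ U V h hlt
  have : Fact (Nat.card W₂).Prime := ⟨hp⟩
  have : Fact (Nat.card W₁).Prime := ⟨hq⟩
  have hnorm : S ≤ Subgroup.normalizer (Cfsg.fittingHallOf S : Set G) := by
    intro s hs
    rw [Subgroup.mem_normalizer_iff]
    have key : ∀ t ∈ S, ∀ x ∈ Cfsg.fittingHallOf S, t * x * t⁻¹ ∈ Cfsg.fittingHallOf S := by
      rintro t ht x ⟨a, ha, rfl⟩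
      exact ⟨⟨t, ht⟩ * a * ⟨t, ht⟩⁻¹, (Cfsg.fittingHall_normal ↥S).conj_mem a ha _, by simp⟩
    refine fun x => ⟨key s hs x, fun hx => ?_⟩
    have h2 := key s⁻¹ (inv_mem hs) _ hx
    rwa [show s⁻¹ * (s * x * s⁻¹) * s⁻¹⁻¹ = x by group] at h2
  have hUS : U ≤ S := (h.left.U_compl.2.1).trans (Subgroup.commutator_le_self S)
  refine absurd ?_ (not_le.mpr hlt)
  exact Cfsg.Agent.S1472.result (Nat.card W₂) (Nat.card W₁) hA F hcard (Cfsg.fittingHallOf S) U
    (Cfsg.fittingHallOf T) f ψ hbij hadd (hUS.trans hnorm) hψ hψm hψi hU hQ.1 hcop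
    (fun x hx hfx => hW₂Q ((hpr x hx).mpr hfx)) y hy
    (fun x hx hfx => hyU ⟨x, (hpr x hx).mpr hfx, rfl⟩)

/-- The final contradiction from the structure theorem and the main propositions of §12–§14. -/
theorem false_of_props [Fintype G] (hS : PropStructure G) (hN : PropNotAllI G)
    (hP : PropPairFacts G) (hF : PropPairFinal G) : False := by
  rcases hS with hI | ⟨S, T, W₁, W₂, U, V, h⟩
  · exact hN hI
  · rcases lt_or_gt_of_ne (hP S T W₁ W₂ U V h).2.2.1 with hlt | hlt
    · exact pair_not_lt hF hP h hlt
    · exact pair_not_lt hF hP h.symm hlt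

/-- The Odd Order Theorem, from the non-existence of a minimal simple group of odd order. -/
theorem isSolvable_of_odd
    (hmin : ∀ (H : Type u) [Group H] [Finite H], Cfsg.IsMinSimpleOddOrder H → False)
    (G : Type u) [Group G] [Finite G] (hG : Odd (Nat.card G)) : Group.IsSolvable G := by
  suffices key : ∀ n : ℕ, ∀ (K : Type u) [Group K] [Finite K], Nat.card K = n → Odd (Nat.card K) →
      Group.IsSolvable K from key _ G rfl hG
  intro n
  induction n using Nat.strong_induction_on with
  | _ n ih =>
    intro K _ _ hn hK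
    subst hn
    rcases subsingleton_or_nontrivial K with hs | hnt
    · infer_instance
    have hprop : ∀ H : Subgroup K, H ≠ ⊤ → Group.IsSolvable H := fun H hH =>
      ih _ (lt_of_le_of_ne (Subgroup.card_le_card_group H) (fun h => hH (Subgroup.eq_top_of_card_eq H h)))
        H rfl (hK.of_dvd_nat (Subgroup.card_subgroup_dvd_card H))
    by_cases hN : ∃ N : Subgroup K, N.Normal ∧ N ≠ ⊥ ∧ N ≠ ⊤
    · obtain ⟨N, hN, hb, ht⟩ := hN
      have hlt : Nat.card (K ⧸ N) < Nat.card K := by
        have h1 := Subgroup.card_eq_card_quotient_mul_card_subgroup N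
        have h2 : 1 < Nat.card N := (Subgroup.one_lt_card_iff_ne_bot N).mpr hb
        have h3 : 0 < Nat.card (K ⧸ N) := Nat.card_pos
        nlinarith
      have := hprop N ht
      have := ih _ hlt (K ⧸ N) rfl (hK.of_dvd_nat (Subgroup.card_quotient_dvd_card N))
      exact Group.isSolvable_of_ker_le_range N.subtype (QuotientGroup.mk' N) (by simp)
    · push Not at hN
      have hsimple : IsSimpleGroup K := ⟨fun N hNn => or_iff_not_imp_left.mpr (hN N hNn)⟩
      by_cases hc : IsMulCommutative K
      · exact Group.isSolvable_of_comm (fun a b => hc.1.1 a b)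
      · exact (hmin K ⟨hK, hsimple, hc, hprop⟩).elim

/-- The Odd Order Theorem from the named propositions of the character-theoretic part. -/
theorem isSolvable_of_props
    (h : ∀ (H : Type u) [Group H] [Fintype H], Cfsg.IsMinSimpleOddOrder H →
      PropStructure H ∧ PropNotAllI H ∧ PropPairFacts H ∧ PropPairFinal H)
    (G : Type u) [Group G] [Finite G] (hG : Odd (Nat.card G)) : Group.IsSolvable G :=
  isSolvable_of_odd (fun H _ _ hH => by
    have := Fintype.ofFinite H
    obtain ⟨h1, h2, h3, h4⟩ := h H hH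
    exact false_of_props h1 h2 h3 h4) G hG

end CfsgLib.PF
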