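import Mathlib
import Cfsg.Agent.Lib.PF.Props8
import Cfsg.Agent.Lib.PF.Sets8
import Cfsg.Agent.Lib.OddOrder42.Main16
import Cfsg.Agent.Lib.OddOrder42.Tame16
import Cfsg.Agent.Lib.OddOrder42.Cover16

/-!
# Peterfalvi §8: types, pairs and cores, from BG §16
-/

set_option autoImplicit false
set_option linter.unusedSectionVars false

namespace CfsgLib.PF

open Subgroup CfsgLib.OddOrder CfsgLib.OddOrder.Transitivity CfsgLib.OddOrder42

universe u

variable {G : Type u} [Group G] [Finite G] (hG : Cfsg.IsMinSimpleOddOrder G) {M : Subgroup G}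
  (hM : IsCoatom M)

include hG hM in
theorem ofTypeI_iff : OfTypeI M ↔ Cfsg.kappa M = ∅ := by
  have hI := inputs16 hG
  obtain ⟨K, U, hKU⟩ := exists_decomp hG hI hM
  refine ⟨fun h => ?_, fun h => type1_of hG hI hM hKU ((kappa_eq_empty_iff hKU.hall).mp h)⟩
  refine (kappa_eq_empty_iff hKU.hall).mpr (by_contra fun hK1 => ?_)
  obtain ⟨V, hP⟩ := exists_typeP hG hI hM hKU hK1
  exact not_typeF_of_typeP hG hI hM hP h.1

include hG hM in
theorem not_ofTypeI_of_data {W₁ V W₂ : Subgroup G} (hP : Cfsg.IsTypePWith M W₁ V W₂) : ¬ OfTypeI M :=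
  fun h => not_typeF_of_typeP hG (inputs16 hG) hM hP h.1

include hG hM in
/-- A standard factorisation with `K = W₁`. -/
theorem decomp_of_data {W₁ V W₂ : Subgroup G} (hP : Cfsg.IsTypePWith M W₁ V W₂) :
    ∃ U : Subgroup G, Cfsg.IsSigmaDecomposition M W₁ U ∧
      W₂ = Cfsg.sigmaCore M ⊓ Subgroup.centralizer (W₁ : Set G) := by
  have hI := inputs16 hG
  obtain ⟨K, U, hKU⟩ := exists_decomp hG hI hM
  obtain ⟨g, hg, rfl, rfl⟩ := typeP_pair hG hI hM hKU hP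
  refine ⟨cj g U, decomp_conj hKU hg, ?_⟩
  rw [← kstar_cj g M K, cj_eq_of_mem_normalizer (Subgroup.le_normalizer hg)]

include hG in
/-- The factors in the other order: a partner is determined by the data. -/
theorem data_kstar {T W₁ V W₂ : Subgroup G} (hT : IsCoatom T) (hP : Cfsg.IsTypePWith T W₂ V W₁) :
    W₁ = Cfsg.sigmaCore T ⊓ Subgroup.centralizer (W₂ : Set G) ∧
      Cfsg.IsPiHallOf (Cfsg.kappa T) W₂ T := by
  obtain ⟨U, hTU, h⟩ := decomp_of_data hG hT hP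
  exact ⟨h, hTU.hall⟩

include hG in
theorem propTypes : PropTypes G := fun M hM => by
  have hI := inputs16 hG
  obtain ⟨K, U, hKU⟩ := exists_decomp hG hI hM
  refine ⟨?_, fun _ _ _ hP => not_ofTypeI_of_data hG hM hP⟩
  by_cases hK : K = ⊥
  · exact Or.inl (type1_of hG hI hM hKU hK)
  · obtain ⟨V, hP⟩ := exists_typeP hG hI hM hKU hK
    exact Or.inr ⟨K, V, _, hP⟩

/-- All type P data of `M` have conjugate complements and `W₁` of the same order. -/
theorem data_transfer (hG : Cfsg.IsMinSimpleOddOrder G) (hM : IsCoatom M)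
    {A₁ A A₂ B₁ B B₂ : Subgroup G} (ha : Cfsg.IsTypePWith M A₁ A A₂) (hb : Cfsg.IsTypePWith M B₁ B B₂) :
    Nat.card A₁ = Nat.card B₁ ∧ (A = ⊥ ↔ B = ⊥) ∧ (IsMulCommutative A → IsMulCommutative B) ∧
      (Subgroup.normalizer (A : Set G) ≤ M → Subgroup.normalizer (B : Set G) ≤ M) := by
  have hI := inputs16 hG
  refine ⟨?_, ?_, ?_, compl_normalizer_le hG hI hM ha.U_compl hb.U_compl⟩
  · exact Nat.eq_of_mul_eq_mul_left Nat.card_pos
      ((complIn_card ha.W₁_compl).trans (complIn_card hb.W₁_compl).symm)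
  · have hc : Nat.card A = Nat.card B := Nat.eq_of_mul_eq_mul_left Nat.card_pos
      ((complIn_card ha.U_compl).trans (complIn_card hb.U_compl).symm)
    rw [← Subgroup.card_eq_one, hc, Subgroup.card_eq_one]
  · intro hab
    have := minSimple_solvable hG (H := ⁅M, M⁆)
      fun e => hM.1 (top_le_iff.mp (e ▸ Subgroup.commutator_le_self M))
    have hc : (Nat.card (Cfsg.fittingHallOf M)).Coprime (Nat.card A) := by
      rw [← IsComplIn.relIndex_left ha.U_compl]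
      exact (fittingHallOf_coprime_relIndex M).coprime_dvd_right
        (Dvd.intro _ (Subgroup.relIndex_mul_relIndex _ _ M ha.U_compl.1 (Subgroup.commutator_le_self M)))
    obtain ⟨g, -, rfl⟩ := exists_conj_complIn ha.U_compl hb.U_compl hc
    refine ⟨⟨?_⟩⟩
    rintro ⟨_, a, haA, rfl⟩ ⟨_, b, hbA, rfl⟩
    refine Subtype.ext ?_
    show (MulAut.conj g).toMonoidHom a * (MulAut.conj g).toMonoidHom b =
      (MulAut.conj g).toMonoidHom b * (MulAut.conj g).toMonoidHom a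
    rw [← map_mul, ← map_mul, mul_comm_of_mem hab haA hbA]

include hG in
theorem propKinds : PropKinds G := fun M W₁ U W₂ hM hP => by
  have hI := inputs16 hG
  obtain ⟨U₀, hKU, -⟩ := decomp_of_data hG hM hP
  have h2 : Cfsg.IsOfTypeII M → Kind2 M W₁ U W₂ := by
    rintro ⟨A₁, A, A₂, ha, hA, hp, hTI, hab, hN, hF, hFH⟩
    obtain ⟨hc, hbot, hcomm, -⟩ := data_transfer hG hM ha hP
    obtain ⟨-, -, -, hnor⟩ := data_transfer hG hM hP ha
    exact ⟨hP, fun h => hA (hbot.mpr h), hc ▸ hp, hTI, hcomm hab, fun h => hN (hnor h), hF, hFH⟩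
  have h34 : Cfsg.IsOfTypeIII M ∨ Cfsg.IsOfTypeIV M → Kind34 M W₁ U W₂ := by
    rintro (⟨A₁, A, A₂, ha, hA, hp, hTI, -, hN⟩ | ⟨A₁, A, A₂, ha, hA, hp, hTI, -, hN⟩) <;>
    · obtain ⟨hc, hbot, -, hnor⟩ := data_transfer hG hM ha hP
      exact ⟨hP, fun h => hA (hbot.mpr h), hc ▸ hp, hTI, hnor hN⟩
  have h5 : Cfsg.IsOfTypeV M → Kind5 M W₁ U W₂ := by
    rintro ⟨A₁, A, A₂, ha, hA, hcases⟩
    obtain ⟨hc, hbot, -, -⟩ := data_transfer hG hM ha hP
    exact ⟨hP, hbot.mp hA, hc ▸ hcases⟩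
  have hall := type_II_to_V hG hI hM hKU hP.W₁_ne
  refine ⟨?_, ⟨h2, fun h => ⟨W₁, U, W₂, h.data, h.U_ne, h.W₁_prime, h.TI, h.U_comm, h.normalizer_not_le,
      h.derived_typeF, h.derived_fittingHall⟩⟩, ⟨h34, fun h => ?_⟩,
    ⟨h5, fun h => ⟨W₁, U, W₂, h.data, h.U_eq, h.cases⟩⟩, hall⟩
  · rcases hall with h | h | h | h
    · exact Or.inl (h2 h)
    · exact Or.inr (Or.inl (h34 (Or.inl h)))
    · exact Or.inr (Or.inl (h34 (Or.inr h)))
    · exact Or.inr (Or.inr (h5 h))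
  · by_cases hab : IsMulCommutative U
    · exact Or.inl ⟨W₁, U, W₂, h.data, h.U_ne, h.W₁_prime, h.TI, hab, h.normalizer_le⟩
    · exact Or.inr ⟨W₁, U, W₂, h.data, h.U_ne, h.W₁_prime, h.TI, hab, h.normalizer_le⟩

include hG in
theorem propPartner : PropPartner G := fun M W₁ U W₂ hM hP => by
  have hI := inputs16 hG
  obtain ⟨U₀, hKU, hW₂⟩ := decomp_of_data hG hM hP
  obtain ⟨T, ⟨hT, hTK, hTH⟩, -⟩ := hI.partner M hM W₁ U₀ hKU hP.W₁_ne
  obtain ⟨Vd, hTd⟩ := exists_decomp_of_hall hG hI hT hTH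
  have hinter := (hI.partnerInter M hM W₁ U₀ hKU hP.W₁_ne T hT hTK hTH).1
  have htypes := (hI.partnerTypes M hM W₁ U₀ hKU hP.W₁_ne T hT hTK hTH).1
  have e : ((W₂ : Subgroup G) : Set G) =
      (Cfsg.sigmaCore M : Set G) ⊓ (Subgroup.centralizer (W₁ : Set G) : Set G) := by rw [hW₂]; rfl
  rw [← e] at hTK
  rw [← hW₂] at hTd hTH hinter htypes
  have hW₂1 : W₂ ≠ ⊥ := hP.selfNormalizing.2.1
  obtain ⟨V, hV⟩ := exists_typeP hG hI hT hTd hW₂1
  rw [← hTK] at hV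
  refine ⟨T, V, hM, hT, hP, hV, hinter, ?_, type_II_to_V hG hI hM hKU hP.W₁_ne,
    type_II_to_V hG hI hT hTd hW₂1⟩
  rcases htypes with h | h
  · exact Or.inl (typeII_of hG hI hM hKU hP.W₁_ne h)
  · exact Or.inr (typeII_of hG hI hT hTd hW₂1 (h Vd hTd))

include hG in
theorem propStructure : PropStructure G := by
  have hI := inputs16 hG
  by_cases hall : ∀ M : Subgroup G, IsCoatom M → Cfsg.kappa M = ∅
  · exact Or.inl fun M hM => (ofTypeI_iff hG hM).mpr (hall M hM)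
  simp only [not_forall] at hall
  obtain ⟨S, hS, hκ⟩ := hall
  obtain ⟨K, U, hKU⟩ := exists_decomp hG hI hS
  obtain ⟨V, hP⟩ := exists_typeP hG hI hS hKU fun h => hκ ((kappa_eq_empty_iff hKU.hall).mpr h)
  obtain ⟨T, V', h⟩ := propPartner hG S _ _ _ hS hP
  exact Or.inr ⟨S, T, _, _, _, V', h⟩

include hG in
theorem propPairConj : PropPairConj G := fun S T W₁ W₂ U V h => by
  have hI := inputs16 hG
  obtain ⟨U₀, hSd, hW₂⟩ := decomp_of_data hG h.left_max h.left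
  obtain ⟨hW₁, hTH⟩ := data_kstar hG h.right_max h.right
  refine ⟨fun g hg => ?_, fun M hM hMI => ?_⟩
  · obtain ⟨p, hp, hd⟩ := Nat.exists_prime_and_dvd (n := Nat.card W₂)
      fun e => h.left.selfNormalizing.2.1 (Subgroup.card_eq_one.mp e)
    have h1 : p ∈ Cfsg.kappa S := by
      rw [← hg]
      show p ∈ Cfsg.kappa (cj g T)
      rw [kappa_cj]
      exact hTH.2.1 p hp hd
    rw [hW₂] at hd
    exact h1.2.2.1 (sigma_piNat S p hp (hd.trans (Subgroup.card_dvd_of_le inf_le_left)))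
  · have hκ : (Cfsg.kappa M).Nonempty := Set.nonempty_iff_ne_empty.mpr fun e => hMI ((ofTypeI_iff hG hM).mpr e)
    refine (hI.partnerTypes S h.left_max W₁ U₀ hSd h.left.W₁_ne T h.right_max ?_ (hW₂ ▸ hTH)).2 M hM hκ
    have e : ((W₂ : Subgroup G) : Set G) =
        (Cfsg.sigmaCore S : Set G) ⊓ (Subgroup.centralizer (W₁ : Set G) : Set G) := by rw [hW₂]; rfl
    rw [← e]
    exact hW₁

include hG in
theorem propCore : PropCore G := fun M hM => by
  have hI := inputs16 hG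
  obtain ⟨h1, h2, h3⟩ := typeCore_sylow hG hI hM
  exact ⟨h1, h2, h3, (hI.core M hM).1, normalizer_fittingHallOf hG hI hM⟩

include hG hM in
/-- `A(M)` is `suppA M`. -/
theorem suppA_eq : suppA M = setA M := by
  have hI := inputs16 hG
  obtain ⟨K, U, hKU⟩ := exists_decomp hG hI hM
  rw [setA_eq hG hI hM hKU]
  ext a
  by_cases hK : K = ⊥
  · rw [suppA, if_pos (type1_of hG hI hM hKU hK), centSupp, fittingHallOf_eq_of_bot hG hI hM hKU hK]
    have hUS : U ⊔ Cfsg.sigmaCore M = M := complIn_sup (compl_of_bot hKU hK)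
    constructor
    · rintro ⟨haM, ha1, x, hx, hx1, hax⟩
      exact ⟨⟨⟨haM, x, hx, hx1, hax⟩, hUS.ge haM⟩, ha1⟩
    · rintro ⟨⟨⟨haM, x, hx, hx1, hax⟩, -⟩, ha1⟩
      exact ⟨haM, ha1, x, hx, hx1, hax⟩
  · rw [suppA, if_neg fun h => hK ((kappa_eq_empty_iff hKU.hall).mp ((ofTypeI_iff hG hM).mp h)),
      centSupp, typeCore_eq hG hI hM, derived_eq hG hI hM hKU hK]
    constructor
    · rintro ⟨haD, ha1, x, hx, hx1, hax⟩
      exact ⟨⟨⟨(sup_le hKU.compl.1 (piCoreOf_le _ _) : U ⊔ Cfsg.sigmaCore M ≤ M) haD, x, hx, hx1, hax⟩,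
        haD⟩, ha1⟩
    · rintro ⟨⟨⟨-, x, hx, hx1, hax⟩, haD⟩, ha1⟩
      exact ⟨haD, ha1, x, hx, hx1, hax⟩

include hG hM in
/-- `A₀(M)` is `suppA0 M`. -/
theorem suppA0_eq : suppA0 M = setA0 M := by
  have hI := inputs16 hG
  obtain ⟨K, U, hKU⟩ := exists_decomp hG hI hM
  rw [suppA0, suppA_eq hG hM, setA0_eq hG hI hM hKU]
  congr 1
  ext v
  constructor
  · rintro ⟨-, W₁, V, W₂, hP, m, hm, w, hw, hw1, hw2, rfl⟩
    obtain ⟨g, hg, rfl, rfl⟩ := typeP_pair hG hI hM hKU hP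
    rw [← Subgroup.map_sup] at hw
    obtain ⟨z, hz, rfl⟩ := hw
    refine ⟨K_ne_of_typeP hG hI hM hKU hP, m * g, M.mul_mem hm hg, z, ⟨hz, ?_⟩, ?_⟩
    · rintro (h | h)
      · exact hw1 ⟨z, h, rfl⟩
      · exact hw2 ⟨z, h, rfl⟩
    · show m * (g * z * g⁻¹) * m⁻¹ = m * g * z * (m * g)⁻¹
      group
  · rintro ⟨hK1, m, hm, z, ⟨hz, hz'⟩, rfl⟩
    obtain ⟨V, hP⟩ := exists_typeP hG hI hM hKU hK1
    exact ⟨not_ofTypeI_of_data hG hM hP, K, V, _, hP, m, hm, z, hz, fun h => hz' (Or.inl h),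
      fun h => hz' (Or.inr h), rfl⟩

include hG hM in
theorem typeA1_eq_setA1 : Cfsg.typeA1 M = setA1 M := typeA1_eq hG (inputs16 hG) hM

include hG in
theorem propTypeI_II : PropTypeI_II G := fun M U hM hU => by
  have hI := inputs16 hG
  rcases hU with ⟨hT, hc⟩ | ⟨hT, hc⟩
  · obtain ⟨K, U', hKU'⟩ := exists_decomp hG hI hM
    have hK : K = ⊥ := (kappa_eq_empty_iff hKU'.hall).mp ((ofTypeI_iff hG hM).mp hT)
    have hH := fittingHallOf_eq_of_bot hG hI hM hKU' hK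
    rw [hH] at hc
    have hKU : Cfsg.IsSigmaDecomposition M K U := ⟨hKU'.cyclic, hKU'.hall,
      by rw [hK, bot_sup_eq]; exact complIn_symm hc, by rw [hK]; exact bot_le⟩
    refine ⟨hI.sylowU M hM K U hKU, fun X hX hne hc' => ?_, ?_⟩
    · rw [← Subgroup.centralizer_closure] at hc' ⊢
      obtain ⟨x, hx⟩ := hne
      refine hI.centralizerX M hM K U hKU _ ((Subgroup.closure_le _).mpr fun y hy => (hX hy).1) ?_ (hH ▸ hc')
      exact fun h => (hX hx).2 (Subgroup.mem_bot.mp (h.le (Subgroup.subset_closure hx)))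
    · have he : suppA M \ Cfsg.typeA1 M = Cfsg.sigmaA M U \ (Cfsg.sigmaCore M : Set G) := by
        rw [suppA_eq hG hM, setA_eq hG hI hM hKU, typeA1_eq hG hI hM]
        ext a
        simp only [Set.mem_sdiff, Set.mem_singleton_iff, SetLike.mem_coe, not_and, not_not]
        refine ⟨fun ⟨⟨h1, h2⟩, h3⟩ => ⟨h1, fun h => h2 (h3 h)⟩, fun ⟨h1, h2⟩ => ?_⟩
        exact ⟨⟨h1, fun h => h2 (h ▸ (Cfsg.sigmaCore M).one_mem)⟩, fun h => absurd h h2⟩
      rw [he]
      exact hI.tIA M hM K U hKU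
  · obtain ⟨h1, h2, h3⟩ := typeI_II_properties hG hI hM U (Or.inr ⟨hT, hc⟩)
    refine ⟨h1, h2, ?_⟩
    obtain ⟨K, U', hKU'⟩ := exists_decomp hG hI hM
    rwa [suppA_eq hG hM, setA_eq hG hI hM hKU', ← typeA_eq hG hI hM hKU' fun hK =>
      absurd hK ((typeII_iff hG hI hM hKU').mp hT).1]

end CfsgLib.PF
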