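import Mathlib
import Cfsg.Agent.Lib.PF.Sec8Base

/-!
# Peterfalvi §8: the Dade set-up, supports and the covering
-/

set_option autoImplicit false
set_option linter.unusedSectionVars false

namespace CfsgLib.PF

open Subgroup CfsgLib.OddOrder CfsgLib.OddOrder.Transitivity CfsgLib.OddOrder42
open CfsgLib.OddOrder38 hiding Inputs

universe u

variable {G : Type u} [Group G] [Finite G] (hG : Cfsg.IsMinSimpleOddOrder G) {M : Subgroup G}
  (hM : IsCoatom M)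

/-- The centraliser form of a Frobenius group with kernel `M_F`. -/
theorem isFrobF_of_complement {E : Subgroup ↥M} (hE : Cfsg.IsFrobeniusComplement E)
    (hk : Cfsg.frobeniusKernel E = ((Cfsg.fittingHall ↥M : Subgroup ↥M) : Set ↥M)) : IsFrobF M := by
  intro x hx hx1 c hc
  obtain ⟨x', hx', rfl⟩ := hx
  obtain ⟨hcM, hcx⟩ := Subgroup.mem_inf.mp hc
  suffices h : (⟨c, hcM⟩ : M) ∈ Cfsg.fittingHall ↥M from ⟨⟨c, hcM⟩, h, rfl⟩
  by_cases hc1 : (⟨c, hcM⟩ : M) = 1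
  · rw [hc1]; exact one_mem _
  rw [← SetLike.mem_coe, ← hk]
  refine Or.inr fun g hg => ?_
  have hxk : x' ∈ Cfsg.frobeniusKernel E := by rw [hk]; exact hx'
  rcases hxk with h | h
  · exact hx1 (by rw [h]; rfl)
  refine h g (CfsgLib.Frobenius.mem_conj_smul_iff.mpr ?_)
  have h1 := CfsgLib.Frobenius.mem_conj_smul_iff.mp hg
  refine CfsgLib.Frobenius.centralizer_le hE h1 (fun h2 => hc1 ?_)
    (Subgroup.mem_centralizer_singleton_iff.mpr ?_)
  · calc (⟨c, hcM⟩ : M) = g * (g⁻¹ * ⟨c, hcM⟩ * g) * g⁻¹ := by group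
      _ = 1 := by rw [h2]; group
  · have h2 : (⟨c, hcM⟩ : M) * x' = x' * ⟨c, hcM⟩ :=
      Subtype.ext (Subgroup.mem_centralizer_singleton_iff.mp hcx)
    calc g⁻¹ * x' * g * (g⁻¹ * ⟨c, hcM⟩ * g) = g⁻¹ * (x' * ⟨c, hcM⟩) * g := by group
      _ = g⁻¹ * (⟨c, hcM⟩ * x') * g := by rw [h2]
      _ = g⁻¹ * ⟨c, hcM⟩ * g * (g⁻¹ * x' * g) := by group

theorem setA_subset_setA0 : setA M ⊆ setA0 M := fun a ⟨h, h1, hκ⟩ => by
  obtain ⟨p, hp, hd⟩ := Nat.exists_prime_and_dvd (n := orderOf a) fun e => h1 (orderOf_eq_one_iff.mp e)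
  exact ⟨h, h1, p, hp, hd, hκ p hp hd⟩

theorem setA1_subset_setA : setA1 M ⊆ setA M := fun a ⟨ha, ha1⟩ =>
  ⟨⟨piCoreOf_le _ _ ha, a, ha, ha1, rfl⟩, ha1,
    fun _ hp hd hκ => hκ.2.2.1 (mem_sigma_of_mem_sigmaCore ha hp hd)⟩

theorem sigmaHat_cj {a : G} (ha : a ∈ Cfsg.sigmaHat M) (g : G) :
    g * a * g⁻¹ ∈ Cfsg.sigmaHat (cj g M) := by
  obtain ⟨haM, y, hy, hy1, hay⟩ := ha
  refine ⟨mem_cj_self.mpr haM, g * y * g⁻¹, ?_, fun h => hy1 (conj_eq_one_iff.mp h),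
    (commute_conj g hay).eq⟩
  rw [sigmaCore_cj]
  exact mem_cj_self.mpr hy

theorem mem_setA1_cj {a : G} (ha : a ∈ setA1 M) (g : G) : g * a * g⁻¹ ∈ setA1 (cj g M) :=
  ⟨by rw [SetLike.mem_coe, sigmaCore_cj]; exact mem_cj_self.mpr ha.1,
    fun h => ha.2 (conj_eq_one_iff.mp h)⟩

theorem mem_setA_cj {a : G} (ha : a ∈ setA M) (g : G) : g * a * g⁻¹ ∈ setA (cj g M) :=
  ⟨sigmaHat_cj ha.1 g, fun h => ha.2.1 (conj_eq_one_iff.mp h), by
    rw [kappa_cj, OddOrder42.orderOf_conj]; exact ha.2.2⟩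

theorem mem_setA0_cj {a : G} (ha : a ∈ setA0 M) (g : G) : g * a * g⁻¹ ∈ setA0 (cj g M) :=
  ⟨sigmaHat_cj ha.1 g, fun h => ha.2.1 (conj_eq_one_iff.mp h), by
    rw [kappa_cj, OddOrder42.orderOf_conj]; exact ha.2.2⟩

include hG in
theorem propTame : PropTame G := fun M hM => by
  have hI := inputs16 hG
  rw [suppA0_eq hG hM]
  obtain ⟨h1, h2, h3⟩ := tame_embedding_sets hG hI hM (setA0 M) (Or.inr rfl)
  refine ⟨h1, fun x hx hC => ?_⟩
  obtain ⟨hA1, huniq⟩ := h2 x hx hC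
  rw [typeA1_eq_setA1 hG hM]
  refine ⟨hA1, huniq, fun L hL hCL => ?_⟩
  obtain ⟨a, -, c, d, e, f, -⟩ := h3 x hx hC L hL hCL
  rw [suppA_eq hG hL, typeA1_eq_setA1 hG hL]
  refine ⟨a, c, d, e, f, fun hII => ?_⟩
  obtain ⟨K', U', hd⟩ := exists_decomp hG hI hL
  obtain ⟨hκ, ⟨E, hE, -⟩, -⟩ := hI.supportFrobenius M hM x hA1.1 hA1.2 hC L hL hCL
    (kappa_nonempty_of_hall hd.hall ((typeII_iff hG hI hL hd).mp hII).1)
  exact ⟨isFrobF_of_complement hE (frobeniusKernel_eq_fittingHall hE), (ofTypeI_iff hG hM).mpr hκ⟩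

include hG hM in
theorem setA1_nonempty : (setA1 M).Nonempty := by
  obtain ⟨x, hx, hx1⟩ := (Subgroup.bot_or_exists_ne_one _).resolve_left (Sigma15.sigmaCore_ne_bot hG hM)
  exact ⟨x, hx, hx1⟩

include hG hM in
/-- The Dade set-up for an `M`-invariant subset of `A₀(M)` containing `A₁(M)`. -/
theorem dade_of {A : Set G} (hA1 : setA1 M ⊆ A) (hA0 : A ⊆ setA0 M)
    (hinv : ∀ m ∈ M, ∀ a ∈ A, m * a * m⁻¹ ∈ A) :
    Subgroup.normalizer A = M ∧ Cfsg.DadeHypothesis A M (Cfsg.supportR M) := by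
  have hI := inputs16 hG
  obtain ⟨h1, h2, h3⟩ := tame_embedding_sets hG hI hM (setA0 M) (Or.inr rfl)
  have hsub : A ⊆ (M : Set G) := fun a ha => (hA0 ha).1.1
  have hR : ∀ a ∈ A, ¬ Subgroup.centralizer ({a} : Set G) ≤ M →
      ∃ L : Subgroup G, IsCoatom L ∧ Subgroup.centralizer ({a} : Set G) ≤ L ∧
        Cfsg.supportR M a = Cfsg.fittingHallOf L ⊓ Subgroup.centralizer ({a} : Set G) := by
    intro a ha hC
    obtain ⟨-, huniq⟩ := h2 a (hA0 ha) hC
    refine ⟨_, (Classical.choose_spec huniq.exists).1, (Classical.choose_spec huniq.exists).2, ?_⟩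
    rw [Cfsg.supportR, dif_pos ⟨hC, huniq⟩]
  refine ⟨?_, ⟨fun h => (hA0 h).2.1 rfl, hsub, hinv, fun a ha g hga => h1 a (hA0 ha) g (hA0 hga),
    fun a ha => ?_, fun a ha c hc v hv => ?_, fun a ha => ?_, fun a ha => ?_, fun a ha b hb => ?_⟩⟩
  · have hle : M ≤ Subgroup.normalizer A := fun m hm y =>
      ⟨hinv m hm y, fun h => by simpa [mul_assoc] using hinv m⁻¹ (M.inv_mem hm) _ h⟩
    refine (hM.le_iff.mp hle).resolve_left fun htop => ?_
    obtain ⟨x, hx⟩ := setA1_nonempty hG hM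
    have hn : Subgroup.normalClosure ({x} : Set G) ≤ M := by
      rw [Subgroup.normalClosure, Subgroup.closure_le]
      intro w hw
      obtain ⟨t, ht, htw⟩ := Group.mem_conjugatesOfSet_iff.mp hw
      rw [Set.mem_singleton_iff] at ht
      rw [ht] at htw
      obtain ⟨v, rfl⟩ := isConj_iff.mp htw
      exact hsub ((htop.ge (Subgroup.mem_top v) x).mp (hA1 hx))
    rcases minSimple_eq_bot_or_top hG (N := Subgroup.normalClosure ({x} : Set G))
      Subgroup.normalClosure_normal with h | h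
    · exact hx.2 (Subgroup.mem_bot.mp (h ▸ Subgroup.subset_normalClosure rfl))
    · exact hM.1 (top_le_iff.mp (h ▸ hn))
  · by_cases hC : Subgroup.centralizer ({a} : Set G) ≤ M
    · rw [supportR_eq_bot hC]; exact bot_le
    · obtain ⟨L, -, -, he⟩ := hR a ha hC
      rw [he]; exact inf_le_right
  · by_cases hC : Subgroup.centralizer ({a} : Set G) ≤ M
    · rw [supportR_eq_bot hC, Subgroup.mem_bot] at hv ⊢
      rw [hv, mul_one, mul_inv_cancel]
    · obtain ⟨L, hL, hCL, he⟩ := hR a ha hC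
      obtain ⟨-, hn, -⟩ := h3 a (hA0 ha) hC L hL hCL
      rw [he] at hv ⊢
      exact conj_mem_of_le_normalizer hn hc hv
  · by_cases hC : Subgroup.centralizer ({a} : Set G) ≤ M
    · rw [supportR_eq_bot hC, bot_inf_eq]
    · obtain ⟨L, hL, hCL, he⟩ := hR a ha hC
      obtain ⟨-, -, hc, -⟩ := h3 a (hA0 ha) hC L hL hCL
      rw [he]
      exact hc.2.2.1
  · by_cases hC : Subgroup.centralizer ({a} : Set G) ≤ M
    · rw [supportR_eq_bot hC, bot_sup_eq, inf_eq_right.mpr hC]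
    · obtain ⟨L, hL, hCL, he⟩ := hR a ha hC
      obtain ⟨-, -, hc, -⟩ := h3 a (hA0 ha) hC L hL hCL
      rw [he]
      exact complIn_sup hc
  · by_cases hC : Subgroup.centralizer ({a} : Set G) ≤ M
    · rw [supportR_eq_bot hC, Subgroup.card_bot]
      exact Nat.coprime_one_left _
    · obtain ⟨L, hL, hCL, he⟩ := hR a ha hC
      obtain ⟨-, -, -, hcop, -⟩ := h3 a (hA0 ha) hC L hL hCL
      rw [he]
      exact (hcop b (hA0 hb)).coprime_dvd_left (Subgroup.card_dvd_of_le inf_le_left)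

include hG hM in
theorem invariant_of_cases {A : Set G}
    (hA : A = Cfsg.typeA1 M ∨ A = suppA M ∨ A = suppA0 M) :
    setA1 M ⊆ A ∧ A ⊆ setA0 M ∧ ∀ m ∈ M, ∀ a ∈ A, m * a * m⁻¹ ∈ A := by
  rw [typeA1_eq_setA1 hG hM, suppA_eq hG hM, suppA0_eq hG hM] at hA
  rcases hA with rfl | rfl | rfl
  · exact ⟨subset_rfl, setA1_subset_setA.trans setA_subset_setA0, fun m hm a ha =>
      cj_eq_of_mem_normalizer (Subgroup.le_normalizer hm) ▸ mem_setA1_cj ha m⟩
  · exact ⟨setA1_subset_setA, setA_subset_setA0, fun m hm a ha =>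
      cj_eq_of_mem_normalizer (Subgroup.le_normalizer hm) ▸ mem_setA_cj ha m⟩
  · exact ⟨setA1_subset_setA.trans setA_subset_setA0, subset_rfl, fun m hm a ha =>
      cj_eq_of_mem_normalizer (Subgroup.le_normalizer hm) ▸ mem_setA0_cj ha m⟩

include hG in
theorem propDade : PropDade G := fun M A hM hA =>
  dade_of hG hM (invariant_of_cases hG hM hA).1 (invariant_of_cases hG hM hA).2.1
    (invariant_of_cases hG hM hA).2.2

include hG in
theorem propTypeIITI : PropTypeIITI G := fun M A hM hII hA g hg a ha hga => by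
  have hI := inputs16 hG
  by_contra ha1
  obtain ⟨hN, hD⟩ := propDade hG M A hM hA
  obtain ⟨-, hA0, -⟩ := invariant_of_cases hG hM hA
  obtain ⟨m, hm, he⟩ := hD.fusion a ha g hga
  obtain ⟨-, h2, -⟩ := tame_embedding_sets hG hI hM (setA0 M) (Or.inr rfl)
  obtain ⟨K, U, hKU⟩ := exists_decomp hG hI hM
  obtain ⟨hK1, hU⟩ := (typeII_iff hG hI hM hKU).mp hII
  obtain ⟨-, hTI, hSF⟩ := hI.primeK M hM K U hKU hK1 hU
  have hC : Subgroup.centralizer ({a} : Set G) ≤ M := by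
    by_contra hC
    obtain ⟨⟨haS, -⟩, -⟩ := h2 a (hA0 ha) hC
    refine hC fun c hc => ?_
    have hNF : Subgroup.normalizer (Cfsg.fittingOf M : Set G) = M :=
      Sigma15.normalizer_eq_of_normal hG hM (fittingOf_le M)
        (fun h => ha1 (Subgroup.mem_bot.mp (h ▸ hSF haS))) (fittingOf_normal M)
    by_contra hcM
    refine ha1 (hTI c (fun h => hcM (hNF.le h)) a (hSF haS) ?_)
    rw [show c * a * c⁻¹ = a by rw [Subgroup.mem_centralizer_singleton_iff.mp hc, mul_inv_cancel_right]]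
    exact hSF haS
  refine hg (hN.ge ?_)
  have h := hC (Subgroup.mem_centralizer_singleton_iff.mpr (show m⁻¹ * g * a = a * (m⁻¹ * g) by
    calc m⁻¹ * g * a = m⁻¹ * (g * a * g⁻¹) * g := by group
      _ = m⁻¹ * (m * a * m⁻¹) * g := by rw [he]
      _ = a * (m⁻¹ * g) := by group))
  have h' := M.mul_mem hm h
  rwa [mul_inv_cancel_left] at h'

include hG in
/-- An element of `A₁(S) ∩ A(T)`, `T` not conjugate to `S`. -/
theorem support_of_mem {S T : Subgroup G} (hS : IsCoatom S) (hT : IsCoatom T)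
    (hnc : ∀ g : G, T.map (MulAut.conj g).toMonoidHom ≠ S) {x : G}
    (hx : x ∈ setA1 S) (hxT : x ∈ setA T) :
    ¬ Subgroup.centralizer ({x} : Set G) ≤ S ∧ Subgroup.centralizer ({x} : Set G) ≤ T := by
  have hI := inputs16 hG
  obtain ⟨⟨hxM, y, hy, hy1, hxy⟩, hx1, hκ⟩ := hxT
  have hσ : ∀ p : ℕ, p.Prime → p ∣ orderOf x → p ∉ Cfsg.sigma T := fun p hp hd hpT => by
    obtain ⟨g, hg⟩ := exists_cj_eq_of_sigma hI.disjoint hT hS hpT (mem_sigma_of_mem_sigmaCore hx.1 hp hd)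
    exact hnc g hg.symm
  rcases hI.dichotomy T hT y hy hy1 x
      ⟨hxM, Subgroup.mem_centralizer_singleton_iff.mpr hxy⟩ hx1 hσ with ⟨h, -⟩ | ⟨-, -, hC, huniq⟩
  · obtain ⟨p, hp, hd⟩ := Nat.exists_prime_and_dvd (n := orderOf x) fun e => hx1 (orderOf_eq_one_iff.mp e)
    exact absurd (h p hp hd) (hκ p hp hd)
  · refine ⟨fun h => hnc 1 ?_, hC⟩
    rw [huniq S hS h]
    exact cj_one T

include hG in
theorem supportsA0_iff {S T : Subgroup G} (hS : IsCoatom S) (hT : IsCoatom T)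
    (hnc : ∀ g : G, T.map (MulAut.conj g).toMonoidHom ≠ S) :
    SupportsA0 T S ↔ (setA1 S ∩ setA T).Nonempty := by
  have hI := inputs16 hG
  constructor
  · rintro ⟨-, x, hx, hC, hCT⟩
    rw [suppA0_eq hG hS] at hx
    obtain ⟨-, h2, h3⟩ := tame_embedding_sets hG hI hS (setA0 S) (Or.inr rfl)
    obtain ⟨-, -, -, -, ⟨hA, -⟩, -⟩ := h3 x hx hC T hT hCT
    exact ⟨x, (h2 x hx hC).1, hA⟩
  · rintro ⟨x, hx, hxT⟩
    refine ⟨hT, x, ?_, support_of_mem hG hS hT hnc hx hxT⟩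
    rw [suppA0_eq hG hS]
    exact setA_subset_setA0 (setA1_subset_setA hx)

theorem not_conj_cj {S T : Subgroup G} (hnc : ∀ g : G, T.map (MulAut.conj g).toMonoidHom ≠ S) (h : G) :
    ∀ g : G, (cj h T).map (MulAut.conj g).toMonoidHom ≠ S := fun g e => hnc (g * h) (by
  show cj (g * h) T = S
  rw [← cj_mul]; exact e)

include hG in
theorem tilde_inter_iff {S T : Subgroup G} (hS : IsCoatom S) (hT : IsCoatom T)
    (hnc : ∀ g : G, T.map (MulAut.conj g).toMonoidHom ≠ S) :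
    (∃ g : G, SupportsA0 (T.map (MulAut.conj g).toMonoidHom) S) ↔
      (Cfsg.tildeOf S (setA1 S) ∩ Cfsg.tildeOf T (setA T)).Nonempty := by
  have hI := inputs16 hG
  constructor
  · rintro ⟨g, hg⟩
    obtain ⟨x, hx, hxT⟩ :=
      (supportsA0_iff hG hS (isCoatom_map_conj hT g) (not_conj_cj hnc g)).mp hg
    refine ⟨x, ⟨x, hx, 1, one_mem _, 1, by simp⟩, g⁻¹ * x * g, ?_, 1, one_mem _, g, by group⟩
    have h := mem_setA_cj hxT g⁻¹
    rwa [inv_inv, cj_cancel] at h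
  · rintro ⟨v, ⟨a, ha, r, hr, y, hy⟩, b, hb, s, hs, w, hw⟩
    have hbT : b ∉ Cfsg.sigmaCore T := fun hbT => by
      have h := (partition hG hI).1 S T hS hT fun g e => hnc g⁻¹ (by
        show cj g⁻¹ T = S
        rw [show T = cj g S from e, cj_cancel])
      exact Set.eq_empty_iff_forall_notMem.mp h v
        ⟨⟨a, ha, r, hr, y, hy⟩, b, ⟨hbT, hb.2.1⟩, s, hs, w, hw⟩
    obtain ⟨K, U, hKU⟩ := exists_decomp hG hI hT
    have hbA : b ∈ Cfsg.sigmaA T U := ((setA_eq hG hI hT hKU).le hb).1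
    have hs1 : s = 1 := by
      rwa [supportR_eq_bot (sigmaA_centralizer_le hG hI hT hKU hbA hbT), Subgroup.mem_bot] at hs
    set g := y⁻¹ * w with hg
    set b' := g * b * g⁻¹ with hb'
    have hb'T : b' ∈ setA (cj g T) := mem_setA_cj hb g
    have he : a * r = b' := by
      calc a * r = y⁻¹ * (y * (a * r) * y⁻¹) * y := by group
        _ = y⁻¹ * (w * (b * s) * w⁻¹) * y := by rw [← hy, hw]
        _ = b' := by rw [hs1, hb', hg]; group
    obtain ⟨hcom, hrσ⟩ := supportR_parts hG hI hS ha.1 ha.2 hr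
    have hcop : (orderOf a).Coprime (orderOf r) := coprime_of_forall fun p hp d1 d2 =>
      hrσ p hp d2 (mem_sigma_of_mem_sigmaCore ha.1 hp d1)
    have haz : a ∈ Subgroup.zpowers b' := by
      have h1 : b' ^ orderOf r = a ^ orderOf r := by
        rw [← he, hcom.mul_pow, pow_orderOf_eq_one, mul_one]
      obtain ⟨m, hm⟩ := exists_pow_eq_self_of_coprime hcop.symm
      rw [← hm, ← h1]
      exact Subgroup.pow_mem _ (Subgroup.pow_mem _ (Subgroup.mem_zpowers _) _) _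
    refine ⟨g, (supportsA0_iff hG hS (isCoatom_map_conj hT g) (not_conj_cj hnc g)).mpr ⟨a, ha, ?_⟩⟩
    obtain ⟨⟨hbM, z, hz, hz1, hbz⟩, -, hbκ⟩ := hb'T
    refine ⟨⟨Subgroup.zpowers_le.mpr hbM haz, z, hz, hz1, ?_⟩, ha.2, fun p hp hd => hbκ p hp ?_⟩
    · exact (Subgroup.mem_centralizer_singleton_iff.mp (centralizer_le_of_mem_zpowers haz
        (Subgroup.mem_centralizer_singleton_iff.mpr hbz.symm))).symm
    · refine hd.trans ?_
      rw [← Nat.card_zpowers b']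
      exact Subgroup.orderOf_dvd_natCard _ haz

include hG in
theorem propSupports : PropSupports G := fun S T hS hT hnc => by
  have hI := inputs16 hG
  have hnc' : ∀ g : G, S.map (MulAut.conj g).toMonoidHom ≠ T := fun g e => hnc g⁻¹ (by
    show cj g⁻¹ T = S
    rw [show T = cj g S from e.symm, cj_cancel])
  rw [typeA1_eq_setA1 hG hS, typeA1_eq_setA1 hG hT, suppA_eq hG hS, suppA_eq hG hT]
  refine ⟨supportsA0_iff hG hS hT hnc, fun x hx => support_of_mem hG hS hT hnc hx.1 hx.2,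
    tilde_inter_iff hG hS hT hnc, ?_, (partition hG hI).1 S T hS hT fun g e => hnc' g e.symm⟩
  rw [Set.eq_empty_iff_forall_notMem, Set.eq_empty_iff_forall_notMem]
  by_contra hcon
  simp only [not_or, not_forall, not_not] at hcon
  obtain ⟨⟨v, hv⟩, v', hv'⟩ := hcon
  obtain ⟨g, hg⟩ := (tilde_inter_iff hG hS hT hnc).mpr ⟨v, hv⟩
  obtain ⟨h, hh⟩ := (tilde_inter_iff hG hT hS hnc').mpr ⟨v', hv'⟩
  obtain ⟨x, hx, hxT⟩ := (supportsA0_iff hG hS (isCoatom_map_conj hT g) (not_conj_cj hnc g)).mp hg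
  obtain ⟨w, hw, hwS⟩ := (supportsA0_iff hG hT (isCoatom_map_conj hS h) (not_conj_cj hnc' h)).mp hh
  obtain ⟨hCw, hCw'⟩ := support_of_mem hG hT (isCoatom_map_conj hS h) (not_conj_cj hnc' h) hw hwS
  obtain ⟨p, hp, hd⟩ := Nat.exists_prime_and_dvd (n := orderOf x) fun e => hx.2 (orderOf_eq_one_iff.mp e)
  have hpS := mem_sigma_of_mem_sigmaCore hx.1 hp hd
  have hw' := mem_setA1_cj hw g
  have hCg : ¬ Subgroup.centralizer ({g * w * g⁻¹} : Set G) ≤ cj g T := fun hle => hCw (by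
    rw [← Sigma11.cj_centralizer_singleton] at hle
    have h1 := cj_mono (g := g⁻¹) hle
    rwa [cj_cancel, cj_cancel] at h1)
  obtain ⟨hκ, hτ⟩ := (hI.supportConj (cj g T) (isCoatom_map_conj hT g) (g * w * g⁻¹) hw'.1 hw'.2 hCg
    (cj g (cj h S)) (isCoatom_map_conj (isCoatom_map_conj hS h) g)
    (by rw [← Sigma11.cj_centralizer_singleton]; exact cj_mono hCw')).1
    ⟨p, by rw [sigma_cj, sigma_cj]; exact hpS, hd.trans (Subgroup.orderOf_dvd_natCard _ hxT.1.1)⟩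
  obtain ⟨⟨hxM, y, hy, hy1, hxy⟩, hx1, -⟩ := hxT
  have hσ : ∀ q : ℕ, q.Prime → q ∣ orderOf x → q ∉ Cfsg.sigma (cj g T) := fun q hq hqd hqT => by
    obtain ⟨k, hk⟩ := exists_cj_eq_of_sigma hI.disjoint (isCoatom_map_conj hT g) hS hqT
      (mem_sigma_of_mem_sigmaCore hx.1 hq hqd)
    exact not_conj_cj hnc g k hk.symm
  rcases hI.dichotomy (cj g T) (isCoatom_map_conj hT g) y hy hy1 x
      ⟨hxM, Subgroup.mem_centralizer_singleton_iff.mpr hxy⟩ hx1 hσ with ⟨h1, -⟩ | ⟨h1, -, -⟩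
  · have h2 := h1 p hp hd
    rw [hκ] at h2
    exact h2
  · have h2 := h1 p hp hd
    rw [hτ] at h2
    exact h2

include hG in
theorem propCover : PropCover G := by
  have hI := inputs16 hG
  obtain ⟨-, h2, h3⟩ := partition hG hI
  refine ⟨fun hall g hg => ?_, fun S T W₁ W₂ U V h => ?_⟩
  · obtain ⟨M, hM, hgM⟩ := h2 (fun M hM => (ofTypeI_iff hG hM).mp (hall M hM)) g hg
    exact ⟨M, hM, by rw [typeA1_eq hG hI hM]; exact hgM⟩
  obtain ⟨U₀, hSd, hW₂⟩ := decomp_of_data hG h.left_max h.left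
  obtain ⟨hc1, hc2⟩ := h3 S W₁ U₀ h.left_max hSd h.left.W₁_ne
  rw [← hW₂] at hc1 hc2
  refine ⟨fun g hg => ?_, fun N hN y z hz hz1 hz2 => ?_⟩
  · rcases hc1 g hg with ⟨N, hN, hgN⟩ | ⟨y, z, ⟨hz, hz'⟩, he⟩
    · exact Or.inl ⟨N, hN, by rw [typeA1_eq hG hI hN]; exact hgN⟩
    · exact Or.inr ⟨y, z, hz, fun h => hz' (Or.inl h), fun h => hz' (Or.inr h), he⟩
  · rw [typeA1_eq hG hI hN]
    exact hc2 N hN y z ⟨hz, fun h => h.elim hz1 hz2⟩

end CfsgLib.PF
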