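import Cfsg.Agent.Lib.PF.Sec12Frozen
import Cfsg.Agent.Lib.PF.Sec13Facts
import Cfsg.Agent.Lib.PF.Sec13Group
import Cfsg.Agent.Lib.PF.Sec14Final
import Cfsg.Agent.Lib.PF.Sec8Tame
import Cfsg.Agent.Lib.FTCons.Basic

/-!
# The assembly of PF §8–14

Everything that follows from the propositions of §10, §11 and the two last ones of §13, §14.
-/

set_option autoImplicit false

namespace CfsgLib.PF

open scoped Classical

universe u

variable {G : Type u} [Group G] [Fintype G]

theorem pairFacts_of_sec10 (hG : Cfsg.IsMinSimpleOddOrder G) (hV : PropNoTypeV G) (hp : PropPrimes G)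
    (hII : PropTypeII G) (hIII : PropTypeIII G) : PropPairFacts G :=
  propPairFacts (propTypes hG) (propKinds hG) (propTame hG) (propDade hG) hV hp hII hIII
    (typeIFrobenius_of_noTypeV hG hV hIII)

theorem typeIISupport_of_sec10 (hG : Cfsg.IsMinSimpleOddOrder G) (hV : PropNoTypeV G)
    (hp : PropPrimes G) (hII : PropTypeII G) (hIII : PropTypeIII G) (hR : PropRegFcore G) :
    PropTypeIISupport G :=
  propTypeIISupport hG (propTypes hG) (propKinds hG) (propPairConj hG) (propCore hG)
    (typeIFrobenius_of_noTypeV hG hV hIII) (pairFacts_of_sec10 hG hV hp hII hIII)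
    (propNormCent hG (pairFacts_of_sec10 hG hV hp hII hIII) hR)

/-- No minimal simple group of odd order, given §10, §11 and the final pair configuration. -/
theorem false_of_minSimple (hG : Cfsg.IsMinSimpleOddOrder G) (hV : PropNoTypeV G) (hp : PropPrimes G)
    (hII : PropTypeII G) (hIII : PropTypeIII G) (hF : PropPairFinal G) : False :=
  false_of_props (propStructure hG) (notAllI_of_noTypeV hG hV hIII)
    (pairFacts_of_sec10 hG hV hp hII hIII) hF

end CfsgLib.PF
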