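import Cfsg.Agent.Lib.PF.TIDataExists
import Cfsg.Agent.Lib.OddChar.Coherence
import Cfsg.Agent.Lib.OddChar.CoherenceExtend
import Cfsg.Agent.Lib.Characters.NormalAvg

/-!
# PF (5.8): the images of the reducible members under a coherent extension

`red M μ ω` is the character `μ_j` of the column of `ω`.  If a conjugation-closed coherent part `T`
contains it and a further member, its image is `δ Σ_{col ω} η` or `-δ Σ_{col ω⁻¹} η`; the first one if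
`T` contains another column of the same degree.
-/

set_option autoImplicit false
set_option linter.style.haveILetI false
set_option linter.unusedSectionVars false

namespace CfsgLib.PF

open scoped Classical ComplexConjugate
open Finset CfsgLib.Characters CfsgLib.OddChar

universe u

variable {G : Type u} [Group G] [Fintype G]

/-- The reducible character of the column of `ω`. -/
noncomputable def red (M : Subgroup G) {W₁ W₂ : Subgroup G}
    (μ : (↥(W₁ ⊔ W₂) →* ℂˣ) → (↥M → ℂ)) (ω : ↥(W₁ ⊔ W₂) →* ℂˣ) : ↥M → ℂ :=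
  Cfsg.indFun ((⁅M, M⁆ : Subgroup G).subgroupOf M) (resD M (μ ω))

/-- The sum of the family over a column. -/
noncomputable def colSum {W₁ W₂ : Subgroup G} (η : (↥(W₁ ⊔ W₂) →* ℂˣ) → (G → ℂ))
    (ω : ↥(W₁ ⊔ W₂) →* ℂˣ) : G → ℂ :=
  ∑ᶠ ν ∈ {ν | AgreeR W₁ W₂ ω ν}, η ν

theorem zspanOn_map {L : Type*} [Group L] {T : Set (L → ℂ)} {χ ψ : L → ℂ} (hχ : χ ∈ T) (hψ : ψ ∈ T)
    (a b : ℤ) (h : (a : ℂ) * χ 1 = (b : ℂ) * ψ 1) :
    a • χ - b • ψ ∈ Cfsg.zspanOn T {1}ᶜ := by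
  refine zspanOn_compl_one.mpr ⟨zspan_sub (zspan_zsmul a (zspan_of_mem hχ))
    (zspan_zsmul b (zspan_of_mem hψ)), ?_⟩
  rw [Pi.sub_apply, CfsgLib.OddChar.zsmul_eq_smul, CfsgLib.OddChar.zsmul_eq_smul, Pi.smul_apply, Pi.smul_apply, smul_eq_mul,
    smul_eq_mul, h, sub_self]

variable {M W₁ U W₂ : Subgroup G} {μ : (↥(W₁ ⊔ W₂) →* ℂˣ) → (↥M → ℂ)}
  {δ : (↥(W₁ ⊔ W₂) →* ℂˣ) → ℂ} {η : (↥(W₁ ⊔ W₂) →* ℂˣ) → (G → ℂ)}

theorem AgreeR.refl (ω : ↥(W₁ ⊔ W₂) →* ℂˣ) : AgreeR W₁ W₂ ω ω := fun _ _ => rfl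

theorem AgreeR.symm {ω ω' : ↥(W₁ ⊔ W₂) →* ℂˣ} (h : AgreeR W₁ W₂ ω ω') : AgreeR W₁ W₂ ω' ω :=
  fun w hw => (h w hw).symm

theorem AgreeR.trans {ω ω' ω'' : ↥(W₁ ⊔ W₂) →* ℂˣ} (h : AgreeR W₁ W₂ ω ω')
    (h' : AgreeR W₁ W₂ ω' ω'') : AgreeR W₁ W₂ ω ω'' := fun w hw => (h w hw).trans (h' w hw)

theorem AgreeR.inv {ω ω' : ↥(W₁ ⊔ W₂) →* ℂˣ} (h : AgreeR W₁ W₂ ω ω') :
    AgreeR W₁ W₂ ω⁻¹ ω'⁻¹ := fun w hw => by
  rw [MonoidHom.inv_apply, MonoidHom.inv_apply, h w hw]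

theorem linInv (ω : ↥(W₁ ⊔ W₂) →* ℂˣ) : ω⁻¹⁻¹ = ω := MonoidHom.ext fun _ => inv_inv _

theorem linInv_one : (1 : ↥(W₁ ⊔ W₂) →* ℂˣ)⁻¹ = 1 := MonoidHom.ext fun _ => inv_one

theorem agreeR_self_inv (hodd : Odd (Nat.card ↥(W₁ ⊔ W₂))) {ω : ↥(W₁ ⊔ W₂) →* ℂˣ}
    (h : AgreeR W₁ W₂ ω ω⁻¹) : AgreeR W₁ W₂ ω 1 := by
  intro w hw
  rw [MonoidHom.one_apply]
  have h1 : (ω w) ^ 2 = 1 := by
    rw [sq]
    nth_rewrite 2 [h w hw]
    rw [MonoidHom.inv_apply, mul_inv_cancel]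
  have h2 : orderOf (ω w) ∣ 2 := orderOf_dvd_of_pow_eq_one h1
  have h3 : orderOf (ω w) ∣ Nat.card ↥(W₁ ⊔ W₂) :=
    (orderOf_map_dvd ω w).trans (orderOf_dvd_natCard w)
  exact orderOf_eq_one_iff.mp (Nat.eq_one_of_dvd_coprimes
    (Nat.coprime_comm.mp hodd.coprime_two_right) h2 h3)

namespace TIData

variable (h : TIData M W₁ W₂ μ δ η) (hW : Cfsg.IsSelfNormalizingCyclic W₁ W₂)

include h hW

theorem red_eq (ω : ↥(W₁ ⊔ W₂) →* ℂˣ) : red M μ ω = ∑ᶠ ν ∈ {ν | AgreeR W₁ W₂ ω ν}, μ ν :=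
  h.ind_res ω

theorem classInner_red_μ (ω ν : ↥(W₁ ⊔ W₂) →* ℂˣ) :
    Cfsg.classInner (red M μ ω) (μ ν) = if AgreeR W₁ W₂ ω ν then 1 else 0 := by
  haveI := finite_linChar hW
  haveI := Fintype.ofFinite (↥(W₁ ⊔ W₂) →* ℂˣ)
  rw [h.red_eq hW, finsum_mem_eq_toFinset_sum, classInner_sum_left,
    Finset.sum_congr rfl (g := fun x => if x = ν then (1 : ℂ) else 0) fun x _ => by
      by_cases e : x = ν
      · rw [if_pos e, e, classInner_irr_self (h.μ_irr ν)]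
      · rw [if_neg e, classInner_irr_ne (h.μ_irr x) (h.μ_irr ν) fun e' => e (h.μ_inj e')],
    Finset.sum_ite_eq']
  simp

theorem card_col (ω : ↥(W₁ ⊔ W₂) →* ℂˣ) :
    Nat.card {ν // AgreeR W₁ W₂ ω ν} = Nat.card W₁ := by
  rw [← card_trivR hW]
  refine Nat.card_congr
    { toFun := fun ν => ⟨ω⁻¹ * ν.1, fun w hw => by
        rw [MonoidHom.mul_apply, MonoidHom.inv_apply, ν.2 w hw, inv_mul_cancel]⟩
      invFun := fun φ => ⟨ω * φ.1, fun w hw => by rw [MonoidHom.mul_apply, φ.2 w hw, mul_one]⟩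
      left_inv := fun ν => Subtype.ext (mul_inv_cancel_left ω ν.1)
      right_inv := fun φ => Subtype.ext (inv_mul_cancel_left ω φ.1) }

theorem classInner_red_red (ω ω' : ↥(W₁ ⊔ W₂) →* ℂˣ) :
    Cfsg.classInner (red M μ ω) (red M μ ω') =
      if AgreeR W₁ W₂ ω ω' then (Nat.card W₁ : ℂ) else 0 := by
  haveI := finite_linChar hW
  haveI := Fintype.ofFinite (↥(W₁ ⊔ W₂) →* ℂˣ)
  conv_lhs => rw [h.red_eq hW ω', finsum_mem_eq_toFinset_sum, classInner_sum_right]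
  rw [Finset.sum_congr rfl fun x _ => h.classInner_red_μ hW ω x]
  by_cases e : AgreeR W₁ W₂ ω ω'
  · rw [if_pos e, Finset.sum_congr rfl (g := fun _ => (1 : ℂ)) fun x (hx : x ∈ {ν | AgreeR W₁ W₂ ω' ν}.toFinset) =>
      if_pos (e.trans (Set.mem_toFinset.mp hx)), Finset.sum_const, nsmul_eq_mul, mul_one,
      ← h.card_col hW ω', Nat.card_eq_fintype_card]
    congr 1
    rw [Set.toFinset_card]
    exact Fintype.card_congr (Equiv.refl _)
  · rw [if_neg e]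
    exact Finset.sum_eq_zero fun x hx =>
      if_neg fun hx' => e (hx'.trans (Set.mem_toFinset.mp hx).symm)

theorem classInner_colSum_η (ω ν : ↥(W₁ ⊔ W₂) →* ℂˣ) :
    Cfsg.classInner (colSum η ω) (η ν) = if AgreeR W₁ W₂ ω ν then 1 else 0 := by
  haveI := finite_linChar hW
  haveI := Fintype.ofFinite (↥(W₁ ⊔ W₂) →* ℂˣ)
  rw [colSum, finsum_mem_eq_toFinset_sum, classInner_sum_left,
    Finset.sum_congr rfl fun x _ => h.family.orthonormal x ν]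
  by_cases e : AgreeR W₁ W₂ ω ν
  · rw [if_pos e]
    refine (Finset.sum_eq_single ν (fun b _ hb => if_neg hb)
      (fun hν => absurd ?_ hν)).trans (if_pos rfl)
    simpa using e
  · rw [if_neg e]
    refine Finset.sum_eq_zero fun b hb => if_neg fun hbν => e ?_
    subst hbν
    simpa using hb

theorem classInner_colSum_colSum (ω ω' : ↥(W₁ ⊔ W₂) →* ℂˣ) :
    Cfsg.classInner (colSum η ω) (colSum η ω') =
      if AgreeR W₁ W₂ ω ω' then (Nat.card W₁ : ℂ) else 0 := by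
  haveI := finite_linChar hW
  haveI := Fintype.ofFinite (↥(W₁ ⊔ W₂) →* ℂˣ)
  conv_lhs => rw [colSum, colSum, finsum_mem_eq_toFinset_sum (f := η)
    {ν | AgreeR W₁ W₂ ω' ν}, classInner_sum_right]
  rw [← colSum, Finset.sum_congr rfl fun x _ => h.classInner_colSum_η hW ω x]
  by_cases e : AgreeR W₁ W₂ ω ω'
  · rw [if_pos e, Finset.sum_congr rfl (g := fun _ => (1 : ℂ)) fun x (hx : x ∈ {ν | AgreeR W₁ W₂ ω' ν}.toFinset) =>
      if_pos (e.trans (Set.mem_toFinset.mp hx)), Finset.sum_const, nsmul_eq_mul, mul_one,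
      ← h.card_col hW ω', Nat.card_eq_fintype_card]
    congr 1
    rw [Set.toFinset_card]
    exact Fintype.card_congr (Equiv.refl _)
  · rw [if_neg e]
    exact Finset.sum_eq_zero fun x hx =>
      if_neg fun hx' => e (hx'.trans (Set.mem_toFinset.mp hx).symm)

theorem δ_inv (hWM : W₁ ⊔ W₂ ≤ M) (ω : ↥(W₁ ⊔ W₂) →* ℂˣ) : δ ω⁻¹ = δ ω := by
  obtain ⟨a, ha, ha1⟩ := (Subgroup.bot_or_exists_ne_one W₁).resolve_left hW.1
  have ha0 : a ∈ W₁ ⊔ W₂ := Subgroup.mem_sup_left ha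
  have ha2 : a ∉ W₂ := fun hh => ha1 (Subgroup.mem_bot.mp (hW.2.2.1.le ⟨ha, hh⟩))
  have e := h.μ_value ω⁻¹ ⟨a, hWM ha0⟩ ha0 ha2
  rw [h.μ_conj] at e
  simp only [Cfsg.conjFun] at e
  rw [h.μ_value ω ⟨a, hWM ha0⟩ ha0 ha2, map_mul, hom_conj] at e
  have hc : conj (δ ω) = δ ω := by rcases h.δ_sign ω with r | r <;> rw [r] <;> simp
  rw [hc] at e
  exact (mul_right_cancel₀ (Units.ne_zero _) e).symm

theorem conj_red (ω : ↥(W₁ ⊔ W₂) →* ℂˣ) : Cfsg.conjFun (red M μ ω) = red M μ ω⁻¹ := by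
  have e : resD M (μ ω⁻¹) = Cfsg.conjFun (resD M (μ ω)) := by rw [h.μ_conj]; rfl
  rw [red, red, e]
  funext g
  exact (CfsgLib.Induction.indFun_conj_apply _ _ g).symm

end TIData

/-- Data of a coherent part containing reducible members. -/
structure CoherentPart (M W₁ W₂ : Subgroup G) (μ : (↥(W₁ ⊔ W₂) →* ℂˣ) → (↥M → ℂ))
    (δ : (↥(W₁ ⊔ W₂) →* ℂˣ) → ℂ) (η : (↥(W₁ ⊔ W₂) →* ℂˣ) → (G → ℂ))
    (R : (↥M → ℂ) → Finset (G → ℂ)) (T : Set (↥M → ℂ)) (τ₁ : (↥M → ℂ) → (G → ℂ)) : Prop where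
  sys : Cfsg.IsCoherenceSystem (calS M (Cfsg.typeCore M) ⊥) (tau M) R
  irr_orth : ∀ χ ∈ calS M (Cfsg.typeCore M) ⊥, Cfsg.IsIrrCharacter ↥M χ →
    ∀ α ∈ R χ, ∀ ω, Cfsg.classInner α (η ω) = 0
  red_R : ∀ ω, ¬ AgreeR W₁ W₂ ω 1 → ∀ α : G → ℂ,
    α ∈ R (red M μ ω) ↔ ∃ ω', AgreeR W₁ W₂ ω ω' ∧ (α = δ ω • η ω' ∨ α = -(δ ω • η ω'⁻¹))
  sub : T ⊆ calS M (Cfsg.typeCore M) ⊥
  closed : ∀ φ ∈ T, Cfsg.conjFun φ ∈ T
  iso : Cfsg.IsLinearIsometryOn (Cfsg.zspan T) τ₁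
  ext : ∀ α ∈ Cfsg.zspanOn T {1}ᶜ, τ₁ α = tau M α

variable {R : (↥M → ℂ) → Finset (G → ℂ)} {T : Set (↥M → ℂ)} {τ₁ : (↥M → ℂ) → (G → ℂ)}

/-- A member of `S` is irreducible or a column character. -/
theorem mem_calS_cases (h : TIData M W₁ W₂ μ δ η) {χ : ↥M → ℂ} {Kh A : Subgroup G}
    (hχ : χ ∈ calS M Kh A) :
    Cfsg.IsIrrCharacter ↥M χ ∨ ∃ ω, ¬ AgreeR W₁ W₂ ω 1 ∧ χ = red M μ ω := by
  obtain ⟨θ, hθ, hθ1, -, rfl⟩ := hχ.1
  by_cases hi : Cfsg.IsIrrCharacter ↥M (Cfsg.indFun ((⁅M, M⁆ : Subgroup G).subgroupOf M) θ)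
  · exact Or.inl hi
  obtain ⟨ω, hω⟩ := h.reducible θ hθ hi
  exact Or.inr ⟨ω, fun hag => hθ1 (funext fun x => by
    rw [hω]; exact (h.trivial_col ω hag).2 x x.2), by rw [hω]; rfl⟩

/-- The members of `R` avoid the family outside their own columns. -/
theorem CoherentPart.R_orth_η (hc : CoherentPart M W₁ W₂ μ δ η R T τ₁)
    (h : TIData M W₁ W₂ μ δ η) {ψ : ↥M → ℂ} (hψ : ψ ∈ calS M (Cfsg.typeCore M) ⊥)
    {ν : ↥(W₁ ⊔ W₂) →* ℂˣ}
    (hν : ∀ ω, ¬ AgreeR W₁ W₂ ω 1 → ψ = red M μ ω →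
      ¬ AgreeR W₁ W₂ ω ν ∧ ¬ AgreeR W₁ W₂ ω⁻¹ ν) :
    ∀ α ∈ R ψ, Cfsg.classInner α (η ν) = 0 := by
  intro α hα
  rcases mem_calS_cases h hψ with hi | ⟨ω, hω, rfl⟩
  · exact hc.irr_orth ψ hψ hi α hα ν
  · obtain ⟨n1, n2⟩ := hν ω hω rfl
    obtain ⟨ω', hag, r | r⟩ := (hc.red_R ω hω α).mp hα <;> subst r
    · rw [classInner_smul_left, h.family.orthonormal, if_neg fun e => n1 (by rw [← e]; exact hag),
        mul_zero]
    · rw [classInner_neg_left, classInner_smul_left, h.family.orthonormal,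
        if_neg fun e => n2 (by rw [← e]; exact hag.inv), mul_zero, neg_zero]

theorem CoherentPart.inner_tau1_zero (hc : CoherentPart M W₁ W₂ μ δ η R T τ₁)
    (h : TIData M W₁ W₂ μ δ η) {ψ : ↥M → ℂ} (hψ : ψ ∈ T) {ν : ↥(W₁ ⊔ W₂) →* ℂˣ}
    (hν : ∀ ω, ¬ AgreeR W₁ W₂ ω 1 → ψ = red M μ ω →
      ¬ AgreeR W₁ W₂ ω ν ∧ ¬ AgreeR W₁ W₂ ω⁻¹ ν) :
    Cfsg.classInner (τ₁ ψ) (η ν) = 0 := by
  rw [extension_mem_R hc.sys hc.sub hc.closed hc.iso hc.ext hψ]
  exact classInner_orthProj_zero (hc.R_orth_η h (hc.sub hψ) hν)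

/-- A Dade image of a combination of induced characters has zero coefficient table. -/
theorem coeff_add (h : TIData M W₁ W₂ μ δ η) (hT : PropTypes G) (hD : PropDade G)
    (hM : IsCoatom M) (hP : Cfsg.IsTypePWith M W₁ U W₂) {β : ↥M → ℂ}
    (hβc : Cfsg.IsClassFunction ↥M β)
    (hβ0 : ∀ x : ↥M, (x : G) ∉ (⁅M, M⁆ : Subgroup G) → β x = 0)
    {φ ψ : ↥(W₁ ⊔ W₂) →* ℂˣ} (hφ : TrivR φ) (hψ : TrivL ψ) :
    Cfsg.classInner (tau M β) (η (φ * ψ)) - Cfsg.classInner (tau M β) (η φ) -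
      Cfsg.classInner (tau M β) (η ψ) + Cfsg.classInner (tau M β) (η 1) = 0 := by
  have hcl : Cfsg.IsClassFunction G (tau M β) :=
    dadeIsometry_isClassFunction (dade hT hD hM hP) hβc
  rw [family_coeff η h.family hcl hφ hψ, Cfsg.classInner]
  refine mul_eq_zero_of_right _ (Finset.sum_eq_zero fun w _ => ?_)
  by_cases hw : (w : G) ∈ W₁ ∨ (w : G) ∈ W₂
  · rw [ctiAlpha_vanish hφ hψ w hw, map_zero, mul_zero]
  rw [not_or] at hw
  have hwM : (w : G) ∈ M := (typeP_le hP).2.2.2.2 w.2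
  rw [tau_hat hT hD hM hP hβc w hw.1 hw.2 hwM, hβ0 ⟨w, hwM⟩ fun hK => hw.2 ?_, zero_mul]
  obtain ⟨hW₁M, hdM, hHd, hW₂H, hWM⟩ := typeP_le hP
  exact (typeP_TPL hP).mem₂_of_mem
    (show (⟨(w : G), hwM⟩ : M) ∈ W₁.subgroupOf M ⊔ W₂.subgroupOf M by
      rw [← Subgroup.subgroupOf_sup hW₁M (le_sup_right.trans hWM)]; exact w.2) hK

/-- PF (5.8). -/
theorem CoherentPart.tau1_red (hc : CoherentPart M W₁ W₂ μ δ η R T τ₁)
    (h : TIData M W₁ W₂ μ δ η) (hG : Cfsg.IsMinSimpleOddOrder G) (hT : PropTypes G)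
    (hD : PropDade G) (hM : IsCoatom M) (hP : Cfsg.IsTypePWith M W₁ U W₂)
    {ω : ↥(W₁ ⊔ W₂) →* ℂˣ} (hω : ¬ AgreeR W₁ W₂ ω 1) (hωT : red M μ ω ∈ T) {ψ : ↥M → ℂ}
    (hψT : ψ ∈ T) (hψ1 : ψ ≠ red M μ ω) (hψ2 : ψ ≠ red M μ ω⁻¹) :
    τ₁ (red M μ ω) = δ ω • colSum η ω ∨ τ₁ (red M μ ω) = -(δ ω • colSum η ω⁻¹) := by
  have hW := hP.selfNormalizing
  have hWM := (typeP_le hP).2.2.2.2
  have hodd := odd_W hG hP
  have hdisj := hW.2.2.1
  have hcomm := hW.2.2.2.1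
  set χ := red M μ ω with hχ
  set f := τ₁ χ with hf
  set q : ℕ := Nat.card W₁ with hq
  have hinv1 : ¬ AgreeR W₁ W₂ ω⁻¹ 1 := fun e => hω (by
    have e' := e.inv
    rwa [linInv, linInv_one] at e')
  have hne : ¬ AgreeR W₁ W₂ ω ω⁻¹ := fun e => hω (agreeR_self_inv hodd e)
  obtain ⟨a, ha⟩ := exists_degree (hc.sys.isCharacter _ (hc.sub hψT))
  obtain ⟨b, hb⟩ := exists_degree (hc.sys.isCharacter _ (hc.sub hωT))
  have ha0 : a ≠ 0 := by
    intro e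
    have hψS := hc.sub hψT
    refine sys_ne_zero hc.sys hψS (CfsgLib.NormalAvg.eq_zero_of_degree_zero
      (hc.sys.isCharacter _ hψS) ?_)
    rw [ha, e, Nat.cast_zero]
  set β := (a : ℤ) • χ - (b : ℤ) • ψ with hβ
  have hβT : β ∈ Cfsg.zspanOn T {1}ᶜ := zspanOn_map hωT hψT _ _ (by
    rw [ha, hb]; push_cast; ring)
  have hτβ : tau M β = (a : ℂ) • f - (b : ℂ) • τ₁ ψ := by
    rw [← hc.ext _ hβT, hβ,
      isometry_sub hc.iso (zspan_zsmul _ (zspan_of_mem hωT)) (zspan_zsmul _ (zspan_of_mem hψT)) hβT.1,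
      hc.iso.2.1 _ (zspan_of_mem hωT), hc.iso.2.1 _ (zspan_of_mem hψT), CfsgLib.OddChar.zsmul_eq_smul, CfsgLib.OddChar.zsmul_eq_smul,
      Int.cast_natCast, Int.cast_natCast]
  have hβc : Cfsg.IsClassFunction ↥M β := by
    intro x y
    simp only [hβ, CfsgLib.OddChar.zsmul_eq_smul, Pi.sub_apply, Pi.smul_apply,
      isClassFunction_of_isCharacter (hc.sys.isCharacter _ (hc.sub hωT)) x y,
      isClassFunction_of_isCharacter (hc.sys.isCharacter _ (hc.sub hψT)) x y]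
  have hvan : ∀ φ ∈ T, ∀ x : ↥M, (x : G) ∉ (⁅M, M⁆ : Subgroup G) → φ x = 0 := by
    intro φ hφ x hx
    obtain ⟨θ, -, -, -, rfl⟩ := (hc.sub hφ).1
    rw [CfsgLib.Induction.indFun_apply]
    refine mul_eq_zero_of_right _ (Finset.sum_eq_zero fun y _ =>
      CfsgLib.Induction.extendByZero_notMem _ _ fun hm => hx ?_)
    have h1 := (derived_subgroupOf_normal M).conj_mem _ hm y
    rw [show y * (y⁻¹ * x * y) * y⁻¹ = x by group] at h1
    exact h1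
  have hβ0 : ∀ x : ↥M, (x : G) ∉ (⁅M, M⁆ : Subgroup G) → β x = 0 := fun x hx => by
    simp only [hβ, CfsgLib.OddChar.zsmul_eq_smul, Pi.sub_apply, Pi.smul_apply, hvan χ hωT x hx, hvan ψ hψT x hx,
      smul_zero, sub_zero]
  have hψsep : ∀ ν, (AgreeR W₁ W₂ ω ν ∨ AgreeR W₁ W₂ ω⁻¹ ν ∨ AgreeR W₁ W₂ 1 ν) →
      Cfsg.classInner (τ₁ ψ) (η ν) = 0 := by
    intro ν hν
    refine hc.inner_tau1_zero h hψT fun ω' hω' e => ⟨fun h1 => ?_, fun h1 => ?_⟩
    · rcases hν with hν | hν | hν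
      · exact hψ1 (by rw [e, hχ, red, red, h.res_eq _ _ (h1.trans hν.symm)])
      · exact hψ2 (by rw [e, red, red, h.res_eq _ _ (h1.trans hν.symm)])
      · exact hω' (h1.trans hν.symm)
    · rcases hν with hν | hν | hν
      · refine hψ2 ?_
        have h2 := (h1.trans hν.symm).inv
        rw [linInv] at h2
        rw [e, red, red, h.res_eq _ _ h2]
      · refine hψ1 ?_
        have h2 := (h1.trans hν.symm).inv
        rw [linInv, linInv] at h2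
        rw [e, hχ, red, red, h.res_eq _ _ h2]
      · refine hω' ?_
        have h2 := (h1.trans hν.symm).inv
        rwa [linInv, linInv_one] at h2
  have hftriv : ∀ ν, AgreeR W₁ W₂ 1 ν → Cfsg.classInner f (η ν) = 0 := by
    intro ν hν
    refine hc.inner_tau1_zero h hωT fun ω' hω' _ => ⟨fun h1 => hω' (h1.trans hν.symm), fun h1 => ?_⟩
    have h2 := (h1.trans hν.symm).inv
    rw [linInv, linInv_one] at h2
    exact hω' h2
  have hconst : ∀ ν ν', (AgreeR W₁ W₂ ω ν ∨ AgreeR W₁ W₂ ω⁻¹ ν) → AgreeR W₁ W₂ ν ν' →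
      Cfsg.classInner f (η ν) = Cfsg.classInner f (η ν') := by
    intro ν ν' hν hνν'
    have hpart : ∀ ν'', AgreeR W₁ W₂ ν ν'' → ∀ φ χ₂, TrivR φ → TrivL χ₂ → ν'' = φ * χ₂ →
        Cfsg.classInner f (η ν'') = Cfsg.classInner f (η χ₂) := by
      intro ν'' hag φ χ₂ hφ hχ₂ e
      have hrel := coeff_add h hT hD hM hP hβc hβ0 hφ hχ₂
      have hχ₂ν : AgreeR W₁ W₂ ν χ₂ := hag.trans fun w hw => by
        rw [e, MonoidHom.mul_apply, hφ w hw, one_mul]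
      have hside : ∀ {x}, AgreeR W₁ W₂ ν x → (AgreeR W₁ W₂ ω x ∨ AgreeR W₁ W₂ ω⁻¹ x ∨
          AgreeR W₁ W₂ 1 x) := fun hx => by
        rcases hν with hν | hν
        · exact Or.inl (hν.trans hx)
        · exact Or.inr (Or.inl (hν.trans hx))
      have t1 : AgreeR W₁ W₂ 1 φ := fun w hw => by rw [hφ w hw, MonoidHom.one_apply]
      rw [← e] at hrel
      simp only [hτβ, classInner_sub_left, classInner_smul_left, hψsep _ (hside hag),
        hψsep _ (hside hχ₂ν), hψsep _ (Or.inr (Or.inr t1)),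
        hψsep _ (Or.inr (Or.inr (AgreeR.refl 1))), hftriv φ t1, hftriv 1 (AgreeR.refl 1),
        mul_zero, sub_zero, add_zero] at hrel
      refine mul_left_cancel₀ (Nat.cast_ne_zero.mpr ha0) (sub_eq_zero.mp ?_)
      linear_combination hrel
    obtain ⟨φ, χ₂, hφ, hχ₂, e⟩ := exists_trivR_mul_trivL hdisj hcomm ν
    obtain ⟨φ', χ₂', hφ', hχ₂', e'⟩ := exists_trivR_mul_trivL hdisj hcomm ν'
    have : χ₂ = χ₂' := trivL_ext hdisj hcomm hχ₂ hχ₂' (MonoidHom.ext fun b => by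
      have := hνν' (ctiR W₁ W₂ b) b.2
      simpa [← e, ← e', MonoidHom.mul_apply, hφ (ctiR W₁ W₂ b) b.2, hφ' (ctiR W₁ W₂ b) b.2]
        using this)
    rw [hpart ν (AgreeR.refl ν) φ χ₂ hφ hχ₂ e.symm, hpart ν' hνν' φ' χ₂' hφ' hχ₂' e'.symm, this]
  have hproj := extension_mem_R hc.sys hc.sub hc.closed hc.iso hc.ext hωT
  have hff : Cfsg.classInner f f = (q : ℂ) := by
    rw [hf, hc.iso.2.2.1 _ (zspan_of_mem hωT) _ (zspan_of_mem hωT), hχ,
      h.classInner_red_red hW, if_pos (AgreeR.refl ω)]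
  have hχS := hc.sub hωT
  have hval01 : ∀ α ∈ R χ, Cfsg.classInner f α = 0 ∨ Cfsg.classInner f α = 1 := by
    have hd : χ - Cfsg.conjFun χ ∈ Cfsg.zspanOn T {1}ᶜ :=
      ⟨zspan_sub (zspan_of_mem hωT) (zspan_of_mem (hc.closed _ hωT)),
        (sys_sub_conj_mem hc.sys hχS).2⟩
    have hin : Cfsg.classInner f (tau M (χ - Cfsg.conjFun χ)) = ((q : ℤ) : ℂ) := by
      rw [← hc.ext _ hd, hf, hc.iso.2.2.1 _ (zspan_of_mem hωT) _ hd.1, classInner_sub_right,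
        hc.sys.orthogonal χ hχS _ (hc.sys.conj_mem χ hχS) (hc.sys.conj_ne χ hχS).symm, sub_zero,
        hχ, h.classInner_red_red hW, if_pos (AgreeR.refl ω), Int.cast_natCast]
    obtain ⟨c, hcv, -, -, hle⟩ :=
      rchi_coeff hc.sys hχS (hc.iso.2.2.2 _ (zspan_of_mem hωT)) hin
    have hsum : ∑ α ∈ R χ, c α ^ 2 ≤ (q : ℤ) := by
      have hb0 := classInner_self_re_nonneg (f - orthProj (R χ) f)
      rw [orthProj_pythagoras (R_orth hc.sys hχS) (R_norm_ne hc.sys hχS),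
        sum_conj_int (R_norm hc.sys hχS) hcv, hff, Complex.sub_re, Complex.natCast_re,
        Complex.intCast_re, sub_nonneg] at hb0
      exact_mod_cast hb0
    intro α hα
    rw [hcv α hα]
    rcases (hle hsum).2 α hα with r | r <;> simp [r]
  have hsq : δ ω * δ ω = 1 := by rcases h.δ_sign ω with r | r <;> rw [r] <;> norm_num
  have hconjδ : conj (δ ω) = δ ω := by rcases h.δ_sign ω with r | r <;> rw [r] <;> simp
  haveI := finite_linChar hW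
  haveI := Fintype.ofFinite (↥(W₁ ⊔ W₂) →* ℂˣ)
  have hfinish : ∀ (ε : ℂ) (ω₀ : ↥(W₁ ⊔ W₂) →* ℂˣ), ε * ε = 1 → conj ε = ε →
      (∀ ν, AgreeR W₁ W₂ ω₀ ν → Cfsg.classInner f (η ν) = ε) → f = ε • colSum η ω₀ := by
    intro ε ω₀ hε hεc hval
    have hfg : Cfsg.classInner f (colSum η ω₀) = ε * (q : ℂ) := by
      rw [colSum, finsum_mem_eq_toFinset_sum, classInner_sum_right,
        Finset.sum_congr rfl fun x (hx : x ∈ {ν | AgreeR W₁ W₂ ω₀ ν}.toFinset) =>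
          hval x (Set.mem_toFinset.mp hx), Finset.sum_const,
        nsmul_eq_mul, mul_comm, hq, ← h.card_col hW ω₀, Nat.card_eq_fintype_card]
      congr 2
      rw [Set.toFinset_card]
      exact Fintype.card_congr (Equiv.refl _)
    refine sub_eq_zero.mp (eq_zero_of_classInner_self ?_)
    rw [classInner_sub_left, classInner_sub_right, classInner_sub_right, classInner_smul_right,
      classInner_smul_left, classInner_smul_left, classInner_smul_right, hff, hfg,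
      classInner_conj_symm f (colSum η ω₀), hfg, h.classInner_colSum_colSum hW,
      if_pos (AgreeR.refl ω₀), map_mul, hεc, map_natCast]
    linear_combination (-(q : ℂ)) * hε
  have hmem₁ : δ ω • η ω ∈ R χ :=
    (hc.red_R ω hω _).mpr ⟨ω, AgreeR.refl ω, Or.inl rfl⟩
  have hmem₂ : -(δ ω • η ω⁻¹) ∈ R χ :=
    (hc.red_R ω hω _).mpr ⟨ω, AgreeR.refl ω, Or.inr rfl⟩
  rcases hval01 _ hmem₁ with r1 | r1
  swap
  · refine Or.inl (hfinish (δ ω) ω hsq hconjδ fun ν hν => ?_)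
    rw [← hconst ω ν (Or.inl (AgreeR.refl ω)) hν]
    rw [classInner_smul_right, hconjδ] at r1
    calc Cfsg.classInner f (η ω) = δ ω * (δ ω * Cfsg.classInner f (η ω)) := by
          rw [← mul_assoc, hsq, one_mul]
      _ = δ ω := by rw [r1, mul_one]
  rcases hval01 _ hmem₂ with r2 | r2
  swap
  · refine Or.inr ?_
    rw [← neg_smul]
    refine hfinish (-δ ω) ω⁻¹ (by rw [neg_mul_neg, hsq]) (by rw [map_neg, hconjδ]) fun ν hν => ?_
    rw [← hconst ω⁻¹ ν (Or.inr (AgreeR.refl ω⁻¹)) hν]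
    rw [classInner_neg_right, classInner_smul_right, hconjδ] at r2
    calc Cfsg.classInner f (η ω⁻¹) = -δ ω * -(δ ω * Cfsg.classInner f (η ω⁻¹)) := by
          rw [neg_mul_neg, ← mul_assoc, hsq, one_mul]
      _ = -δ ω := by rw [r2, mul_one]
  exfalso
  have h0 : ∀ α ∈ R χ, Cfsg.classInner f α = 0 := by
    intro α hα
    obtain ⟨ω', hag, r | r⟩ := (hc.red_R ω hω α).mp hα <;> subst r
    · rw [classInner_smul_right, ← hconst ω ω' (Or.inl (AgreeR.refl ω)) hag,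
        ← classInner_smul_right]
      exact r1
    · rw [classInner_neg_right, classInner_smul_right,
        ← hconst ω⁻¹ ω'⁻¹ (Or.inr (AgreeR.refl ω⁻¹)) hag.inv, ← classInner_smul_right,
        ← classInner_neg_right]
      exact r2
  have hf0 : f = 0 := by
    show τ₁ χ = 0
    rw [hproj, orthProj]
    exact Finset.sum_eq_zero fun α hα => by rw [h0 α hα, zero_div, zero_smul]
  rw [hf0, classInner_zero_left] at hff
  exact Nat.card_pos.ne' (Nat.cast_eq_zero.mp hff.symm)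

/-- PF (5.8): the sign when another column of the same degree is present. -/
theorem CoherentPart.tau1_red_pos (hc : CoherentPart M W₁ W₂ μ δ η R T τ₁)
    (h : TIData M W₁ W₂ μ δ η) (hG : Cfsg.IsMinSimpleOddOrder G) (hT : PropTypes G)
    (hD : PropDade G) (hM : IsCoatom M) (hP : Cfsg.IsTypePWith M W₁ U W₂)
    {ω ω' : ↥(W₁ ⊔ W₂) →* ℂˣ} (hω : ¬ AgreeR W₁ W₂ ω 1) (hω' : ¬ AgreeR W₁ W₂ ω' 1)
    (hωT : red M μ ω ∈ T) (hω'T : red M μ ω' ∈ T) (hn1 : ¬ AgreeR W₁ W₂ ω ω')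
    (hn2 : ¬ AgreeR W₁ W₂ ω⁻¹ ω') (hdeg : μ ω 1 = μ ω' 1) :
    τ₁ (red M μ ω) = δ ω • colSum η ω := by
  have hW := hP.selfNormalizing
  have hdisj := hW.2.2.1
  have hcomm := hW.2.2.2.1
  have hWM := (typeP_le hP).2.2.2.2
  haveI := finite_linChar hW
  haveI := Fintype.ofFinite (↥(W₁ ⊔ W₂) →* ℂˣ)
  have hne1 : red M μ ω' ≠ red M μ ω := by
    intro e
    have h1 := congrArg (fun f => Cfsg.classInner f (μ ω)) e
    simp only [h.classInner_red_μ hW, if_neg (fun r : AgreeR W₁ W₂ ω' ω => hn1 r.symm),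
      if_pos (AgreeR.refl ω)] at h1
    exact zero_ne_one h1
  have hne2 : red M μ ω' ≠ red M μ ω⁻¹ := by
    intro e
    have h1 := congrArg (fun f => Cfsg.classInner f (μ ω⁻¹)) e
    simp only [h.classInner_red_μ hW, if_neg (fun r : AgreeR W₁ W₂ ω' ω⁻¹ => hn2 r.symm),
      if_pos (AgreeR.refl ω⁻¹)] at h1
    exact zero_ne_one h1
  refine (hc.tau1_red h hG hT hD hM hP hω hωT hω'T hne1 hne2).resolve_right fun hneg => ?_
  -- the translation between the two columns along the rows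
  obtain ⟨φ₁, ψ₁, hφ₁, hψ₁, e₁⟩ := exists_trivR_mul_trivL hdisj hcomm (ω⁻¹ * ω')
  have hrow : ∀ ν, AgreeR W₁ W₂ ω ν →
      AgreeR W₁ W₂ ω' (ν * ψ₁) ∧ AgreeL W₁ W₂ ν (ν * ψ₁) := by
    intro ν hν
    refine ⟨fun w hw => ?_, fun w hw => by rw [MonoidHom.mul_apply, hψ₁ w hw, mul_one]⟩
    have h1 := DFunLike.congr_fun e₁ w
    simp only [MonoidHom.mul_apply, MonoidHom.inv_apply, hφ₁ w hw, one_mul] at h1
    rw [MonoidHom.mul_apply, h1, ← hν w hw, mul_inv_cancel_left]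
  have hdiff : tau M (red M μ ω - red M μ ω') = δ ω • (colSum η ω - colSum η ω') := by
    have hb : Set.BijOn (fun ν => ν * ψ₁) {ν | AgreeR W₁ W₂ ω ν} {ν | AgreeR W₁ W₂ ω' ν} := by
      refine ⟨fun ν hν => (hrow ν hν).1, (mul_left_injective ψ₁).injOn, fun ν hν => ?_⟩
      refine ⟨ν * ψ₁⁻¹, fun w hw => ?_, inv_mul_cancel_right ν ψ₁⟩
      have h1 := DFunLike.congr_fun e₁ w
      simp only [MonoidHom.mul_apply, MonoidHom.inv_apply, hφ₁ w hw, one_mul] at h1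
      rw [MonoidHom.mul_apply, MonoidHom.inv_apply, h1, mul_inv_rev, inv_inv, ← hν w hw,
        mul_inv_cancel_left]
    rw [h.red_eq hW ω, h.red_eq hW ω', colSum, colSum,
      ← finsum_mem_eq_of_bijOn (f := fun ν => μ (ν * ψ₁)) _ hb (fun _ _ => rfl),
      ← finsum_mem_eq_of_bijOn (f := fun ν => η (ν * ψ₁)) _ hb (fun _ _ => rfl)]
    simp only [finsum_mem_eq_toFinset_sum, ← Finset.sum_sub_distrib, Finset.smul_sum]
    set s := {ν | AgreeR W₁ W₂ ω ν}.toFinset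
    have hlin : ∀ (s : Finset (↥(W₁ ⊔ W₂) →* ℂˣ)) (F : (↥(W₁ ⊔ W₂) →* ℂˣ) → (↥M → ℂ)),
        tau M (∑ x ∈ s, F x) = ∑ x ∈ s, tau M (F x) := by
      intro s F
      funext g
      rw [Finset.sum_apply]
      simp only [tau, Cfsg.dadeIsometry]
      split_ifs with hex
      · rw [Finset.sum_apply]
      · simp
    rw [hlin]
    refine Finset.sum_congr rfl fun ν hν => ?_
    have hν' : AgreeR W₁ W₂ ω ν := Set.mem_toFinset.mp hν
    obtain ⟨hR', hL'⟩ := hrow ν hν'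
    have hd : μ ν 1 = μ (ν * ψ₁) 1 := by
      have e1 := congrFun (h.res_eq _ _ hν') 1
      have e2 := congrFun (h.res_eq _ _ hR') 1
      simp only [resD, OneMemClass.coe_one] at e1 e2
      rw [← e1, ← e2, hdeg]
    rw [(h.tau_row ν (ν * ψ₁) hL' (fun r => hω (hν'.trans r)) (fun r => hω' (hR'.trans r)) hd).2,
      h.δ_col _ _ hν']
  have hmem : red M μ ω - red M μ ω' ∈ Cfsg.zspanOn T {1}ᶜ := by
    refine zspanOn_compl_one.mpr ⟨zspan_sub (zspan_of_mem hωT) (zspan_of_mem hω'T), ?_⟩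
    rw [Pi.sub_apply, red, red, CfsgLib.Induction.indFun_one_apply,
      CfsgLib.Induction.indFun_one_apply]
    show _ * μ ω 1 - _ * μ ω' 1 = 0
    rw [hdeg, sub_self]
  have e := hc.ext _ hmem
  rw [isometry_sub hc.iso (zspan_of_mem hωT) (zspan_of_mem hω'T) hmem.1, hdiff, hneg] at e
  have key := congrArg (fun f => Cfsg.classInner f (colSum η ω)) e
  simp only [classInner_sub_left, classInner_neg_left, classInner_smul_left,
    h.classInner_colSum_colSum hW, if_pos (AgreeR.refl ω),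
    if_neg (fun r : AgreeR W₁ W₂ ω⁻¹ ω => hω (agreeR_self_inv (odd_W hG hP) r.symm)),
    if_neg (fun r : AgreeR W₁ W₂ ω' ω => hn1 r.symm), mul_zero, neg_zero, sub_zero, zero_sub] at key
  have hz : Cfsg.classInner (τ₁ (red M μ ω')) (colSum η ω) = 0 := by
    rw [colSum, finsum_mem_eq_toFinset_sum, classInner_sum_right]
    refine Finset.sum_eq_zero fun ν hν => ?_
    have hν' : AgreeR W₁ W₂ ω ν := Set.mem_toFinset.mp hν
    refine hc.inner_tau1_zero h hω'T fun ω'' _ e => ?_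
    have hag : AgreeR W₁ W₂ ω' ω'' := by
      by_contra hcon
      have h1 := congrArg (fun f => Cfsg.classInner f (μ ω')) e
      simp only [h.classInner_red_μ hW, if_pos (AgreeR.refl ω'),
        if_neg (fun r : AgreeR W₁ W₂ ω'' ω' => hcon r.symm)] at h1
      exact one_ne_zero h1
    refine ⟨fun r => hn1 ((hag.trans (r.trans hν'.symm)).symm), fun r => hn2 ?_⟩
    have h2 := (hag.inv.trans (r.trans hν'.symm)).inv.symm
    rwa [linInv] at h2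
  rw [hz, neg_zero] at key
  rcases h.δ_sign ω with r | r <;> rw [r] at key <;>
    simp [eq_comm (a := (0 : ℂ)), Fintype.card_ne_zero] at key

end CfsgLib.PF
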