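import Mathlib
import Cfsg.Agent.Lib.PF.Defs

/-!
# Peterfalvi §9 (Types II–IV) and the §4–5 toolkit of a type P subgroup: named propositions
-/

set_option autoImplicit false

namespace CfsgLib.PF

open scoped Classical

universe u

variable (G : Type u) [Group G] [Fintype G]

/-- The characters `μ`, signs and family `η` exist (PF 4.3–4.9). -/
def PropTIData : Prop :=
  ∀ (M W₁ U W₂ : Subgroup G), IsCoatom M → Cfsg.IsTypePWith M W₁ U W₂ →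
    ∃ μ δ η, TIData M W₁ W₂ μ δ η

/-- The coherence system of a type P subgroup (PF 5.2–5.3, 8.15). -/
def PropSubcoherentP : Prop :=
  ∀ (M W₁ U W₂ : Subgroup G), IsCoatom M → Cfsg.IsTypePWith M W₁ U W₂ →
    ∀ μ δ η, TIData M W₁ W₂ μ δ η →
      ∃ R : (↥M → ℂ) → Finset (G → ℂ),
        Cfsg.IsCoherenceSystem (calS M (Cfsg.typeCore M) ⊥) (tau M) R ∧
        (∀ χ ∈ calS M (Cfsg.typeCore M) ⊥, Cfsg.IsIrrCharacter ↥M χ →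
          ∀ α ∈ R χ, ∀ ω, Cfsg.classInner α (η ω) = 0) ∧
        ∀ ω, ¬ AgreeR W₁ W₂ ω 1 →
          ∀ α : G → ℂ,
            α ∈ R (Cfsg.indFun ((⁅M, M⁆ : Subgroup G).subgroupOf M) (resD M (μ ω))) ↔
              ∃ ω', AgreeR W₁ W₂ ω ω' ∧ (α = δ ω • η ω' ∨ α = -(δ ω • η ω'⁻¹))

/-- PF (9.2)–(9.4). -/
def PropCoreFactor : Prop :=
  ∀ (M W₁ U W₂ : Subgroup G), IsCoatom M → (Kind2 M W₁ U W₂ ∨ Kind34 M W₁ U W₂) →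
    ∃ (H₀ C : Subgroup G) (p : ℕ), CoreFactor M W₁ U W₂ H₀ C p

/-- PF (9.7), Galois case: `M_F/H₀` is a field, `U/C` a group of scalars. -/
def PropGaloisField : Prop :=
  ∀ (M W₁ U W₂ H₀ C : Subgroup G) (p : ℕ), IsCoatom M →
    (Kind2 M W₁ U W₂ ∨ Kind34 M W₁ U W₂) → CoreFactor M W₁ U W₂ H₀ C p → Galois M U H₀ →
    C.relIndex U ∣ (p ^ Nat.card W₁ - 1) / (p - 1) ∧ Nat.Coprime (C.relIndex U) (p - 1) ∧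
      (∃ u ∈ U, U = C ⊔ Subgroup.zpowers u) ∧
      ∃ (F : Type) (_ : Field F) (_ : Fintype F) (f : G → F) (ψ : G → F),
        Fintype.card F = p ^ Nat.card W₁ ∧
        Set.SurjOn f (Cfsg.fittingHallOf M : Set G) Set.univ ∧
        (∀ x ∈ Cfsg.fittingHallOf M, ∀ x' ∈ Cfsg.fittingHallOf M, f (x * x') = f x + f x') ∧
        (∀ x ∈ Cfsg.fittingHallOf M, (f x = 0 ↔ x ∈ H₀)) ∧
        (∀ u ∈ U, ψ u ≠ 0 ∧ ∀ x ∈ Cfsg.fittingHallOf M, f (u * x * u⁻¹) = ψ u * f x) ∧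
        (∀ u ∈ U, ∀ u' ∈ U, ψ (u * u') = ψ u * ψ u') ∧
        (∀ u ∈ U, (ψ u = 1 ↔ u ∈ C)) ∧
        ∀ x ∈ W₂, f x ^ p = f x

/-- PF (9.7), non-Galois case. -/
def PropNonGalois : Prop :=
  ∀ (M W₁ U W₂ H₀ C : Subgroup G) (p : ℕ), IsCoatom M →
    (Kind2 M W₁ U W₂ ∨ Kind34 M W₁ U W₂) → CoreFactor M W₁ U W₂ H₀ C p → ¬ Galois M U H₀ →
    ∃ a : ℕ, 1 < a ∧ a ∣ p - 1 ∧ Odd a ∧ C.relIndex U ∣ a ^ (Nat.card W₁ - 1) ∧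
      (∀ u ∈ U, u ^ a ∈ C) ∧
      (∀ χ ∈ calS M (Cfsg.fittingHallOf M) (H₀ ⊔ ⁅C, C⁆),
        ∃ n : ℕ, χ 1 = ((n * (Nat.card W₁ * a) : ℕ) : ℂ)) ∧
      (p - 1) * C.relIndex U ≤
        Nat.card {χ // χ ∈ calS M (Cfsg.fittingHallOf M) (H₀ ⊔ C) ∧
          Cfsg.IsIrrCharacter ↥M χ ∧ χ 1 = ((Nat.card W₁ * a : ℕ) : ℂ)} * (a * a)

/-- PF (9.8), (9.9): the reducible members of `S(H₀)`. -/
def PropReducible : Prop :=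
  ∀ (M W₁ U W₂ H₀ C : Subgroup G) (p : ℕ), IsCoatom M →
    (Kind2 M W₁ U W₂ ∨ Kind34 M W₁ U W₂) → CoreFactor M W₁ U W₂ H₀ C p →
    Nat.card {χ // χ ∈ calS M (Cfsg.fittingHallOf M) H₀ ∧ ¬ Cfsg.IsIrrCharacter ↥M χ} = p - 1 ∧
      ∀ χ ∈ calS M (Cfsg.fittingHallOf M) H₀, ¬ Cfsg.IsIrrCharacter ↥M χ →
        χ ∈ calS M (Cfsg.fittingHallOf M) (H₀ ⊔ C) ∧
        χ 1 = ((Nat.card W₁ * C.relIndex U : ℕ) : ℂ) ∧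
        Cfsg.classInner χ χ = (Nat.card W₁ : ℂ)

/-- PF (9.9): the degrees in the Galois case. -/
def PropGaloisDegrees : Prop :=
  ∀ (M W₁ U W₂ H₀ C : Subgroup G) (p : ℕ), IsCoatom M →
    (Kind2 M W₁ U W₂ ∨ Kind34 M W₁ U W₂) → CoreFactor M W₁ U W₂ H₀ C p → Galois M U H₀ →
    ∀ χ ∈ calS M (Cfsg.fittingHallOf M) (H₀ ⊔ ⁅C, C⁆),
      χ 1 = ((Nat.card W₁ * C.relIndex U : ℕ) : ℂ)

/-- PF (9.10). -/
def PropReducibleCases : Prop :=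
  ∀ (M W₁ U W₂ H₀ C : Subgroup G) (p : ℕ), IsCoatom M →
    (Kind2 M W₁ U W₂ ∨ Kind34 M W₁ U W₂) → CoreFactor M W₁ U W₂ H₀ C p →
    (∃ χ ∈ calS M (Cfsg.fittingHallOf M) (H₀ ⊔ ⁅C, C⁆),
        Cfsg.IsIrrCharacter ↥M χ ∧ χ 1 = ((Nat.card W₁ * C.relIndex U : ℕ) : ℂ)) ∨
      (Galois M U H₀ ∧ C = ⊥ ∧ C.relIndex U = (p ^ Nat.card W₁ - 1) / (p - 1))

/-- PF (9.11). -/
def PropCoreCoherence : Prop :=
  ∀ (M W₁ U W₂ H₀ C : Subgroup G) (p : ℕ), IsCoatom M →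
    (Kind2 M W₁ U W₂ ∨ Kind34 M W₁ U W₂) → CoreFactor M W₁ U W₂ H₀ C p →
    Cfsg.IsCoherent (calS M (Cfsg.fittingHallOf M) (H₀ ⊔ ⁅C, C⁆))
      ({1}ᶜ : Set ↥M) (tau M)

end CfsgLib.PF
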