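import Cfsg.Agent.Lib.OddChar.TypePChar
import Cfsg.Agent.S1510

/-!
# PF (4.3)–(4.5): the characters of a group of type P shape, made positive

`TPL` groups: `L = K W₁`, `C_K(x) = W₂` for `x ∈ W₁ - 1`.
-/

set_option autoImplicit false
set_option linter.style.haveILetI false
set_option linter.unusedSectionVars false

namespace CfsgLib.PF.TILocal

open scoped Classical ComplexConjugate
open Finset CfsgLib.Characters CfsgLib.OddChar

universe u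

variable {L : Type u} [Group L] [Fintype L] {K W₁ W₂ : Subgroup L}

/-- Outside `K` every element is conjugate into `W₁W₂` outside `W₂`. -/
theorem exists_conj_off (h : TPL K W₁ W₂) {g : L} (hg : g ∉ K) :
    ∃ k x : L, x ∈ W₁ ⊔ W₂ ∧ x ∉ W₂ ∧ g = k * x * k⁻¹ := by
  haveI := h.normal
  obtain ⟨k₀, hk₀, w, hw, rfl⟩ := Subgroup.mem_sup_of_normal_left.mp (h.top.ge (Subgroup.mem_top g))
  have hw1 : w ≠ 1 := by rintro rfl; exact hg (by simpa using hk₀)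
  obtain ⟨d, -, c, hc, hcw, e⟩ := coset_conj_centralizer K w (h.coprime hw) (y := k₀ * w)
    (by rw [mul_inv_cancel_right]; exact hk₀)
  have hc2 : c ∈ W₂ := h.mem₂ hw hw1 hc hcw
  refine ⟨d, c * w, Subgroup.mul_mem _ (Subgroup.mem_sup_right hc2) (Subgroup.mem_sup_left hw),
    fun h2 => hw1 ?_, e⟩
  have hw2 : w ∈ W₂ := by
    have := W₂.mul_mem (W₂.inv_mem hc2) h2
    rwa [inv_mul_cancel_left] at this
  exact Subgroup.mem_bot.mp (h.disj₁₂.le ⟨hw, hw2⟩)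

theorem notMem_K (h : TPL K W₁ W₂) {x : L} (hx : x ∈ W₁ ⊔ W₂) (hx2 : x ∉ W₂) : x ∉ K :=
  fun hK => hx2 (h.mem₂_of_mem hx hK)

theorem selfNorm (h : TPL K W₁ W₂) (hne : W₂ ≠ ⊥) (hodd : Odd (Nat.card ↥(W₁ ⊔ W₂))) :
    Cfsg.IsSelfNormalizingCyclic W₁ W₂ :=
  haveI := h.normal
  Cfsg.Agent.S1510.result K W₁ W₂ h.disj h.top h.ne₁ h.cyc₁ h.hall hne h.cyc₂ h.le₂ h.cent hodd

/-- Complex conjugation of a family. -/
theorem family_conj {G : Type*} [Group G] [Fintype G] {A B : Subgroup G}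
    (hW : Cfsg.IsSelfNormalizingCyclic A B) (hodd : Odd (Nat.card ↥(A ⊔ B)))
    {χ : (↥(A ⊔ B) →* ℂˣ) → (G → ℂ)} (hχ : Cfsg.IsCyclicTIFamily A B χ)
    (ω : ↥(A ⊔ B) →* ℂˣ) : χ ω⁻¹ = Cfsg.conjFun (χ ω) := by
  refine (family_eq_of_eqOn hW hodd hχ (θ := Cfsg.conjFun (χ ω)) ?_ ω⁻¹ fun w h₁ h₂ => ?_).symm
  · rcases hχ.irr_or_neg ω with e | e
    · exact Or.inl (conjFun_irr e)
    · refine Or.inr ?_
      have := conjFun_irr e
      have he : Cfsg.conjFun (-χ ω) = -Cfsg.conjFun (χ ω) := by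
        funext x; simp [Cfsg.conjFun]
      rwa [he] at this
  · show conj (χ ω w) = _
    rw [hχ.eq_on ω w h₁ h₂, hom_conj]

section Family

variable (h : TPL K W₁ W₂) (hW : Cfsg.IsSelfNormalizingCyclic W₁ W₂)
  (hodd : Odd (Nat.card ↥(W₁ ⊔ W₂))) {χ : (↥(W₁ ⊔ W₂) →* ℂˣ) → (L → ℂ)}
  (hχ : Cfsg.IsCyclicTIFamily W₁ W₂ χ)

include h hW hodd hχ

theorem eq_on_K {ω ω' : ↥(W₁ ⊔ W₂) →* ℂˣ}
    (hag : ∀ w : ↥(W₁ ⊔ W₂), (w : L) ∈ W₂ → ω w = ω' w) {k : L} (hk : k ∈ K) :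
    χ ω k = χ ω' k := by
  have e := congrFun (h.indFun_sub_agree hW hodd hχ hag) k
  rw [Pi.sub_apply] at e
  refine sub_eq_zero.mp (e.symm.trans ?_)
  rw [CfsgLib.Induction.indFun_apply]
  refine mul_eq_zero_of_right _ (Finset.sum_eq_zero fun x _ => ?_)
  by_cases hm : x⁻¹ * k * x ∈ W₁ ⊔ W₂
  · rw [CfsgLib.Induction.extendByZero_mem _ _ hm]
    have h2 : x⁻¹ * k * x ∈ W₂ := by
      refine h.mem₂_of_mem hm ?_
      have := h.normal.conj_mem _ hk x⁻¹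
      rwa [inv_inv] at this
    rw [hag ⟨_, hm⟩ h2, sub_self]
  · exact CfsgLib.Induction.extendByZero_notMem _ _ hm

theorem norm_sq_off (ω : ↥(W₁ ⊔ W₂) →* ℂˣ) {g : L} (hg : g ∉ K) :
    χ ω g * conj (χ ω g) = 1 := by
  obtain ⟨k, x, hx, hx2, rfl⟩ := exists_conj_off h hg
  rw [(family_signed hχ ω).classFunction x k,
    h.family_value hW hodd hχ ω ⟨x, hx⟩ hx2, hom_conj, ← Units.val_mul, MonoidHom.inv_apply, mul_inv_cancel, Units.val_one]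

theorem norm_res [Fintype K] (ω : ↥(W₁ ⊔ W₂) →* ℂˣ) :
    Cfsg.classInner (fun k : K => χ ω k) (fun k : K => χ ω k) = 1 := by
  have h1 : Cfsg.classInner (χ ω) (χ ω) = 1 := by rw [hχ.orthonormal, if_pos rfl]
  rw [Cfsg.classInner, ← Finset.sum_filter_add_sum_filter_not univ (· ∈ K)] at h1
  have hoff : ∑ g ∈ univ.filter (fun g => ¬ g ∈ K), χ ω g * conj (χ ω g) =
      ((univ.filter (fun g : L => ¬ g ∈ K)).card : ℂ) := by
    rw [Finset.sum_congr rfl fun g hg => norm_sq_off h hW hodd hχ ω (mem_filter.mp hg).2]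
    simp
  have hcard : ((univ.filter (fun g : L => ¬ g ∈ K)).card : ℂ) =
      (Nat.card L : ℂ) - (Nat.card K : ℂ) := by
    have e := Finset.card_filter_add_card_filter_not (s := (univ : Finset L)) (· ∈ K)
    rw [Finset.card_univ, ← Nat.card_eq_fintype_card, ← Fintype.card_subtype,
      ← Nat.card_eq_fintype_card] at e
    rw [show (Nat.card L : ℂ) = ((Nat.card {x // x ∈ K} +
      (univ.filter (fun g : L => ¬ g ∈ K)).card : ℕ) : ℂ) by rw [e]]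
    push_cast
    ring
  have hon : ∑ g ∈ univ.filter (· ∈ K), χ ω g * conj (χ ω g) =
      ∑ k : K, χ ω k * conj (χ ω k) :=
    Finset.sum_subtype _ (fun x => by simp) fun g => χ ω g * conj (χ ω g)
  rw [hoff, hcard, hon] at h1
  have hL : (Nat.card L : ℂ) ≠ 0 := Nat.cast_ne_zero.mpr Nat.card_pos.ne'
  have hK : (Nat.card K : ℂ) ≠ 0 := Nat.cast_ne_zero.mpr Nat.card_pos.ne'
  rw [inv_mul_eq_one₀ hL] at h1
  rw [Cfsg.classInner, inv_mul_eq_one₀ hK]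
  linear_combination h1

theorem res_irr [Fintype K] (ω : ↥(W₁ ⊔ W₂) →* ℂˣ) {δ : ℂ} (hδ : δ = 1 ∨ δ = -1)
    (hi : Cfsg.IsIrrCharacter L (δ • χ ω)) :
    Cfsg.IsIrrCharacter K (fun k : K => (δ • χ ω) k) := by
  refine CfsgLib.Clifford.isIrr_of_norm_one
    (CfsgLib.Clifford.isCharacter_subtype (isCharacter_of_irr hi) K) ?_
  rw [show (fun k : K => (δ • χ ω) k) = δ • (fun k : K => χ ω k) from rfl, classInner_smul_left,
    classInner_smul_right, norm_res h hW hodd hχ ω]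
  rcases hδ with rfl | rfl <;> simp

theorem sum_trivR_eq_zero {x : ↥(W₁ ⊔ W₂)} (hx : (x : L) ∉ W₂)
    [Fintype {φ : ↥(W₁ ⊔ W₂) →* ℂˣ // TrivR φ}] :
    ∑ φ : {φ : ↥(W₁ ⊔ W₂) →* ℂˣ // TrivR φ}, (φ.1 x : ℂ) = 0 := by
  obtain ⟨⟨a, b⟩, rfl⟩ := (ctiMul_bijective h.disj₁₂ h.comm).2 x
  have ha : a ≠ 1 := fun e => hx (by simp [e])
  haveI := h.cyc₁
  let iA : CommGroup W₁ := (h.cyc₁).commGroup
  obtain ⟨f, hf⟩ := CommGroup.exists_apply_ne_one_of_hasEnoughRootsOfUnity W₁ ℂ ha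
  obtain ⟨φ₀, hφ₀, hφ₀e⟩ := exists_trivR h.disj₁₂ h.comm f
  have hne : (φ₀ (ctiMul h.comm (a, b)) : ℂ) ≠ 1 := by
    rw [hφ₀.apply_mul h.comm]
    intro e
    exact hf ((DFunLike.congr_fun hφ₀e a).symm.trans (Units.val_eq_one.mp e))
  have hmul : ∀ φ : {φ : ↥(W₁ ⊔ W₂) →* ℂˣ // TrivR φ}, TrivR (φ₀ * φ.1) := fun φ w hw => by
    rw [MonoidHom.mul_apply, hφ₀ w hw, φ.2 w hw, one_mul]
  have hbij : Function.Bijective (fun φ : {φ : ↥(W₁ ⊔ W₂) →* ℂˣ // TrivR φ} =>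
      (⟨φ₀ * φ.1, hmul φ⟩ : {φ : ↥(W₁ ⊔ W₂) →* ℂˣ // TrivR φ})) := by
    refine Finite.injective_iff_bijective.mp fun p q e => ?_
    exact Subtype.ext (mul_left_cancel (congrArg Subtype.val e))
  have e := hbij.sum_comp (fun φ => (φ.1 (ctiMul h.comm (a, b)) : ℂ))
  simp only [MonoidHom.mul_apply, Units.val_mul, ← Finset.mul_sum] at e
  by_contra h0
  exact hne ((mul_eq_right₀ h0).mp e)

/-- PF (4.5): an irreducible character of `K` restricted from a column induces to the column sum. -/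
theorem ind_res {δ : (↥(W₁ ⊔ W₂) →* ℂˣ) → ℂ}
    (hδ : ∀ ω ω', (∀ w : ↥(W₁ ⊔ W₂), (w : L) ∈ W₂ → ω w = ω' w) → δ ω = δ ω')
    (ω : ↥(W₁ ⊔ W₂) →* ℂˣ) :
    Cfsg.indFun K (fun k : K => (δ ω • χ ω) k) =
      ∑ᶠ ω' ∈ {ω' | ∀ w : ↥(W₁ ⊔ W₂), (w : L) ∈ W₂ → ω w = ω' w}, δ ω' • χ ω' := by
  haveI := finite_linChar hW
  haveI := Fintype.ofFinite {φ : ↥(W₁ ⊔ W₂) →* ℂˣ // TrivR φ}
  have hb : Set.BijOn (fun φ : {φ : ↥(W₁ ⊔ W₂) →* ℂˣ // TrivR φ} => ω * φ.1) Set.univ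
      {ω' | ∀ w : ↥(W₁ ⊔ W₂), (w : L) ∈ W₂ → ω w = ω' w} := by
    refine ⟨fun φ _ w hw => ?_, fun p _ q _ e => Subtype.ext (mul_left_cancel e), fun ω' hω' => ?_⟩
    · show ω w = ω w * φ.1 w
      rw [φ.2 w hw, mul_one]
    · refine ⟨⟨ω⁻¹ * ω', fun w hw => ?_⟩, trivial, mul_inv_cancel_left ω ω'⟩
      rw [MonoidHom.mul_apply, MonoidHom.inv_apply, hω' w hw, inv_mul_cancel]
  rw [← finsum_mem_eq_of_bijOn (f := fun φ : {φ : ↥(W₁ ⊔ W₂) →* ℂˣ // TrivR φ} =>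
    δ (ω * φ.1) • χ (ω * φ.1)) _ hb (fun _ _ => rfl), finsum_mem_univ, finsum_eq_sum_of_fintype]
  have hδ' : ∀ φ : {φ : ↥(W₁ ⊔ W₂) →* ℂˣ // TrivR φ}, δ (ω * φ.1) = δ ω := fun φ =>
    (hδ ω _ fun w hw => by rw [MonoidHom.mul_apply, φ.2 w hw, mul_one]).symm
  have hclass : Cfsg.IsClassFunction L (χ ω) := (family_signed hχ ω).classFunction
  funext g
  rw [CfsgLib.Induction.indFun_apply, Finset.sum_apply]
  simp only [hδ', Pi.smul_apply, smul_eq_mul, ← Finset.mul_sum]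
  by_cases hg : g ∈ K
  · have hK : ∀ x : L, x⁻¹ * g * x ∈ K := fun x => by
      have := h.normal.conj_mem _ hg x⁻¹
      rwa [inv_inv] at this
    have hL : ∀ x : L, Cfsg.extendByZero K (fun k : K => δ ω * χ ω k) (x⁻¹ * g * x) =
        δ ω * χ ω g := fun x => by
      rw [CfsgLib.Induction.extendByZero_mem _ _ (hK x)]
      congr 1
      have := hclass g x⁻¹
      rwa [inv_inv] at this
    have hR : ∀ φ : {φ : ↥(W₁ ⊔ W₂) →* ℂˣ // TrivR φ}, χ (ω * φ.1) g = χ ω g := fun φ =>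
      (eq_on_K h hW hodd hχ (fun w hw => by rw [MonoidHom.mul_apply, φ.2 w hw, mul_one]) hg).symm
    rw [Finset.sum_congr rfl fun x _ => hL x, Finset.sum_congr rfl fun φ _ => hR φ,
      Finset.sum_const, Finset.sum_const, Finset.card_univ, Finset.card_univ,
      ← Nat.card_eq_fintype_card, ← Nat.card_eq_fintype_card, card_trivR hW, nsmul_eq_mul,
      nsmul_eq_mul]
    haveI := h.normal
    have hcard : (Nat.card L : ℂ) = (Nat.card K : ℂ) * (Nat.card W₁ : ℂ) := by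
      rw [← (h.quot_cyclic).2]
      exact_mod_cast K.card_mul_index.symm
    rw [hcard]
    have : (Nat.card K : ℂ) ≠ 0 := Nat.cast_ne_zero.mpr Nat.card_pos.ne'
    field_simp
  · obtain ⟨k, x, hx, hx2, rfl⟩ := exists_conj_off h hg
    have hR : ∀ φ : {φ : ↥(W₁ ⊔ W₂) →* ℂˣ // TrivR φ}, χ (ω * φ.1) (k * x * k⁻¹) =
        (ω ⟨x, hx⟩ : ℂ) * (φ.1 ⟨x, hx⟩ : ℂ) := fun φ => by
      rw [(family_signed hχ _).classFunction x k, h.family_value hW hodd hχ _ ⟨x, hx⟩ hx2,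
        MonoidHom.mul_apply, Units.val_mul]
    rw [Finset.sum_congr rfl fun φ _ => hR φ, ← Finset.mul_sum,
      sum_trivR_eq_zero h hW hodd hχ (x := ⟨x, hx⟩) hx2, mul_zero, mul_zero]
    refine mul_eq_zero_of_right _ (Finset.sum_eq_zero fun y _ =>
      CfsgLib.Induction.extendByZero_notMem _ _ fun hm => hg ?_)
    have := h.normal.conj_mem _ hm y
    rwa [show y * (y⁻¹ * (k * x * k⁻¹) * y) * y⁻¹ = k * x * k⁻¹ by group] at this

theorem reducible [Fintype K] {θ : K → ℂ} (hθ : Cfsg.IsIrrCharacter K θ)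
    (hred : ¬ Cfsg.IsIrrCharacter L (Cfsg.indFun K θ)) {δ : (↥(W₁ ⊔ W₂) →* ℂˣ) → ℂ}
    (hδ : ∀ ω, δ ω = 1 ∨ δ ω = -1) (hμ : ∀ ω, Cfsg.IsIrrCharacter L (δ ω • χ ω)) :
    ∃ ω, θ = fun k : K => (δ ω • χ ω) k := by
  have hfix : ∀ x ∈ W₁, CfsgLib.Clifford.conjChar h.normal θ x = θ := by
    intro x hx
    by_contra hne
    exact hred (h.induced_irr hθ ⟨x, hx, hne⟩)
  obtain ⟨C, hC, hCirr, -, hCres⟩ := h.induced_sum hθ hfix
  obtain ⟨μ₀, hμ₀⟩ := Finset.card_pos.mp (hC ▸ Nat.card_pos)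
  by_cases hex : ∃ ω, μ₀ = δ ω • χ ω
  · obtain ⟨ω, hω⟩ := hex
    exact ⟨ω, (hω ▸ (hCres μ₀ hμ₀)).symm⟩
  exfalso
  rw [not_exists] at hex
  have hirr := hCirr μ₀ hμ₀
  have hcl := isClassFunction_of_isCharacter (isCharacter_of_irr hirr)
  have horth : ∀ ω, Cfsg.classInner μ₀ (χ ω) = 0 := by
    intro ω
    have e := classInner_irr_ne hirr (hμ ω) (hex ω)
    rw [classInner_smul_right] at e
    rcases hδ ω with r | r <;> rw [r] at e <;> simpa using e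
  have hzero : ∀ g : L, g ∉ K → μ₀ g = 0 := by
    intro g hg
    obtain ⟨k, x, hx, hx2, rfl⟩ := exists_conj_off h hg
    rw [hcl x k]
    exact h.vanish_of_notMem_family hW hodd hχ hcl horth ⟨x, hx⟩ hx2
  have hθ1 := classInner_irr_self hθ
  rw [← hCres μ₀ hμ₀] at hθ1
  have h1 := classInner_irr_self hirr
  rw [Cfsg.classInner, ← Finset.sum_filter_add_sum_filter_not univ (· ∈ K),
    Finset.sum_eq_zero (s := univ.filter (fun g => ¬ g ∈ K))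
      (fun g hg => by rw [hzero g (mem_filter.mp hg).2, zero_mul]), add_zero,
    Finset.sum_subtype _ (p := (· ∈ K)) (fun x => by simp) fun g => μ₀ g * conj (μ₀ g)] at h1
  rw [Cfsg.classInner] at hθ1
  have hL : (Nat.card L : ℂ) ≠ 0 := Nat.cast_ne_zero.mpr Nat.card_pos.ne'
  have hK : (Nat.card K : ℂ) ≠ 0 := Nat.cast_ne_zero.mpr Nat.card_pos.ne'
  rw [inv_mul_eq_one₀ hL] at h1
  rw [inv_mul_eq_one₀ hK] at hθ1
  haveI := h.normal
  have e : Nat.card K * Nat.card W₁ = Nat.card K * 1 := by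
    rw [← (h.quot_cyclic).2, K.card_mul_index, mul_one]
    exact_mod_cast h1.trans hθ1.symm
  exact h.ne₁ (Subgroup.card_eq_one.mp (Nat.eq_of_mul_eq_mul_left Nat.card_pos e))

end Family

end CfsgLib.PF.TILocal
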