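import Cfsg.Agent.Lib.OddChar.CyclicUnique
import Cfsg.Agent.Lib.OddChar.OrthProj

/-!
# A norm two generalised character determined by its values on `W - (W₁ ∪ W₂)`
-/

set_option autoImplicit false
set_option linter.style.haveILetI false
set_option linter.unusedSectionVars false

namespace CfsgLib.PF.TILocal

open scoped Classical ComplexConjugate
open Finset CfsgLib.Characters CfsgLib.OddChar

theorem line_zero {α : Type*} [Fintype α] (c e : α → ℤ) (T : Finset α) (a : ℤ)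
    (hc : ∀ x, c x = e x + if x ∈ T then a else 0) (hT : 3 ≤ T.card)
    (he : ∑ x, e x * e x = 2) (heT : -1 ≤ ∑ x ∈ T, e x ∧ ∑ x ∈ T, e x ≤ 1)
    (hsum : ∑ x, c x * c x ≤ 2) : a = 0 := by
  have h1 : ∀ x, c x * c x =
      e x * e x + if x ∈ T then 2 * a * e x + a * a else 0 := by
    intro x
    rw [hc x]
    split_ifs <;> ring
  rw [Finset.sum_congr rfl fun x _ => h1 x, Finset.sum_add_distrib, he, Finset.sum_ite_mem,
    univ_inter, Finset.sum_add_distrib, ← Finset.mul_sum, Finset.sum_const, nsmul_eq_mul] at hsum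
  set s := ∑ x ∈ T, e x
  have hn : (3 : ℤ) ≤ (T.card : ℤ) := by exact_mod_cast hT
  have h2 : (T.card : ℤ) * (a * a) + 2 * a * s ≤ 0 := by linarith
  have h3 : 3 * (a * a) + 2 * a * s ≤ 0 := by
    nlinarith [mul_le_mul_of_nonneg_right hn (mul_self_nonneg a)]
  by_contra ha
  rcases lt_or_gt_of_ne ha with h | h
  · nlinarith [heT.2, mul_le_mul_of_nonpos_left heT.2 h.le]
  · nlinarith [heT.1, mul_le_mul_of_nonneg_left heT.1 h.le]

variable {G : Type*} [Group G] [Fintype G] {W₁ W₂ : Subgroup G}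

/-- Bessel along a family. -/
theorem family_bessel {χ : (↥(W₁ ⊔ W₂) →* ℂˣ) → (G → ℂ)} (hχ : Cfsg.IsCyclicTIFamily W₁ W₂ χ)
    [Fintype (↥(W₁ ⊔ W₂) →* ℂˣ)] {β : G → ℂ} (c : (↥(W₁ ⊔ W₂) →* ℂˣ) → ℤ)
    (hc : ∀ ω, Cfsg.classInner β (χ ω) = (c ω : ℂ)) :
    ((∑ ω, c ω * c ω : ℤ) : ℝ) ≤ (Cfsg.classInner β β).re := by
  have hinj : Function.Injective χ := fun x y e => by
    by_contra hne
    have h1 := hχ.orthonormal x x
    rw [if_pos rfl] at h1
    nth_rewrite 2 [e] at h1
    rw [hχ.orthonormal, if_neg hne] at h1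
    exact zero_ne_one h1
  set s := Finset.univ.image χ
  have horth : ∀ α ∈ s, ∀ γ ∈ s, α ≠ γ → Cfsg.classInner α γ = 0 := by
    simp only [s, Finset.mem_image, mem_univ, true_and]
    rintro _ ⟨x, rfl⟩ _ ⟨y, rfl⟩ hne
    rw [hχ.orthonormal, if_neg fun e => hne (by rw [e])]
  have hne : ∀ α ∈ s, Cfsg.classInner α α ≠ 0 := by
    simp only [s, Finset.mem_image, mem_univ, true_and]
    rintro _ ⟨x, rfl⟩
    rw [hχ.orthonormal, if_pos rfl]
    exact one_ne_zero
  have h0 := classInner_self_re_nonneg (β - orthProj s β)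
  rw [orthProj_pythagoras horth hne, Complex.sub_re, sub_nonneg] at h0
  refine le_of_eq_of_le ?_ h0
  rw [Finset.sum_image fun x _ y _ e => hinj e, Complex.re_sum, Int.cast_sum]
  refine Finset.sum_congr rfl fun x _ => ?_
  rw [hχ.orthonormal, if_pos rfl, hc, div_one, map_intCast]
  simp

/-- PF (4.8), the core: a virtual character of norm 2 equal to `δ (ω₀ - ω₁)` on `W - (W₁ ∪ W₂)`. -/
theorem eq_pair_of_eqOn (hW : Cfsg.IsSelfNormalizingCyclic W₁ W₂)
    (hodd : Odd (Nat.card ↥(W₁ ⊔ W₂))) (hcop : Nat.Coprime (Nat.card W₁) (Nat.card W₂))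
    {χ : (↥(W₁ ⊔ W₂) →* ℂˣ) → (G → ℂ)} (hχ : Cfsg.IsCyclicTIFamily W₁ W₂ χ) {β : G → ℂ}
    (hgen : Cfsg.IsGeneralizedCharacter G β) (hnorm : Cfsg.classInner β β = 2)
    {ω₀ ω₁ : ↥(W₁ ⊔ W₂) →* ℂˣ} (hne : ω₀ ≠ ω₁) {δ : ℤ} (hδ : δ = 1 ∨ δ = -1)
    (hon : ∀ w : ↥(W₁ ⊔ W₂), (w : G) ∉ W₁ → (w : G) ∉ W₂ →
      β w = (δ : ℂ) * ((ω₀ w : ℂ) - (ω₁ w : ℂ))) :
    β = (δ : ℂ) • (χ ω₀ - χ ω₁) := by
  haveI := Fintype.ofFinite ↥(W₁ ⊔ W₂)
  haveI := finite_linChar hW
  haveI := Fintype.ofFinite (↥(W₁ ⊔ W₂) →* ℂˣ)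
  haveI := Fintype.ofFinite {φ : ↥(W₁ ⊔ W₂) →* ℂˣ // TrivR φ}
  haveI := Fintype.ofFinite {φ : ↥(W₁ ⊔ W₂) →* ℂˣ // TrivL φ}
  obtain ⟨-, -, hdisj, hcomm, -, -⟩ := id hW
  obtain ⟨h₁, h₂⟩ := three_le_card hW hodd
  have hint : ∀ ω, ∃ n : ℤ, Cfsg.classInner β (χ ω) = n := fun ω =>
    classInner_generalized_int hgen (family_signed hχ ω).generalized
  choose c hc using hint
  set e : (↥(W₁ ⊔ W₂) →* ℂˣ) → ℤ := fun ω =>
    δ * ((if ω₀ = ω then 1 else 0) - (if ω₁ = ω then 1 else 0)) with he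
  have hsum2 : ∑ ω, c ω * c ω ≤ 2 := by
    have := family_bessel hχ c hc
    rw [hnorm, show ((2 : ℂ).re) = ((2 : ℤ) : ℝ) by norm_num] at this
    exact_mod_cast this
  have hrel : ∀ φ ψ, TrivR φ → TrivL ψ →
      (c (φ * ψ) - e (φ * ψ)) - (c φ - e φ) - (c ψ - e ψ) + (c 1 - e 1) = 0 := by
    intro φ ψ hφ hψ
    have h := family_coeff χ hχ (isClassFunction_of_isGeneralizedCharacter hgen) hφ hψ
    have h' : Cfsg.classInner (fun w : ↥(W₁ ⊔ W₂) => β w) (ctiAlpha φ ψ) =
        (δ : ℂ) * (Cfsg.classInner (fun w => (ω₀ w : ℂ)) (ctiAlpha φ ψ) -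
          Cfsg.classInner (fun w => (ω₁ w : ℂ)) (ctiAlpha φ ψ)) := by
      rw [← classInner_sub_left, ← classInner_smul_left]
      simp only [Cfsg.classInner]
      congr 1
      refine Finset.sum_congr rfl fun w _ => ?_
      by_cases hw : (w : G) ∈ W₁ ∨ (w : G) ∈ W₂
      · rw [ctiAlpha_vanish hφ hψ w hw, map_zero, mul_zero, mul_zero]
      · rw [not_or] at hw
        rw [hon w hw.1 hw.2]
        rfl
    rw [h', ctiAlpha_eq_sum] at h
    simp only [classInner_add_right, classInner_sub_right, classInner_hom, hc] at h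
    have hC : (((c (φ * ψ) - e (φ * ψ)) - (c φ - e φ) - (c ψ - e ψ) + (c 1 - e 1) : ℤ) : ℂ) = 0 := by
      simp only [he]
      push_cast
      linear_combination h
    exact_mod_cast hC
  set a : (↥(W₁ ⊔ W₂) →* ℂˣ) → ℤ := fun ω => c ω - e ω with ha
  let f : {φ : ↥(W₁ ⊔ W₂) →* ℂˣ // TrivR φ} → ℂ := fun i => ((a i.1 - a 1 : ℤ) : ℂ)
  let g : {φ : ↥(W₁ ⊔ W₂) →* ℂˣ // TrivL φ} → ℂ := fun j => ((a j.1 : ℤ) : ℂ)
  have hval : ∀ i j, ((a (i.1 * j.1) : ℤ) : ℂ) = f i + g j := fun i j => by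
    simp only [f, g, ← Int.cast_add, Int.cast_inj, ha]
    linear_combination hrel i.1 j.1 i.2 j.2
  have hsupp : (univ.filter (fun ω => a ω ≠ 0)).card ≤ 4 := by
    have hc2 : (univ.filter (fun ω => c ω ≠ 0)).card ≤ 2 := by
      have : ((univ.filter (fun ω => c ω ≠ 0)).card : ℤ) ≤ 2 := by
        refine le_trans ?_ hsum2
        rw [Finset.card_filter]
        push_cast
        refine Finset.sum_le_sum fun x _ => ?_
        split_ifs with hx
        · nlinarith [mul_self_pos.mpr hx]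
        · exact mul_self_nonneg _
      exact_mod_cast this
    refine (Finset.card_le_card (t := univ.filter (fun ω => c ω ≠ 0) ∪ {ω₀, ω₁})
      fun ω hω => ?_).trans ((Finset.card_union_le _ _).trans
        (Nat.add_le_add hc2 Finset.card_le_two))
    by_contra hn
    simp only [mem_union, mem_filter, mem_univ, true_and, mem_insert, mem_singleton, not_or,
      not_not] at hn
    exact (mem_filter.mp hω).2 (by simp [ha, he, hn.1, Ne.symm hn.2.1, Ne.symm hn.2.2])
  have hI : Fintype.card {φ : ↥(W₁ ⊔ W₂) →* ℂˣ // TrivR φ} = Nat.card W₁ := by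
    rw [← Nat.card_eq_fintype_card, card_trivR hW]
  have hJ : Fintype.card {φ : ↥(W₁ ⊔ W₂) →* ℂˣ // TrivL φ} = Nat.card W₂ := by
    rw [← Nat.card_eq_fintype_card, card_trivL hW]
  have hcount : (univ.filter (fun p => f (Prod.fst p) + g (Prod.snd p) ≠ 0)).card ≤ 4 := by
    refine le_trans ?_ hsupp
    refine Finset.card_le_card_of_injOn (pairEquiv hW) (fun p hp => ?_)
      (pairEquiv hW).injective.injOn
    simp only [Finset.coe_filter, Set.mem_ofPred_eq, mem_univ, true_and, ← hval] at hp ⊢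
    rw [pairEquiv_apply]
    exact_mod_cast hp
  have hline : ∀ (T : Finset (↥(W₁ ⊔ W₂) →* ℂˣ)) (z : ℂ), 3 ≤ T.card →
      (∀ ω, (a ω : ℂ) = if ω ∈ T then z else 0) → ∀ ω, a ω = 0 := by
    intro T z hT hTa
    obtain ⟨ω', hω'⟩ := Finset.card_pos.mp (by omega : 0 < T.card)
    have hall : ∀ ω, a ω = if ω ∈ T then a ω' else 0 := by
      intro ω
      have h1 := hTa ω
      split_ifs with hm
      · rw [if_pos hm] at h1
        have h2 := hTa ω'
        rw [if_pos hω', ← h1] at h2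
        exact_mod_cast h2.symm
      · rw [if_neg hm] at h1
        exact_mod_cast h1
    have hz : a ω' = 0 := by
      refine line_zero c e T (a ω') (fun x => ?_) hT ?_ ?_ hsum2
      · have := hall x
        simp only [ha] at this ⊢
        linarith
      · have hpt : ∀ x, e x * e x =
            (if ω₀ = x then 1 else 0) + (if ω₁ = x then 1 else 0) := by
          intro x
          rcases hδ with rfl | rfl <;> simp only [he] <;> split_ifs with p r <;>
            first | exact absurd (p.trans r.symm) hne | norm_num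
        rw [Finset.sum_congr rfl fun x _ => hpt x, Finset.sum_add_distrib]
        simp
      · have hs : ∑ x ∈ T, e x =
            δ * ((if ω₀ ∈ T then 1 else 0) - (if ω₁ ∈ T then 1 else 0)) := by
          simp only [he, ← Finset.mul_sum, Finset.sum_sub_distrib, Finset.sum_ite_eq]
        rw [hs]
        rcases hδ with rfl | rfl <;> split_ifs <;> norm_num
    intro ω
    rw [hall ω, hz, ite_self]
  have hzero : ∀ ω, a ω = 0 := by
    have hj : ∀ (j₀ : {φ : ↥(W₁ ⊔ W₂) →* ℂˣ // TrivL φ}) (z : ℂ),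
        (∀ i j, f i + g j = if j = j₀ then z else 0) → ∀ ω, a ω = 0 := by
      intro j₀ z hz
      refine hline (univ.image fun i : {φ : ↥(W₁ ⊔ W₂) →* ℂˣ // TrivR φ} => i.1 * j₀.1) z ?_
        fun ω => ?_
      · rw [Finset.card_image_of_injective _ fun x y e => Subtype.ext (mul_right_cancel e),
          Finset.card_univ, hI]
        exact h₁
      · obtain ⟨⟨i, j⟩, rfl⟩ := (pairEquiv hW).surjective ω
        rw [pairEquiv_apply, hval, hz]
        refine if_congr ⟨fun e => ?_, fun e => ?_⟩ rfl rfl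
        · exact Finset.mem_image.mpr ⟨i, mem_univ _, by rw [e]⟩
        · obtain ⟨i', -, e'⟩ := Finset.mem_image.mp e
          exact Subtype.ext (mul_inj_trivR_trivL hdisj hcomm i'.2 i.2 j₀.2 j.2 e').2.symm
    have hi : ∀ (i₀ : {φ : ↥(W₁ ⊔ W₂) →* ℂˣ // TrivR φ}) (z : ℂ),
        (∀ i j, f i + g j = if i = i₀ then z else 0) → ∀ ω, a ω = 0 := by
      intro i₀ z hz
      refine hline (univ.image fun j : {φ : ↥(W₁ ⊔ W₂) →* ℂˣ // TrivL φ} => i₀.1 * j.1) z ?_
        fun ω => ?_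
      · rw [Finset.card_image_of_injective _ fun x y e => Subtype.ext (mul_left_cancel e),
          Finset.card_univ, hJ]
        exact h₂
      · obtain ⟨⟨i, j⟩, rfl⟩ := (pairEquiv hW).surjective ω
        rw [pairEquiv_apply, hval, hz]
        refine if_congr ⟨fun e => ?_, fun e => ?_⟩ rfl rfl
        · exact Finset.mem_image.mpr ⟨j, mem_univ _, by rw [e]⟩
        · obtain ⟨j', -, e'⟩ := Finset.mem_image.mp e
          exact Subtype.ext (mul_inj_trivR_trivL hdisj hcomm i₀.2 i.2 j'.2 j.2 e').1.symm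
    have hdist : Nat.card W₁ ≠ Nat.card W₂ := fun e => by
      rw [e, Nat.coprime_self] at hcop; omega
    obtain ⟨x, hx⟩ := hodd.of_dvd_nat (Subgroup.card_dvd_of_le (le_sup_left : W₁ ≤ W₁ ⊔ W₂))
    obtain ⟨y, hy⟩ := hodd.of_dvd_nat (Subgroup.card_dvd_of_le (le_sup_right : W₂ ≤ W₁ ⊔ W₂))
    rcases Nat.lt_or_gt_of_ne hdist with hlt | hlt
    · rcases sum_table_few f g (by omega) (by omega) (by omega) with ⟨j₀, z, hz⟩ | ⟨i₀, z, hz⟩
      · exact hj j₀ z fun i j => by convert hz i j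
      · exact hi i₀ z fun i j => by convert hz i j
    · have hswap : (univ.filter (fun p => g (Prod.fst p) + f (Prod.snd p) ≠ 0)).card ≤ 4 := by
        refine le_trans (Finset.card_le_card_of_injOn Prod.swap (fun p hp => ?_)
          Prod.swap_injective.injOn) hcount
        simp only [Finset.coe_filter, Set.mem_ofPred_eq, mem_univ, true_and] at hp ⊢
        rwa [Prod.fst_swap, Prod.snd_swap, add_comm]
      rcases sum_table_few g f (by omega) (by omega) (by omega) with ⟨i₀, z, hz⟩ | ⟨j₀, z, hz⟩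
      · exact hi i₀ z fun i j => by rw [add_comm]; convert hz j i
      · exact hj j₀ z fun i j => by rw [add_comm]; convert hz j i
  have hinner : ∀ ω, Cfsg.classInner β (χ ω) = (e ω : ℂ) := fun ω => by
    rw [hc]
    have h0 := hzero ω
    simp only [ha, sub_eq_zero] at h0
    exact_mod_cast h0
  refine sub_eq_zero.mp (eq_zero_of_classInner_self ?_)
  simp only [classInner_sub_left, classInner_sub_right, classInner_smul_left, classInner_smul_right,
    hnorm, hinner, hχ.orthonormal, classInner_conj_symm β (χ _), he]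
  rcases hδ with rfl | rfl <;> simp [hne, Ne.symm hne] <;> norm_num

end CfsgLib.PF.TILocal
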