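import Cfsg.Agent.Lib.PF.Props8
import Cfsg.Agent.Lib.PF.Props9
import Cfsg.Agent.Lib.PF.TILocal
import Cfsg.Agent.Lib.PF.TIPair
import Cfsg.Agent.Lib.OddChar.DadeInner
import Cfsg.Agent.Lib.OddChar.DadeVirtual
import Cfsg.Agent.Lib.Characters.Values
import Cfsg.Agent.S0181
import Cfsg.Prelude.Def_OddOrder

/-!
# PF (4.3)–(4.8) for a maximal subgroup of type P: `PropTIData`
-/

set_option autoImplicit false
set_option linter.style.haveILetI false
set_option linter.unusedSectionVars false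

namespace CfsgLib.PF

open scoped Classical ComplexConjugate
open Finset CfsgLib.Characters CfsgLib.OddChar

universe u

variable {G : Type u} [Group G] [Fintype G]

theorem typeP_le {M W₁ U W₂ : Subgroup G} (hP : Cfsg.IsTypePWith M W₁ U W₂) :
    W₁ ≤ M ∧ ⁅M, M⁆ ≤ M ∧ Cfsg.fittingHallOf M ≤ ⁅M, M⁆ ∧ W₂ ≤ Cfsg.fittingHallOf M ∧
      W₁ ⊔ W₂ ≤ M := by
  have h1 : ⁅M, M⁆ ≤ M := hP.W₁_compl.1
  have h2 : Cfsg.fittingHallOf M ≤ ⁅M, M⁆ := hP.U_compl.1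
  have h3 : W₂ ≤ Cfsg.fittingHallOf M := hP.W₂_le.trans inf_le_left
  exact ⟨hP.W₁_compl.2.1, h1, h2, h3, sup_le hP.W₁_compl.2.1 (h3.trans (h2.trans h1))⟩

theorem derived_subgroupOf_eq (M : Subgroup G) :
    (⁅M, M⁆ : Subgroup G).subgroupOf M = commutator ↥M := by
  rw [← Subgroup.map_subtype_commutator M, Subgroup.subgroupOf,
    Subgroup.comap_map_eq_self_of_injective M.subtype_injective]

instance derived_subgroupOf_normal (M : Subgroup G) :
    ((⁅M, M⁆ : Subgroup G).subgroupOf M).Normal := by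
  rw [derived_subgroupOf_eq]
  infer_instance

/-- `L = M`, `K = M'` has the shape of PF (4.2). -/
theorem typeP_TPL {M W₁ U W₂ : Subgroup G} (hP : Cfsg.IsTypePWith M W₁ U W₂) :
    TPL ((⁅M, M⁆ : Subgroup G).subgroupOf M) (W₁.subgroupOf M) (W₂.subgroupOf M) := by
  obtain ⟨hW₁M, hdM, hHd, hW₂H, hWM⟩ := typeP_le hP
  refine ⟨inferInstance, ?_, ?_, ?_, ?_, ?_, ?_, ?_, ?_⟩
  · refine eq_bot_iff.mpr fun x hx => Subgroup.mem_bot.mpr (Subtype.ext ?_)
    exact Subgroup.mem_bot.mp (hP.W₁_compl.2.2.1.le ⟨hx.1, hx.2⟩)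
  · refine eq_top_iff.mpr fun m _ => ?_
    obtain ⟨a, ha, b, hb, e⟩ := hP.W₁_compl.2.2.2 (m : G) m.2
    rw [show m = (⟨a, hdM ha⟩ : M) * ⟨b, hW₁M hb⟩ from Subtype.ext e]
    exact Subgroup.mul_mem _ (Subgroup.mem_sup_left ha) (Subgroup.mem_sup_right hb)
  · intro h
    refine hP.W₁_ne (eq_bot_iff.mpr fun x hx => Subgroup.mem_bot.mpr ?_)
    have := Subgroup.mem_bot.mp (h.le (show (⟨x, hW₁M hx⟩ : M) ∈ W₁.subgroupOf M from hx))
    exact congrArg Subtype.val this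
  · haveI := hP.W₁_cyclic
    exact (Subgroup.subgroupOfEquivOfLe hW₁M).isCyclic.mpr hP.W₁_cyclic
  · rw [Nat.card_congr (Subgroup.subgroupOfEquivOfLe hW₁M).toEquiv]
    exact hP.W₁_hall
  · have hW₂c : IsCyclic W₂ := by
      haveI := hP.selfNormalizing.2.2.2.2.1
      exact isCyclic_of_injective (Subgroup.inclusion le_sup_right)
        (Subgroup.inclusion_injective (le_sup_right : W₂ ≤ W₁ ⊔ W₂))
    exact (Subgroup.subgroupOfEquivOfLe (le_sup_right.trans hWM)).isCyclic.mpr hW₂c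
  · exact fun x hx => hHd (hW₂H hx)
  · intro x hx hx1
    have hc := hP.W₂_centralizer (x : G) hx (fun e => hx1 (Subtype.ext e))
    ext y
    simp only [Subgroup.mem_inf, Subgroup.mem_subgroupOf, ← hc,
      Subgroup.mem_centralizer_singleton_iff, Subtype.ext_iff, Subgroup.coe_mul]

/-- The properties of `M_s` used below. -/
theorem typeCore_props {M W₁ U W₂ : Subgroup G} (hP : Cfsg.IsTypePWith M W₁ U W₂) :
    Cfsg.typeCore M ≤ ⁅M, M⁆ ∧ W₂ ≤ Cfsg.typeCore M ∧ ((Cfsg.typeCore M).subgroupOf M).Normal := by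
  obtain ⟨-, -, hHd, hW₂H, -⟩ := typeP_le hP
  unfold Cfsg.typeCore
  split_ifs
  · exact ⟨le_rfl, hW₂H.trans hHd, derived_subgroupOf_normal M⟩
  · refine ⟨hHd, hW₂H, ?_⟩
    rw [Cfsg.fittingHallOf, Subgroup.subgroupOf,
      Subgroup.comap_map_eq_self_of_injective M.subtype_injective]
    infer_instance

/-- A character taking its degree at `w` is invariant under translation by `w`. -/
theorem char_translate {X : Type*} [Group X] [Finite X] {χ : X → ℂ} (h : Cfsg.IsCharacter X χ) {w : X}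
    (hw : χ w = χ 1) (g : X) : χ (g * w) = χ g := by
  obtain ⟨n, ρ, rfl⟩ := h
  have e : ρ w = LinearMap.id := (char_eq_degree_iff ρ w).mp (by rw [hw, Representation.char_one])
  simp only [Representation.character, map_mul, e]
  rfl

theorem odd_W {M W₁ U W₂ : Subgroup G} (hG : Cfsg.IsMinSimpleOddOrder G)
    (_hP : Cfsg.IsTypePWith M W₁ U W₂) : Odd (Nat.card ↥(W₁ ⊔ W₂)) :=
  hG.1.of_dvd_nat (Subgroup.card_subgroup_dvd_card _)

theorem coprime_W {M W₁ U W₂ : Subgroup G} (hP : Cfsg.IsTypePWith M W₁ U W₂) :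
    Nat.Coprime (Nat.card W₁) (Nat.card W₂) := by
  obtain ⟨hW₁M, -, -, -, hWM⟩ := typeP_le hP
  have h := typeP_TPL hP
  have h1 := (h.index_eq ▸ h.hall).coprime_dvd_right (Subgroup.card_dvd_of_le h.le₂)
  rwa [Nat.card_congr (Subgroup.subgroupOfEquivOfLe hW₁M).toEquiv,
    Nat.card_congr (Subgroup.subgroupOfEquivOfLe (le_sup_right.trans hWM)).toEquiv] at h1

section Dade

variable (hT : PropTypes G) (hD : PropDade G) {M W₁ U W₂ : Subgroup G} (hM : IsCoatom M)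
  (hP : Cfsg.IsTypePWith M W₁ U W₂)

include hT hM hP

theorem suppA_eq_centSupp : suppA M = centSupp ⁅M, M⁆ (Cfsg.typeCore M) := by
  rw [suppA, if_neg ((hT M hM).2 W₁ U W₂ hP)]

theorem hat_mem_suppA0 {z : G} (hz : z ∈ W₁ ⊔ W₂) (h₁ : z ∉ W₁) (h₂ : z ∉ W₂) {m : G} (hm : m ∈ M) :
    m * z * m⁻¹ ∈ suppA0 M :=
  Or.inr ⟨(hT M hM).2 W₁ U W₂ hP, W₁, U, W₂, hP, m, hm, z, hz, h₁, h₂, rfl⟩

include hD

theorem dade : Cfsg.DadeHypothesis (suppA0 M) M (Cfsg.supportR M) :=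
  (hD M _ hM (Or.inr (Or.inr rfl))).2

/-- The value of a Dade image on `W - (W₁ ∪ W₂)`. -/
theorem tau_hat {α : ↥M → ℂ} (hα : Cfsg.IsClassFunction ↥M α) (w : ↥(W₁ ⊔ W₂)) (h₁ : (w : G) ∉ W₁)
    (h₂ : (w : G) ∉ W₂) (hw : (w : G) ∈ M) : tau M α w = α ⟨w, hw⟩ := by
  refine dadeIsometry_apply (dade hT hD hM hP) hα (a := ⟨w, hw⟩) (u := 1) (x := 1) ?_
    (Subgroup.one_mem _) (by simp)
  simpa using hat_mem_suppA0 hT hM hP w.2 h₁ h₂ M.one_mem

/-- A Dade image of a function supported on conjugates of `W - (W₁ ∪ W₂)` vanishes elsewhere. -/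
theorem tau_off {α : ↥M → ℂ} (hα : Cfsg.IsClassFunction ↥M α)
    (hsupp : ∀ x : ↥M, α x ≠ 0 →
      ∃ m ∈ M, ∃ z ∈ W₁ ⊔ W₂, z ∉ W₁ ∧ z ∉ W₂ ∧ (x : G) = m * z * m⁻¹)
    {g : G} (hg : ∀ y : G, ∀ z ∈ W₁ ⊔ W₂, z ∉ W₁ → z ∉ W₂ → g ≠ y * z * y⁻¹) :
    tau M α g = 0 := by
  have hDd := dade hT hD hM hP
  by_cases hs : g ∈ dadeSupp (suppA0 M) (Cfsg.supportR M)
  swap
  · exact dadeIsometry_of_not_mem hs
  obtain ⟨a, ha, u, hu, x, e⟩ := hs
  rw [tau, dadeIsometry_apply hDd hα (a := ⟨a, hDd.subset ha⟩) (x := x) ha hu e]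
  by_contra hne
  obtain ⟨m, hm, z, hz, hz₁, hz₂, hzm⟩ := hsupp _ hne
  change a = m * z * m⁻¹ at hzm
  have hcM : Subgroup.centralizer ({a} : Set G) ≤ M := by
    intro c hc
    rw [Subgroup.mem_centralizer_singleton_iff, hzm] at hc
    have h1 : m⁻¹ * c * m ∈ W₁ ⊔ W₂ := by
      rw [cti_centralizer hP.selfNormalizing hz hz₁ hz₂]
      calc m⁻¹ * c * m * z * (m⁻¹ * c * m)⁻¹ = m⁻¹ * (c * (m * z * m⁻¹)) * c⁻¹ * m := by group
        _ = z := by rw [hc]; group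
    have h2 := M.mul_mem (M.mul_mem hm ((typeP_le hP).2.2.2.2 h1)) (M.inv_mem hm)
    rwa [show m * (m⁻¹ * c * m) * m⁻¹ = c by group] at h2
  have hu1 : u = 1 := by
    have hb := hDd.inf_eq_bot a ha
    rw [inf_eq_right.mpr hcM, inf_eq_left.mpr (hDd.le_centralizer a ha)] at hb
    rwa [hb, Subgroup.mem_bot] at hu
  refine hg (x⁻¹ * m) z hz hz₁ hz₂ ?_
  rw [hu1, mul_one, hzm] at e
  calc g = x⁻¹ * (x * g * x⁻¹) * x := by group
    _ = _ := by rw [e]; group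

end Dade

/-- PF (4.3)–(4.8). -/
theorem propTIData (hG : Cfsg.IsMinSimpleOddOrder G) (hT : PropTypes G) (hD : PropDade G) :
    PropTIData G := by
  intro M W₁ U W₂ hM hP
  obtain ⟨hW₁M, hdM, hHd, hW₂H, hWM⟩ := typeP_le hP
  have hW₂M : W₂ ≤ M := le_sup_right.trans hWM
  have hW := hP.selfNormalizing
  have hodd := odd_W hG hP
  have hT' := typeP_TPL hP
  set A := W₁.subgroupOf M with hA
  set B := W₂.subgroupOf M with hB
  set K := (⁅M, M⁆ : Subgroup G).subgroupOf M with hK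
  have hsup : (W₁ ⊔ W₂).subgroupOf M = A ⊔ B := Subgroup.subgroupOf_sup hW₁M hW₂M
  let e : ↥(W₁ ⊔ W₂) ≃* ↥(A ⊔ B) :=
    (Subgroup.subgroupOfEquivOfLe hWM).symm.trans (MulEquiv.subgroupCongr hsup)
  have he : ∀ w, (((e w : ↥(A ⊔ B)) : ↥M) : G) = (w : G) := fun _ => rfl
  have hes : ∀ v, ((e.symm v : ↥(W₁ ⊔ W₂)) : G) = ((v : ↥M) : G) := fun v => by
    conv_rhs => rw [← e.apply_symm_apply v]
    exact (he _).symm
  have hodd' : Odd (Nat.card ↥(A ⊔ B)) := by rwa [← Nat.card_congr e.toEquiv]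
  have hBne : B ≠ ⊥ := by
    intro h
    refine hW.2.1 (eq_bot_iff.mpr fun x hx => Subgroup.mem_bot.mpr ?_)
    exact congrArg Subtype.val
      (Subgroup.mem_bot.mp (h.le (show (⟨x, hW₂M hx⟩ : M) ∈ B from hx)))
  have hW' := TILocal.selfNorm hT' hBne hodd'
  obtain ⟨χ, hχ⟩ := exists_cti_family hW' hodd'
  obtain ⟨η, hη⟩ := exists_cti_family hW hodd
  let tr : (↥(W₁ ⊔ W₂) →* ℂˣ) → (↥(A ⊔ B) →* ℂˣ) := fun ω => ω.comp e.symm.toMonoidHom
  have htr_app : ∀ ω v, tr ω v = ω (e.symm v) := fun _ _ => rfl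
  have htr_e : ∀ ω w, tr ω (e w) = ω w := fun ω w => by rw [htr_app, e.symm_apply_apply]
  have htr1 : tr 1 = 1 := rfl
  have htr_inv : ∀ ω, tr ω⁻¹ = (tr ω)⁻¹ := fun _ => rfl
  have htr_inj : Function.Injective tr := fun ω ω' h => MonoidHom.ext fun w => by
    rw [← htr_e ω w, h, htr_e]
  have htr_surj : Function.Surjective tr := fun ν => ⟨ν.comp e.toMonoidHom, MonoidHom.ext fun v => by
    rw [htr_app, MonoidHom.comp_apply, MulEquiv.coe_toMonoidHom, e.apply_symm_apply]⟩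
  have hagR : ∀ ω ω', AgreeR W₁ W₂ ω ω' ↔
      ∀ v : ↥(A ⊔ B), (v : ↥M) ∈ B → tr ω v = tr ω' v := by
    intro ω ω'
    refine ⟨fun h v hv => ?_, fun h w hw => ?_⟩
    · exact h (e.symm v) (by rw [hes]; exact hv)
    · rw [← htr_e ω w, ← htr_e ω' w]
      exact h (e w) (show ((e w : ↥(A ⊔ B)) : ↥M).1 ∈ W₂ from (he w).symm ▸ hw)
  let δ' : (↥(A ⊔ B) →* ℂˣ) → ℂ := fun ν => if Cfsg.IsIrrCharacter ↥M (χ ν) then 1 else -1
  have hδ' : ∀ ν, δ' ν = 1 ∨ δ' ν = -1 := fun ν => ite_eq_or_eq _ _ _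
  have hμ : ∀ ν, Cfsg.IsIrrCharacter ↥M (δ' ν • χ ν) := by
    intro ν
    simp only [δ']
    split_ifs with hi
    · rwa [one_smul]
    · rw [neg_one_smul]
      exact (hχ.irr_or_neg ν).resolve_left hi
  have hsame : ∀ ν ν', χ ν 1 = χ ν' 1 → Cfsg.IsIrrCharacter ↥M (χ ν) →
      Cfsg.IsIrrCharacter ↥M (χ ν') := by
    intro ν ν' h hi
    refine (hχ.irr_or_neg ν').resolve_right fun hn => ?_
    obtain ⟨n, hn0, hn1⟩ := irr_exists_degree hi
    obtain ⟨m, hm0, hm1⟩ := irr_exists_degree hn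
    rw [Pi.neg_apply, ← h, hn1] at hm1
    have : ((n + m : ℕ) : ℂ) = 0 := by push_cast; linear_combination -hm1
    rw [Nat.cast_eq_zero] at this
    omega
  have hδcol : ∀ ν ν', (∀ v : ↥(A ⊔ B), (v : ↥M) ∈ B → ν v = ν' v) → δ' ν = δ' ν' := by
    intro ν ν' hag
    have hdeg := TILocal.eq_on_K hT' hW' hodd' hχ hag K.one_mem
    simp only [δ']
    by_cases hi : Cfsg.IsIrrCharacter ↥M (χ ν)
    · rw [if_pos hi, if_pos (hsame ν ν' hdeg hi)]
    · rw [if_neg hi, if_neg fun hi' => hi (hsame ν' ν hdeg.symm hi')]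
  let μ : (↥(W₁ ⊔ W₂) →* ℂˣ) → (↥M → ℂ) := fun ω => δ' (tr ω) • χ (tr ω)
  let δ : (↥(W₁ ⊔ W₂) →* ℂˣ) → ℂ := fun ω => δ' (tr ω)
  have hsq : ∀ ν, δ' ν * δ' ν = 1 := fun ν => by rcases hδ' ν with r | r <;> rw [r] <;> norm_num
  have hcolδ : ∀ ω ω', AgreeR W₁ W₂ ω ω' → δ ω = δ ω' := fun ω ω' h =>
    hδcol _ _ ((hagR ω ω').mp h)
  have hres : ∀ ω ω', AgreeR W₁ W₂ ω ω' → ∀ x : ↥M, (x : G) ∈ (⁅M, M⁆ : Subgroup G) →
      μ ω x = μ ω' x := by
    intro ω ω' h x hx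
    show δ ω * χ (tr ω) x = δ ω' * χ (tr ω') x
    rw [hcolδ ω ω' h, TILocal.eq_on_K hT' hW' hodd' hχ ((hagR ω ω').mp h) (k := x) hx]
  have hδ1 : δ 1 = 1 := by
    show δ' (tr 1) = 1
    simp only [δ', htr1, hχ.map_one]
    exact if_pos isIrrCharacter_one
  have hμ1 : μ 1 = fun _ => 1 := by
    show δ 1 • χ (tr 1) = _
    rw [hδ1, htr1, hχ.map_one, one_smul]
  have hval : ∀ ω (x : ↥M) (hx : (x : G) ∈ W₁ ⊔ W₂), (x : G) ∉ W₂ →
      μ ω x = δ ω * (ω ⟨x, hx⟩ : ℂ) := by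
    intro ω x hx hx2
    have hxm : x ∈ A ⊔ B := hsup ▸ (show x ∈ (W₁ ⊔ W₂).subgroupOf M from hx)
    show δ ω * χ (tr ω) x = _
    rw [hT'.family_value hW' hodd' hχ (tr ω) ⟨x, hxm⟩ hx2, htr_app,
      show e.symm ⟨x, hxm⟩ = ⟨x, hx⟩ from Subtype.ext (hes _)]
  have hdeg : ∀ ω, ∃ n : ℤ, μ ω 1 - δ ω = n * (Nat.card W₁ : ℂ) := by
    intro ω
    obtain ⟨n, hn⟩ := hT'.degree_cong hW' hodd' hχ (tr ω)
    rw [Nat.card_congr (Subgroup.subgroupOfEquivOfLe hW₁M).toEquiv] at hn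
    rcases hδ' (tr ω) with r | r
    · exact ⟨n, by show δ' (tr ω) * χ (tr ω) 1 - δ' (tr ω) = _; rw [r, one_mul]; exact hn⟩
    · exact ⟨-n, by
        show δ' (tr ω) * χ (tr ω) 1 - δ' (tr ω) = _
        rw [r, Int.cast_neg]; linear_combination -hn⟩
  have hinj : Function.Injective μ := by
    intro ω ω' h
    by_contra hne
    have hne' : tr ω ≠ tr ω' := fun h' => hne (htr_inj h')
    have h1 := congrArg (fun f => Cfsg.classInner f (χ (tr ω))) h
    simp only [μ, classInner_smul_left, hχ.orthonormal, if_pos, if_neg (Ne.symm hne'), mul_one,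
      mul_zero] at h1
    rcases hδ' (tr ω) with r | r <;> rw [r] at h1 <;> norm_num at h1
  have hresirr : ∀ ω, Cfsg.IsIrrCharacter ↥K (resD M (μ ω)) := fun ω =>
    TILocal.res_irr hT' hW' hodd' hχ (tr ω) (hδ' _) (hμ _)
  have hcl : ∀ ω, Cfsg.IsClassFunction ↥M (μ ω) := fun ω =>
    isClassFunction_of_isCharacter (isCharacter_of_irr (hμ (tr ω)))
  have hoff : ∀ x : ↥M, (x : G) ∉ (⁅M, M⁆ : Subgroup G) → ∃ (k y : ↥M),
      (y : G) ∈ W₁ ⊔ W₂ ∧ (y : G) ∉ W₂ ∧ x = k * y * k⁻¹ := by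
    intro x hx
    obtain ⟨k, y, hy, hy2, h⟩ := TILocal.exists_conj_off hT' (g := x) hx
    exact ⟨k, y, (hsup.symm ▸ hy : y ∈ (W₁ ⊔ W₂).subgroupOf M), hy2, h⟩
  refine ⟨μ, δ, η, hη, fun ω => TILocal.family_conj hW hodd hη ω, hinj, fun ω => hμ _,
    fun ω => ?_, hμ1, fun ω => hδ' _, hcolδ, fun ω h => ⟨(hcolδ ω 1 h).trans hδ1, fun x hx => ?_⟩,
    hval, fun θ hθ hne x hx hx2 => ?_, hdeg, fun ω ω' h => funext fun x => hres ω ω' h x x.2,
    hresirr, fun ω => ?_, fun θ hθ hred => ?_, ?_, ?_⟩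
  · -- conjugation
    show δ' (tr ω⁻¹) • χ (tr ω⁻¹) = Cfsg.conjFun (δ' (tr ω) • χ (tr ω))
    rw [htr_inv, TILocal.family_conj hW' hodd' hχ (tr ω)]
    have hd : δ' (tr ω)⁻¹ = δ' (tr ω) := by
      simp only [δ', TILocal.family_conj hW' hodd' hχ (tr ω)]
      by_cases hi : Cfsg.IsIrrCharacter ↥M (χ (tr ω))
      · rw [if_pos hi, if_pos (conjFun_irr hi)]
      · refine (if_neg fun hi' => hi ?_).trans (if_neg hi).symm
        have := conjFun_irr hi'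
        rwa [show Cfsg.conjFun (Cfsg.conjFun (χ (tr ω))) = χ (tr ω) from
          funext fun x => by simp [Cfsg.conjFun]] at this
    rw [hd]
    funext x
    show δ' (tr ω) * conj (χ (tr ω) x) = conj (δ' (tr ω) * χ (tr ω) x)
    rcases hδ' (tr ω) with r | r <;> rw [r] <;> simp
  · rw [hres ω 1 h x hx, hμ1]
  · refine hT'.vanish_of_notMem_family hW' hodd' hχ
      (isClassFunction_of_isCharacter (isCharacter_of_irr hθ)) (fun ν => ?_)
      ⟨x, hsup ▸ (show x ∈ (W₁ ⊔ W₂).subgroupOf M from hx)⟩ hx2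
    obtain ⟨ω, rfl⟩ := htr_surj ν
    have h0 := classInner_irr_ne hθ (hμ (tr ω)) (hne ω)
    rw [classInner_smul_right] at h0
    rcases hδ' (tr ω) with r | r <;> rw [r] at h0 <;> simpa using h0
  · have hset : Set.BijOn tr {ω' | AgreeR W₁ W₂ ω ω'}
        {ν | ∀ v : ↥(A ⊔ B), (v : ↥M) ∈ B → tr ω v = ν v} := by
      refine ⟨fun ω' h => (hagR ω ω').mp h, htr_inj.injOn, fun ν hν => ?_⟩
      obtain ⟨ω', rfl⟩ := htr_surj ν
      exact ⟨ω', (hagR ω ω').mpr hν, rfl⟩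
    rw [finsum_mem_eq_of_bijOn (g := fun ν => δ' ν • χ ν) tr hset fun _ _ => rfl]
    exact TILocal.ind_res hT' hW' hodd' hχ hδcol (tr ω)
  · obtain ⟨ν, hν⟩ := TILocal.reducible hT' hW' hodd' hχ hθ hred hδ' hμ
    obtain ⟨ω, rfl⟩ := htr_surj ν
    exact ⟨ω, hν⟩
  · -- the square
    intro φ ψ hφ hψ hφ1 hψ1
    set α : ↥M → ℂ := δ ψ • (μ (φ * ψ) - μ ψ) - μ φ + μ 1 with hαdef
    have hag : AgreeR W₁ W₂ (φ * ψ) ψ := fun w hw => by
      rw [MonoidHom.mul_apply, hφ w hw, MonoidHom.one_apply, one_mul]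
    have hαcl : Cfsg.IsClassFunction ↥M α := fun x y => by
      simp only [hαdef, Pi.add_apply, Pi.sub_apply, Pi.smul_apply, hcl _ x y]
    have hαK : ∀ x : ↥M, (x : G) ∈ (⁅M, M⁆ : Subgroup G) → α x = 0 := by
      intro x hx
      simp only [hαdef, Pi.add_apply, Pi.sub_apply, Pi.smul_apply, smul_eq_mul,
        hres _ _ hag x hx, hres _ _ hφ x hx]
      ring
    have hαW : ∀ (x : ↥M) (hx : (x : G) ∈ W₁ ⊔ W₂), (x : G) ∉ W₂ →
        α x = ctiAlpha φ ψ ⟨x, hx⟩ := by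
      intro x hx hx2
      simp only [hαdef, Pi.add_apply, Pi.sub_apply, Pi.smul_apply, smul_eq_mul,
        hval _ x hx hx2, hcolδ _ _ hag, (hcolδ φ 1 hφ).trans hδ1, hδ1, ctiAlpha,
        MonoidHom.mul_apply, MonoidHom.one_apply, Units.val_mul, Units.val_one]
      linear_combination ((φ ⟨x, hx⟩ : ℂ) * (ψ ⟨x, hx⟩ : ℂ) - (ψ ⟨x, hx⟩ : ℂ)) * hsq (tr ψ)
    have htL : TrivL ψ := fun w hw => by rw [hψ w hw, MonoidHom.one_apply]
    have htR : TrivR φ := fun w hw => by rw [hφ w hw, MonoidHom.one_apply]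
    have hsupp : ∀ x : ↥M, α x ≠ 0 →
        ∃ m ∈ M, ∃ z ∈ W₁ ⊔ W₂, z ∉ W₁ ∧ z ∉ W₂ ∧ (x : G) = m * z * m⁻¹ := by
      intro x hx
      obtain ⟨k, y, hy, hy2, rfl⟩ := hoff x fun h => hx (hαK x h)
      rw [hαcl y k, hαW y hy hy2] at hx
      exact ⟨k, k.2, y, hy, fun h => hx (ctiAlpha_vanish htR htL _ (Or.inl h)), hy2, rfl⟩
    have hind : η (φ * ψ) - η ψ - η φ + η 1 = Cfsg.indFun (W₁ ⊔ W₂) (ctiAlpha φ ψ) := by
      unfold ctiAlpha
      rw [hη.induced_eq φ ψ hφ1 hψ1 htR htL, hη.map_one]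
      funext g
      simp only [Pi.add_apply, Pi.sub_apply]
      ring
    rw [hind]
    funext g
    by_cases hg : ∃ y : G, ∃ z ∈ W₁ ⊔ W₂, z ∉ W₁ ∧ z ∉ W₂ ∧ g = y * z * y⁻¹
    · obtain ⟨y, z, hz, hz₁, hz₂, rfl⟩ := hg
      rw [show tau M α (y * z * y⁻¹) = tau M α z from
          dadeIsometry_isClassFunction (dade hT hD hM hP) hαcl z y,
        CfsgLib.Induction.isClassFunction_indFun _ _ z y,
        tau_hat hT hD hM hP hαcl ⟨z, hz⟩ hz₁ hz₂ (hWM hz),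
        indFun_cti_apply hW _ (ctiAlpha_vanish htR htL) ⟨z, hz⟩]
      exact hαW _ hz hz₂
    · simp only [not_exists, not_and] at hg
      rw [tau_off hT hD hM hP hαcl hsupp fun y z hz h₁ h₂ => hg y z hz h₁ h₂,
        CfsgLib.Induction.indFun_apply]
      refine (mul_eq_zero_of_right _ (Finset.sum_eq_zero fun x _ => ?_)).symm
      by_cases hm : x⁻¹ * g * x ∈ W₁ ⊔ W₂
      · rw [CfsgLib.Induction.extendByZero_mem _ _ hm]
        refine ctiAlpha_vanish htR htL _ ?_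
        by_contra hc
        rw [not_or] at hc
        exact hg x _ hm hc.1 hc.2 (by group)
      · exact CfsgLib.Induction.extendByZero_notMem _ _ hm
  · -- rows
    intro ω ω' hrow hn hn' h1
    have hδeq : δ ω = δ ω' := by
      obtain ⟨n, hn1⟩ := hdeg ω
      obtain ⟨n', hn1'⟩ := hdeg ω'
      have h3 := (three_le_card hW hodd).1
      rcases hδ' (tr ω) with r | r <;> rcases hδ' (tr ω') with r' | r' <;>
        simp only [δ, r, r'] at hn1 hn1' ⊢ <;> exfalso <;>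
        rw [h1] at hn1
      · have e : ((2 : ℤ) : ℂ) = ((n' - n) * (Nat.card W₁ : ℤ) : ℤ) := by
          push_cast; linear_combination hn1' - hn1
        have e' : (2 : ℤ) = (n' - n) * (Nat.card W₁ : ℤ) := by exact_mod_cast e
        have := Int.le_of_dvd two_pos (Dvd.intro_left _ e'.symm)
        omega
      · have e : ((2 : ℤ) : ℂ) = ((n - n') * (Nat.card W₁ : ℤ) : ℤ) := by
          push_cast; linear_combination hn1 - hn1'
        have e' : (2 : ℤ) = (n - n') * (Nat.card W₁ : ℤ) := by exact_mod_cast e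
        have := Int.le_of_dvd two_pos (Dvd.intro_left _ e'.symm)
        omega
    refine ⟨hδeq, ?_⟩
    by_cases hωω : ω = ω'
    · subst hωω
      rw [sub_self, sub_self, smul_zero]
      funext g
      simp only [tau, Cfsg.dadeIsometry, Pi.zero_apply]
      split_ifs <;> rfl
    set α : ↥M → ℂ := μ ω - μ ω' with hαdef
    have hαcl : Cfsg.IsClassFunction ↥M α := fun x y => by
      simp only [hαdef, Pi.sub_apply, hcl _ x y]
    obtain ⟨hcK, hW₂c, hcN⟩ := typeCore_props hP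
    have hvan : ∀ ν : ↥(W₁ ⊔ W₂) →* ℂˣ, ¬ AgreeR W₁ W₂ ν 1 → ∀ x : ↥M,
        (x : G) ∈ (⁅M, M⁆ : Subgroup G) →
        (∀ y ∈ Cfsg.typeCore M, (x : G) * y = y * x → y = 1) → μ ν x = 0 := by
      intro ν hν x hx hfree
      haveI := hcN
      obtain ⟨d, ρ, hρ, hχρ⟩ := hresirr ν
      haveI := hρ
      set N : Subgroup ↥K := ((Cfsg.typeCore M).subgroupOf M).subgroupOf K
      show resD M (μ ν) ⟨x, hx⟩ = 0
      rw [← hχρ]
      refine Cfsg.Agent.S0181.result ρ N ?_ ⟨x, hx⟩ fun y hy hyx => ?_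
      · by_contra hcon
        push Not at hcon
        refine hν fun w hw => ?_
        obtain ⟨a, ha, ha1⟩ := (Subgroup.bot_or_exists_ne_one W₁).resolve_left hW.1
        have hwM : (w : G) ∈ M := hWM w.2
        have hwK : (w : G) ∈ (⁅M, M⁆ : Subgroup G) := hcK (hW₂c hw)
        have h2 : μ ν ⟨w, hwM⟩ = μ ν 1 := by
          have h3 : ρ.character ⟨⟨(w : G), hwM⟩, hwK⟩ = ρ.character 1 := by
            rw [Representation.char_one, char_eq_degree_iff]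
            exact hcon _ (hW₂c hw : (w : G) ∈ Cfsg.typeCore M)
          rw [hχρ] at h3
          exact h3
        have haw : ∀ (z : G) (hz : z ∈ W₂) , a * z ∈ W₁ ⊔ W₂ ∧ a * z ∉ W₂ := by
          intro z hz
          refine ⟨Subgroup.mul_mem _ (Subgroup.mem_sup_left ha) (Subgroup.mem_sup_right hz),
            fun h => ha1 (Subgroup.mem_bot.mp (hW.2.2.1.le ⟨ha, ?_⟩))⟩
          have := W₂.mul_mem h (W₂.inv_mem hz)
          rwa [mul_inv_cancel_right] at this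
        have h4 := char_translate (isCharacter_of_irr (hμ (tr ν))) h2 ⟨a, hW₁M ha⟩
        obtain ⟨ha', ha2'⟩ := haw w hw
        obtain ⟨ha0, ha20⟩ := haw 1 W₂.one_mem
        simp only [mul_one] at ha0 ha20
        change μ ν (⟨a, hW₁M ha⟩ * ⟨(w : G), hwM⟩) = μ ν ⟨a, hW₁M ha⟩ at h4
        rw [hval ν _ ha' ha2', hval ν _ ha0 ha20] at h4
        have hδ0 : δ ν ≠ 0 := by rcases hδ' (tr ν) with r | r <;> simp [δ, r]
        have h5 := mul_left_cancel₀ hδ0 h4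
        change (ν ((⟨a, ha0⟩ : ↥(W₁ ⊔ W₂)) * w) : ℂ) = (ν ⟨a, ha0⟩ : ℂ) at h5
        rw [map_mul, Units.val_mul, mul_eq_left₀ (Units.ne_zero _), Units.val_eq_one] at h5
        rw [h5, MonoidHom.one_apply]
      · have h6 := congrArg (fun z : ↥K => ((z : ↥M) : G)) hyx
        exact Subtype.ext (Subtype.ext (hfree _ hy h6.symm))
    have hαA : ∀ x : ↥M, (x : G) ∉ suppA0 M → α x = 0 := by
      intro x hx
      by_cases hxK : (x : G) ∈ (⁅M, M⁆ : Subgroup G)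
      · by_cases hx1 : x = 1
        · rw [hx1, hαdef, Pi.sub_apply, h1, sub_self]
        have hfree : ∀ y ∈ Cfsg.typeCore M, (x : G) * y = y * x → y = 1 := by
          intro y hy hxy
          by_contra hy1
          refine hx (Or.inl ?_)
          rw [suppA_eq_centSupp hT hM hP]
          exact ⟨hxK, fun h => hx1 (Subtype.ext h), y, hy, hy1, hxy⟩
        rw [hαdef, Pi.sub_apply, hvan ω hn x hxK hfree, hvan ω' hn' x hxK hfree, sub_self]
      · obtain ⟨k, y, hy, hy2, rfl⟩ := hoff x hxK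
        rw [hαcl y k, hαdef, Pi.sub_apply, hval ω y hy hy2, hval ω' y hy hy2, hδeq]
        by_cases hy1 : (y : G) ∈ W₁
        · rw [hrow ⟨y, hy⟩ hy1, sub_self]
        · exact absurd (hat_mem_suppA0 hT hM hP hy hy1 hy2 k.2) hx
    have hgen : Cfsg.IsGeneralizedCharacter ↥M α :=
      isGeneralizedCharacter_sub (isGeneralizedCharacter_irr ⟨_, hμ (tr ω)⟩)
        (isGeneralizedCharacter_irr ⟨_, hμ (tr ω')⟩)
    have hnorm : Cfsg.classInner (tau M α) (tau M α) = 2 := by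
      rw [tau, dade_isometry (dade hT hD hM hP) hαcl hαA hαcl, hαdef, classInner_sub_left,
        classInner_sub_right, classInner_sub_right, classInner_irr_self (hμ (tr ω)),
        classInner_irr_self (hμ (tr ω')),
        classInner_irr_ne (hμ (tr ω)) (hμ (tr ω')) (fun h => hωω (hinj h)),
        classInner_irr_ne (hμ (tr ω')) (hμ (tr ω)) (fun h => hωω (hinj h).symm)]
      norm_num
    obtain ⟨δz, hδz, hδzc⟩ : ∃ δz : ℤ, (δz = 1 ∨ δz = -1) ∧ (δz : ℂ) = δ ω := by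
      rcases hδ' (tr ω) with r | r
      · exact ⟨1, Or.inl rfl, by simp [δ, r]⟩
      · exact ⟨-1, Or.inr rfl, by simp [δ, r]⟩
    rw [← hδzc]
    refine TILocal.eq_pair_of_eqOn hW hodd (coprime_W hP) hη
      (dade_virtual (dade hT hD hM hP) hgen hαA) hnorm hωω hδz fun w h₁ h₂ => ?_
    show tau M α w = _
    rw [tau_hat hT hD hM hP hαcl w h₁ h₂ (hWM w.2), hαdef, Pi.sub_apply,
      hval ω _ w.2 h₂, hval ω' _ w.2 h₂, ← hδeq, hδzc]
    ring

end CfsgLib.PF
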