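import Cfsg.Agent.Lib.PF.Props8
import Cfsg.Agent.Lib.PF.Props10
import Cfsg.Agent.Lib.PF.TIDataExists
import Cfsg.Agent.Lib.Characters.Galois

/-!
# PF (10.3): the constants of a subgroup of Type III–V
-/

set_option autoImplicit false
set_option linter.style.haveILetI false
set_option linter.unusedSectionVars false

namespace CfsgLib.PF

open scoped Classical ComplexConjugate
open Finset CfsgLib.Characters CfsgLib.OddChar

universe u

variable {G : Type u} [Group G] [Fintype G]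

theorem not_kind2_of_345 {M W₁ U W₂ : Subgroup G} (h : Kind34 M W₁ U W₂ ∨ Kind5 M W₁ U W₂) :
    ¬ Kind2 M W₁ U W₂ := by
  intro h2
  rcases h with h | h
  · exact h2.normalizer_not_le h.normalizer_le
  · exact h2.U_ne h.U_eq

theorem data_of_345 {M W₁ U W₂ : Subgroup G} (h : Kind34 M W₁ U W₂ ∨ Kind5 M W₁ U W₂) :
    Cfsg.IsTypePWith M W₁ U W₂ := by
  rcases h with h | h <;> exact h.data

/-- For Types III–V the partner is of Type II, so `|W₂|` is prime. -/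
theorem prime_W₂_of_345 (hK : PropKinds G) (hPa : PropPartner G) {M W₁ U W₂ : Subgroup G}
    (hM : IsCoatom M) (h : Kind34 M W₁ U W₂ ∨ Kind5 M W₁ U W₂) : (Nat.card W₂).Prime := by
  have hP := data_of_345 h
  obtain ⟨T, V, hpair⟩ := hPa M W₁ U W₂ hM hP
  have hT2 : Cfsg.IsOfTypeII T := hpair.some_II.resolve_left fun hII =>
    not_kind2_of_345 h ((hK M W₁ U W₂ hM hP).2.1.mp hII)
  exact ((hK T W₂ V W₁ hpair.right_max hpair.right).2.1.mp hT2).W₁_prime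

/-- Conjugate columns: a field automorphism maps `μ ω` to `μ (σ ω)`. -/
theorem TIData.μ_map {M W₁ W₂ : Subgroup G} {μ : (↥(W₁ ⊔ W₂) →* ℂˣ) → (↥M → ℂ)}
    {δ : (↥(W₁ ⊔ W₂) →* ℂˣ) → ℂ} {η : (↥(W₁ ⊔ W₂) →* ℂˣ) → (G → ℂ)}
    (h : TIData M W₁ W₂ μ δ η) (hW : Cfsg.IsSelfNormalizingCyclic W₁ W₂) (hWM : W₁ ⊔ W₂ ≤ M)
    (hodd : Odd (Nat.card ↥(W₁ ⊔ W₂))) (σ : ℂ ≃+* ℂ) (ω : ↥(W₁ ⊔ W₂) →* ℂˣ) :
    (fun x => σ (μ ω x)) = μ ((Units.map σ.toMonoidHom).comp ω) ∧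
      δ ((Units.map σ.toMonoidHom).comp ω) = δ ω := by
  set ν₀ : ↥(W₁ ⊔ W₂) →* ℂˣ := (Units.map σ.toMonoidHom).comp ω with hν₀
  have hσirr := CfsgLib.CharGalois.isIrrCharacter_map σ (h.μ_irr ω)
  obtain ⟨a, ha, ha1⟩ := (Subgroup.bot_or_exists_ne_one W₁).resolve_left hW.1
  have hσδ : σ (δ ω) = δ ω := by rcases h.δ_sign ω with r | r <;> rw [r] <;> simp
  have hmem : ∀ (x : G), x ∈ W₁ → x ≠ 1 → ∀ b : W₂, x * b ∈ W₁ ⊔ W₂ ∧ x * (b : G) ∉ W₂ := by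
    intro x hx hx1 b
    refine ⟨Subgroup.mul_mem _ (Subgroup.mem_sup_left hx) (Subgroup.mem_sup_right b.2), fun hh => ?_⟩
    have := W₂.mul_mem hh (W₂.inv_mem b.2)
    rw [mul_inv_cancel_right] at this
    exact hx1 (Subgroup.mem_bot.mp (hW.2.2.1.le ⟨hx, this⟩))
  have hσval : ∀ (x : ↥M) (hx : (x : G) ∈ W₁ ⊔ W₂), (x : G) ∉ W₂ →
      σ (μ ω x) = δ ω * (ν₀ ⟨x, hx⟩ : ℂ) := by
    intro x hx hx2
    rw [h.μ_value ω x hx hx2, map_mul, hσδ]
    rfl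
  obtain ⟨ν, hν⟩ : ∃ ν, (fun x => σ (μ ω x)) = μ ν := by
    by_contra hne
    rw [not_exists] at hne
    obtain ⟨h1, h2⟩ := hmem a ha ha1 1
    rw [OneMemClass.coe_one, mul_one] at h1 h2
    have hz : σ (μ ω ⟨a, hWM h1⟩) = 0 :=
      h.vanish _ hσirr hne ⟨a, hWM h1⟩ h1 h2
    rw [hσval ⟨a, hWM h1⟩ h1 h2] at hz
    rcases mul_eq_zero.mp hz with r | r
    · rcases h.δ_sign ω with r' | r' <;> rw [r'] at r <;> norm_num at r
    · exact Units.ne_zero _ r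
  set c := δ ω * δ ν with hc
  have hkey : ∀ (w : ↥(W₁ ⊔ W₂)), (w : G) ∉ W₂ → (ν w : ℂ) = c * (ν₀ w : ℂ) := by
    intro w hw
    have e := congrFun hν ⟨w, hWM w.2⟩
    simp only [hσval ⟨w, hWM w.2⟩ w.2 hw, h.μ_value ν ⟨w, hWM w.2⟩ w.2 hw] at e
    have hsq : δ ν * δ ν = 1 := by rcases h.δ_sign ν with r | r <;> rw [r] <;> norm_num
    rw [hc, mul_comm (δ ω), mul_assoc, e, ← mul_assoc, hsq, one_mul]
  set a' : ↥(W₁ ⊔ W₂) := ⟨a, Subgroup.mem_sup_left ha⟩ with ha'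
  have ha'2 : (a' : G) ∉ W₂ := fun hh => ha1 (Subgroup.mem_bot.mp (hW.2.2.1.le ⟨ha, hh⟩))
  have ha2 : ((a' * a' : ↥(W₁ ⊔ W₂)) : G) ∉ W₂ := by
    intro hh
    have h4 : a ^ 2 = 1 := by
      rw [sq]
      exact Subgroup.mem_bot.mp (hW.2.2.1.le ⟨W₁.mul_mem ha ha, hh⟩)
    have hdvd : orderOf a' ∣ 2 := orderOf_dvd_of_pow_eq_one (Subtype.ext (by simpa using h4))
    have h5 := hodd.of_dvd_nat (orderOf_dvd_natCard a')
    rcases (Nat.dvd_prime Nat.prime_two).mp hdvd with r | r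
    · exact ha1 (congrArg Subtype.val (orderOf_eq_one_iff.mp r))
    · rw [r] at h5; exact absurd h5 (by decide)
  have hc1 : c = 1 := by
    have e1 := hkey a' ha'2
    have e2 := hkey (a' * a') ha2
    simp only [map_mul, Units.val_mul, e1] at e2
    have h0 : (ν₀ a' : ℂ) * (ν₀ a' : ℂ) ≠ 0 := mul_ne_zero (Units.ne_zero _) (Units.ne_zero _)
    have hcc : c * c = c * 1 := by
      refine mul_right_cancel₀ h0 ?_
      linear_combination e2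
    have hc0 : c ≠ 0 := by
      intro h0
      rw [h0, zero_mul] at e1
      exact Units.ne_zero _ e1
    exact mul_left_cancel₀ hc0 hcc
  have hall : ν = ν₀ := by
    refine MonoidHom.ext fun w => ?_
    by_cases hw : (w : G) ∈ W₂
    · have hwa : ((a' * w : ↥(W₁ ⊔ W₂)) : G) ∉ W₂ := (hmem a ha ha1 ⟨w, hw⟩).2
      have e1 := hkey (a' * w) hwa
      have e2 := hkey a' ha'2
      rw [hc1, one_mul] at e1 e2
      simp only [map_mul, Units.val_mul, e2] at e1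
      exact Units.ext (mul_left_cancel₀ (Units.ne_zero _) e1)
    · refine Units.ext ?_
      rw [hkey w hw, hc1, one_mul]
  subst hall
  refine ⟨hν, ?_⟩
  have hsq : δ ω * δ ω = 1 := by rcases h.δ_sign ω with r | r <;> rw [r] <;> norm_num
  calc δ ν₀ = δ ω * δ ω * δ ν₀ := by rw [hsq, one_mul]
    _ = δ ω * (δ ω * δ ν₀) := by ring
    _ = δ ω := by rw [← hc, hc1, mul_one]

/-- Two columns non-trivial on a `W₂` of prime order are conjugate. -/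
theorem exists_conj_col {W₁ W₂ : Subgroup G} (hp : (Nat.card W₂).Prime)
    {ω ω' : ↥(W₁ ⊔ W₂) →* ℂˣ} (hω : ¬ AgreeR W₁ W₂ ω 1) (hω' : ¬ AgreeR W₁ W₂ ω' 1) :
    ∃ σ : ℂ ≃+* ℂ, AgreeR W₁ W₂ ((Units.map σ.toMonoidHom).comp ω) ω' := by
  haveI : Fact (Nat.card W₂).Prime := ⟨hp⟩
  haveI : NeZero (Nat.card W₂) := ⟨hp.ne_zero⟩
  have hw : ∃ w : ↥(W₁ ⊔ W₂), (w : G) ∈ W₂ ∧ ω w ≠ 1 := by
    by_contra h
    push Not at h
    exact hω fun w hw => by rw [h w hw, MonoidHom.one_apply]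
  obtain ⟨b, hb, hbω⟩ := hw
  have hb1 : (⟨b, hb⟩ : W₂) ≠ 1 := fun h => hbω (by
    rw [show b = 1 from Subtype.ext (congrArg Subtype.val h :), map_one])
  have hgen : ∀ w : ↥(W₁ ⊔ W₂), (w : G) ∈ W₂ → ∃ n : ℕ, w = b ^ n := by
    intro w hw
    obtain ⟨n, hn⟩ := (mem_powers_iff_mem_zpowers.mpr
      (mem_zpowers_of_prime_card (p := Nat.card W₂) rfl hb1 (g' := (⟨w, hw⟩ : W₂))))
    exact ⟨n, Subtype.ext (by simpa using congrArg Subtype.val hn.symm)⟩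
  have hbp : b ^ Nat.card W₂ = 1 := by
    refine Subtype.ext ?_
    have h := congrArg Subtype.val (pow_card_eq_one' (x := (⟨b, hb⟩ : W₂)))
    rw [SubgroupClass.coe_pow, OneMemClass.coe_one] at h ⊢
    exact h
  have hroot : ∀ ν : ↥(W₁ ⊔ W₂) →* ℂˣ, (ν b : ℂ) ^ Nat.card W₂ = 1 := fun ν => by
    rw [← Units.val_pow_eq_pow_val, ← map_pow, hbp, map_one, Units.val_one]
  have hprim : IsPrimitiveRoot (ω b : ℂ) (Nat.card W₂) :=
    IsPrimitiveRoot.iff_orderOf.mpr (orderOf_eq_prime (hroot ω) fun h => hbω (Units.val_eq_one.mp h))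
  obtain ⟨k, hk, hk'⟩ := hprim.eq_pow_of_pow_eq_one (hroot ω')
  have hk0 : k ≠ 0 := by
    rintro rfl
    refine hω' fun w hw => ?_
    obtain ⟨n, rfl⟩ := hgen w hw
    rw [pow_zero] at hk'
    rw [map_pow, Units.val_eq_one.mp hk'.symm, one_pow, MonoidHom.one_apply]
  obtain ⟨σ, hσ⟩ := CfsgLib.CharGalois.exists_autComplex (Nat.card W₂)
    ((hp.coprime_iff_not_dvd.mpr fun h => hk0 (Nat.eq_zero_of_dvd_of_lt h hk)).symm)
  refine ⟨σ, fun w hw => ?_⟩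
  obtain ⟨n, rfl⟩ := hgen w hw
  rw [map_pow, map_pow]
  congr 1
  refine Units.ext ?_
  show σ (ω b : ℂ) = _
  rw [hσ _ (hroot ω), hk']

/-- PF (10.3). -/
theorem propConstants (hG : Cfsg.IsMinSimpleOddOrder G) (hK : PropKinds G) (hPa : PropPartner G) :
    PropConstants G := by
  intro M W₁ U W₂ hM hkind μ δ η h
  have hP := data_of_345 hkind
  have hp := prime_W₂_of_345 hK hPa hM hkind
  obtain ⟨hW₁M, hdM, hHd, hW₂H, hWM⟩ := typeP_le hP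
  have hW := hP.selfNormalizing
  have hodd := odd_W hG hP
  haveI := finite_linChar hW
  obtain ⟨a, ha, ha1⟩ := (Subgroup.bot_or_exists_ne_one W₁).resolve_left hW.1
  obtain ⟨-, ψ, -, hψ, -, hψ1, -⟩ : ∃ (_ : True) (ψ : ↥(W₁ ⊔ W₂) →* ℂˣ), True ∧ TrivL ψ ∧ True ∧
      ψ ≠ 1 ∧ True := by
    by_contra hne
    have h1 : ∀ ψ : {ψ : ↥(W₁ ⊔ W₂) →* ℂˣ // TrivL ψ}, ψ.1 = 1 := fun ψ => by
      by_contra hc
      exact hne ⟨trivial, ψ.1, trivial, ψ.2, trivial, hc, trivial⟩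
    haveI : Subsingleton {ψ : ↥(W₁ ⊔ W₂) →* ℂˣ // TrivL ψ} :=
      ⟨fun x y => Subtype.ext ((h1 x).trans (h1 y).symm)⟩
    have := Finite.card_le_one_iff_subsingleton.mpr this
    rw [card_trivL hW] at this
    exact absurd hp.one_lt (by omega)
  have hψR : ¬ AgreeR W₁ W₂ ψ 1 := fun hag =>
    hψ1 (eq_one_of_trivR_trivL hW.2.2.1 hW.2.2.2.1 (fun w hw => hag w hw) hψ)
  obtain ⟨d, hd0, hd⟩ := irr_exists_degree (h.μ_irr ψ)
  obtain ⟨δ₀, hδ₀, hδ₀c⟩ : ∃ δ₀ : ℤ, (δ₀ = 1 ∨ δ₀ = -1) ∧ (δ₀ : ℂ) = δ ψ := by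
    rcases h.δ_sign ψ with r | r
    · exact ⟨1, Or.inl rfl, by simp [r]⟩
    · exact ⟨-1, Or.inr rfl, by simp [r]⟩
  refine ⟨d, δ₀, hδ₀, ?_, ?_, fun ω hω => ?_⟩
  · by_contra hle
    have hd1 : μ ψ 1 = 1 := by rw [hd, show d = 1 by omega, Nat.cast_one]
    obtain ⟨n, ρ, hρ, hχ⟩ := h.μ_irr ψ
    have hn : n = 1 := by
      have := hd1
      rw [← hχ, Representation.char_one, Module.finrank_fin_fun] at this
      exact_mod_cast this
    subst hn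
    have hcomm : ∀ u v : ↥M, ρ u * ρ v = ρ v * ρ u := by
      intro u v
      refine LinearMap.ext fun x => ?_
      have hlin : ∀ (f : (Fin 1 → ℂ) →ₗ[ℂ] (Fin 1 → ℂ)) (x : Fin 1 → ℂ),
          f x = x 0 • f (fun _ => 1) := fun f x => by
        conv_lhs => rw [show x = x 0 • (fun _ => (1 : ℂ)) from funext fun i => by
          rw [Subsingleton.elim i 0]; simp]
        rw [map_smul]
      show ρ u (ρ v x) = ρ v (ρ u x)
      rw [hlin (ρ v) x, hlin (ρ u) x, map_smul, map_smul]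
      congr 1
      rw [hlin (ρ u) (ρ v _), hlin (ρ v) (ρ u _)]
      funext i
      rw [Subsingleton.elim i 0]
      simp only [Pi.smul_apply, smul_eq_mul]
      ring
    have hker : ∀ z : ↥M, (z : G) ∈ ⁅M, M⁆ → ρ z = 1 := by
      intro z hz
      have hz' : z ∈ commutator ↥M := by
        rw [← derived_subgroupOf_eq]; exact hz
      let ρ' : ↥M →* ((Fin 1 → ℂ) →ₗ[ℂ] (Fin 1 → ℂ))ˣ := ρ.toHomUnits
      have hle : commutator ↥M ≤ ρ'.ker := by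
        rw [commutator_eq_closure, Subgroup.closure_le]
        rintro _ ⟨u, v, rfl⟩
        rw [SetLike.mem_coe, MonoidHom.mem_ker, map_commutatorElement,
          commutatorElement_eq_one_iff_mul_comm]
        exact Units.ext (hcomm u v)
      exact congrArg Units.val (MonoidHom.mem_ker.mp (hle hz'))
    refine hψR fun w hw => ?_
    have hwM : (w : G) ∈ M := hWM w.2
    have h2 : μ ψ ⟨w, hwM⟩ = μ ψ 1 := by
      rw [← hχ]
      simp only [Representation.character, hker ⟨w, hwM⟩ (hHd (hW₂H hw)), map_one]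
    have h4 := char_translate (isCharacter_of_irr (h.μ_irr ψ)) h2 ⟨a, hW₁M ha⟩
    have ha0 : a ∈ W₁ ⊔ W₂ := Subgroup.mem_sup_left ha
    have ha20 : a ∉ W₂ := fun hh => ha1 (Subgroup.mem_bot.mp (hW.2.2.1.le ⟨ha, hh⟩))
    have ha' : a * (w : G) ∈ W₁ ⊔ W₂ := Subgroup.mul_mem _ ha0 w.2
    have ha2' : a * (w : G) ∉ W₂ := fun hh => ha20 (by
      have := W₂.mul_mem hh (W₂.inv_mem hw)
      rwa [mul_inv_cancel_right] at this)
    change μ ψ (⟨a, hW₁M ha⟩ * ⟨(w : G), hwM⟩) = μ ψ ⟨a, hW₁M ha⟩ at h4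
    rw [h.μ_value ψ _ ha' ha2', h.μ_value ψ _ ha0 ha20] at h4
    have hδ0 : δ ψ ≠ 0 := by rcases h.δ_sign ψ with r | r <;> simp [r]
    have h5 := mul_left_cancel₀ hδ0 h4
    change (ψ ((⟨a, ha0⟩ : ↥(W₁ ⊔ W₂)) * w) : ℂ) = (ψ ⟨a, ha0⟩ : ℂ) at h5
    rw [map_mul, Units.val_mul, mul_eq_left₀ (Units.ne_zero _), Units.val_eq_one] at h5
    rw [h5, MonoidHom.one_apply]
  · obtain ⟨n, hn⟩ := h.degree ψ
    refine ⟨n, ?_⟩
    have e : (((d : ℤ) - δ₀ : ℤ) : ℂ) = (((Nat.card W₁ : ℤ) * n : ℤ) : ℂ) := by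
      push_cast
      rw [← hd, hδ₀c, hn, mul_comm]
    exact_mod_cast e
  · obtain ⟨σ, hσ⟩ := exists_conj_col hp hψR hω
    obtain ⟨e, eδ⟩ := h.μ_map hW hWM hodd σ ψ
    constructor
    · have hres := congrFun (h.res_eq _ _ hσ) 1
      simp only [resD, OneMemClass.coe_one] at hres
      rw [← hres, ← congrFun e 1]
      show σ (μ ψ 1) = _
      rw [hd, map_natCast]
    · rw [← h.δ_col _ _ hσ, eδ, hδ₀c]

end CfsgLib.PF
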