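import Cfsg.Agent.Lib.PF.TypeOneCoherence
import Cfsg.Agent.Lib.OddChar.CoherenceExtend

/-!
The Dade images of `ψ - ψ̄` for irreducible characters `ψ` supported on `A ∪ {1}`: pairs `{μ, -μ̄}`.
-/

set_option autoImplicit false
set_option linter.style.haveILetI false

namespace CfsgLib.PF

universe u

open CfsgLib.OddChar CfsgLib.Characters
open scoped Classical ComplexConjugate

section Pairs

variable {X : Type u} [Group X] [Fintype X]

theorem conjFun_signed {μ : X → ℂ} (h : IsSigned μ) : IsSigned (Cfsg.conjFun μ) := by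
  rcases h with h | h
  · exact Or.inl (conjFun_irr h)
  · refine Or.inr ?_
    have e : -Cfsg.conjFun μ = Cfsg.conjFun (-μ) := funext fun x => by simp [Cfsg.conjFun]
    rw [e]
    exact conjFun_irr h

/-- a virtual character of norm two negated by conjugation is `μ - μ̄` -/
theorem exists_conj_pair {θ : X → ℂ} (h : Cfsg.IsGeneralizedCharacter X θ)
    (h2 : Cfsg.classInner θ θ = 2) (hc : Cfsg.conjFun θ = -θ) :
    ∃ μ : X → ℂ, IsSigned μ ∧ Cfsg.classInner μ (Cfsg.conjFun μ) = 0 ∧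
      θ = μ - Cfsg.conjFun μ := by
  obtain ⟨s, hs, hsg, -, hsum⟩ := exists_signed_finset h (n := 2) (by omega) (by exact_mod_cast h2)
  obtain ⟨a, b, hab, rfl⟩ := Finset.card_eq_two.mp hs
  rw [Finset.sum_pair hab] at hsum
  have ha := hsg a (by simp)
  have hb := hsg b (by simp)
  have hab0 : Cfsg.classInner a b = 0 := by
    rcases ha.cases hb with e | e | e
    · exact absurd e hab
    · exfalso
      rw [hsum, e, neg_add_cancel] at h2
      simp [Cfsg.classInner] at h2
    · exact e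
  have hne : Cfsg.conjFun a ≠ -a := fun e => ha.apply_one_ne_zero (by
    have h1 := congrFun e 1
    obtain ⟨χ, ε, hε, rfl⟩ := ha.exists_irr
    obtain ⟨m, -, hm⟩ := irr_exists_degree χ.2
    rcases hε with rfl | rfl <;>
      · simp only [Cfsg.conjFun, Pi.smul_apply, Pi.neg_apply, hm, smul_eq_mul, one_mul, neg_mul,
          map_neg, map_natCast, neg_neg] at h1 ⊢
        linear_combination (1 / 2 : ℂ) * h1)
  have e1 : Cfsg.classInner (Cfsg.conjFun a) a + Cfsg.classInner (Cfsg.conjFun b) a = -1 := by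
    have e2 : Cfsg.conjFun a + Cfsg.conjFun b = -(a + b) := by
      rw [← hsum, ← hc, hsum]
      funext x
      simp [Cfsg.conjFun]
    rw [← classInner_add_left, e2, classInner_neg_left, classInner_add_left, ha.norm_one,
      show Cfsg.classInner b a = 0 by rw [classInner_conj_symm, hab0, map_zero], add_zero]
  rcases (conjFun_signed ha).cases ha with e | e | e
  · exfalso
    rw [e, ha.norm_one] at e1
    rcases (conjFun_signed hb).cases ha with e' | e' | e' <;>
      simp [e', classInner_neg_left, ha.norm_one] at e1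
    all_goals norm_num at e1
  · exact absurd e hne
  · rw [e, zero_add] at e1
    rcases (conjFun_signed hb).cases ha with e' | e' | e'
    · rw [e', ha.norm_one] at e1; norm_num at e1
    · refine ⟨a, ha, by rw [classInner_conj_symm, e, map_zero], ?_⟩
      have hb' : b = -Cfsg.conjFun a := by
        have h1 := congrArg Cfsg.conjFun e'
        rw [conjFun_conjFun] at h1
        rw [h1]
        funext x
        simp [Cfsg.conjFun]
      rw [hsum, hb', sub_eq_add_neg]
    · rw [e'] at e1; norm_num at e1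

/-- orthogonal pairs have orthogonal members -/
theorem pair_orth {μ ν : X → ℂ} (hμ : IsSigned μ) (hν : IsSigned ν)
    (hμc : Cfsg.classInner μ (Cfsg.conjFun μ) = 0)
    (h : Cfsg.classInner (μ - Cfsg.conjFun μ) (ν - Cfsg.conjFun ν) = 0) :
    Cfsg.classInner μ ν = 0 ∧ Cfsg.classInner μ (Cfsg.conjFun ν) = 0 := by
  have hself : Cfsg.classInner (μ - Cfsg.conjFun μ) (μ - Cfsg.conjFun μ) = 2 := by
    rw [classInner_sub_left, classInner_sub_right, classInner_sub_right, hμ.norm_one,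
      (conjFun_signed hμ).norm_one, hμc,
      show Cfsg.classInner (Cfsg.conjFun μ) μ = 0 by rw [classInner_conj_symm, hμc, map_zero]]
    norm_num
  constructor
  · rcases hν.cases hμ with e | e | e
    · subst e; rw [hself] at h; norm_num at h
    · have e2 : ν - Cfsg.conjFun ν = -(μ - Cfsg.conjFun μ) := by
        subst e
        funext x
        simp [Cfsg.conjFun]
        ring
      rw [e2, classInner_neg_right, hself] at h; norm_num at h
    · rw [classInner_conj_symm, e, map_zero]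
  · rcases hν.cases (conjFun_signed hμ) with e | e | e
    · have e2 : ν - Cfsg.conjFun ν = -(μ - Cfsg.conjFun μ) := by
        subst e; rw [conjFun_conjFun, neg_sub]
      rw [e2, classInner_neg_right, hself] at h; norm_num at h
    · have e2 : ν - Cfsg.conjFun ν = μ - Cfsg.conjFun μ := by
        subst e
        funext x
        simp [Cfsg.conjFun]
        ring
      rw [e2, hself] at h; norm_num at h
    · have := classInner_conjFun ν (Cfsg.conjFun μ)
      rw [conjFun_conjFun, e, map_zero] at this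
      rw [classInner_conj_symm, this, map_zero]

end Pairs

/-- The sets `R(ψ) = {μ, -μ̄}`, with `τ(ψ - ψ̄) = μ - μ̄`. -/
theorem exists_pairs {G : Type u} [Group G] [Fintype G] {L : Subgroup G} [Fintype L] {A : Set G}
    {R : G → Subgroup G} (hD : Cfsg.DadeHypothesis A L R) (Good : (L → ℂ) → Prop)
    (hgood : ∀ ψ, Good ψ → Cfsg.IsIrrCharacter L ψ ∧ Cfsg.conjFun ψ ≠ ψ ∧
      ∀ g : L, (g : G) ∉ A → g ≠ 1 → ψ g = 0) :
    ∃ (μ : (L → ℂ) → (G → ℂ)) (P : (L → ℂ) → Finset (G → ℂ)),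
      (∀ ψ, Good ψ → ∀ α ∈ P ψ, IsSigned α) ∧
      (∀ ψ, Good ψ → ∀ α ∈ P ψ, ∀ β ∈ P ψ, Cfsg.classInner α β = if α = β then 1 else 0) ∧
      (∀ ψ, Good ψ → ∑ α ∈ P ψ, α = Cfsg.dadeIsometry A L R (ψ - Cfsg.conjFun ψ)) ∧
      (∀ ψ φ, Good ψ → Good φ → ψ ≠ φ → ψ ≠ Cfsg.conjFun φ →
        ∀ α ∈ P ψ, ∀ β ∈ P φ, Cfsg.classInner α β = 0) ∧
      ∀ ψ, Good ψ → IsSigned (μ ψ) ∧ Cfsg.classInner (μ ψ) (Cfsg.conjFun (μ ψ)) = 0 ∧
        Cfsg.dadeIsometry A L R (ψ - Cfsg.conjFun ψ) = μ ψ - Cfsg.conjFun (μ ψ) ∧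
        P ψ = {μ ψ, -Cfsg.conjFun (μ ψ)} := by
  set τ := Cfsg.dadeIsometry A L R with hτ
  set d : (L → ℂ) → (L → ℂ) := fun ψ => ψ - Cfsg.conjFun ψ with hd
  have hdA : ∀ ψ, Good ψ → ∀ g : L, (g : G) ∉ A → d ψ g = 0 := by
    intro ψ hψ g hg
    by_cases hg1 : g = 1
    · subst hg1
      simp [hd, conjFun_one (isCharacter_of_irr (hgood ψ hψ).1)]
    · simp [hd, Cfsg.conjFun, (hgood ψ hψ).2.2 g hg hg1]
  have hdg : ∀ ψ, Good ψ → Cfsg.IsGeneralizedCharacter L (d ψ) := fun ψ hψ => by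
    rw [show d ψ = ψ + -Cfsg.conjFun ψ from sub_eq_add_neg _ _]
    exact isGeneralizedCharacter_add (isGeneralizedCharacter_irr ⟨ψ, (hgood ψ hψ).1⟩)
      (isGeneralizedCharacter_neg (isGeneralizedCharacter_irr ⟨_, conjFun_irr (hgood ψ hψ).1⟩))
  have hdinner : ∀ ψ φ, Good ψ → Good φ →
      Cfsg.classInner (τ (d ψ)) (τ (d φ)) = Cfsg.classInner (d ψ) (d φ) := fun ψ φ hψ hφ =>
    dade_isometry hD (isClassFunction_of_isGeneralizedCharacter (hdg ψ hψ)) (hdA ψ hψ)
      (isClassFunction_of_isGeneralizedCharacter (hdg φ hφ))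
  have hconj : ∀ α : L → ℂ, Cfsg.conjFun (τ α) = τ (Cfsg.conjFun α) := by
    intro α
    funext g
    simp only [hτ, Cfsg.conjFun, Cfsg.dadeIsometry]
    split_ifs <;> simp
  have hsub : ∀ α β : L → ℂ, τ (α - β) = τ α - τ β := by
    intro α β
    rw [hτ, eq_sub_iff_add_eq, ← dadeIsometry_add, sub_add_cancel]
  have hμex : ∀ ψ, ∃ μ : G → ℂ, Good ψ → IsSigned μ ∧
      Cfsg.classInner μ (Cfsg.conjFun μ) = 0 ∧ τ (d ψ) = μ - Cfsg.conjFun μ := by
    intro ψ
    by_cases hψ : Good ψ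
    · obtain ⟨μ, hμ⟩ := exists_conj_pair (θ := τ (d ψ)) (dade_virtual hD (hdg ψ hψ) (hdA ψ hψ))
        (by
          rw [hdinner ψ ψ hψ hψ, hd]
          simp only [classInner_sub_left, classInner_sub_right, classInner_irr_self (hgood ψ hψ).1,
            classInner_irr_self (conjFun_irr (hgood ψ hψ).1),
            classInner_irr_ne (hgood ψ hψ).1 (conjFun_irr (hgood ψ hψ).1) (Ne.symm (hgood ψ hψ).2.1),
            classInner_irr_ne (conjFun_irr (hgood ψ hψ).1) (hgood ψ hψ).1 (hgood ψ hψ).2.1]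
          norm_num)
        (by
          rw [hd]
          dsimp only
          rw [hsub, ← hconj]
          funext g
          simp [Cfsg.conjFun])
      exact ⟨μ, fun _ => hμ⟩
    · exact ⟨0, fun h => absurd h hψ⟩
  choose μ hμ using hμex
  set P : (L → ℂ) → Finset (G → ℂ) := fun ψ => {μ ψ, -Cfsg.conjFun (μ ψ)} with hP
  have hPsigned : ∀ ψ, Good ψ → ∀ α ∈ P ψ, IsSigned α := by
    intro ψ hψ α hα
    simp only [hP, Finset.mem_insert, Finset.mem_singleton] at hα
    rcases hα with rfl | rfl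
    · exact (hμ ψ hψ).1
    · exact (conjFun_signed (hμ ψ hψ).1).neg
  have hPsum : ∀ ψ, Good ψ → ∑ α ∈ P ψ, α = τ (d ψ) := by
    intro ψ hψ
    obtain ⟨h1, h0, h2⟩ := hμ ψ hψ
    rw [hP, h2, Finset.sum_pair, sub_eq_add_neg]
    intro e
    have := h1.norm_one
    nth_rw 2 [e] at this
    rw [classInner_neg_right, h0, neg_zero] at this
    exact zero_ne_one this
  have hPin : ∀ ψ, Good ψ → ∀ α ∈ P ψ, ∀ β ∈ P ψ,
      Cfsg.classInner α β = if α = β then 1 else 0 := by
    intro ψ hψ α hα β hβ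
    by_cases e : α = β
    · rw [if_pos e, e, (hPsigned ψ hψ β hβ).norm_one]
    · rw [if_neg e]
      obtain ⟨h1, h0, -⟩ := hμ ψ hψ
      simp only [hP, Finset.mem_insert, Finset.mem_singleton] at hα hβ
      rcases hα with rfl | rfl <;> rcases hβ with rfl | rfl
      · exact absurd rfl e
      · rw [classInner_neg_right, h0, neg_zero]
      · rw [classInner_neg_left, classInner_conj_symm, h0, map_zero, neg_zero]
      · exact absurd rfl e
  have hPorth : ∀ ψ φ, Good ψ → Good φ → ψ ≠ φ → ψ ≠ Cfsg.conjFun φ →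
      ∀ α ∈ P ψ, ∀ β ∈ P φ, Cfsg.classInner α β = 0 := by
    intro ψ φ hψ hφ hne hne' α hα β hβ
    obtain ⟨h1, h0, h2⟩ := hμ ψ hψ
    obtain ⟨g1, -, g2⟩ := hμ φ hφ
    have hne2 : Cfsg.conjFun ψ ≠ φ := fun e => hne' (by rw [← e, conjFun_conjFun])
    have hne3 : Cfsg.conjFun ψ ≠ Cfsg.conjFun φ := fun e => hne (by
      rw [← conjFun_conjFun ψ, e, conjFun_conjFun])
    have hz : Cfsg.classInner (μ ψ - Cfsg.conjFun (μ ψ)) (μ φ - Cfsg.conjFun (μ φ)) = 0 := by
      rw [← h2, ← g2, hdinner ψ φ hψ hφ, hd]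
      simp only [classInner_sub_left, classInner_sub_right, classInner_irr_ne (hgood ψ hψ).1 (hgood φ hφ).1 hne,
        classInner_irr_ne (hgood ψ hψ).1 (conjFun_irr (hgood φ hφ).1) hne',
        classInner_irr_ne (conjFun_irr (hgood ψ hψ).1) (hgood φ hφ).1 hne2,
        classInner_irr_ne (conjFun_irr (hgood ψ hψ).1) (conjFun_irr (hgood φ hφ).1) hne3, sub_zero]
    obtain ⟨o1, o2⟩ := pair_orth h1 g1 h0 hz
    have o3 : Cfsg.classInner (Cfsg.conjFun (μ ψ)) (μ φ) = 0 := by
      have := classInner_conjFun (μ ψ) (Cfsg.conjFun (μ φ))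
      rwa [conjFun_conjFun, o2, map_zero] at this
    have o4 : Cfsg.classInner (Cfsg.conjFun (μ ψ)) (Cfsg.conjFun (μ φ)) = 0 := by
      rw [classInner_conjFun, o1, map_zero]
    simp only [hP, Finset.mem_insert, Finset.mem_singleton] at hα hβ
    rcases hα with rfl | rfl <;> rcases hβ with rfl | rfl <;>
      simp [classInner_neg_left, classInner_neg_right, o1, o2, o3, o4]
  exact ⟨μ, P, hPsigned, hPin, hPsum, hPorth,
    fun ψ hψ => ⟨(hμ ψ hψ).1, (hμ ψ hψ).2.1, (hμ ψ hψ).2.2, rfl⟩⟩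

end CfsgLib.PF
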