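import Mathlib
import Cfsg.Agent.Lib.PF.Defs
import Cfsg.Agent.Lib.OddOrder.TypeP
import Cfsg.Agent.Lib.Coprime.Action
import Cfsg.Agent.Lib.Coprime.Commutator

/-!
# Peterfalvi §9: the group-theoretic setting of a subgroup of Type II–IV
-/

set_option autoImplicit false

namespace CfsgLib.PF

open Subgroup CfsgLib.OddOrder

universe u

variable {G : Type u} [Group G] {M W₁ U W₂ : Subgroup G}

/-- The common part of `Kind2` and `Kind34`. -/
theorem Kind2.or_basic (h : Kind2 M W₁ U W₂ ∨ Kind34 M W₁ U W₂) :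
    Cfsg.IsTypePWith M W₁ U W₂ ∧ U ≠ ⊥ ∧ (Nat.card W₁).Prime :=
  h.elim (fun h => ⟨h.data, h.U_ne, h.W₁_prime⟩) fun h => ⟨h.data, h.U_ne, h.W₁_prime⟩

/-- A subgroup of the nilpotent group `H` that covers `H / H'` is everything. -/
theorem eq_top_of_sup_commutator {H : Type*} [Group H] [Finite H] [Group.IsNilpotent H]
    {K : Subgroup H} (h : K ⊔ commutator H = ⊤) : K = ⊤ := by
  by_contra hK
  obtain ⟨N, hN, hKN⟩ := (eq_top_or_exists_le_coatom K).resolve_left hK
  haveI : N.Normal := NormalizerCondition.normal_of_coatom N Group.normalizerCondition_of_isNilpotent hN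
  haveI : Nontrivial (H ⧸ N) := QuotientGroup.nontrivial_iff.mpr hN.1
  haveI : Group.IsSolvable (H ⧸ N) :=
    solvable_of_surjective (f := QuotientGroup.mk' N) (QuotientGroup.mk'_surjective N)
  refine (Group.IsSolvable.commutator_lt_top_of_nontrivial (H ⧸ N)).ne ?_
  have h1 : (K ⊔ commutator H).map (QuotientGroup.mk' N) = commutator (H ⧸ N) := by
    rw [Subgroup.map_sup, (Subgroup.map_eq_bot_iff K).mpr (by rwa [QuotientGroup.ker_mk']), bot_sup_eq,
      commutator_def, Subgroup.map_commutator,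
      Subgroup.map_top_of_surjective _ (QuotientGroup.mk'_surjective N), ← commutator_def]
  rw [← h1, h, Subgroup.map_top_of_surjective _ (QuotientGroup.mk'_surjective N)]

/-- The subgroup form of the same. -/
theorem eq_of_sup_derived [Finite G] {H K : Subgroup G} (hnil : Group.IsNilpotent H) (hK : K ≤ H)
    (h : K ⊔ ⁅H, H⁆ = H) : K = H := by
  haveI := hnil
  have h1 : K.subgroupOf H ⊔ commutator H = ⊤ := by
    refine Subgroup.map_injective H.subtype_injective ?_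
    rw [Subgroup.map_sup, Subgroup.map_subgroupOf_eq_of_le hK, Subgroup.map_subtype_commutator, h,
      ← MonoidHom.range_eq_map, Subgroup.range_subtype]
  exact le_antisymm hK (Subgroup.subgroupOf_eq_top.mp (eq_top_of_sup_commutator h1))

variable (hd : Cfsg.IsTypePWith M W₁ U W₂)

include hd

theorem TypeP.core_le_derived : Cfsg.fittingHallOf M ≤ ⁅M, M⁆ := hd.U_compl.1

theorem TypeP.U_le : U ≤ M := hd.U_compl.2.1.trans (Subgroup.commutator_le_self M)

theorem TypeP.W₁_le : W₁ ≤ M := hd.W₁_compl.2.1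

theorem TypeP.U_normalizes_core : U ≤ Subgroup.normalizer (Cfsg.fittingHallOf M : Set G) :=
  (TypeP.U_le hd).trans (fittingHallOf_normal M)

theorem TypeP.W₁_normalizes_core : W₁ ≤ Subgroup.normalizer (Cfsg.fittingHallOf M : Set G) :=
  (TypeP.W₁_le hd).trans (fittingHallOf_normal M)

theorem TypeP.U_inf_core : U ⊓ Cfsg.fittingHallOf M = ⊥ := by
  rw [inf_comm]
  exact hd.U_compl.2.2.1

/-- `M` is generated by `M_F`, `U` and `W₁`. -/
theorem TypeP.exists_mul {m : G} (hm : m ∈ M) :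
    ∃ h ∈ Cfsg.fittingHallOf M, ∃ u ∈ U, ∃ w ∈ W₁, m = h * u * w := by
  obtain ⟨d, hdd, w, hw, rfl⟩ := hd.W₁_compl.2.2.2 m hm
  obtain ⟨h, hh, u, hu, rfl⟩ := hd.U_compl.2.2.2 d hdd
  exact ⟨h, hh, u, hu, w, hw, rfl⟩

theorem TypeP.le_normalizer_of {X : Subgroup G}
    (hH : Cfsg.fittingHallOf M ≤ Subgroup.normalizer (X : Set G))
    (hU : U ≤ Subgroup.normalizer (X : Set G)) (hW : W₁ ≤ Subgroup.normalizer (X : Set G)) :
    M ≤ Subgroup.normalizer (X : Set G) := by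
  intro m hm
  obtain ⟨h, hh, u, hu, w, hw, rfl⟩ := TypeP.exists_mul hd hm
  exact mul_mem (mul_mem (hH hh) (hU hu)) (hW hw)

theorem TypeP.mem_W₂ {w d : G} (hw : w ∈ W₁) (hw1 : w ≠ 1) (hdD : d ∈ ⁅M, M⁆) (hc : w * d = d * w) :
    d ∈ W₂ := by
  rw [← hd.W₂_centralizer w hw hw1]
  exact ⟨hdD, Subgroup.mem_centralizer_singleton_iff.mpr hc.symm⟩

/-- `W₁` acts on `U` without fixed points. -/
theorem TypeP.W₁_fpf : ∀ w ∈ W₁, w ≠ 1 → ∀ u ∈ U, w * u = u * w → u = 1 := by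
  intro w hw hw1 u hu hc
  have h2 : u ∈ Cfsg.fittingHallOf M ⊓ U :=
    ⟨(le_inf_iff.mp hd.W₂_le).1 (TypeP.mem_W₂ hd hw hw1 (hd.U_compl.2.1 hu) hc), hu⟩
  rw [hd.U_compl.2.2.1, Subgroup.mem_bot] at h2
  exact h2

theorem TypeP.W₂_le_centralizer : W₂ ≤ Subgroup.centralizer (W₁ : Set G) := by
  intro x hx
  rw [Subgroup.mem_centralizer_iff]
  intro w hw
  by_cases hw1 : w = 1
  · rw [hw1, one_mul, mul_one]
  rw [← hd.W₂_centralizer w hw hw1] at hx
  exact (Subgroup.mem_centralizer_singleton_iff.mp hx.2).symm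

theorem TypeP.W₂_le_core : W₂ ≤ Cfsg.fittingHallOf M := hd.W₂_le.trans inf_le_left

/-- `C_{M_F}(W₁) = W₂`. -/
theorem TypeP.core_inf_centralizer :
    Cfsg.fittingHallOf M ⊓ Subgroup.centralizer (W₁ : Set G) = W₂ := by
  refine le_antisymm (fun x hx => ?_) (le_inf (TypeP.W₂_le_core hd) (TypeP.W₂_le_centralizer hd))
  obtain ⟨w, hw, hw1⟩ := (Subgroup.bot_or_exists_ne_one W₁).resolve_left hd.W₁_ne
  exact TypeP.mem_W₂ hd hw hw1 (TypeP.core_le_derived hd hx.1)
    (Subgroup.mem_centralizer_iff.mp hx.2 w hw)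

theorem TypeP.card_derived [Finite G] :
    Nat.card ↥⁅M, M⁆ = Nat.card (Cfsg.fittingHallOf M) * Nat.card U := by
  rw [← card_mul_relIndex_of_le hd.U_compl.1, IsComplIn.relIndex_left hd.U_compl]

theorem TypeP.coprime_derived_W₁ [Finite G] :
    (Nat.card ↥⁅M, M⁆).Coprime (Nat.card W₁) := by
  refine Nat.Coprime.symm ?_
  have hD : (⁅M, M⁆ : Subgroup G).relIndex M = Nat.card W₁ := IsComplIn.relIndex_left hd.W₁_compl
  have h3 := card_mul_relIndex_of_le hd.W₁_compl.2.1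
  have h4 := card_mul_relIndex_of_le hd.W₁_compl.1
  rw [hD] at h4
  rw [← h3, mul_comm] at h4
  rw [Nat.eq_of_mul_eq_mul_left Nat.card_pos h4]
  exact hd.W₁_hall

theorem TypeP.coprime_U_W₁ [Finite G] : (Nat.card U).Coprime (Nat.card W₁) :=
  (TypeP.coprime_derived_W₁ hd).coprime_dvd_left (Subgroup.card_dvd_of_le hd.U_compl.2.1)

theorem TypeP.coprime_core_W₁ [Finite G] :
    (Nat.card (Cfsg.fittingHallOf M)).Coprime (Nat.card W₁) :=
  (TypeP.coprime_derived_W₁ hd).coprime_dvd_left (Subgroup.card_dvd_of_le hd.U_compl.1)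

theorem TypeP.coprime_core_sup [Finite G] :
    (Nat.card (Cfsg.fittingHallOf M)).Coprime (Nat.card ↥(U ⊔ W₁)) := by
  rw [sup_comm]
  refine Nat.Coprime.coprime_dvd_right ?_
    ((TypeP.coprime_core_W₁ hd).mul_right (typeP_coprime_card hd))
  exact CfsgLib.Coprime.card_sup_dvd hd.U_normal

theorem TypeP.sup_normalizes_core : U ⊔ W₁ ≤ Subgroup.normalizer (Cfsg.fittingHallOf M : Set G) :=
  sup_le (TypeP.U_normalizes_core hd) (TypeP.W₁_normalizes_core hd)

end CfsgLib.PF
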