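import Mathlib
import Cfsg.Agent.Lib.PF.Sec9Setup
import Cfsg.Agent.Lib.PF.Props9
import Cfsg.Agent.Lib.OddOrder41.FixedFormula
import Cfsg.Agent.Lib.OddOrder42.Group16

/-!
# Peterfalvi (9.2)–(9.4): the chief factor `M_F / H₀`
-/

set_option autoImplicit false

namespace CfsgLib.PF

open Subgroup CfsgLib.OddOrder
open scoped commutatorElement

universe u

variable {G : Type u} [Group G] [Finite G] {M W₁ U W₂ : Subgroup G}

/-- The largest-below-`M_F` step: a maximal `M`-invariant proper subgroup containing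
`C_{M_F}(U) M_F'`. -/
theorem exists_chief (hd : Cfsg.IsTypePWith M W₁ U W₂) (hU : U ≠ ⊥) :
    ∃ H₀ : Subgroup G, H₀ < Cfsg.fittingHallOf M ∧ M ≤ Subgroup.normalizer (H₀ : Set G) ∧
      Cfsg.fittingHallOf M ⊓ Subgroup.centralizer (U : Set G) ≤ H₀ ∧
      ⁅Cfsg.fittingHallOf M, Cfsg.fittingHallOf M⁆ ≤ H₀ ∧
      ∀ X : Subgroup G, H₀ ≤ X → X ≤ Cfsg.fittingHallOf M →
        M ≤ Subgroup.normalizer (X : Set G) → X = H₀ ∨ X = Cfsg.fittingHallOf M := by
  classical
  set H := Cfsg.fittingHallOf M with hH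
  set S := (H ⊓ Subgroup.centralizer (U : Set G)) ⊔ ⁅H, H⁆ with hS
  have hHH : ⁅H, H⁆ ≤ H := Subgroup.commutator_le_self H
  have hSH : S ≤ H := sup_le inf_le_left hHH
  have hSn : M ≤ Subgroup.normalizer (S : Set G) := by
    refine TypeP.le_normalizer_of hd ?_ ?_ ?_
    · exact Subgroup.le_normalizer_iff.2 fun h hh x hx => by
        have e : h * x * h⁻¹ = ⁅h, x⁆ * x := by simp only [commutatorElement_def]; group
        rw [e]
        exact S.mul_mem (Subgroup.mem_sup_right (Subgroup.commutator_mem_commutator hh (hSH hx))) hx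
    all_goals
      refine Subgroup.le_normalizer_iff.2 fun g hg => ?_
      have hgH : g ∈ Subgroup.normalizer (H : Set G) := by
        first
        | exact TypeP.U_normalizes_core hd hg
        | exact TypeP.W₁_normalizes_core hd hg
      have hgU : g ∈ Subgroup.normalizer (U : Set G) := by
        first
        | exact Subgroup.le_normalizer hg
        | exact hd.U_normal hg
      suffices hm : S ≤ S.comap (MulAut.conj g).toMonoidHom from fun x hx => hm hx
      refine sup_le (fun x hx => Subgroup.mem_sup_left ⟨(Subgroup.mem_normalizer_iff.mp hgH x).mp hx.1, ?_⟩) ?_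
      · show g * x * g⁻¹ ∈ Subgroup.centralizer (U : Set G)
        rw [Subgroup.mem_centralizer_iff]
        intro v hv
        have h1 := Subgroup.mem_centralizer_iff.mp hx.2 (g⁻¹ * v * g)
          ((Subgroup.mem_normalizer_iff.mp hgU (g⁻¹ * v * g)).mpr (by simpa [mul_assoc] using hv))
        calc v * (g * x * g⁻¹) = g * (g⁻¹ * v * g * x) * g⁻¹ := by group
          _ = g * (x * (g⁻¹ * v * g)) * g⁻¹ := by rw [h1]
          _ = g * x * g⁻¹ * v := by group
      · refine Subgroup.map_le_iff_le_comap.mp ?_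
        rw [Subgroup.map_commutator]
        refine le_sup_of_le_right (Subgroup.commutator_mono ?_ ?_) <;>
          exact Subgroup.map_le_iff_le_comap.mpr fun x hx => (Subgroup.mem_normalizer_iff.mp hgH x).mp hx
  have hSlt : S < H := by
    refine lt_of_le_of_ne hSH fun h => ?_
    have h1 := eq_of_sup_derived (fittingHallOf_isNilpotent M) (inf_le_left) h
    exact typeP_not_le_centralizer hd hU (Subgroup.le_centralizer_iff.mp (inf_eq_left.mp h1))
  obtain ⟨H₀, hle, ⟨hlt, hn, hS0⟩, hmax⟩ := Set.Finite.exists_le_maximal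
    (s := {X : Subgroup G | X < H ∧ M ≤ Subgroup.normalizer (X : Set G) ∧ S ≤ X}) (Set.toFinite _)
    (a := S) ⟨hSlt, hSn, le_rfl⟩
  refine ⟨H₀, hlt, hn, le_sup_left.trans hS0, le_sup_right.trans hS0, fun X h0X hXH hXn => ?_⟩
  rcases eq_or_ne X H with h | h
  · exact Or.inr h
  · exact Or.inl (le_antisymm (hmax ⟨lt_of_le_of_ne hXH h, hXn, hS0.trans h0X⟩ h0X) h0X)

/-- Powers into an `M`-invariant subgroup with abelian quotient. -/
theorem exists_prime_pow_mem {H H₀ : Subgroup G} (hlt : H₀ < H) (hcm : ⁅H, H⁆ ≤ H₀)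
    (hn : M ≤ Subgroup.normalizer (H₀ : Set G)) (hH : M ≤ Subgroup.normalizer (H : Set G))
    (hchief : ∀ X : Subgroup G, H₀ ≤ X → X ≤ H → M ≤ Subgroup.normalizer (X : Set G) → X = H₀ ∨ X = H) :
    ∃ p : ℕ, p.Prime ∧ ∀ h ∈ H, h ^ p ∈ H₀ := by
  classical
  haveI : (H₀.subgroupOf H).Normal :=
    Subgroup.normal_subgroupOf_of_le_normalizer (Subgroup.le_normalizer_iff.2 fun h hh x hx => by
      have e : h * x * h⁻¹ = ⁅h, x⁆ * x := by simp only [commutatorElement_def]; group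
      rw [e]
      exact H₀.mul_mem (hcm (Subgroup.commutator_mem_commutator hh (hlt.le hx))) hx)
  have hc : ∀ a b : H ⧸ H₀.subgroupOf H, Commute a b := by
    intro a b
    obtain ⟨a, rfl⟩ := QuotientGroup.mk'_surjective _ a
    obtain ⟨b, rfl⟩ := QuotientGroup.mk'_surjective _ b
    rw [← commutatorElement_eq_one_iff_commute, ← map_commutatorElement,
      QuotientGroup.mk'_apply, QuotientGroup.eq_one_iff, Subgroup.mem_subgroupOf]
    exact hcm (Subgroup.commutator_mem_commutator a.2 b.2)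
  have hne : Nat.card (H ⧸ H₀.subgroupOf H) ≠ 1 := fun h =>
    hlt.not_ge (Subgroup.relIndex_eq_one.mp (by rwa [Subgroup.relIndex, Subgroup.index_eq_card]))
  obtain ⟨p, hp, hpd⟩ := Nat.exists_prime_and_dvd hne
  haveI := Fact.mk hp
  obtain ⟨x, hx⟩ := exists_prime_orderOf_dvd_card' p hpd
  obtain ⟨x, rfl⟩ := QuotientGroup.mk'_surjective _ x
  let X : Subgroup G :=
    { carrier := {h | h ∈ H ∧ h ^ p ∈ H₀}
      one_mem' := ⟨H.one_mem, by rw [one_pow]; exact H₀.one_mem⟩
      inv_mem' := fun {a} ha => ⟨H.inv_mem ha.1, by rw [inv_pow]; exact H₀.inv_mem ha.2⟩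
      mul_mem' := fun {a b} ha hb => ⟨H.mul_mem ha.1 hb.1, by
        have h := (hc (QuotientGroup.mk' _ ⟨a, ha.1⟩) (QuotientGroup.mk' _ ⟨b, hb.1⟩)).mul_pow p
        rw [← map_mul, ← map_pow, ← map_pow, ← map_pow, ← map_mul] at h
        have h2 := QuotientGroup.eq.mp h
        rw [Subgroup.mem_subgroupOf] at h2
        simp only [Subgroup.coe_mul, Subgroup.coe_inv, SubmonoidClass.coe_pow] at h2
        have h3 : a ^ p * b ^ p ∈ H₀ := H₀.mul_mem ha.2 hb.2
        have h4 := H₀.mul_mem h3 (H₀.inv_mem h2)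
        simpa [mul_assoc] using h4⟩ }
  have hX : X = H₀ ∨ X = H := by
    refine hchief X (fun h hh => ⟨hlt.le hh, H₀.pow_mem hh p⟩) (fun h hh => hh.1) ?_
    refine Subgroup.le_normalizer_iff.2 fun m hm h hh => ⟨(Subgroup.mem_normalizer_iff.mp (hH hm) h).mp hh.1, ?_⟩
    rw [conj_pow]
    exact (Subgroup.mem_normalizer_iff.mp (hn hm) _).mp hh.2
  refine ⟨p, hp, fun h hh => ?_⟩
  rcases hX with hX | hX
  · have h1 : (x : G) ∈ X := ⟨x.2, by
      have := pow_orderOf_eq_one (QuotientGroup.mk' (H₀.subgroupOf H) x)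
      rw [hx, ← map_pow, QuotientGroup.mk'_apply, QuotientGroup.eq_one_iff, Subgroup.mem_subgroupOf] at this
      simpa using this⟩
    rw [hX] at h1
    rw [show QuotientGroup.mk' (H₀.subgroupOf H) x = 1 from
      (QuotientGroup.eq_one_iff x).mpr h1, orderOf_one] at hx
    exact absurd hx.symm hp.ne_one
  · exact ((hX.symm ▸ hh : h ∈ X)).2

/-- A cyclic group whose `p`-th powers lie in `K` has `K` of index dividing `p`. -/
theorem relIndex_dvd_of_pow_mem {K W : Subgroup G} [IsCyclic W] {p : ℕ}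
    (hp : ∀ x ∈ W, x ^ p ∈ K) : K.relIndex W ∣ p := by
  obtain ⟨g, hg⟩ := IsCyclic.exists_generator (α := W)
  haveI : IsMulCommutative W := IsCyclic.isMulCommutative
  rw [Subgroup.relIndex, Subgroup.index_eq_card]
  have hgen : ∀ y : W ⧸ K.subgroupOf W, y ∈ Subgroup.zpowers (QuotientGroup.mk' _ g) := by
    intro y
    obtain ⟨x, rfl⟩ := QuotientGroup.mk'_surjective _ y
    obtain ⟨k, rfl⟩ := hg x
    exact ⟨k, (map_zpow _ g k).symm⟩
  rw [← orderOf_eq_card_of_forall_mem_zpowers hgen]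
  refine orderOf_dvd_of_pow_eq_one ?_
  rw [← map_pow, QuotientGroup.mk'_apply, QuotientGroup.eq_one_iff, Subgroup.mem_subgroupOf]
  exact hp g g.2

/-- The fixed point formula divided between two invariant subgroups. -/
theorem relIndex_eq_pow {H H₀ V E : Subgroup G} (hle : H₀ ≤ H) (hE1 : E ≠ ⊥)
    (hEV : E ≤ Subgroup.normalizer (V : Set G)) (hcopVE : (Nat.card V).Coprime (Nat.card E))
    (hfpf : ∀ e ∈ E, e ≠ 1 → ∀ v ∈ V, e * v = v * e → v = 1) [Group.IsSolvable H]
    (hn : V ⊔ E ≤ Subgroup.normalizer (H : Set G)) (hn₀ : V ⊔ E ≤ Subgroup.normalizer (H₀ : Set G))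
    (hcop : (Nat.card H).Coprime (Nat.card ↥(V ⊔ E)))
    (hV : H ⊓ Subgroup.centralizer (V : Set G) ≤ H₀) :
    H₀.relIndex H = (H₀.relIndex (H ⊓ Subgroup.centralizer (E : Set G))) ^ Nat.card E := by
  have hsolv₀ : Group.IsSolvable H₀ :=
    solvable_of_solvable_injective (Subgroup.inclusion_injective hle)
  have e1 := OddOrder41.FixedFormula.fixed_formula V E hE1 hEV hcopVE hfpf H hn inferInstance hcop
  have e0 := OddOrder41.FixedFormula.fixed_formula V E hE1 hEV hcopVE hfpf H₀ hn₀ hsolv₀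
    (hcop.coprime_dvd_left (Subgroup.card_dvd_of_le hle))
  have hcV : H ⊓ Subgroup.centralizer (V : Set G) = H₀ ⊓ Subgroup.centralizer (V : Set G) :=
    le_antisymm (le_inf hV inf_le_right) (inf_le_inf_right _ hle)
  have hcVE : H ⊓ Subgroup.centralizer ((V ⊔ E : Subgroup G) : Set G) =
      H₀ ⊓ Subgroup.centralizer ((V ⊔ E : Subgroup G) : Set G) :=
    le_antisymm (le_inf ((inf_le_inf le_rfl (Subgroup.centralizer_le
      (SetLike.coe_subset_coe.mpr le_sup_left))).trans hV) inf_le_right) (inf_le_inf_right _ hle)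
  rw [hcV, hcVE, ← card_mul_relIndex_of_le hle, ← card_mul_relIndex_of_le
    (inf_le_inf_right (Subgroup.centralizer (E : Set G)) hle : _ ≤ H ⊓ _), mul_pow] at e1
  have hrel : (H₀ ⊓ Subgroup.centralizer (E : Set G)).relIndex (H ⊓ Subgroup.centralizer (E : Set G)) =
      H₀.relIndex (H ⊓ Subgroup.centralizer (E : Set G)) := by
    rw [← Subgroup.inf_relIndex_right H₀ (H ⊓ Subgroup.centralizer (E : Set G)), ← inf_assoc,
      inf_eq_left.mpr hle]
  rw [hrel] at e1
  refine Nat.eq_of_mul_eq_mul_left (mul_pos (pow_pos (Nat.card_pos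
    (α := ↥(H₀ ⊓ Subgroup.centralizer (E : Set G)))) (Nat.card E))
    (Nat.card_pos (α := ↥(H₀ ⊓ Subgroup.centralizer (V : Set G))))) ?_
  calc _ = Nat.card ↥(H₀ ⊓ Subgroup.centralizer ((V ⊔ E : Subgroup G) : Set G)) ^ Nat.card E *
        Nat.card H₀ * H₀.relIndex H := by rw [e0]
    _ = _ := by rw [mul_assoc, e1]; ring

/-- PF (9.2)–(9.4). -/
theorem propCoreFactor [Fintype G] : PropCoreFactor G := by
  intro M W₁ U W₂ _ hK
  obtain ⟨hd, hU, hq⟩ := Kind2.or_basic hK
  set H := Cfsg.fittingHallOf M with hH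
  obtain ⟨H₀, hlt, hn, hcU, hcm, hchief⟩ := exists_chief hd hU
  obtain ⟨p, hp, hpow⟩ := exists_prime_pow_mem hlt hcm hn (fittingHallOf_normal M) hchief
  haveI := fittingHallOf_isNilpotent M
  have hrel := relIndex_eq_pow hlt.le hd.W₁_ne hd.U_normal (TypeP.coprime_U_W₁ hd) (TypeP.W₁_fpf hd)
    (TypeP.sup_normalizes_core hd) ((sup_le (TypeP.U_le hd) (TypeP.W₁_le hd)).trans hn)
    (TypeP.coprime_core_sup hd) hcU
  rw [TypeP.core_inf_centralizer hd] at hrel
  have hne : H₀.relIndex H ≠ 1 := fun h => hlt.not_ge (Subgroup.relIndex_eq_one.mp h)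
  haveI := hd.selfNormalizing.2.2.2.2.1
  haveI : IsCyclic W₂ := isCyclic_of_injective (Subgroup.inclusion (le_sup_right : W₂ ≤ W₁ ⊔ W₂))
    (Subgroup.inclusion_injective _)
  have hr : H₀.relIndex W₂ = p := by
    refine (hp.eq_one_or_self_of_dvd _ (relIndex_dvd_of_pow_mem fun x hx =>
      hpow x (TypeP.W₂_le_core hd hx))).resolve_left fun h => hne ?_
    rw [hrel, h, one_pow]
  let C : Subgroup G :=
    { carrier := {u | u ∈ U ∧ ∀ h ∈ H, u * h * u⁻¹ * h⁻¹ ∈ H₀}
      one_mem' := ⟨U.one_mem, fun h _ => by simp⟩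
      mul_mem' := fun {a b} ha hb => ⟨U.mul_mem ha.1 hb.1, fun h hh => by
        have e : a * b * h * (a * b)⁻¹ * h⁻¹ = a * (b * h * b⁻¹ * h⁻¹) * a⁻¹ * (a * h * a⁻¹ * h⁻¹) := by
          group
        rw [e]
        exact H₀.mul_mem ((Subgroup.mem_normalizer_iff.mp (hn (TypeP.U_le hd ha.1)) _).mp (hb.2 h hh))
          (ha.2 h hh)⟩
      inv_mem' := fun {a} ha => ⟨U.inv_mem ha.1, fun h hh => by
        have e : a⁻¹ * h * a⁻¹⁻¹ * h⁻¹ = a⁻¹ * (a * h * a⁻¹ * h⁻¹)⁻¹ * a := by group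
        rw [e]
        exact (Subgroup.mem_normalizer_iff''.mp (hn (TypeP.U_le hd ha.1)) _).mp
          (H₀.inv_mem (ha.2 h hh))⟩ }
  have hCn : U ⊔ W₁ ≤ Subgroup.normalizer (C : Set G) := by
    refine Subgroup.le_normalizer_iff.2 fun g hg c hc => ?_
    have hgU : g ∈ Subgroup.normalizer (U : Set G) := sup_le Subgroup.le_normalizer hd.U_normal hg
    refine ⟨(Subgroup.mem_normalizer_iff.mp hgU c).mp hc.1, fun h hh => ?_⟩
    have hh' : g⁻¹ * h * g ∈ H :=
      (Subgroup.mem_normalizer_iff''.mp (TypeP.sup_normalizes_core hd hg) h).mp hh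
    have e : g * c * g⁻¹ * h * (g * c * g⁻¹)⁻¹ * h⁻¹ =
        g * (c * (g⁻¹ * h * g) * c⁻¹ * (g⁻¹ * h * g)⁻¹) * g⁻¹ := by group
    rw [e]
    exact (Subgroup.mem_normalizer_iff.mp (((sup_le (TypeP.U_le hd) (TypeP.W₁_le hd)).trans hn) hg) _).mp
      (hc.2 _ hh')
  haveI : Group.IsSolvable H := inferInstance
  refine ⟨H₀, C, p, hlt, hn, hchief, hp, hr, hrel.trans (by rw [hr]), hpow, fun a ha b hb => ?_, hcU,
    fun u => Iff.rfl, ?_, hCn, fun x hx => ⟨Subgroup.commutator_le_self U hx, fun h hh => ?_⟩, ?_⟩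
  · have := hcm (Subgroup.commutator_mem_commutator ha hb)
    rwa [commutatorElement_def] at this
  · refine lt_of_le_of_ne (fun u hu => hu.1) fun h => hlt.not_ge fun x hx => ?_
    obtain ⟨c, hc, hcx⟩ := CfsgLib.Coprime.exists_centralizing_rep U H (TypeP.U_normalizes_core hd)
      (typeP_coprime_card hd).symm (Or.inr inferInstance) H₀ hlt.le ((TypeP.U_le hd).trans hn) hx
      fun a ha => by
        have h1 := ((h.symm ▸ ha : a ∈ C)).2 x hx
        have e : x⁻¹ * (a * x * a⁻¹) = x⁻¹ * (a * x * a⁻¹ * x⁻¹) * x := by group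
        rw [e]
        exact (Subgroup.mem_normalizer_iff''.mp (hn (fittingHallOf_le M hx)) _).mp h1
    have h2 := H₀.mul_mem (hcU hc) (H₀.inv_mem hcx)
    simpa using h2
  · rw [show x * h * x⁻¹ * h⁻¹ = 1 by
      rw [Subgroup.mem_centralizer_iff.mp (typeP_derived_le_centralizer hd hx) h hh |>.symm]
      group]
    exact H₀.one_mem
  · intro w hw hw1 u hu hc
    have hwn : Subgroup.zpowers w ≤ Subgroup.normalizer (U : Set G) :=
      Subgroup.zpowers_le.mpr (hd.U_normal hw)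
    have hwC : Subgroup.zpowers w ≤ Subgroup.normalizer (C : Set G) :=
      Subgroup.zpowers_le.mpr (hCn (Subgroup.mem_sup_right hw))
    have hfix : ∀ a ∈ Subgroup.zpowers w, u⁻¹ * (a * u * a⁻¹) ∈ C := by
      intro a ha
      obtain ⟨n, rfl⟩ := mem_powers_iff_mem_zpowers.mpr ha
      clear ha
      induction n with
      | zero => simp
      | succ n ih =>
        have e : u⁻¹ * (w ^ (n + 1) * u * (w ^ (n + 1))⁻¹) =
            u⁻¹ * (w * u * w⁻¹ * u⁻¹) * u * (w * (u⁻¹ * (w ^ n * u * (w ^ n)⁻¹)) * w⁻¹) := by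
          rw [pow_succ']; group
        rw [show (fun x => w ^ x) (n + 1) = w ^ (n + 1) from rfl, e]
        exact C.mul_mem ((Subgroup.mem_normalizer_iff''.mp (hCn (Subgroup.mem_sup_left hu)) _).mp hc)
          ((Subgroup.mem_normalizer_iff.mp (hwC (Subgroup.mem_zpowers w)) _).mp ih)
    obtain ⟨c, ⟨hcU', hcw⟩, hcC⟩ := CfsgLib.Coprime.exists_centralizing_rep (Subgroup.zpowers w) U hwn
      ((TypeP.coprime_U_W₁ hd).symm.coprime_dvd_left
        (Subgroup.card_dvd_of_le (Subgroup.zpowers_le.mpr hw)))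
      (Or.inr (by haveI := hd.U_nilpotent; infer_instance)) C (fun x hx => hx.1) hwC hu hfix
    rw [TypeP.W₁_fpf hd w hw hw1 c hcU'
      (Subgroup.mem_centralizer_iff.mp hcw w (Subgroup.mem_zpowers w)), mul_one] at hcC
    simpa using C.inv_mem hcC

end CfsgLib.PF
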