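import Mathlib
import Cfsg.Agent.Lib.PF.Sec8Tame
import Cfsg.Agent.Lib.PF.Sec9Core

/-!
# Peterfalvi §10: the group theory of the count in (10.8)
-/

set_option autoImplicit false
set_option linter.unusedSectionVars false

namespace CfsgLib.PF

open Subgroup CfsgLib.OddOrder CfsgLib.OddOrder.Transitivity CfsgLib.OddOrder42
open CfsgLib.OddOrder38 hiding Inputs
open scoped commutatorElement

universe u

/-! ### Two general lemmas -/

theorem card_ne_one_subtype {X : Type*} [Group X] [Finite X] :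
    Nat.card {x : X // x ≠ 1} = Nat.card X - 1 := by
  classical
  haveI := Fintype.ofFinite X
  rw [Nat.card_eq_fintype_card, Nat.card_eq_fintype_card, Fintype.card_subtype_compl,
    Fintype.card_subtype_eq]

/-- Semiregular action by conjugation. -/
theorem dvd_card_sub_one_of_fpf {X : Type*} [Group X] [Finite X] {W N : Subgroup X}
    (hn : W ≤ Subgroup.normalizer (N : Set X))
    (hfpf : ∀ w ∈ W, w ≠ 1 → ∀ n ∈ N, w * n = n * w → n = 1) :
    Nat.card W ∣ Nat.card N - 1 := by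
  letI : MulAction W {n : N // n ≠ 1} :=
    { smul := fun w n => ⟨⟨(w : X) * (n.1 : X) * (w : X)⁻¹,
          (Subgroup.mem_normalizer_iff.mp (hn w.2) _).mp n.1.2⟩,
          fun h => n.2 (Subtype.ext (conj_eq_one_iff.mp (congrArg Subtype.val h)))⟩
      one_smul := fun n => Subtype.ext (Subtype.ext (by
        show ((1 : W) : X) * (n.1 : X) * ((1 : W) : X)⁻¹ = (n.1 : X)
        rw [OneMemClass.coe_one, one_mul, inv_one, mul_one]))
      mul_smul := fun a b n => Subtype.ext (Subtype.ext (by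
        show ((a * b : W) : X) * (n.1 : X) * ((a * b : W) : X)⁻¹ =
          (a : X) * ((b : X) * (n.1 : X) * (b : X)⁻¹) * (a : X)⁻¹
        rw [Subgroup.coe_mul]; group)) }
  have hstab : ∀ n : {n : N // n ≠ 1}, MulAction.stabilizer W n = ⊥ := by
    intro n
    refine (Subgroup.eq_bot_iff_forall _).mpr fun w hw => ?_
    by_contra hw1
    have h : (w : X) * (n.1 : X) * (w : X)⁻¹ = (n.1 : X) :=
      congrArg (fun m : {n : N // n ≠ 1} => (m.1 : X)) (MulAction.mem_stabilizer_iff.mp hw)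
    exact n.2 (Subtype.ext (hfpf w w.2 (fun e => hw1 (Subtype.ext e)) _ n.1.2 (mul_inv_eq_iff_eq_mul.mp h)))
  rw [← card_ne_one_subtype (X := N), Nat.card_congr (MulAction.selfEquivOrbitsQuotientProd hstab),
    Nat.card_prod]
  exact dvd_mul_left _ _

theorem four_mul_add_one_le_pow {p : ℕ} (hp : 3 ≤ p) :
    ∀ k : ℕ, 4 ≤ k → 4 * (k + 1) + 1 ≤ p ^ k := by
  intro k hk
  induction k, hk using Nat.le_induction with
  | base => calc 4 * (4 + 1) + 1 ≤ 3 ^ 4 := by norm_num
              _ ≤ p ^ 4 := Nat.pow_le_pow_left hp 4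
  | succ k _ ih =>
    have h1 : p ^ k * 3 ≤ p ^ k * p := Nat.mul_le_mul le_rfl hp
    rw [pow_succ]
    omega

/-- `p (4 q + 1) ≤ p ^ q` for distinct odd primes. -/
theorem mul_le_pow_of_odd_primes {p q : ℕ} (hp : p.Prime) (hq : q.Prime) (hp2 : p ≠ 2) (hq2 : q ≠ 2)
    (hpq : p ≠ q) : p * (4 * q + 1) ≤ p ^ q := by
  have hp3 : 3 ≤ p := by have := hp.two_le; omega
  have hq3 : 3 ≤ q := by have := hq.two_le; omega
  obtain ⟨k, rfl⟩ : ∃ k, q = k + 1 := ⟨q - 1, by omega⟩
  rw [pow_succ']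
  refine Nat.mul_le_mul le_rfl ?_
  rcases lt_or_ge k 4 with h | h
  · have hk : k = 2 := by
      have h2 : k = 2 ∨ k = 3 := by omega
      rcases h2 with h2 | h2
      · exact h2
      · subst h2; exact absurd hq (by decide)
    subst hk
    have hp5 : 5 ≤ p := by
      by_contra hlt
      have h34 : p = 3 ∨ p = 4 := by omega
      rcases h34 with h34 | h34
      · exact hpq h34
      · subst h34; exact absurd hp (by decide)
    calc 4 * (2 + 1) + 1 ≤ 5 ^ 2 := by norm_num
      _ ≤ p ^ 2 := Nat.pow_le_pow_left hp5 2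
  · exact four_mul_add_one_le_pow hp3 k h

variable {G : Type u} [Group G]

theorem odd_prime_of_dvd [Finite G] (hG : Cfsg.IsMinSimpleOddOrder G) {H : Subgroup G} {p : ℕ}
    (hd : p ∣ Nat.card H) : p ≠ 2 := fun h =>
  (Nat.not_even_iff_odd.mpr (minSimple_odd hG H)) (even_iff_two_dvd.mpr (h ▸ hd))

/-- (10.8), the size of `M'`. -/
theorem derived_card_bound [Fintype G] (hG : Cfsg.IsMinSimpleOddOrder G) {M W₁ U W₂ : Subgroup G}
    (hM : IsCoatom M) (h : Kind34 M W₁ U W₂ ∨ Kind5 M W₁ U W₂) (hp : (Nat.card W₂).Prime) :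
    Nat.card W₂ * (4 * Nat.card W₁ + 1) ≤ Nat.card ↥(⁅M, M⁆ : Subgroup G) ∨
      (13 ≤ Nat.card W₁ ∧
        Nat.card W₂ * (2 * Nat.card W₁ + 1) ≤ Nat.card ↥(⁅M, M⁆ : Subgroup G)) := by
  set H := Cfsg.fittingHallOf M with hH
  rcases h with hK | hK
  · refine Or.inl ?_
    have hd := hK.data
    obtain ⟨H₀, C, p, hc⟩ := propCoreFactor M W₁ U W₂ hM (Or.inr hK)
    have hW₂ : p = Nat.card W₂ := by
      have h1 : p ∣ Nat.card W₂ := by rw [← hc.W₂_rel]; exact Subgroup.relIndex_dvd_card H₀ W₂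
      exact (Nat.prime_dvd_prime_iff_eq hc.prime hp).mp h1
    have hne : Nat.card W₂ ≠ Nat.card W₁ := by
      intro e
      have h1 : Nat.card W₁ ∣ W₁.relIndex M := by
        rw [IsComplIn.relIndex_left (complIn_symm hd.W₁_compl), ← e]
        exact Subgroup.card_dvd_of_le (hd.W₂_le.trans (inf_le_left.trans hd.U_compl.1))
      exact hK.W₁_prime.ne_one (Nat.eq_one_of_dvd_coprimes hd.W₁_hall dvd_rfl h1)
    calc Nat.card W₂ * (4 * Nat.card W₁ + 1)
        ≤ Nat.card W₂ ^ Nat.card W₁ := mul_le_pow_of_odd_primes hp hK.W₁_prime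
          (odd_prime_of_dvd hG dvd_rfl) (odd_prime_of_dvd hG dvd_rfl) hne
      _ = H₀.relIndex H := by rw [hc.card, hW₂]
      _ ≤ Nat.card H := Nat.le_of_dvd Nat.card_pos (Subgroup.relIndex_dvd_card H₀ H)
      _ ≤ Nat.card ↥⁅M, M⁆ := Nat.le_of_dvd Nat.card_pos (Subgroup.card_dvd_of_le hd.U_compl.1)
  · have hd := hK.data
    have hMH : ⁅M, M⁆ = H := by rw [← complIn_sup hd.U_compl, hK.U_eq, sup_bot_eq]
    rw [hMH]
    set q := Nat.card W₁ with hq
    set D := ⁅H, H⁆ with hD
    have hHM : H ≤ M := fittingHallOf_le M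
    have hDH : D ≤ H := Subgroup.commutator_le_self H
    have hW₂D : W₂ ≤ D := by
      have := hd.W₂_le.trans inf_le_right
      rwa [hMH] at this
    have hW₁M : W₁ ≤ M := hd.W₁_compl.2.1
    have hDn : M ≤ Subgroup.normalizer (D : Set G) := fun m hm => by
      refine mem_normalizer_of_cj_eq ?_
      rw [hD, Transitivity.cj, Subgroup.map_commutator, ← Transitivity.cj,
        cj_eq_of_mem_normalizer (fittingHallOf_normal M hm)]
    have : (D.subgroupOf M).Normal :=
      (Subgroup.normal_subgroupOf_iff_le_normalizer (hDH.trans hHM)).mpr hDn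
    set π := QuotientGroup.mk' (D.subgroupOf M) with hπ
    have hqH : q.Coprime (Nat.card H) := by
      have h1 := hd.W₁_hall
      rwa [IsComplIn.relIndex_left (complIn_symm hd.W₁_compl), hMH] at h1
    have hWH : W₁ ⊓ H = ⊥ := (Subgroup.disjoint_of_coprime_natCard hqH).eq_bot
    have hπeq : ∀ (a b : M), π a = π b → (a : G) * (b : G)⁻¹ ∈ D := fun a b h => by
      have h1 : π (a * b⁻¹) = 1 := by rw [map_mul, h, map_inv, mul_inv_cancel]
      have h2 : a * b⁻¹ ∈ D.subgroupOf M := (QuotientGroup.eq_one_iff _).mp h1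
      exact h2
    set W' := (W₁.subgroupOf M).map π with hW'
    set H' := (H.subgroupOf M).map π with hH'
    have hcardW : Nat.card W' = q := by
      have hinj : Function.Injective (π.comp (W₁.subgroupOf M).subtype) := by
        rw [← MonoidHom.ker_eq_bot_iff, eq_bot_iff]
        rintro ⟨w, hw⟩ hw'
        have h1 : w ∈ D.subgroupOf M := (QuotientGroup.eq_one_iff _).mp hw'
        refine Subgroup.mem_bot.mpr (Subtype.ext (Subtype.ext (Subgroup.mem_bot.mp
          (hWH.le (Subgroup.mem_inf.mpr ⟨hw, hDH h1⟩)))))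
      have hr : (π.comp (W₁.subgroupOf M).subtype).range = W' := by
        rw [MonoidHom.range_comp, Subgroup.range_subtype]
      rw [← hr, ← Nat.card_congr (MonoidHom.ofInjective hinj).toEquiv]
      exact Nat.card_congr (Subgroup.subgroupOfEquivOfLe hW₁M).toEquiv
    have hcardH : Nat.card H' = D.relIndex H := by
      rw [hH', ← Subgroup.relIndex_bot_left,
        ← show (D.subgroupOf M).map π = ⊥ from QuotientGroup.map_mk'_self _, Subgroup.relIndex_map_map,
        hπ, QuotientGroup.ker_mk', sup_idem, sup_eq_left.mpr (show D.subgroupOf M ≤ H.subgroupOf M from Subgroup.comap_mono hDH),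
        Subgroup.relIndex_subgroupOf hHM]
    have hdvd : q ∣ D.relIndex H - 1 := by
      rw [← hcardW, ← hcardH]
      refine dvd_card_sub_one_of_fpf ?_ ?_
      · refine (Subgroup.map_mono fun a ha => ?_).trans (Subgroup.le_normalizer_map π)
        exact Subgroup.mem_normalizer_iff.mpr fun y =>
          Subgroup.mem_normalizer_iff.mp (fittingHallOf_normal M (hW₁M ha)) (y : G)
      rintro _ ⟨w, hw, rfl⟩ hw1 _ ⟨y, hy, rfl⟩ he
      obtain ⟨r, hr, hrd⟩ := Nat.exists_prime_and_dvd (n := orderOf (w : G)) fun e => hw1 (by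
        rw [show w = 1 from Subtype.ext (orderOf_eq_one_iff.mp e), map_one])
      haveI := Fact.mk hr
      obtain ⟨a, haw, hao⟩ := exists_mem_zpowers_prime hr hrd
      have haW : a ∈ W₁ := Subgroup.zpowers_le.mpr (show (w : G) ∈ W₁ from hw) haw
      have ha1 : a ≠ 1 := fun e => hr.ne_one (by rw [← hao, e, orderOf_one])
      obtain ⟨n, hn, hny⟩ := Tech46.exists_fixed_in_coset (p := r) (A := Subgroup.zpowers a) (N := D)
        (x := (y : G)) (IsPGroup.of_card (n := 1) (by rw [Nat.card_zpowers, hao, pow_one]))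
        (fun hd' => hr.ne_one (Nat.eq_one_of_dvd_coprimes hqH
          (hao ▸ Subgroup.orderOf_dvd_natCard W₁ haW) (hd'.trans (Subgroup.card_dvd_of_le hDH))))
        (Subgroup.zpowers_le.mpr (hDn (hW₁M haW))) (by
          intro b hb
          obtain ⟨i, rfl⟩ := Subgroup.mem_zpowers_iff.mp hb
          obtain ⟨j, hj⟩ := Subgroup.mem_zpowers_iff.mp haw
          have hcom : Commute (π (w ^ (j * i))) (π y) := by
            rw [map_zpow]; exact (show Commute (π w) (π y) from he).zpow_left _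
          have h1 := hπeq (y⁻¹ * (w ^ (j * i) * y * (w ^ (j * i))⁻¹)) 1 (by
            rw [map_mul, map_mul, map_mul, map_inv, map_inv, map_one, hcom.eq]
            group)
          simpa [← hj, ← zpow_mul] using h1)
      have h1 : (y : G) * n ∈ W₂ := by
        rw [← hd.W₂_centralizer a haW ha1, hMH]
        refine ⟨H.mul_mem hy (hDH hn), ?_⟩
        rw [← OddOrder41.centralizer_zpowers]
        exact hny
      have h2 : (y : G) ∈ D := by
        have := D.mul_mem (hW₂D h1) (D.inv_mem hn)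
        rwa [mul_inv_cancel_right] at this
      exact (QuotientGroup.eq_one_iff _).mpr h2
    set n := D.relIndex H with hn
    have hmul : Nat.card D * n = Nat.card H := card_mul_relIndex_of_le hDH
    have hpD : Nat.card W₂ ≤ Nat.card D := Nat.le_of_dvd Nat.card_pos (Subgroup.card_dvd_of_le hW₂D)
    have hodd : ∀ X : Subgroup G, Odd (Nat.card X) := minSimple_odd hG
    have hnodd : Odd n := (Nat.odd_mul.mp (hmul ▸ hodd H)).2
    have hqodd : Odd q := hodd W₁
    have hnilH : Group.IsNilpotent H := fittingHallOf_isNilpotent M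
    have hn1 : n ≠ 1 := fun e => by
      have h1 : H ≤ D := Subgroup.relIndex_eq_one.mp e
      have := minSimple_solvable hG fun e' => hM.1 (top_le_iff.mp (e' ▸ hHM))
      have h3 : commutator ↥H = ⊤ := by
        refine Subgroup.map_injective H.subtype_injective ?_
        rw [Subgroup.map_subtype_commutator, ← MonoidHom.range_eq_map, Subgroup.range_subtype]
        exact le_antisymm hDH h1
      have hnt : Nontrivial H := (Subgroup.nontrivial_iff_ne_bot H).mpr fun h0 =>
        hd.selfNormalizing.2.1 (le_bot_iff.mp (h0 ▸ hW₂D.trans hDH))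
      exact (Group.IsSolvable.commutator_lt_top_of_nontrivial H).ne h3
    obtain ⟨m, hm⟩ := hdvd
    have hn0 : 0 < n := hnodd.pos
    have hbound : ∀ c : ℕ, c ≤ n → Nat.card W₂ * c ≤ Nat.card H := fun c hc =>
      hmul ▸ Nat.mul_le_mul hpD hc
    rcases lt_or_ge m 3 with hm3 | hm3
    · have hm2 : m = 2 := by
        interval_cases m
        · omega
        · obtain ⟨i, hi⟩ := hnodd
          obtain ⟨j, hj⟩ := hqodd
          omega
        · rfl
      subst hm2
      have hn2 : n = 2 * q + 1 := by omega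
      by_cases h13 : 13 ≤ q
      · exact Or.inr ⟨h13, hbound _ (le_of_eq hn2.symm)⟩
      exfalso
      have hsq : Squarefree n := by
        obtain ⟨j, hj⟩ := hqodd
        have hq1 : q ≠ 1 := fun e => hd.W₁_ne (Subgroup.card_eq_one.mp e)
        rw [hn2, hj]
        have : j ≤ 5 := by omega
        interval_cases j <;> first | omega | decide +kernel
      have hDc : commutator ↥H = D.subgroupOf H := by
        refine Subgroup.map_injective H.subtype_injective ?_
        rw [Subgroup.map_subtype_commutator, Subgroup.map_subgroupOf_eq_of_le hDH]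
      have hcard : Nat.card (↥H ⧸ commutator ↥H) = n := by
        rw [← Subgroup.index_eq_card, hDc]; rfl
      have : IsZGroup (↥H ⧸ commutator ↥H) := IsZGroup.of_squarefree (hcard ▸ hsq)
      have hcyc : IsCyclic (↥H ⧸ commutator ↥H) := by
        have := hnilH
        infer_instance
      obtain ⟨g, hg⟩ := IsCyclic.exists_generator (α := ↥H ⧸ commutator ↥H)
      obtain ⟨g, rfl⟩ := QuotientGroup.mk'_surjective _ g
      have htop : Subgroup.zpowers g ⊔ commutator ↥H = ⊤ := by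
        refine eq_top_iff.mpr fun x _ => ?_
        obtain ⟨i, hi⟩ := Subgroup.mem_zpowers_iff.mp (hg (QuotientGroup.mk' _ x))
        rw [← map_zpow] at hi
        have h1 : (g ^ i)⁻¹ * x ∈ commutator ↥H := QuotientGroup.eq.mp hi
        have h2 := mul_mem (Subgroup.mem_sup_left (Subgroup.zpow_mem _ (Subgroup.mem_zpowers g) i) :
          g ^ i ∈ Subgroup.zpowers g ⊔ commutator ↥H) (Subgroup.mem_sup_right h1)
        rwa [mul_inv_cancel_left] at h2
      have := hnilH
      have hzp := eq_top_of_sup_commutator htop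
      exact hd.H_not_cyclic ⟨⟨g, fun x => by
        rw [← Subgroup.mem_zpowers_iff] at *
        exact hzp.ge (Subgroup.mem_top x)⟩⟩
    · refine Or.inl (hbound _ ?_)
      have h4 : q * 3 ≤ q * m := Nat.mul_le_mul le_rfl hm3
      obtain ⟨i, hi⟩ := hnodd
      obtain ⟨j, hj⟩ := hqodd
      have hm3' : m ≠ 3 := fun e => by subst e; omega
      have h5 : q * 4 ≤ q * m := Nat.mul_le_mul le_rfl (by omega)
      omega

/-- (10.8), the count for a partner of Type II. -/
theorem typeII_singular_bound [Fintype G] (hG : Cfsg.IsMinSimpleOddOrder G)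
    {M T W₁ W₂ U V : Subgroup G} (hpair : TypePPair M T W₁ W₂ U V) (hT2 : Kind2 T W₂ V W₁) :
    7 ≤ Nat.card V ∧ (Nat.card W₁ = 3 → 11 ≤ Nat.card V) ∧
      3 * Nat.card {g : G // (∃ r : ℕ, r.Prime ∧ r ∣ Nat.card W₁ ∧ r ∣ orderOf g) ∧
          ¬ ∃ y : G, ∃ z ∈ W₁ ⊔ W₂, z ∉ W₁ ∧ z ∉ W₂ ∧ g = y * z * y⁻¹} *
        (Nat.card V * Nat.card W₂) ≤ (Nat.card V + 2) * Nat.card G := by
  have hT := hpair.right_max
  have hd := hT2.data
  set p := Nat.card W₂ with hpdef
  have hp : p.Prime := hT2.W₁_prime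
  haveI := Fact.mk hp
  set TF := Cfsg.fittingHallOf T with hTF
  set D := ⁅T, T⁆ with hD
  have hDT : D ≤ T := Subgroup.commutator_le_self T
  have hTFT : TF ≤ T := fittingHallOf_le T
  have hW₁TF : W₁ ≤ TF := hd.W₂_le.trans inf_le_left
  have hW₂T : W₂ ≤ T := hd.W₁_compl.2.1
  have hVD : V ≤ D := hd.U_compl.2.1
  have hVT : V ≤ T := hVD.trans hDT
  have hDi : D.relIndex T = p := IsComplIn.relIndex_left hd.W₁_compl
  have hWi : W₂.relIndex T = Nat.card D := IsComplIn.relIndex_left (complIn_symm hd.W₁_compl)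
  have hpD : ¬ p ∣ Nat.card D := fun h =>
    hp.ne_one (Nat.eq_one_of_dvd_coprimes hd.W₁_hall dvd_rfl (hWi ▸ h))
  have hcTV : (Nat.card TF).Coprime (Nat.card V) := by
    rw [← IsComplIn.relIndex_left hd.U_compl]
    exact (fittingHallOf_coprime_relIndex T).coprime_dvd_right
      (Dvd.intro _ (Subgroup.relIndex_mul_relIndex _ _ T hd.U_compl.1 hDT))
  have hfpfV : ∀ w ∈ W₂, w ≠ 1 → ∀ v ∈ V, w * v = v * w → v = 1 := by
    intro w hw hw1 v hv h
    have h1 : v ∈ W₁ := by
      rw [← hd.W₂_centralizer w hw hw1]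
      exact ⟨hVD hv, Subgroup.mem_centralizer_singleton_iff.mpr h.symm⟩
    exact orderOf_eq_one_iff.mp (Nat.eq_one_of_dvd_coprimes hcTV
      (Subgroup.orderOf_dvd_natCard TF (hW₁TF h1)) (Subgroup.orderOf_dvd_natCard V hv))
  set v := Nat.card V with hvdef
  have hv1 : v ≠ 1 := fun h => hT2.U_ne (Subgroup.card_eq_one.mp h)
  have hvge : 2 * p + 1 ≤ v := by
    obtain ⟨m, hm⟩ := dvd_card_sub_one_of_fpf hd.U_normal hfpfV
    rw [← hvdef, ← hpdef] at hm
    obtain ⟨i, hi⟩ := (minSimple_odd hG V : Odd v)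
    obtain ⟨j, hj⟩ := (minSimple_odd hG W₂ : Odd p)
    have hvpos : 0 < v := Nat.card_pos
    have hm2 : 2 ≤ m := by
      rcases Nat.lt_or_ge m 2 with h | h
      · interval_cases m <;> omega
      · exact h
    have h2 : p * 2 ≤ p * m := Nat.mul_le_mul le_rfl hm2
    omega
  have hp2 : p ≠ 2 := odd_prime_of_dvd hG (H := W₂) dvd_rfl
  have hp3 : 3 ≤ p := by have := hp.two_le; omega
  refine ⟨by omega, fun h3 => ?_, ?_⟩
  · have hp5 : p ≠ 3 := fun e => hpD ((e.trans h3.symm) ▸
      Subgroup.card_dvd_of_le (hW₁TF.trans hd.U_compl.1))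
    have hp4 : p ≠ 4 := fun e => by rw [e] at hp; exact absurd hp (by decide)
    omega
  -- the elements of `V` with fixed points on `T_F`
  set B : Set G := {y | y ∈ V ∧ y ≠ 1 ∧ TF ⊓ Subgroup.centralizer ({y} : Set G) ≠ ⊥} with hB
  have hTII : Cfsg.IsOfTypeII T := (propKinds hG T W₂ V W₁ hT hd).2.1.mpr hT2
  obtain ⟨-, huniq, -⟩ := propTypeI_II hG T V hT (Or.inr ⟨hTII, hd.U_compl⟩)
  have hT1 : T ≠ ⊥ := fun h => hT2.U_ne (le_bot_iff.mp (h ▸ hVT))
  have hNT : Subgroup.normalizer (T : Set G) = T :=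
    Sigma15.normalizer_eq_of_normal hG hT le_rfl hT1 Subgroup.le_normalizer
  have hB3 : 3 * Nat.card B ≤ v - 1 := by
    obtain ⟨n, hnV, hnT⟩ := SetLike.not_le_iff_exists.mp hT2.normalizer_not_le
    have hpow : ∀ k : ℕ, k = 1 ∨ k = 2 → n ^ k ∉ T := by
      rintro k (rfl | rfl)
      · rwa [pow_one]
      · intro h
        obtain ⟨i, hi⟩ := (minSimple_odd hG (Subgroup.zpowers n) : Odd _)
        rw [Nat.card_zpowers] at hi
        refine hnT ?_
        have h1 : n = (n ^ 2) ^ (i + 1) := by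
          rw [← pow_mul, show 2 * (i + 1) = orderOf n + 1 by omega, pow_succ, pow_orderOf_eq_one, one_mul]
        exact h1 ▸ T.pow_mem h _
    have hdisj : ∀ k : ℕ, k = 1 ∨ k = 2 → ∀ b ∈ B, ∀ b' ∈ B, n ^ k * b' * (n ^ k)⁻¹ ≠ b := by
      intro k hk b hb b' hb' he
      refine hpow k hk ?_
      have key : ∀ c ∈ B, Subgroup.centralizer ({c} : Set G) ≤ T ∧
          ∀ L : Subgroup G, IsCoatom L → Subgroup.centralizer ({c} : Set G) ≤ L → L = T :=
        fun c hc => huniq {c} (Set.singleton_subset_iff.mpr ⟨hc.1, hc.2.1⟩) (Set.singleton_nonempty c) hc.2.2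
      have h1 : Subgroup.centralizer ({b} : Set G) ≤ cj (n ^ k) T := by
        rw [← he, ← Sigma11.cj_centralizer_singleton]
        exact cj_mono (key b' hb').1
      exact hNT.le (mem_normalizer_of_cj_eq ((key b hb).2 _ (isCoatom_map_conj hT _) h1))
    have hf : ∀ (i : Fin 3) (b : B), n ^ (i : ℕ) * (b : G) * (n ^ (i : ℕ))⁻¹ ∈ V := fun i b =>
      (Subgroup.mem_normalizer_iff.mp (Subgroup.pow_mem _ hnV _) _).mp b.2.1
    let f : Fin 3 × B → {x : V // x ≠ 1} := fun a => ⟨⟨_, hf a.1 a.2⟩, fun h =>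
      a.2.2.2.1 (conj_eq_one_iff.mp (congrArg Subtype.val h))⟩
    have hlt : ∀ (i j : Fin 3) (b b' : B), (i : ℕ) < j →
        n ^ (i : ℕ) * (b : G) * (n ^ (i : ℕ))⁻¹ ≠ n ^ (j : ℕ) * (b' : G) * (n ^ (j : ℕ))⁻¹ := by
      intro i j b b' hij h
      obtain ⟨k, hk⟩ : ∃ k, (j : ℕ) = i + k := ⟨(j : ℕ) - i, by omega⟩
      refine hdisj k (by omega) b b.2 b' b'.2 ?_
      rw [hk, pow_add] at h
      calc n ^ k * (b' : G) * (n ^ k)⁻¹
          = (n ^ (i : ℕ))⁻¹ * (n ^ (i : ℕ) * n ^ k * (b' : G) * (n ^ (i : ℕ) * n ^ k)⁻¹) * n ^ (i : ℕ) := by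
            group
        _ = (b : G) := by rw [← h]; group
    have hinj : Function.Injective f := by
      rintro ⟨i, b⟩ ⟨j, b'⟩ h
      have h' : n ^ (i : ℕ) * (b : G) * (n ^ (i : ℕ))⁻¹ = n ^ (j : ℕ) * (b' : G) * (n ^ (j : ℕ))⁻¹ :=
        congrArg (fun z : {x : V // x ≠ 1} => ((z : V) : G)) h
      rcases lt_trichotomy (i : ℕ) j with hij | hij | hij
      · exact absurd h' (hlt i j b b' hij)
      · obtain rfl : i = j := Fin.ext hij
        exact Prod.ext rfl (Subtype.ext (mul_left_cancel (mul_right_cancel h')))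
      · exact absurd h'.symm (hlt j i b' b hij)
    have hle := Nat.card_le_card_of_injective f hinj
    rwa [Nat.card_prod, Nat.card_fin, card_ne_one_subtype] at hle
  -- where the elements lie
  set Zc : G → Prop := fun g => ∃ y : G, ∃ z ∈ W₁ ⊔ W₂, z ∉ W₁ ∧ z ∉ W₂ ∧ g = y * z * y⁻¹ with hZc
  have hZconj : ∀ g y : G, Zc (y * g * y⁻¹) → Zc g := by
    rintro g y ⟨y', z, hz, hz1, hz2, he⟩
    refine ⟨y⁻¹ * y', z, hz, hz1, hz2, ?_⟩
    calc g = y⁻¹ * (y * g * y⁻¹) * y := by group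
      _ = y⁻¹ * (y' * z * y'⁻¹) * y := by rw [he]
      _ = _ := by group
  have key : ∀ g ∈ T, (∃ r : ℕ, r.Prime ∧ r ∣ Nat.card W₁ ∧ r ∣ orderOf g) → ¬ Zc g →
      ∃ h ∈ TF, ∃ y ∈ insert (1 : G) B, g = h * y := by
    intro g hgT ⟨r, hr, hrW, hrg⟩ hZ
    have hrD : r ∣ Nat.card D := hrW.trans (Subgroup.card_dvd_of_le (hW₁TF.trans hd.U_compl.1))
    have hgD : g ∈ D := by
      by_contra hgD
      obtain ⟨c, b, hcb, hc, -, hcp, hbp⟩ := exists_parts {p} g
      have hc1 : c ≠ 1 := fun h => hgD (mem_of_coprime_relIndex hDT (le_normalizer_derived T) hgT (by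
        rw [hDi, hcb, h, one_mul]
        exact coprime_of_forall fun t ht d1 d2 =>
          hbp t ht d1 (Set.mem_singleton_iff.mpr ((Nat.prime_dvd_prime_iff_eq ht hp).mp d2))))
      haveI := minSimple_solvable hG hT.1
      obtain ⟨m, hm, hle⟩ := OddOrder41.exists_conj_into (π := {p}) hW₂T
        (fun t _ htp hdv => hpD (by rw [Set.mem_singleton_iff.mp htp, hWi] at hdv; exact hdv))
        (Subgroup.zpowers_le.mpr (Subgroup.zpowers_le.mpr hgT hc))
        (fun t ht hdv => hcp t ht (by rwa [Nat.card_zpowers] at hdv))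
      set c' := m * c * m⁻¹ with hc'
      set g' := m * g * m⁻¹ with hg'
      have hc'W : c' ∈ W₂ := hle (mem_cj_self.mpr (Subgroup.mem_zpowers c))
      have hc'1 : c' ≠ 1 := fun h => hc1 (conj_eq_one_iff.mp h)
      have hg'T : g' ∈ T := T.mul_mem (T.mul_mem hm hgT) (T.inv_mem hm)
      have hcom : Commute g' c' := commute_conj m (by
        obtain ⟨i, rfl⟩ := Subgroup.mem_zpowers_iff.mp hc
        exact (Commute.refl g).zpow_right i)
      obtain ⟨d, hd', w, hw, he⟩ := hd.W₁_compl.2.2.2 g' hg'T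
      have hwc : Commute w c' := mul_comm_of_mem (haveI := hd.W₁_cyclic; IsCyclic.isMulCommutative) hw hc'W
      have hdW : d ∈ W₁ := by
        rw [← hd.W₂_centralizer c' hc'W hc'1]
        refine ⟨hd', Subgroup.mem_centralizer_singleton_iff.mpr ?_⟩
        have h1 := hcom.mul_left hwc.inv_left
        rw [he, mul_inv_cancel_right] at h1
        exact h1.eq
      refine hZ (hZconj g m ⟨1, g', ?_, fun h => hgD ?_, fun h => ?_, by simp [hg']⟩)
      · rw [he]; exact Subgroup.mul_mem_sup hdW hw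
      · have h1 := conj_mem_of_le_normalizer (le_normalizer_derived T) (T.inv_mem hm)
          (hd.U_compl.1 (hW₁TF h))
        simpa [hg', mul_assoc] using h1
      · have h1 : r ∣ p := (hrg.trans (dvd_of_eq (OddOrder42.orderOf_conj m g).symm)).trans
          (Subgroup.orderOf_dvd_natCard W₂ h)
        exact hpD ((Nat.prime_dvd_prime_iff_eq hr hp).mp h1 ▸ hrD)
    obtain ⟨h, hh, y, hy, rfl⟩ := hd.U_compl.2.2.2 g hgD
    refine ⟨h, hh, y, ?_, rfl⟩
    by_contra hyB
    simp only [Set.mem_insert_iff, not_or] at hyB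
    have hfix : TF ⊓ Subgroup.centralizer ({y} : Set G) = ⊥ :=
      by_contra fun hne => hyB.2 ⟨hy, hyB.1, hne⟩
    have hyn : y ∈ Subgroup.normalizer (TF : Set G) := fittingHallOf_normal T (hVT hy)
    let φ : TF → TF := fun k => ⟨(k : G) * y * (k : G)⁻¹ * y⁻¹, by
      rw [show (k : G) * y * (k : G)⁻¹ * y⁻¹ = (k : G) * (y * (k : G)⁻¹ * y⁻¹) by group]
      exact TF.mul_mem k.2 ((Subgroup.mem_normalizer_iff.mp hyn _).mp (TF.inv_mem k.2))⟩
    have hφ : Function.Bijective φ := Finite.injective_iff_bijective.mp fun a b hab => by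
      have h1 : (a : G) * y * (a : G)⁻¹ = (b : G) * y * (b : G)⁻¹ :=
        mul_right_cancel (congrArg Subtype.val hab)
      have h2 : (b : G)⁻¹ * a ∈ TF ⊓ Subgroup.centralizer ({y} : Set G) := by
        refine ⟨TF.mul_mem (TF.inv_mem b.2) a.2, Subgroup.mem_centralizer_singleton_iff.mpr ?_⟩
        calc (b : G)⁻¹ * a * y = (b : G)⁻¹ * ((a : G) * y * (a : G)⁻¹) * a := by group
          _ = (b : G)⁻¹ * ((b : G) * y * (b : G)⁻¹) * a := by rw [h1]
          _ = y * ((b : G)⁻¹ * a) := by group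
      rw [hfix, Subgroup.mem_bot] at h2
      exact Subtype.ext (inv_mul_eq_one.mp h2).symm
    obtain ⟨k, hk⟩ := hφ.2 ⟨h, hh⟩
    have he : h * y = (k : G) * y * (k : G)⁻¹ := by
      rw [← show (k : G) * y * (k : G)⁻¹ * y⁻¹ = h from congrArg Subtype.val hk, inv_mul_cancel_right]
    rw [he, OddOrder42.orderOf_conj] at hrg
    exact hr.ne_one (Nat.eq_one_of_dvd_coprimes hcTV (hrW.trans (Subgroup.card_dvd_of_le hW₁TF))
      (hrg.trans (Subgroup.orderOf_dvd_natCard V hy)))
  -- every such element has a conjugate in `T`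
  have hconj : ∀ g : G, (∃ r : ℕ, r.Prime ∧ r ∣ Nat.card W₁ ∧ r ∣ orderOf g) →
      ∃ y : G, y * g * y⁻¹ ∈ T := by
    rintro g ⟨r, hr, hrW, hrg⟩
    haveI := Fact.mk hr
    obtain ⟨x, hx, hxo⟩ := exists_mem_zpowers_prime hr hrg
    obtain ⟨R, hR⟩ := (IsPGroup.of_card (p := r) (n := 1)
      (by rw [Nat.card_zpowers, hxo, pow_one] : Nat.card (Subgroup.zpowers x) = r ^ 1)).exists_le_sylow
    obtain ⟨S⟩ : Nonempty (Sylow r TF) := inferInstance
    have hSi : ¬ r ∣ ((S : Subgroup TF).map TF.subtype).index := by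
      rw [Subgroup.index_map_subtype]
      exact fun hdv => (hr.dvd_mul.mp hdv).elim S.not_dvd_index fun h =>
        hr.ne_one (Nat.eq_one_of_dvd_coprimes (propCore hG T hT).2.1
          (hrW.trans (Subgroup.card_dvd_of_le hW₁TF)) h)
    obtain ⟨y, hy⟩ := MulAction.exists_smul_eq G R ((S.isPGroup'.map TF.subtype).toSylow hSi)
    refine ⟨y, ?_⟩
    have hxF : y * x * y⁻¹ ∈ TF := by
      have h1 : y * x * y⁻¹ ∈ ((y • R : Sylow r G) : Subgroup G) := by
        rw [Sylow.coe_subgroup_smul]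
        exact Subgroup.smul_mem_pointwise_smul _ (MulAut.conj y) _ (hR (Subgroup.mem_zpowers x))
      rw [hy] at h1
      exact Subgroup.map_subtype_le _ h1
    have hx1 : y * x * y⁻¹ ≠ 1 := fun h => hr.ne_one (by rw [← hxo, conj_eq_one_iff.mp h, orderOf_one])
    have hFF : TF ≤ Cfsg.fittingOf T := fittingHallOf_le_fitting T
    have hNF : Subgroup.normalizer (Cfsg.fittingOf T : Set G) = T :=
      Sigma15.normalizer_eq_of_normal hG hT (fittingOf_le T)
        (fun h => hx1 (Subgroup.mem_bot.mp (h ▸ hFF hxF))) (fittingOf_normal T)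
    have hcom : Commute g x := by
      obtain ⟨i, rfl⟩ := Subgroup.mem_zpowers_iff.mp hx
      exact (Commute.refl g).zpow_right i
    by_contra hgT
    refine hx1 (hT2.TI _ (fun h => hgT (hNF.le h)) _ (hFF hxF) ?_)
    rw [(commute_conj y hcom).eq, mul_inv_cancel_right]
    exact hFF hxF
  -- the count
  set Sg := {g : G // (∃ r : ℕ, r.Prime ∧ r ∣ Nat.card W₁ ∧ r ∣ orderOf g) ∧ ¬ Zc g}
  have hrep : ∀ g : Sg, ∃ c : G ⧸ T, ∃ h : TF, ∃ y : ↥(insert (1 : G) B),
      (c.out)⁻¹ * (g : G) * c.out = (h : G) * y := by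
    intro g
    obtain ⟨y, hy⟩ := hconj g g.2.1
    obtain ⟨t, ht⟩ := QuotientGroup.mk_out_eq_mul T y⁻¹
    refine ⟨(y⁻¹ : G), ?_⟩
    set o := ((y⁻¹ : G) : G ⧸ T).out
    have he : o⁻¹ * (g : G) * o = (t : G)⁻¹ * (y * g * y⁻¹) * t := by
      rw [ht]; group
    have hgT' : o⁻¹ * (g : G) * o ∈ T := he ▸ T.mul_mem (T.mul_mem (T.inv_mem t.2) hy) t.2
    obtain ⟨h, hh, z, hz, hhz⟩ := key _ hgT'
      (by
        obtain ⟨r, hr, hrW, hrg⟩ := g.2.1
        refine ⟨r, hr, hrW, hrg.trans (dvd_of_eq ?_)⟩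
        rw [show o⁻¹ * (g : G) * o = o⁻¹ * g * o⁻¹⁻¹ by rw [inv_inv], OddOrder42.orderOf_conj])
      (fun hZ => g.2.2 (hZconj _ o⁻¹ (by rwa [inv_inv])))
    exact ⟨⟨h, hh⟩, ⟨z, hz⟩, hhz⟩
  choose fc fh fy hfe using hrep
  have hcount : Nat.card Sg ≤ T.index * (Nat.card TF * (Nat.card B + 1)) := by
    refine (Nat.card_le_card_of_injective (fun g => (fc g, fh g, fy g)) fun a b hab => ?_).trans ?_
    · simp only [Prod.mk.injEq] at hab
      obtain ⟨h1, h2, h3⟩ := hab
      refine Subtype.ext ?_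
      have ha := hfe a
      rw [h1, h2, h3, ← hfe b] at ha
      exact mul_left_cancel (mul_right_cancel ha)
    · rw [Nat.card_prod, Nat.card_prod, ← Subgroup.index_eq_card]
      refine Nat.mul_le_mul le_rfl (Nat.mul_le_mul le_rfl ?_)
      rw [Nat.card_coe_set_eq, Nat.card_coe_set_eq]
      exact Set.ncard_insert_le _ _
  have hcardT : Nat.card TF * v * p = Nat.card T := by
    rw [hvdef, complIn_card hd.U_compl, hpdef, complIn_card hd.W₁_compl]
  calc 3 * Nat.card Sg * (v * p)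
      ≤ 3 * (T.index * (Nat.card TF * (Nat.card B + 1))) * (v * p) :=
        Nat.mul_le_mul (Nat.mul_le_mul le_rfl hcount) le_rfl
    _ = 3 * (Nat.card B + 1) * Nat.card G := by
        rw [← Subgroup.card_mul_index T, ← hcardT]; ring
    _ ≤ (v + 2) * Nat.card G := Nat.mul_le_mul (by omega) le_rfl

end CfsgLib.PF
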