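import Cfsg.Agent.Lib.PF.Sec10Setup

/-!
# PF (7.5), (10.8): the norm of `τ₁ζ` on the Dade support of `A(M)`
-/

set_option autoImplicit false
set_option linter.style.haveILetI false
set_option linter.unusedSectionVars false

namespace CfsgLib.PF

open scoped Classical ComplexConjugate
open Finset CfsgLib.Characters CfsgLib.OddChar

universe u

/-- A class function whose coefficients at the non-principal irreducibles are proportional to the
degrees is constant away from `1`. -/
theorem const_of_inner_prop {K : Type u} [Group K] [Fintype K] {F : K → ℂ}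
    (hF : Cfsg.IsClassFunction K F) {c : ℂ}
    (h : ∀ θ : K → ℂ, Cfsg.IsIrrCharacter K θ → θ ≠ (fun _ => 1) →
      Cfsg.classInner F θ = c * θ 1) :
    ∃ a : ℂ, ∀ x : K, x ≠ 1 → F x = a := by
  refine ⟨Cfsg.classInner F (fun _ => (1 : ℂ)) - c, fun x hx => ?_⟩
  set o : Cfsg.IrrCharacter K := ⟨fun _ => 1, isIrrCharacter_one⟩ with ho
  have h0 := sum_degree_mul_irr (G := K) x
  rw [if_neg hx] at h0
  have e : ∀ χ : Cfsg.IrrCharacter K, Cfsg.classInner F (χ : K → ℂ) * (χ : K → ℂ) x =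
      c * ((χ : K → ℂ) 1 * (χ : K → ℂ) x) +
        (if χ = o then Cfsg.classInner F (fun _ => (1 : ℂ)) - c else 0) := by
    intro χ
    by_cases hχ : χ = o
    · rw [if_pos hχ, hχ]
      simp [ho]
    · rw [if_neg hχ, h χ χ.2 fun r => hχ (Subtype.ext r)]
      ring
  calc F x = ∑ χ : Cfsg.IrrCharacter K, Cfsg.classInner F (χ : K → ℂ) * (χ : K → ℂ) x := by
        conv_lhs => rw [classFunction_eq_sum hF]
        simp [Finset.sum_apply]
    _ = _ := by
        rw [Finset.sum_congr rfl fun χ _ => e χ, Finset.sum_add_distrib, ← Finset.mul_sum, h0,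
          Finset.sum_ite_eq']
        simp

variable {G : Type u} [Group G] [Fintype G]

/-- The average of `f` over the coset `a R(a)`. -/
noncomputable def suppAvg (M : Subgroup G) (f : G → ℂ) (a : G) : ℂ :=
  (Nat.card (Cfsg.supportR M a) : ℂ)⁻¹ * ∑ᶠ u ∈ (Cfsg.supportR M a : Set G), f (a * u)

theorem suppAvg_conj {A : Set G} {M : Subgroup G}
    (hD : Cfsg.DadeHypothesis A M (Cfsg.supportR M)) {f : G → ℂ} (hf : Cfsg.IsClassFunction G f)
    {a l : G} (ha : a ∈ A) (hl : l ∈ M) : suppAvg M f (l * a * l⁻¹) = suppAvg M f a := by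
  have hb := hD.conj_mem l hl a ha
  rw [suppAvg, suppAvg, ← dade_card_H_conj hD ha hb rfl]
  congr 1
  rw [finsum_mem_eq_finite_toFinset_sum _ (Set.toFinite _),
    finsum_mem_eq_finite_toFinset_sum _ (Set.toFinite _)]
  refine Finset.sum_bij' (fun u _ => l⁻¹ * u * l) (fun u _ => l * u * l⁻¹) ?_ ?_ ?_ ?_ ?_
  · intro u hu
    rw [Set.Finite.mem_toFinset, SetLike.mem_coe] at hu ⊢
    have := dade_conj_mem_H hD hb ha (x := l⁻¹) (by group) hu
    rwa [inv_inv] at this
  · intro u hu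
    rw [Set.Finite.mem_toFinset, SetLike.mem_coe] at hu ⊢
    exact dade_conj_mem_H hD ha hb rfl hu
  · intro u _; group
  · intro u _; group
  · intro u _
    rw [← hf (a * (l⁻¹ * u * l)) l]
    congr 1
    group

namespace NCSetup

variable {M W₁ U W₂ : Subgroup G} {μ : (↥(W₁ ⊔ W₂) →* ℂˣ) → (↥M → ℂ)}
  {δ : (↥(W₁ ⊔ W₂) →* ℂˣ) → ℂ} {η : (↥(W₁ ⊔ W₂) →* ℂˣ) → (G → ℂ)}
  {R : (↥M → ℂ) → Finset (G → ℂ)} {τ₁ : (↥M → ℂ) → (G → ℂ)} {ζ : ↥M → ℂ} {d : ℕ} {e n : ℤ}
  (s : NCSetup M W₁ U W₂ μ δ η R τ₁ ζ d e n)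

include s

/-- PF (7.5), (10.8): `τ₁ζ` averages to `ζ + a` on `M'#`. -/
theorem suppAvg_tau1 :
    ∃ a : ℂ, ∀ x : ↥M, (x : G) ∈ suppA M → suppAvg M (τ₁ ζ) x = ζ x + a := by
  set K := (⁅M, M⁆ : Subgroup G).subgroupOf M with hKdef
  haveI : Fintype K := Fintype.ofFinite K
  haveI hKn : K.Normal := derived_subgroupOf_normal M
  have hD0 : Cfsg.DadeHypothesis (suppA0 M) M (Cfsg.supportR M) :=
    dade (propTypes s.min) (propDade s.min) s.max s.data
  have hA : Cfsg.DadeHypothesis (suppA M) M (Cfsg.supportR M) :=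
    (propDade s.min M _ s.max (Or.inr (Or.inl rfl))).2
  have hψc : Cfsg.IsClassFunction G (τ₁ ζ) :=
    isClassFunction_of_isGeneralizedCharacter (s.part.iso.2.2.2 _ (zspan_of_mem s.mem))
  have hζc : Cfsg.IsClassFunction ↥M ζ := isClassFunction_of_isCharacter (isCharacter_of_irr s.irr)
  have hvan : ∀ χ ∈ calS M (Cfsg.typeCore M) ⊥, ∀ x : ↥M, x ∉ K → χ x = 0 := by
    intro χ hχ x hx
    obtain ⟨θ, -, -, -, rfl⟩ := hχ.1
    exact CfsgLib.Induction.indFun_normal_eq_zero _ hx
  have hAK : ∀ x : ↥M, (x : G) ∈ suppA M ↔ x ∈ K ∧ x ≠ 1 := fun x => by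
    rw [s.supp]
    exact ⟨fun h => ⟨h.1, fun r => h.2 (congrArg Subtype.val r)⟩,
      fun h => ⟨h.1, fun r => h.2 (Subtype.ext r)⟩⟩
  set F : ↥M → ℂ := fun x => if (x : G) ∈ suppA M then suppAvg M (τ₁ ζ) x - ζ x else 0 with hF
  have hFc : Cfsg.IsClassFunction ↥M F := by
    intro g x
    have hiff : ((x * g * x⁻¹ : ↥M) : G) ∈ suppA M ↔ (g : G) ∈ suppA M := by
      constructor
      · intro h
        have := hA.conj_mem _ (M.inv_mem x.2) _ h
        simpa [mul_assoc] using this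
      · intro h
        exact hA.conj_mem _ x.2 _ h
    by_cases h : (g : G) ∈ suppA M
    · simp only [hF, if_pos h, if_pos (hiff.mpr h), hζc g x]
      rw [show ((x * g * x⁻¹ : ↥M) : G) = (x : G) * g * (x : G)⁻¹ by simp,
        suppAvg_conj hA hψc h x.2]
    · simp only [hF, if_neg h, if_neg fun r => h (hiff.mp r)]
  have hF0 : ∀ x, x ∉ K → F x = 0 := fun x hx => if_neg fun h => hx ((hAK x).mp h).1
  -- inner products against `indFun K θ - θ(1) ζ`
  have hkey : ∀ θ : K → ℂ, Cfsg.IsIrrCharacter K θ → θ ≠ (fun _ => 1) →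
      Cfsg.classInner (Cfsg.indFun K θ) F = θ 1 * Cfsg.classInner ζ F := by
    intro θ hθ h1
    obtain ⟨m, -, hm⟩ := irr_exists_degree hθ
    have hmem : Cfsg.indFun K θ ∈ calS M (Cfsg.typeCore M) ⊥ := by
      rw [s.core]
      refine ⟨⟨θ, hθ, h1, fun x hx => ?_, rfl⟩, ?_⟩
      · rw [Subgroup.bot_subgroupOf, Subgroup.mem_bot] at hx
        rw [show x = 1 from Subtype.ext hx]
      · rintro ⟨θ', hθ', h1', hker, -⟩
        have h0 := classInner_irr_ne hθ' isIrrCharacter_one h1'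
        rw [show θ' = θ' 1 • (fun _ => (1 : ℂ)) from funext fun x => by simpa using hker x x.2,
          classInner_smul_left, classInner_irr_self isIrrCharacter_one, mul_one] at h0
        exact irr_one_ne_zero ⟨θ', hθ'⟩ h0
    have hb : (1 : ℤ) • Cfsg.indFun K θ - (m : ℤ) • ζ ∈
        Cfsg.zspanOn (calS M (Cfsg.typeCore M) ⊥) {1}ᶜ :=
      zspanOn_map hmem s.mem _ _ (by
        rw [CfsgLib.Induction.indFun_one_apply, derived_index s.data, s.deg, hm]
        push_cast
        ring)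
    have he := s.part.ext _ hb
    rw [isometry_sub s.part.iso (zspan_zsmul _ (zspan_of_mem hmem))
      (zspan_zsmul _ (zspan_of_mem s.mem)) hb.1, s.part.iso.2.1 _ (zspan_of_mem hmem),
      s.part.iso.2.1 _ (zspan_of_mem s.mem)] at he
    simp only [CfsgLib.OddChar.zsmul_eq_smul, one_smul, Int.cast_natCast] at he hb
    set β := Cfsg.indFun K θ - (m : ℂ) • ζ with hβ
    have hβc : Cfsg.IsClassFunction ↥M β :=
      isClassFunction_sub (CfsgLib.Induction.isClassFunction_indFun _ _) (isClassFunction_smul hζc _)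
    have hβA : ∀ x : ↥M, (x : G) ∉ suppA M → β x = 0 := by
      intro x hx
      by_cases hK : x ∈ K
      · exact hb.2 x (by
          simp only [Set.mem_compl_iff, Set.mem_singleton_iff, not_not]
          by_contra hne
          exact hx ((hAK x).mpr ⟨hK, hne⟩))
      · simp [hβ, hvan _ hmem x hK, hvan _ s.mem x hK]
    have hadj : Cfsg.classInner (tau M β) (τ₁ ζ) =
        Cfsg.classInner β (fun x : ↥M => suppAvg M (τ₁ ζ) x) :=
      dade_adjoint hD0 hβc (fun x hx => hβA x fun h => hx (Or.inl h)) hψc fun _ _ => rfl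
    have hiso : Cfsg.classInner (tau M β) (τ₁ ζ) = Cfsg.classInner β ζ := by
      rw [← he, classInner_sub_left, classInner_smul_left,
        s.part.iso.2.2.1 _ (zspan_of_mem hmem) _ (zspan_of_mem s.mem),
        s.part.iso.2.2.1 _ (zspan_of_mem s.mem) _ (zspan_of_mem s.mem), hβ, classInner_sub_left,
        classInner_smul_left]
    have hz : Cfsg.classInner β F = 0 := by
      have h2 : Cfsg.classInner β F =
          Cfsg.classInner β (fun x : ↥M => suppAvg M (τ₁ ζ) x) - Cfsg.classInner β ζ := by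
        rw [← classInner_sub_right]
        unfold Cfsg.classInner
        congr 1
        refine Finset.sum_congr rfl fun x _ => ?_
        by_cases h : (x : G) ∈ suppA M
        · simp [hF, if_pos h]
        · simp [hβA x h]
      rw [h2, ← hadj, hiso, sub_self]
    rw [hβ, classInner_sub_left, classInner_smul_left, sub_eq_zero] at hz
    rw [hz, hm]
  obtain ⟨a, ha⟩ := const_of_inner_prop (K := K) (F := fun k : K => F k)
    (fun g x => by
      have := hFc g x
      simpa using this)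
    (c := conj (Cfsg.classInner ζ F)) fun θ hθ h1 => by
      have h := hkey θ hθ h1
      rw [CfsgLib.Induction.classInner_indFun K θ hFc] at h
      obtain ⟨m, -, hm⟩ := irr_exists_degree hθ
      rw [classInner_conj_symm, h, map_mul, hm, map_natCast]
      ring
  refine ⟨a, fun x hx => ?_⟩
  have h := ha ⟨x, ((hAK x).mp hx).1⟩ fun r => ((hAK x).mp hx).2 (congrArg Subtype.val r)
  simp only [hF, if_pos hx] at h
  linear_combination h

/-- PF (10.8): at least `1 - q/(h-1)` of the norm of `τ₁ζ` lies on `Ã(M)`. -/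
theorem norm_on_supp :
    1 - (Nat.card W₁ : ℝ) / ((Nat.card ↥(⁅M, M⁆ : Subgroup G) : ℝ) - 1) ≤
      (Nat.card G : ℝ)⁻¹ * ∑ᶠ g ∈ dadeSupp (suppA M) (Cfsg.supportR M), ‖τ₁ ζ g‖ ^ 2 := by
  obtain ⟨a, ha⟩ := s.suppAvg_tau1
  have hA : Cfsg.DadeHypothesis (suppA M) M (Cfsg.supportR M) :=
    (propDade s.min M _ s.max (Or.inr (Or.inl rfl))).2
  have hψc : Cfsg.IsClassFunction G (τ₁ ζ) :=
    isClassFunction_of_isGeneralizedCharacter (s.part.iso.2.2.2 _ (zspan_of_mem s.mem))
  refine le_trans ?_ (dade_norm_le hA hψc (ψ := fun x : ↥M => suppAvg M (τ₁ ζ) x) fun _ _ => rfl)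
  set K := (⁅M, M⁆ : Subgroup G).subgroupOf M with hKdef
  haveI hKn : K.Normal := derived_subgroupOf_normal M
  set h : ℕ := Nat.card ↥(⁅M, M⁆ : Subgroup G) with hh
  set q : ℕ := Nat.card W₁ with hq
  have hKh : Nat.card K = h :=
    Nat.card_congr (Subgroup.subgroupOfEquivOfLe (typeP_le s.data).2.1).toEquiv
  have hMcard : Nat.card M = q * h := by
    rw [← hKh, ← Subgroup.index_mul_card K, derived_index s.data]
  set T : Finset ↥M := (univ : Finset ↥M).filter (fun x : ↥M => (x : G) ∈ suppA M) with hT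
  have hT1 : ∀ x, x ∈ T ↔ x ∈ K ∧ x ≠ 1 := fun x => by
    rw [hT, mem_filter, s.supp]
    exact ⟨fun r => ⟨r.2.1, fun r' => r.2.2 (congrArg Subtype.val r')⟩,
      fun r => ⟨mem_univ _, r.1, fun r' => r.2 (Subtype.ext r')⟩⟩
  have hTins : insert 1 T = (univ : Finset ↥M).filter (· ∈ K) := by
    ext x
    rw [mem_insert, hT1, mem_filter]
    constructor
    · rintro (rfl | r)
      · exact ⟨mem_univ _, K.one_mem⟩
      · exact ⟨mem_univ _, r.1⟩
    · intro r
      by_cases hx : x = 1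
      · exact Or.inl hx
      · exact Or.inr ⟨r.2, hx⟩
  have h1T : (1 : ↥M) ∉ T := fun r => ((hT1 1).mp r).2 rfl
  have hsumK : ∀ F : ↥M → ℂ, (∀ x, x ∉ K → F x = 0) → ∑ x, F x = F 1 + ∑ x ∈ T, F x := by
    intro F hF
    rw [← Finset.sum_insert h1T, hTins]
    exact (Finset.sum_filter_of_ne fun x _ hx => by_contra fun r => hx (hF x r)).symm
  have hζ0 : ∀ x, x ∉ K → ζ x = 0 := by
    obtain ⟨θ, -, -, -, r⟩ := s.mem.1
    intro x hx
    rw [r]
    exact CfsgLib.Induction.indFun_normal_eq_zero _ hx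
  have hcardT : (T.card : ℝ) = (h : ℝ) - 1 := by
    have h2 := congrArg Finset.card hTins
    rw [card_insert_of_notMem h1T] at h2
    have h3 : ((univ : Finset ↥M).filter (· ∈ K)).card = h := by
      rw [← hKh, Nat.card_eq_fintype_card, Fintype.card_subtype]
    rw [h3] at h2
    rw [eq_sub_iff_add_eq]
    exact_mod_cast h2
  have hM0 : (Nat.card M : ℂ) ≠ 0 := Nat.cast_ne_zero.mpr Nat.card_pos.ne'
  have hS1 : ∑ x ∈ T, ζ x = -(q : ℂ) := by
    have hne : ζ ≠ fun _ => (1 : ℂ) := fun r => by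
      have := congrFun r 1
      rw [s.deg, Nat.cast_eq_one] at this
      have := (three_le_card s.data.selfNormalizing (odd_W s.min s.data)).1
      omega
    have h0 := classInner_irr_ne s.irr isIrrCharacter_one hne
    rw [Cfsg.classInner, mul_eq_zero, or_iff_right (inv_ne_zero hM0)] at h0
    simp only [map_one, mul_one] at h0
    rw [hsumK ζ hζ0, s.deg] at h0
    linear_combination h0
  have hS2 : ∑ x ∈ T, ζ x * conj (ζ x) = (Nat.card M : ℂ) - (q : ℂ) * q := by
    have h0 := classInner_irr_self s.irr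
    rw [Cfsg.classInner, inv_mul_eq_one₀ hM0,
      hsumK _ (fun x hx => by rw [hζ0 x hx, zero_mul]), s.deg, Complex.conj_natCast] at h0
    linear_combination -h0
  have hlhs : (∑ᶠ x ∈ {x : ↥M | (x : G) ∈ suppA M}, ‖suppAvg M (τ₁ ζ) x‖ ^ 2) =
      (Nat.card M : ℝ) - (q : ℝ) * q - 2 * q * a.re + ((h : ℝ) - 1) * (a.re * a.re + a.im * a.im) := by
    rw [finsum_mem_eq_finite_toFinset_sum _ (Set.toFinite _)]
    have e : (Set.toFinite {x : ↥M | (x : G) ∈ suppA M}).toFinset = T := by ext; simp [hT]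
    rw [e]
    have hC : ((∑ x ∈ T, ‖suppAvg M (τ₁ ζ) x‖ ^ 2 : ℝ) : ℂ) =
        (Nat.card M : ℂ) - (q : ℂ) * q + conj a * (-(q : ℂ)) + a * conj (-(q : ℂ)) +
          (T.card : ℂ) * (a * conj a) := by
      rw [← hS2, ← hS1, Complex.ofReal_sum, map_sum, Finset.mul_sum, Finset.mul_sum,
        ← nsmul_eq_mul, ← Finset.sum_const, ← Finset.sum_add_distrib, ← Finset.sum_add_distrib,
        ← Finset.sum_add_distrib]
      refine Finset.sum_congr rfl fun x hx => ?_
      rw [ha x (mem_filter.mp hx).2, Complex.ofReal_pow, ← Complex.mul_conj', map_add]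
      ring
    have hre := congrArg Complex.re hC
    simp only [Complex.ofReal_re, Complex.add_re, Complex.sub_re, Complex.mul_re, Complex.natCast_re,
      Complex.natCast_im, Complex.conj_re, Complex.conj_im, Complex.neg_re, Complex.neg_im] at hre
    rw [hre, hcardT]
    ring
  rw [hlhs, hMcard]
  have hq0 : (0 : ℝ) < q := Nat.cast_pos.mpr Nat.card_pos
  have hh1 : (0 : ℝ) < (h : ℝ) - 1 := by
    have hne : (⁅M, M⁆ : Subgroup G) ≠ ⊥ := fun r =>
      s.data.selfNormalizing.2.1 (le_bot_iff.mp (((typeP_le s.data).2.2.2.1.trans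
        (typeP_le s.data).2.2.1).trans r.le))
    have : (1 : ℝ) < h := by exact_mod_cast (Subgroup.one_lt_card_iff_ne_bot _).mpr hne
    linarith
  push_cast
  have hh0 : (0 : ℝ) < h := by linarith
  have hk : (q : ℝ) * q ≤ ((h : ℝ) - 1) * (((h : ℝ) - 1) * (a.re * a.re + a.im * a.im) - 2 * q * a.re) +
      2 * ((q : ℝ) * q) := by
    nlinarith [mul_self_nonneg (((h : ℝ) - 1) * a.re - q), mul_self_nonneg (((h : ℝ) - 1) * a.im)]
  rw [inv_mul_eq_div, le_div_iff₀ (by positivity), sub_mul, div_mul_eq_mul_div, one_mul,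
    sub_le_iff_le_add, ← sub_nonneg]
  have he : (q : ℝ) * h - q * q - 2 * q * a.re + ((h : ℝ) - 1) * (a.re * a.re + a.im * a.im) +
      q * (q * h) / ((h : ℝ) - 1) - q * h =
      (((h : ℝ) - 1) * (((h : ℝ) - 1) * (a.re * a.re + a.im * a.im) - 2 * q * a.re) + q * q) /
        ((h : ℝ) - 1) := by
    field_simp
    ring
  rw [he]
  exact div_nonneg (by linarith) hh1.le

end NCSetup

end CfsgLib.PF
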