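import Cfsg.Agent.Lib.PF.Sec10Off
import Cfsg.Agent.Lib.PF.Sec10Rho
import Cfsg.Agent.Lib.PF.Sec10Count

/-!
# PF (10.8): non-coherence for Types III–V
-/

set_option autoImplicit false
set_option linter.style.haveILetI false
set_option linter.unusedSectionVars false

namespace CfsgLib.PF

open scoped Classical ComplexConjugate
open Finset CfsgLib.Characters CfsgLib.OddChar

universe u

variable {G : Type u} [Group G] [Fintype G]

/-- The size of a Dade support with base `A`. -/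
theorem card_dadeSupp {A : Set G} {L : Subgroup G} {H : G → Subgroup G}
    (hD : Cfsg.DadeHypothesis A L H) :
    Nat.card L * Nat.card (dadeSupp A H) = Nat.card G * Nat.card A := by
  have h := dade_sum hD (k := ℚ) (fun _ => 1) (fun _ _ => rfl)
  have e : ∀ a ∈ univ.filter (· ∈ A),
      (Nat.card (H a) : ℚ)⁻¹ * ∑ u ∈ univ.filter (· ∈ H a), (1 : ℚ) = 1 := by
    intro a _
    rw [Finset.sum_const, nsmul_eq_mul, mul_one,
      show ((univ.filter (· ∈ H a)).card : ℚ) = Nat.card (H a) by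
        rw [Nat.card_eq_fintype_card, Fintype.card_subtype]]
    exact inv_mul_cancel₀ (Nat.cast_ne_zero.mpr Nat.card_pos.ne')
  rw [Finset.sum_congr rfl e] at h
  simp only [Finset.sum_const, nsmul_eq_mul, mul_one] at h
  have h' : Nat.card L * (univ.filter (· ∈ dadeSupp A H)).card =
      Nat.card G * (univ.filter (· ∈ A)).card := by exact_mod_cast h
  rwa [Nat.card_eq_fintype_card (α := dadeSupp A H), Nat.card_eq_fintype_card (α := A),
    Fintype.card_subtype, Fintype.card_subtype]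

/-- The conjugates of `W - (W₁ ∪ W₂)` are at most `[G : W] (|W₁| - 1) (|W₂| - 1)` in number. -/
theorem card_hatConj_le {W₁ W₂ : Subgroup G} (hW : Cfsg.IsSelfNormalizingCyclic W₁ W₂) :
    Nat.card ↥(W₁ ⊔ W₂) * Nat.card (hatConj W₁ W₂) ≤
      Nat.card G * ((Nat.card W₁ - 1) * (Nat.card W₂ - 1)) := by
  let f : (G ⧸ (W₁ ⊔ W₂)) × ({a : W₁ // a ≠ 1} × {b : W₂ // b ≠ 1}) → G :=
    fun p => p.1.out * ((p.2.1.1 : G) * (p.2.2.1 : G)) * p.1.out⁻¹
  have hsub : hatConj W₁ W₂ ⊆ Set.range f := by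
    rintro g ⟨y, z, hz, h1, h2, rfl⟩
    obtain ⟨⟨a, b⟩, hab⟩ := (ctiMul_bijective hW.2.2.1 hW.2.2.2.1).2 ⟨z, hz⟩
    have hab' : (a : G) * (b : G) = z := congrArg Subtype.val hab
    have ha : a ≠ 1 := by
      rintro rfl
      exact h2 (by rw [← hab', OneMemClass.coe_one, one_mul]; exact b.2)
    have hb : b ≠ 1 := by
      rintro rfl
      exact h1 (by rw [← hab', OneMemClass.coe_one, mul_one]; exact a.2)
    obtain ⟨w, hw⟩ := QuotientGroup.mk_out_eq_mul (W₁ ⊔ W₂) y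
    refine ⟨(QuotientGroup.mk y, (⟨a, ha⟩, ⟨b, hb⟩)), ?_⟩
    show (QuotientGroup.mk y : G ⧸ (W₁ ⊔ W₂)).out * ((a : G) * (b : G)) *
      (QuotientGroup.mk y : G ⧸ (W₁ ⊔ W₂)).out⁻¹ = _
    rw [hw, hab']
    have hc := congrArg Subtype.val (cti_abelian hW w ⟨z, hz⟩)
    simp only [Subgroup.coe_mul] at hc
    calc y * (w : G) * z * (y * (w : G))⁻¹ = y * ((w : G) * z) * (w : G)⁻¹ * y⁻¹ := by group
      _ = _ := by rw [hc]; group
  have h1 : Nat.card (hatConj W₁ W₂) ≤ (W₁ ⊔ W₂).index * ((Nat.card W₁ - 1) * (Nat.card W₂ - 1)) := by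
    refine (Nat.card_mono (Set.toFinite _) hsub).trans ((Finite.card_range_le f).trans ?_)
    rw [Nat.card_prod, Nat.card_prod, card_ne_one_subtype, card_ne_one_subtype]
    exact le_rfl
  calc Nat.card ↥(W₁ ⊔ W₂) * Nat.card (hatConj W₁ W₂)
      ≤ Nat.card ↥(W₁ ⊔ W₂) * ((W₁ ⊔ W₂).index * ((Nat.card W₁ - 1) * (Nat.card W₂ - 1))) :=
        Nat.mul_le_mul le_rfl h1
    _ = _ := by rw [← mul_assoc, Subgroup.card_mul_index]

/-- The arithmetic at the end of (10.8). -/
theorem noncoherence_arith {q p v h : ℤ} (hq : q = 3 ∨ 5 ≤ q) (hp : 3 ≤ p) (hv : 7 ≤ v)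
    (hv3 : q = 3 → 11 ≤ v)
    (hh : 4 * p * q ≤ h - 1 ∨ (13 ≤ q ∧ p * (6 * q + 2) ≤ 3 * (h - 1)))
    (hineq : (h - 1) * ((2 * q - 3) * v - 2 * q) ≤ 3 * v * p * q * q) : False := by
  have hq3 : 3 ≤ q := by omega
  have hpos : 0 ≤ (2 * q - 3) * v - 2 * q := by nlinarith
  rcases hh with hh | ⟨h13, hh⟩
  · have h1 := mul_le_mul_of_nonneg_right hh hpos
    have h2 : (p * q) * (4 * ((2 * q - 3) * v - 2 * q)) ≤ (p * q) * (3 * v * q) := by linarith
    have h3 := le_of_mul_le_mul_left h2 (by positivity)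
    rcases hq with rfl | hq5
    · have := hv3 rfl
      omega
    · nlinarith
  · have h1 := mul_le_mul_of_nonneg_right hh hpos
    have h2 : p * ((6 * q + 2) * ((2 * q - 3) * v - 2 * q)) ≤ p * (9 * v * q * q) := by linarith
    have h3 := le_of_mul_le_mul_left h2 (by omega)
    have hA : 0 ≤ 3 * q * q - 14 * q - 6 := by nlinarith
    nlinarith [mul_le_mul_of_nonneg_right hv hA,
      mul_le_mul_of_nonneg_left h13 (show (0 : ℤ) ≤ q by omega)]

/-- PF (10.8). -/
theorem propNoncoherence (hG : Cfsg.IsMinSimpleOddOrder G) : PropNoncoherence G := by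
  intro M W₁ U W₂ hM hkind hcoh
  obtain ⟨μ, δ, η, R, τ₁, ζ, d, e, n, s⟩ := exists_ncSetup hG hM hkind hcoh
  have hP := data_of_345 hkind
  have hp := prime_W₂_of_345 (propKinds hG) (propPartner hG) hM hkind
  obtain ⟨T, V, hpair⟩ := propPartner hG M W₁ U W₂ hM hP
  have hT2' : Cfsg.IsOfTypeII T := hpair.some_II.resolve_left fun hII =>
    not_kind2_of_345 hkind ((propKinds hG M W₁ U W₂ hM hP).2.1.mp hII)
  have hT2 := (propKinds hG T W₂ V W₁ hpair.right_max hpair.right).2.1.mp hT2'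
  obtain ⟨hv7, hv3, hcountS⟩ := typeII_singular_bound hG hpair hT2
  have hW := hP.selfNormalizing
  set q := Nat.card W₁ with hq
  set p := Nat.card W₂ with hp'
  set v := Nat.card V with hv
  set h := Nat.card ↥(⁅M, M⁆ : Subgroup G) with hh
  set N := Nat.card G with hN
  set D := dadeSupp (suppA M) (Cfsg.supportR M) with hD
  set Ω := hatConj W₁ W₂ with hΩ
  set Sg : Set G := {g | (∃ r : ℕ, r.Prime ∧ r ∣ q ∧ r ∣ orderOf g) ∧ g ∉ Ω} with hSg
  set G₀ : Set G := {g | g ∉ D ∧ g ∉ Ω ∧ (orderOf g).Coprime q} with hG₀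
  have hcountS' : 3 * Nat.card Sg * (v * p) ≤ (v + 2) * N := hcountS
  have hcover : N ≤ Nat.card G₀ + Nat.card D + Nat.card Ω + Nat.card Sg := by
    have e : (Set.univ : Set G) = G₀ ∪ D ∪ Ω ∪ Sg := by
      ext g
      simp only [Set.mem_univ, Set.mem_union, true_iff]
      by_cases hgD : g ∈ D
      · exact Or.inl (Or.inl (Or.inr hgD))
      by_cases hgΩ : g ∈ Ω
      · exact Or.inl (Or.inr hgΩ)
      by_cases hc : (orderOf g).Coprime q
      · exact Or.inl (Or.inl (Or.inl ⟨hgD, hgΩ, hc⟩))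
      · obtain ⟨r, hr, hr1, hr2⟩ := Nat.Prime.not_coprime_iff_dvd.mp hc
        exact Or.inr ⟨⟨r, hr, hr2, hr1⟩, hgΩ⟩
    have h1 := congrArg Set.ncard e
    rw [Set.ncard_univ] at h1
    rw [hN, h1]
    simp only [Nat.card_coe_set_eq]
    refine (Set.ncard_union_le _ _).trans (Nat.add_le_add_right ?_ _)
    refine (Set.ncard_union_le _ _).trans (Nat.add_le_add_right ?_ _)
    exact Set.ncard_union_le _ _
  have hAcard : Nat.card (suppA M) + 1 = h := by
    rw [s.supp, hh]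
    have h1 : Nat.card {x : G | x ∈ ⁅M, M⁆ ∧ x ≠ 1} = Nat.card {x : ↥(⁅M, M⁆ : Subgroup G) // x ≠ 1} :=
      Nat.card_congr
        { toFun := fun x => ⟨⟨x.1, x.2.1⟩, fun r => x.2.2 (congrArg Subtype.val r)⟩
          invFun := fun x => ⟨x.1.1, x.1.2, fun r => x.2 (Subtype.ext r)⟩
          left_inv := fun _ => rfl
          right_inv := fun _ => rfl }
    rw [h1, card_ne_one_subtype]
    have := Nat.card_pos (α := ↥(⁅M, M⁆ : Subgroup G))
    omega
  have hMcard : Nat.card M = q * h := by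
    rw [hh, ← Nat.card_congr (Subgroup.subgroupOfEquivOfLe (typeP_le hP).2.1).toEquiv,
      ← Subgroup.index_mul_card ((⁅M, M⁆ : Subgroup G).subgroupOf M), derived_index hP]
  have hDeq : q * h * Nat.card D = N * (h - 1) := by
    have := card_dadeSupp s.dadeA
    rw [hMcard, show Nat.card (suppA M) = h - 1 by omega] at this
    exact this
  have hΩle : q * p * Nat.card Ω ≤ N * ((q - 1) * (p - 1)) := by
    have := card_hatConj_le hW
    rwa [← Nat.card_congr (Equiv.ofBijective _ (ctiMul_bijective hW.2.2.1 hW.2.2.2.1)),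
      Nat.card_prod] at this
  -- the norm
  have hψg : Cfsg.IsGeneralizedCharacter G (τ₁ ζ) := s.part.iso.2.2.2 _ (zspan_of_mem s.mem)
  have hnorm : (Nat.card G₀ : ℝ) * ((h : ℝ) - 1) ≤ (q : ℝ) * (N : ℝ) := by
    have h1 := s.norm_on_supp
    rw [← hq, ← hh, ← hD, ← hN] at h1
    have htot : (N : ℝ)⁻¹ * ∑ g : G, ‖τ₁ ζ g‖ ^ 2 = 1 := by
      have h2 := s.part.iso.2.2.1 _ (zspan_of_mem s.mem) _ (zspan_of_mem s.mem)
      rw [classInner_irr_self s.irr, Cfsg.classInner] at h2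
      simp only [Complex.mul_conj'] at h2
      rw [← Complex.ofReal_inj]
      push_cast
      rw [hN]
      simpa using h2
    rw [finsum_mem_eq_finite_toFinset_sum _ (Set.toFinite _)] at h1
    have hsplit : (∑ g ∈ (Set.toFinite D).toFinset, ‖τ₁ ζ g‖ ^ 2) + (Nat.card G₀ : ℝ) ≤
        ∑ g : G, ‖τ₁ ζ g‖ ^ 2 := by
      have hdisj : Disjoint (Set.toFinite D).toFinset (Set.toFinite G₀).toFinset := by
        rw [Finset.disjoint_left]
        intro g hg1 hg2
        rw [Set.Finite.mem_toFinset] at hg1 hg2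
        exact hg2.1 hg1
      refine le_trans ?_ (Finset.sum_le_sum_of_subset_of_nonneg (Finset.subset_univ
        ((Set.toFinite D).toFinset ∪ (Set.toFinite G₀).toFinset)) fun g _ _ => by positivity)
      rw [Finset.sum_union hdisj]
      refine add_le_add le_rfl ?_
      rw [Nat.card_eq_card_finite_toFinset (Set.toFinite G₀)]
      have := Finset.card_nsmul_le_sum (Set.toFinite G₀).toFinset (fun g => ‖τ₁ ζ g‖ ^ 2) (1 : ℝ)
        fun g hg => by
          rw [Set.Finite.mem_toFinset] at hg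
          exact one_le_pow₀ (s.one_le_norm_tau1 hg.1 hg.2.1 hg.2.2)
      simpa using this
    have hN0 : (0 : ℝ) < N := Nat.cast_pos.mpr Nat.card_pos
    have hh1 : (0 : ℝ) < (h : ℝ) - 1 := by
      have hne : (⁅M, M⁆ : Subgroup G) ≠ ⊥ := fun r =>
        hW.2.1 (le_bot_iff.mp (((typeP_le hP).2.2.2.1.trans (typeP_le hP).2.2.1).trans r.le))
      have : (1 : ℝ) < h := by exact_mod_cast (Subgroup.one_lt_card_iff_ne_bot _).mpr hne
      linarith
    rw [inv_mul_eq_one₀ hN0.ne'] at htot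
    rw [inv_mul_eq_div, le_div_iff₀ hN0, sub_mul, one_mul] at h1
    have h3 : (Nat.card G₀ : ℝ) ≤ (q : ℝ) / ((h : ℝ) - 1) * N := by linarith
    rwa [div_mul_eq_mul_div, le_div_iff₀ hh1] at h3
  have hnorm' : (Nat.card G₀ : ℤ) * ((h : ℤ) - 1) ≤ (q : ℤ) * N := by exact_mod_cast hnorm
  -- arithmetic
  obtain ⟨hq3, hp3⟩ := s.three_le
  have hqodd : Odd q := hG.1.of_dvd_nat (Subgroup.card_subgroup_dvd_card W₁)
  have hcases : q = 3 ∨ 5 ≤ q := by
    obtain ⟨k, hk⟩ := hqodd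
    omega
  have hh1 : 1 ≤ h := Nat.card_pos
  have hq1 : 1 ≤ q := Nat.card_pos
  have hp1 : 1 ≤ p := Nat.card_pos
  have hN1 : (1 : ℤ) ≤ N := by exact_mod_cast (Nat.card_pos : 0 < Nat.card G)
  have A : (q : ℤ) * h * Nat.card D = N * ((h : ℤ) - 1) := by
    have : ((q * h * Nat.card D : ℕ) : ℤ) = ((N * (h - 1) : ℕ) : ℤ) := congrArg _ hDeq
    push_cast [Nat.cast_sub hh1] at this
    exact this
  have B : (q : ℤ) * p * Nat.card Ω ≤ N * (((q : ℤ) - 1) * ((p : ℤ) - 1)) := by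
    have : ((q * p * Nat.card Ω : ℕ) : ℤ) ≤ ((N * ((q - 1) * (p - 1)) : ℕ) : ℤ) :=
      Int.ofNat_le.mpr hΩle
    push_cast [Nat.cast_sub hq1, Nat.cast_sub hp1] at this
    exact this
  have C : 3 * (Nat.card Sg : ℤ) * ((v : ℤ) * p) ≤ ((v : ℤ) + 2) * N := by exact_mod_cast hcountS'
  have E : (N : ℤ) ≤ Nat.card G₀ + Nat.card D + Nat.card Ω + Nat.card Sg := by exact_mod_cast hcover
  have hineq : ((h : ℤ) - 1) * ((2 * (q : ℤ) - 3) * v - 2 * q) ≤ 3 * v * p * q * q := by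
    have hq0 : (0 : ℤ) ≤ q := by positivity
    have hhh : (0 : ℤ) ≤ (h : ℤ) - 1 := by omega
    have h1 : (N : ℤ) * (3 * v * p + h * ((2 * (q : ℤ) - 3) * v - 2 * q)) ≤
        3 * v * p * q * h * Nat.card G₀ := by
      have A' : (q : ℤ) * h * Nat.card D * (3 * v * p) = N * ((h : ℤ) - 1) * (3 * v * p) := by
        rw [A]
      linarith [A', mul_le_mul_of_nonneg_left E (show (0 : ℤ) ≤ 3 * v * p * q * h by positivity),
        mul_le_mul_of_nonneg_left B (show (0 : ℤ) ≤ 3 * v * h by positivity),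
        mul_le_mul_of_nonneg_left C (show (0 : ℤ) ≤ (q : ℤ) * h by positivity)]
    have h2 := mul_le_mul_of_nonneg_right h1 hhh
    have h3 := mul_le_mul_of_nonneg_left hnorm' (show (0 : ℤ) ≤ 3 * v * p * q * h by positivity)
    have h4 : (N : ℤ) * ((3 * v * p + h * ((2 * (q : ℤ) - 3) * v - 2 * q)) * ((h : ℤ) - 1)) ≤
        (N : ℤ) * (3 * v * p * q * q * h) := by linarith
    have h5 := le_of_mul_le_mul_left h4 (by omega)
    have h6 : (h : ℤ) * (((h : ℤ) - 1) * ((2 * (q : ℤ) - 3) * v - 2 * q)) ≤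
        (h : ℤ) * (3 * v * p * q * q) := by
      linarith [mul_nonneg (show (0 : ℤ) ≤ 3 * v * p by positivity) hhh]
    exact le_of_mul_le_mul_left h6 (by omega)
  refine noncoherence_arith (q := q) (p := p) (v := v) (h := h) (by omega) (by omega) (by omega)
    (fun r => by exact_mod_cast hv3 (by exact_mod_cast r)) ?_ hineq
  rcases derived_card_bound hG hM hkind hp with hb | ⟨h13, hb⟩
  · have hb' : (p : ℤ) * (4 * q + 1) ≤ h := by exact_mod_cast hb
    exact Or.inl (by nlinarith)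
  · have hb' : (p : ℤ) * (2 * q + 1) ≤ h := by exact_mod_cast hb
    exact Or.inr ⟨by omega, by linarith⟩

end CfsgLib.PF
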