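import Cfsg.Agent.Lib.PF.TIDataExists
import Cfsg.Agent.Lib.PF.Props10
import Cfsg.Agent.Lib.OddOrder.FittingHall
import Cfsg.Agent.Lib.OddChar.CoprimeCoset

/-!
# PF (10.10): the structure of a maximal subgroup of Type V
-/

set_option autoImplicit false
set_option linter.style.haveILetI false
set_option linter.unusedSectionVars false

namespace CfsgLib.PF

open scoped Classical
open CfsgLib.OddChar CfsgLib.OddOrder

universe u

section Shape

variable {L : Type u} [Group L] [Finite L] {K A B : Subgroup L}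

/-- If `B ≤ K'` then `L / K'` is a Frobenius group with kernel `K / K'`. -/
theorem TPL_frobenius (h : TPL K A B) (hB : B ≤ ⁅K, K⁆) {k : L} (hk : k ∈ K)
    (hk' : k ∉ ⁅K, K⁆) {x : L} (hx : x * k * x⁻¹ * k⁻¹ ∈ ⁅K, K⁆) : x ∈ K := by
  haveI := h.normal
  by_contra hxK
  obtain ⟨k₀, hk₀, w, hw, rfl⟩ :=
    Subgroup.mem_sup_of_normal_left.mp (h.top.ge (Subgroup.mem_top x))
  have hw1 : w ≠ 1 := fun e => hxK (by rw [e, mul_one]; exact hk₀)
  set N := ⁅K, K⁆ with hN
  have hNK : N ≤ K := Subgroup.commutator_le_self K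
  have hwk : w * k * w⁻¹ * k⁻¹ ∈ N := by
    have hc : k₀ * (w * k * w⁻¹) * k₀⁻¹ * (w * k * w⁻¹)⁻¹ ∈ N :=
      Subgroup.commutator_mem_commutator hk₀ (h.normal.conj_mem k hk w)
    have := N.mul_mem (N.inv_mem hc) hx
    convert this using 1
    group
  have hy : k * w * k⁻¹ * w⁻¹ ∈ N := by
    have := N.inv_mem hwk
    convert this using 1
    group
  have hcopN : Nat.Coprime (orderOf w) (Nat.card N) :=
    (h.coprime hw).coprime_dvd_right (Subgroup.card_dvd_of_le hNK)
  obtain ⟨d, hd, c, hc, hcw, e⟩ := coset_conj_centralizer N w hcopN (y := k * w * k⁻¹) hy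
  have hord : orderOf (c * w) = orderOf w := by
    rw [← orderOf_injective (MulAut.conj d).toMonoidHom (MulAut.conj d).injective (c * w),
      ← orderOf_injective (MulAut.conj k).toMonoidHom (MulAut.conj k).injective w]
    simp only [MulEquiv.coe_toMonoidHom, MulAut.conj_apply]
    rw [← e]
  have hc1 : c = 1 := by
    have h1 : (c * w) ^ orderOf w = 1 := by rw [← hord]; exact pow_orderOf_eq_one _
    rw [hcw.mul_pow, pow_orderOf_eq_one, mul_one] at h1
    refine orderOf_eq_one_iff.mp (Nat.Coprime.eq_one_of_dvd ?_ (orderOf_dvd_of_pow_eq_one h1))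
    exact (hcopN.coprime_dvd_right (N.orderOf_dvd_natCard hc)).symm
  rw [hc1, one_mul] at e
  have hfix : w * (d⁻¹ * k) = (d⁻¹ * k) * w := by
    calc w * (d⁻¹ * k) = d⁻¹ * (d * w * d⁻¹) * k := by group
      _ = _ := by rw [← e]; group
  have hm : d⁻¹ * k ∈ K := K.mul_mem (K.inv_mem (hNK hd)) hk
  have h2 : d⁻¹ * k ∈ N := hB (h.mem₂ hw hw1 hm hfix.symm)
  exact hk' (by simpa using N.mul_mem hd h2)

end Shape

variable {G : Type u} [Group G] [Fintype G]

theorem derived_subgroupOf_commutator (M : Subgroup G) :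
    (⁅⁅M, M⁆, ⁅M, M⁆⁆ : Subgroup G).subgroupOf M =
      ⁅((⁅M, M⁆ : Subgroup G).subgroupOf M), ((⁅M, M⁆ : Subgroup G).subgroupOf M)⁆ := by
  have hle : ⁅M, M⁆ ≤ M := Subgroup.commutator_le_self M
  have e : (((⁅M, M⁆ : Subgroup G).subgroupOf M)).map M.subtype = ⁅M, M⁆ := by
    rw [Subgroup.subgroupOf_map_subtype, inf_eq_left.mpr hle]
  conv_lhs => rw [← e, ← Subgroup.map_commutator]
  rw [Subgroup.subgroupOf, Subgroup.comap_map_eq_self_of_injective M.subtype_injective]

/-- For Type V data the core is `M' = M_F`. -/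
theorem kind5_core (hK : PropKinds G) {M W₁ U W₂ : Subgroup G} (hM : IsCoatom M)
    (h : Kind5 M W₁ U W₂) :
    Cfsg.fittingHallOf M = ⁅M, M⁆ ∧ Cfsg.typeCore M = ⁅M, M⁆ := by
  have hF : Cfsg.fittingHallOf M = ⁅M, M⁆ := by
    refine le_antisymm h.data.U_compl.1 fun x hx => ?_
    obtain ⟨a, ha, b, hb, e⟩ := h.data.U_compl.2.2.2 x hx
    rw [h.U_eq, Subgroup.mem_bot] at hb
    rwa [e, hb, mul_one]
  refine ⟨hF, ?_⟩
  unfold Cfsg.typeCore
  split_ifs with hc
  · rfl
  · exact hF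

/-- For Type V data `|W₂|` is a prime. -/
theorem kind5_prime (hK : PropKinds G) (hP : PropPartner G) {M W₁ U W₂ : Subgroup G}
    (hM : IsCoatom M) (h : Kind5 M W₁ U W₂) : (Nat.card W₂).Prime := by
  obtain ⟨T, V, hpair⟩ := hP M W₁ U W₂ hM h.data
  have h2 : ¬ Cfsg.IsOfTypeII M := fun e =>
    ((hK M W₁ U W₂ hM h.data).2.1.mp e).U_ne h.U_eq
  exact ((hK T W₂ V W₁ hpair.right_max hpair.right).2.1.mp
    (hpair.some_II.resolve_left h2)).W₁_prime

/-- In a minimal simple group a maximal subgroup is the normaliser of its nontrivial normal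
subgroups. -/
theorem coatom_normalizer_eq (hG : Cfsg.IsMinSimpleOddOrder G) {M H : Subgroup G} (hM : IsCoatom M)
    (hHM : H ≤ M) (hn : M ≤ Subgroup.normalizer (H : Set G)) (hne : H ≠ ⊥) :
    Subgroup.normalizer (H : Set G) = M := by
  rcases hn.lt_or_eq with hlt | heq
  · exfalso
    have hnor : H.Normal := Subgroup.normalizer_eq_top_iff.mp (hM.2 _ hlt)
    rcases hG.2.1.eq_bot_or_eq_top_of_normal H hnor with e | e
    · exact hne e
    · exact hM.1 (top_le_iff.mp (e ▸ hHM))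
  · exact heq.symm

end CfsgLib.PF
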