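import Cfsg.Agent.Lib.PF.Sec10Const
import Cfsg.Agent.Lib.PF.Sec10TypeV
import Cfsg.Agent.Lib.PF.Sec10Noncoherence
import Cfsg.Agent.Lib.OddChar.FrobeniusQuot

/-!
# PF (10.10): no maximal subgroup is of Type V
-/

set_option autoImplicit false
set_option linter.style.haveILetI false
set_option linter.unusedSectionVars false

namespace CfsgLib.PF

open scoped Classical ComplexConjugate
open Finset CfsgLib.Characters CfsgLib.OddChar CfsgLib.OddOrder

universe u

/-- No character is induced from a non-principal character with kernel the whole subgroup. -/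
theorem inducedIrrAbove_self {L : Type u} [Group L] [Fintype L] (K : Subgroup L) :
    Cfsg.inducedIrrAbove K K = ∅ := by
  refine Set.eq_empty_iff_forall_notMem.mpr ?_
  rintro φ ⟨θ, hθ, h1, hker, -⟩
  haveI : Fintype K := Fintype.ofFinite K
  have h0 := classInner_irr_ne hθ isIrrCharacter_one h1
  rw [show θ = θ 1 • (fun _ => (1 : ℂ)) from funext fun a => by simpa using hker a a.2,
    classInner_smul_left, classInner_irr_self isIrrCharacter_one, mul_one] at h0
  exact irr_one_ne_zero ⟨θ, hθ⟩ h0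

variable {G : Type u} [Group G] [Fintype G]

theorem calS_derived_bot (M : Subgroup G) :
    calS M ⁅M, M⁆ ⊥ = Cfsg.inducedIrrAbove (derSub M) ⊥ := by
  rw [calS, seqInd, inducedIrrAbove_self, Subgroup.bot_subgroupOf, Set.sdiff_empty]

/-- For Type V data the setting of the coherence theorems holds. -/
theorem exists_vctx (hG : Cfsg.IsMinSimpleOddOrder G) {M W₁ U W₂ : Subgroup G}
    (hM : IsCoatom M) (h : Kind5 M W₁ U W₂) :
    ∃ μ δ η R d δ₀, VCtx M W₁ U W₂ μ δ η R d δ₀ := by
  have hP := h.data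
  have hT := propTypes hG
  have hD := propDade hG
  obtain ⟨hF, hcore⟩ := kind5_core (propKinds hG) hM h
  obtain ⟨μ, δ, η, hti⟩ := propTIData hG hT hD M W₁ U W₂ hM hP
  obtain ⟨d, e, he, hd, hmod, hconst⟩ :=
    propConstants hG (propKinds hG) (propPartner hG) M W₁ U W₂ hM (Or.inr h) μ δ η hti
  obtain ⟨R, hsys, horth, -⟩ := subcoherentP hG hT hD M W₁ U W₂ hM hP μ δ η hti
  rw [hcore, calS_derived_bot] at hsys horth
  have hle : ⁅M, M⁆ ≤ M := Subgroup.commutator_le_self M
  refine ⟨μ, δ, η, R, d, e,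
    { coatom := hM
      data := hP
      oddG := hG.1
      ti := hti
      dadeA0 := (hD M (suppA0 M) hM (Or.inr (Or.inr rfl))).2
      notI := (hT M hM).2 W₁ U W₂ hP
      core := hcore
      nilp := ?_
      W₂_prime := kind5_prime (propKinds hG) (propPartner hG) hM h
      W₂_le := ?_
      sys := hsys
      orth := horth
      sgn := he
      d_gt := hd
      d_mod := hmod
      const := hconst }⟩
  · haveI : Group.IsNilpotent ↥(⁅M, M⁆ : Subgroup G) := hF ▸ fittingHallOf_isNilpotent M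
    exact Group.nilpotent_of_mulEquiv (Subgroup.subgroupOfEquivOfLe hle).symm
  · intro x hx
    rw [← derived_subgroupOf_commutator]
    exact (hP.W₂_le hx).2

theorem card_derSub (M : Subgroup G) :
    Nat.card ↥(derSub M) = Nat.card ↥(⁅M, M⁆ : Subgroup G) :=
  Nat.card_congr (Subgroup.subgroupOfEquivOfLe (Subgroup.commutator_le_self M)).toEquiv

/-- PF (10.10). -/
theorem propNoTypeV (hG : Cfsg.IsMinSimpleOddOrder G) : PropNoTypeV G := by
  intro M W₁ U W₂ hM hP
  rcases (propKinds hG M W₁ U W₂ hM hP).1 with h | h | h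
  · exact Or.inl h
  · exact Or.inr h
  exfalso
  apply propNoncoherence hG M W₁ U W₂ hM (Or.inr h)
  rw [calS_derived_bot]
  obtain ⟨μ, δ, η, R, d, e, hv⟩ := exists_vctx hG hM h
  obtain ⟨hF, -⟩ := kind5_core (propKinds hG) hM h
  set K := derSub M with hK
  haveI hKn : K.Normal := derived_subgroupOf_normal M
  haveI hKnil : Group.IsNilpotent ↥K := hv.nilp
  have hW₂M : W₂ ≤ M := le_sup_right.trans (typeP_le hP).2.2.2.2
  have hKne : K ≠ ⊥ := fun e0 => by
    have h1 : W₂.subgroupOf M ≤ ⊥ := e0 ▸ hv.W₂_le.trans (Subgroup.commutator_le_self K)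
    have h2 : Nat.card (W₂.subgroupOf M) = 1 := by rw [le_bot_iff.mp h1, Subgroup.card_bot]
    rw [Nat.card_congr (Subgroup.subgroupOfEquivOfLe hW₂M).toEquiv] at h2
    exact hv.W₂_prime.ne_one h2
  haveI : Nontrivial K := (Subgroup.nontrivial_iff_ne_bot K).mpr hKne
  haveI : Group.IsSolvable ↥M := hG.2.2.2 M hM.1
  have hlt : ⁅K, K⁆ < K := Group.IsSolvable.commutator_lt_of_ne_bot hKne
  have hKtop : K < ⊤ := lt_top_iff_ne_top.mpr fun e0 => by
    have := hv.one_lt_index
    rw [← hK, e0, Subgroup.index_top] at this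
    omega
  by_cases hgood : (¬ ∃ p m : ℕ, p.Prime ∧ (⊥ : Subgroup ↥M).relIndex K = p ^ m) ∨
      (∃ p m : ℕ, p.Prime ∧ (⊥ : Subgroup ↥M).relIndex K = p ^ m ∧ K.index ∣ p - 1)
  · refine coherent_frobenius_quot K inferInstance hv.sys hv.odd_M ⊥ bot_le ?_ ⁅K, K⁆
      (sup_bot_eq _).symm hlt hKtop
      (fun k hk hk' x hx => TPL_frobenius hv.tpl hv.W₂_le hk hk' hx) ?_
    · infer_instance
    · exact Or.inr (Or.inr (hgood.imp id fun h' => Or.inr h'))
  rw [not_or, not_not, not_exists] at hgood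
  obtain ⟨⟨p, m, hp, hm⟩, hnd⟩ := hgood
  have hq : ¬ K.index ∣ p - 1 := fun hd => hnd p ⟨m, hp, hm, hd⟩
  rw [Subgroup.relIndex_bot_left] at hm
  haveI := Fact.mk hp
  have hpK : IsPGroup p ↥K := IsPGroup.of_card hm
  have hcF : Nat.card ↥(Cfsg.fittingHallOf M) = p ^ m := by rw [hF, ← card_derSub, hm]
  have hsame : ∀ {r : ℕ}, r.Prime → r ∣ Nat.card ↥(Cfsg.fittingHallOf M) → r = p :=
    fun {r} hr hd => (Nat.prime_dvd_prime_iff_eq hr hp).mp (hr.dvd_of_dvd_pow (hcF ▸ hd))
  rcases h.cases with hTI | ⟨r, hr, hrd, hr1, -⟩ | ⟨r, hr, hrd, hr3, hr1, -⟩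
  · rw [hF] at hTI
    refine hv.coherent_ti ?_ hTI hp hpK
    refine coatom_normalizer_eq hG hM (Subgroup.commutator_le_self M) ?_ ?_
    · exact (Subgroup.normal_subgroupOf_iff_le_normalizer (Subgroup.commutator_le_self M)).mp hKn
    · intro e0
      apply hKne
      rw [hK, derSub, e0, Subgroup.bot_subgroupOf]
  · refine absurd ?_ hq
    rw [hv.index_eq, ← hsame hr hrd]
    exact hr1
  · obtain rfl := hsame hr hrd
    refine hv.coherent_cube hr ?_ hr1
    have hpF : IsPGroup r ↥(Cfsg.fittingHallOf M) := IsPGroup.of_card hcF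
    have htop : Cfsg.pCore r ↥(Cfsg.fittingHallOf M) = ⊤ :=
      top_le_iff.mp (le_sSup ⟨inferInstance, hpF.to_subgroup ⊤⟩)
    rw [htop, Subgroup.card_top] at hr3
    rw [card_derSub, ← hF, hr3]

end CfsgLib.PF
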