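import Mathlib
import Cfsg.Agent.Lib.PF.Sec9CharsLin
import Cfsg.Agent.Lib.Characters.LinearTwist
import Cfsg.Agent.Lib.OddChar.InducedSet

/-!
# Characters induced from linear characters of a normal subgroup `X` of a subgroup `D`
-/

set_option autoImplicit false
set_option linter.style.haveILetI false
set_option linter.unusedSectionVars false

namespace CfsgLib.PF.Nine

open Cfsg CfsgLib.Characters CfsgLib.Clifford CfsgLib.OddChar
open scoped Classical ComplexConjugate

universe u

variable {G : Type u} [Group G] [Fintype G] {X D A : Subgroup G}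

/-- A linear character of `X` as a function on `X` inside `D`. -/
noncomputable def lfun (D : Subgroup G) (η : X →* ℂˣ) : X.subgroupOf D → ℂ :=
  fun x => lval η ((x : D) : G)

/-- The character of `D` induced from a linear character of `X`. -/
noncomputable def lind (D : Subgroup G) (η : X →* ℂˣ) : D → ℂ :=
  indFun (X.subgroupOf D) (lfun D η)

theorem lfun_irr (D : Subgroup G) (η : X →* ℂˣ) : IsIrrCharacter (X.subgroupOf D) (lfun D η) := by
  have h := isIrrCharacter_of_hom (η.comp
    (MonoidHom.mk' (fun x : X.subgroupOf D => (⟨((x : D) : G), x.2⟩ : X)) fun _ _ => rfl))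
  have e : lfun D η = fun x => ((η.comp
    (MonoidHom.mk' (fun x : X.subgroupOf D => (⟨((x : D) : G), x.2⟩ : X)) fun _ _ => rfl)) x : ℂ) :=
    funext fun x => lval_mem η (g := ((x : D) : G)) x.2
  rw [e]
  exact h

theorem lind_isCharacter (η : X →* ℂˣ) : IsCharacter D (lind D η) :=
  CfsgLib.Induction.isCharacter_indFun _ (isCharacter_of_irr (lfun_irr D η))

theorem lind_one (η : X →* ℂˣ) : lind D η 1 = (X.relIndex D : ℂ) := by
  rw [lind, CfsgLib.Induction.indFun_one_apply]
  show (_ : ℂ) * lval η 1 = _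
  rw [lval_one, mul_one]
  rfl

theorem lind_apply (η : X →* ℂˣ) (d : D) :
    lind D η d = (Nat.card (X.subgroupOf D) : ℂ)⁻¹ *
      ∑ y : D, lval η ((y : G)⁻¹ * (d : G) * (y : G)) := by
  rw [lind, CfsgLib.Induction.indFun_apply]
  congr 1
  refine Finset.sum_congr rfl fun y _ => ?_
  by_cases hm : (y : G)⁻¹ * (d : G) * (y : G) ∈ X
  · rw [CfsgLib.Induction.extendByZero_mem _ _ (show y⁻¹ * d * y ∈ X.subgroupOf D from hm)]
    rfl
  · rw [CfsgLib.Induction.extendByZero_notMem _ _ (show y⁻¹ * d * y ∉ X.subgroupOf D from hm)]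
    exact (CfsgLib.Induction.extendByZero_notMem X _ hm).symm

variable (hXD : X ≤ D) (hXn : D ≤ Subgroup.normalizer (X : Set G))

include hXD hXn

theorem conj_mem_of {d x : G} (hd : d ∈ D) (hx : x ∈ X) : d * x * d⁻¹ ∈ X :=
  (Subgroup.mem_normalizer_iff.mp (hXn hd) x).mp hx

theorem subgroupOf_normal : (X.subgroupOf D).Normal :=
  Subgroup.normal_subgroupOf_of_le_normalizer hXn

theorem conjChar_lfun (η : X →* ℂˣ) (d : D) (x : X.subgroupOf D) :
    conjChar (subgroupOf_normal hXD hXn) (lfun D η) d x =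
      lval η ((d : G) * ((x : D) : G) * (d : G)⁻¹) := rfl

theorem mem_inertia_lfun (η : X →* ℂˣ) (d : D) :
    d ∈ inertia (subgroupOf_normal hXD hXn) (lfun D η) ↔ LFix η (d : G) := by
  rw [mem_inertia]
  exact ⟨fun h x hx => h ⟨⟨x, hXD hx⟩, hx⟩, fun h x => h _ x.2⟩

/-- An induced character with trivial stabiliser is irreducible and is the only one over `η`. -/
theorem lind_irr (η : X →* ℂˣ) (hstab : ∀ d ∈ D, LFix η d → d ∈ X) :
    IsIrrCharacter D (lind D η) ∧
      classInner (fun x : X.subgroupOf D => lind D η x) (lfun D η) = 1 ∧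
      ∀ θ : D → ℂ, IsIrrCharacter D θ →
        classInner (fun x : X.subgroupOf D => θ x) (lfun D η) ≠ 0 → θ = lind D η := by
  have hI : X.subgroupOf D = inertia (subgroupOf_normal hXD hXn) (lfun D η) := by
    ext d
    rw [mem_inertia_lfun hXD hXn]
    exact ⟨fun h => lfix_of_mem η h, fun h => hstab d d.2 h⟩
  obtain ⟨h1, -, h3, -⟩ := CfsgLib.LinearTwist.indFun_irr_of_inertia (subgroupOf_normal hXD hXn)
    (lfun_irr D η) (X.subgroupOf D) hI le_rfl (lfun_irr D η) (fun _ => rfl)
  refine ⟨h1, h3, fun θ hθ hne => ?_⟩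
  by_contra hc
  refine hne ?_
  have h4 : classInner (lind D η) θ = 0 := classInner_irr_ne h1 hθ (Ne.symm hc)
  rw [lind, CfsgLib.Induction.classInner_indFun _ _
    (isClassFunction_of_isCharacter (isCharacter_of_irr hθ))] at h4
  rw [classInner_conj_symm, h4, map_zero]

/-- The induced character is trivial where all conjugates of `η` are. -/
theorem lind_eq_one {η : X →* ℂˣ} {c : G} (hcX : c ∈ X)
    (hc : ∀ d ∈ D, lval η (d * c * d⁻¹) = 1) : lind D η ⟨c, hXD hcX⟩ = lind D η 1 := by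
  rw [lind_apply, lind_apply]
  congr 1
  refine Finset.sum_congr rfl fun y _ => ?_
  have h1 := hc ((y : G)⁻¹) (D.inv_mem y.2)
  rw [inv_inv] at h1
  rw [h1, OneMemClass.coe_one, mul_one, inv_mul_cancel, lval_one]

/-- Constituents of a character trivial at `c` are trivial at `c`. -/
theorem lval_eq_one_of_constituent {θ : D → ℂ} (hθ : IsCharacter D θ) {η : X →* ℂˣ}
    (hne : classInner (fun x : X.subgroupOf D => θ x) (lfun D η) ≠ 0) {c : G} (hcX : c ∈ X)
    (hc : θ ⟨c, hXD hcX⟩ = θ 1) : lval η c = 1 := by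
  let c' : X.subgroupOf D := ⟨⟨c, hXD hcX⟩, hcX⟩
  let S := ∑ x : X.subgroupOf D, θ x * conj (lfun D η x)
  have hS : S ≠ 0 := fun h => hne (by
    rw [classInner]
    exact mul_eq_zero_of_right _ h)
  have h1 : S = conj (lval η c) * S := by
    calc S = ∑ x : X.subgroupOf D, θ ((x * c' : X.subgroupOf D) : D) * conj (lfun D η (x * c')) :=
          (Fintype.sum_equiv (Equiv.mulRight c') _ _ fun x => rfl).symm
      _ = ∑ x : X.subgroupOf D, conj (lval η c) * (θ x * conj (lfun D η x)) := by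
          refine Finset.sum_congr rfl fun x _ => ?_
          rw [show θ ((x * c' : X.subgroupOf D) : D) = θ x from char_translate_right hθ hc _,
            show lfun D η (x * c') = lfun D η x * lval η c from lval_mul η x.2 hcX, map_mul]
          ring
      _ = conj (lval η c) * S := (Finset.mul_sum _ _ _).symm
  have h2 : conj (lval η c) = 1 := (mul_eq_right₀ hS).mp h1.symm
  have h3 := congrArg conj h2
  rwa [Complex.conj_conj, map_one] at h3

/-- An irreducible character is trivial where all conjugates of a constituent are. -/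
theorem eq_one_of_constituent {θ : D → ℂ} (hθ : IsIrrCharacter D θ) {η : X →* ℂˣ}
    (hne : classInner (fun x : X.subgroupOf D => θ x) (lfun D η) ≠ 0) {c : G} (hcX : c ∈ X)
    (hc : ∀ d ∈ D, lval η (d * c * d⁻¹) = 1) : θ ⟨c, hXD hcX⟩ = θ 1 := by
  have h := clifford (subgroupOf_normal hXD hXn) hθ (lfun_irr D η) hne
  have h1 := congrFun h ⟨⟨c, hXD hcX⟩, hcX⟩
  have h2 := congrFun h 1
  simp only [Pi.smul_apply, Finset.sum_apply] at h1 h2
  refine h1.trans (Eq.trans ?_ h2.symm)
  congr 1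
  refine Finset.sum_congr rfl fun ψ hψ => ?_
  obtain ⟨d, rfl⟩ := (Set.Finite.mem_toFinset _).mp hψ
  rw [conjChar_lfun hXD hXn, conjChar_lfun hXD hXn, hc _ d.2,
    show (((1 : X.subgroupOf D) : D) : G) = 1 from rfl, mul_one, mul_inv_cancel, lval_one]

/-- The degree is a multiple of the index of any group containing the stabiliser. -/
theorem exists_degree_mul {θ : D → ℂ} (hθ : IsIrrCharacter D θ) {η : X →* ℂˣ}
    (hne : classInner (fun x : X.subgroupOf D => θ x) (lfun D η) ≠ 0) {Y : Subgroup G}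
    (hY : ∀ d ∈ D, LFix η d → d ∈ Y) : ∃ n : ℕ, θ 1 = ((n * Y.relIndex D : ℕ) : ℂ) := by
  have h := clifford_degree (subgroupOf_normal hXD hXn) hθ (lfun_irr D η) hne
  have h1 : lfun D η 1 = 1 := lval_one η
  rw [h1, mul_one] at h
  obtain ⟨e, he⟩ := classInner_char_nat (isCharacter_subtype (isCharacter_of_irr hθ) (X.subgroupOf D))
    (isCharacter_of_irr (lfun_irr D η))
  have hle : inertia (subgroupOf_normal hXD hXn) (lfun D η) ≤ Y.subgroupOf D := fun d hd =>
    hY d d.2 ((mem_inertia_lfun hXD hXn η d).mp hd)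
  obtain ⟨m, hm⟩ := Subgroup.index_dvd_of_le hle
  refine ⟨e * m, ?_⟩
  rw [h, he, hm, show (Y.subgroupOf D).index = Y.relIndex D from rfl]
  push_cast
  ring

/-- Inductions agree exactly on conjugate characters. -/
theorem lind_eq {η η' : X →* ℂˣ} (h : lind D η' = lind D η) :
    ∃ d ∈ D, ∀ x ∈ X, lval η' x = lval η (d * x * d⁻¹) := by
  obtain ⟨d, hd⟩ := conjChar_of_indFun_eq (subgroupOf_normal hXD hXn) (lfun_irr D η') (lfun_irr D η) h
  exact ⟨d, d.2, fun x hx => (congrFun hd ⟨⟨x, hXD hx⟩, hx⟩).symm⟩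

/-- At most `|D : X|` linear characters induce to the same character. -/
theorem card_lind_fibre (η : X →* ℂˣ) :
    Nat.card {η' : X →* ℂˣ // lind D η' = lind D η} ≤ X.relIndex D := by
  have hsub : ∀ η' : {η' : X →* ℂˣ // lind D η' = lind D η},
      lfun D η'.1 ∈ (conjOrbit_finite (subgroupOf_normal hXD hXn) (lfun D η)).toFinset := by
    rintro ⟨η', h⟩
    obtain ⟨d, hd, he⟩ := lind_eq hXD hXn h
    rw [Set.Finite.mem_toFinset]
    exact ⟨⟨d, hd⟩, funext fun x => he _ x.2⟩
  refine (Nat.card_le_card_of_injective (fun η' => (⟨_, hsub η'⟩ :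
    (conjOrbit_finite (subgroupOf_normal hXD hXn) (lfun D η)).toFinset)) ?_).trans ?_
  · rintro ⟨a, ha⟩ ⟨b, hb⟩ e
    refine Subtype.ext (lval_ext fun x hx => ?_)
    exact congrFun (congrArg Subtype.val e) ⟨⟨x, hXD hx⟩, hx⟩
  · rw [Nat.card_eq_fintype_card, Fintype.card_coe, card_conjOrbit]
    refine Nat.le_of_dvd (Nat.pos_of_ne_zero Subgroup.index_ne_zero_of_finite) ?_
    exact Subgroup.index_dvd_of_le fun d hd =>
      (mem_inertia_lfun hXD hXn η d).mpr (lfix_of_mem η hd)

omit hXn in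
/-- Conjugating the induced character. -/
theorem lind_conj {η η' : X →* ℂˣ} {g : G} (hgD : g ∈ Subgroup.normalizer (D : Set G))
    (hgX : g ∈ Subgroup.normalizer (X : Set G))
    (he : ∀ x ∈ X, lval η' x = lval η (g * x * g⁻¹)) (d : D) :
    lind D η ⟨g * d * g⁻¹, (Subgroup.mem_normalizer_iff.mp hgD d).mp d.2⟩ = lind D η' d := by
  rw [lind_apply, lind_apply]
  congr 1
  let σ : D ≃ D :=
    { toFun := fun y => ⟨g * y * g⁻¹, (Subgroup.mem_normalizer_iff.mp hgD y).mp y.2⟩
      invFun := fun y => ⟨g⁻¹ * y * g, (Subgroup.mem_normalizer_iff''.mp hgD y).mp y.2⟩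
      left_inv := fun y => Subtype.ext (by simp [mul_assoc])
      right_inv := fun y => Subtype.ext (by simp [mul_assoc]) }
  rw [← Equiv.sum_comp σ]
  refine Finset.sum_congr rfl fun y _ => ?_
  show lval η ((g * y * g⁻¹)⁻¹ * (g * d * g⁻¹) * (g * y * g⁻¹)) = _
  have e : (g * (y : G) * g⁻¹)⁻¹ * (g * d * g⁻¹) * (g * y * g⁻¹) =
      g * ((y : G)⁻¹ * d * y) * g⁻¹ := by group
  rw [e]
  by_cases hm : (y : G)⁻¹ * d * y ∈ X
  · exact (he _ hm).symm
  · have hm' : g * ((y : G)⁻¹ * d * y) * g⁻¹ ∉ X := fun hh =>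
      hm ((Subgroup.mem_normalizer_iff.mp hgX _).mpr hh)
    show extendByZero X _ _ = extendByZero X _ _
    rw [CfsgLib.Induction.extendByZero_notMem _ _ hm, CfsgLib.Induction.extendByZero_notMem _ _ hm']

/-- A linear constituent trivial on `A`, when `θ` is trivial on `A` and `X / A` is abelian. -/
theorem exists_lin_constituent (hAX : A ≤ X) (h : ∀ a ∈ X, ∀ b ∈ X, a * b * a⁻¹ * b⁻¹ ∈ A)
    {θ : D → ℂ} (h1 : θ 1 ≠ 0) (hA : ∀ a : D, (a : G) ∈ A → θ a = θ 1) :
    ∃ η : X →* ℂˣ, (∀ a ∈ A, lval η a = 1) ∧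
      classInner (fun x : X.subgroupOf D => θ x) (lfun D η) ≠ 0 := by
  haveI : Fintype (X →* ℂˣ) := Fintype.ofFinite _
  by_contra hc
  push Not at hc
  set S := Finset.univ.filter fun f : X →* ℂˣ => ∀ a ∈ A, lval f a = 1 with hS
  have hsum : ∀ x : X.subgroupOf D, ∑ f ∈ S, conj (lfun D f x) =
      if ((x : D) : G) ∈ A then (S.card : ℂ) else 0 := by
    intro x
    split_ifs with hx
    · rw [Finset.sum_congr rfl (fun f hf => show conj (lfun D f x) = 1 by
        rw [show lfun D f x = 1 from (Finset.mem_filter.mp hf).2 _ hx, map_one]),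
        Finset.sum_const, nsmul_one]
    · obtain ⟨φ, hφA, hφ⟩ := exists_lin hAX h x.2 hx
      have hm : ∀ f : X →* ℂˣ, ∀ y ∈ X, lval (φ * f) y = lval φ y * lval f y := fun f y hy => by
        rw [lval_mem _ hy, lval_mem _ hy, lval_mem _ hy, MonoidHom.mul_apply, Units.val_mul]
      have hb : ∀ f, f ∈ S ↔ φ * f ∈ S := fun f => by
        simp only [hS, Finset.mem_filter, Finset.mem_univ, true_and]
        exact forall₂_congr fun a ha => by rw [hm f a (hAX ha), hφA a ha, one_mul]
      have h2 : conj (lfun D φ x) * ∑ f ∈ S, conj (lfun D f x) = ∑ f ∈ S, conj (lfun D f x) := by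
        rw [Finset.mul_sum]
        refine Finset.sum_equiv (Equiv.mulLeft φ) hb fun f _ => ?_
        rw [← map_mul]
        exact congrArg conj (hm f _ x.2).symm
      by_contra hne
      have h3 := congrArg conj ((mul_eq_right₀ hne).mp h2)
      rw [Complex.conj_conj, map_one] at h3
      exact hφ h3
  have hS1 : (1 : X →* ℂˣ) ∈ S := Finset.mem_filter.mpr ⟨Finset.mem_univ _, fun a ha => by
    rw [lval_mem _ (hAX ha), MonoidHom.one_apply, Units.val_one]⟩
  have h0 : ∑ f ∈ S, ∑ x : X.subgroupOf D, θ x * conj (lfun D f x) = 0 :=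
    Finset.sum_eq_zero fun f hf => by
      have := hc f (Finset.mem_filter.mp hf).2
      rw [classInner] at this
      exact (mul_eq_zero.mp this).resolve_left (inv_ne_zero (Nat.cast_ne_zero.mpr Nat.card_pos.ne'))
  rw [Finset.sum_comm, Finset.sum_congr rfl (fun (x : X.subgroupOf D) _ => show
    ∑ f ∈ S, θ x * conj (lfun D f x) = if ((x : D) : G) ∈ A then θ 1 * (S.card : ℂ) else 0 by
      rw [← Finset.mul_sum, hsum]
      split_ifs with hx
      · rw [hA _ hx]
      · rw [mul_zero]), ← Finset.sum_filter, Finset.sum_const, nsmul_eq_mul] at h0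
  rcases mul_eq_zero.mp h0 with h2 | h2
  · refine Nat.cast_ne_zero.mpr (Finset.card_ne_zero.mpr ⟨1, ?_⟩) h2
    exact Finset.mem_filter.mpr ⟨Finset.mem_univ _, A.one_mem⟩
  · exact mul_ne_zero h1 (Nat.cast_ne_zero.mpr (Finset.card_ne_zero.mpr ⟨1, hS1⟩)) h2

end CfsgLib.PF.Nine
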