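import Mathlib
import Cfsg.Prelude.Def_OddOrderChar
import Cfsg.Agent.Lib.PF.Defs
import Cfsg.Agent.Lib.PF.Sec9CharsInd
import Cfsg.Agent.Lib.OddChar.TypePLike
import Cfsg.Agent.Lib.OddOrder.PiCore

/-!
# Peterfalvi (9.8)–(9.10): the setting inside `M`, stabilisers and induction from `M'`
-/

set_option autoImplicit false
set_option linter.style.haveILetI false
set_option linter.unusedSectionVars false

namespace CfsgLib.PF.Nine

open Cfsg CfsgLib.Characters CfsgLib.Clifford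
open scoped Classical ComplexConjugate

universe u

variable {L : Type u} [Group L]

/-- `L = M`, `D = M'`, `H = M_F`, `H₀`, `C` as in PF (9.2)–(9.4). -/
structure Setup (D H H₀ U W W₂ C : Subgroup L) (p q : ℕ) : Prop where
  tpl : CfsgLib.OddChar.TPL D W W₂
  H_normal : H.Normal
  H₀_normal : H₀.Normal
  H_le : H ≤ D
  U_le : U ≤ D
  lt : H₀ < H
  HU : H ⊓ U = ⊥
  D_eq : ∀ d ∈ D, ∃ h ∈ H, ∃ u ∈ U, d = h * u
  W_card : Nat.card W = q
  q_prime : q.Prime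
  p_prime : p.Prime
  W_U : W ≤ Subgroup.normalizer (U : Set L)
  card : H₀.relIndex H = p ^ q
  W₂_le : W₂ ≤ H
  W₂_rel : H₀.relIndex W₂ = p
  comm_mem : ∀ a ∈ H, ∀ b ∈ H, a * b * a⁻¹ * b⁻¹ ∈ H₀
  pow_mem : ∀ h ∈ H, h ^ p ∈ H₀
  chief : ∀ X : Subgroup L, H₀ ≤ X → X ≤ H → X.Normal → X = H₀ ∨ X = H
  mem_C : ∀ u : L, u ∈ C ↔ u ∈ U ∧ ∀ h ∈ H, u * h * u⁻¹ * h⁻¹ ∈ H₀
  C_lt : C < U
  C_normal : U ⊔ W ≤ Subgroup.normalizer (C : Set L)
  derived_le : ⁅U, U⁆ ≤ C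
  fpf : ∀ w ∈ W, w ≠ 1 → ∀ u ∈ U, w * u * w⁻¹ * u⁻¹ ∈ C → u ∈ C
  U_nilpotent : Group.IsNilpotent U

variable {D H H₀ U W W₂ C : Subgroup L} {p q : ℕ} (S : Setup D H H₀ U W W₂ C p q)

include S

theorem Setup.D_normal : D.Normal := S.tpl.normal

theorem Setup.C_le : C ≤ U := S.C_lt.le

theorem Setup.H₀_le : H₀ ≤ H := S.lt.le

theorem Setup.exists_mul (g : L) : ∃ h ∈ H, ∃ u ∈ U, ∃ w ∈ W, g = h * u * w := by
  haveI := S.D_normal
  obtain ⟨d, hd, w, hw, rfl⟩ :=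
    Subgroup.mem_sup_of_normal_left.mp (S.tpl.top.ge (Subgroup.mem_top g))
  obtain ⟨h, hh, u, hu, rfl⟩ := S.D_eq d hd
  exact ⟨h, hh, u, hu, w, hw, rfl⟩

/-- Conjugation invariance is enough to check on `H`, `U` and `W`. -/
theorem Setup.normal_of {X : Subgroup L} (hH : H ≤ Subgroup.normalizer (X : Set L))
    (hU : U ≤ Subgroup.normalizer (X : Set L)) (hW : W ≤ Subgroup.normalizer (X : Set L)) :
    X.Normal := by
  refine Subgroup.normalizer_eq_top_iff.mp (eq_top_iff.mpr fun g _ => ?_)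
  obtain ⟨h, hh, u, hu, w, hw, rfl⟩ := S.exists_mul g
  exact mul_mem (mul_mem (hH hh) (hU hu)) (hW hw)

theorem Setup.conj_H {h : L} (g : L) (hh : h ∈ H) : g * h * g⁻¹ ∈ H := S.H_normal.conj_mem h hh g

theorem Setup.H_normalizes_sup {K : Subgroup L} :
    H ≤ Subgroup.normalizer ((H ⊔ K : Subgroup L) : Set L) :=
  fun _ h => Subgroup.le_normalizer (Subgroup.mem_sup_left h)

theorem Setup.normalizes_sup {K X : Subgroup L} (hX : X ≤ Subgroup.normalizer (K : Set L)) :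
    X ≤ Subgroup.normalizer ((H ⊔ K : Subgroup L) : Set L) :=
  Subgroup.le_normalizer_iff.2 fun g hg => by
    suffices hm : H ⊔ K ≤ (H ⊔ K).comap (MulAut.conj g).toMonoidHom from fun x hx => hm hx
    exact sup_le (fun x hx => Subgroup.mem_sup_left (S.conj_H g hx))
      (fun x hx => Subgroup.mem_sup_right ((Subgroup.mem_normalizer_iff.mp (hX hg) x).mp hx))

theorem Setup.D_normalizes_sup {K : Subgroup L} (hK : U ≤ Subgroup.normalizer (K : Set L)) :
    D ≤ Subgroup.normalizer ((H ⊔ K : Subgroup L) : Set L) := fun d hd => by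
  obtain ⟨h, hh, u, hu, rfl⟩ := S.D_eq d hd
  exact mul_mem (S.H_normalizes_sup hh) (S.normalizes_sup hK hu)

theorem Setup.sup_le_D {K : Subgroup L} (hK : K ≤ U) : H ⊔ K ≤ D :=
  sup_le S.H_le (hK.trans S.U_le)

theorem Setup.HC_normal : (H ⊔ C).Normal :=
  S.normal_of S.H_normalizes_sup (S.normalizes_sup (le_sup_left.trans S.C_normal))
    (S.normalizes_sup (le_sup_right.trans S.C_normal))

theorem Setup.inf_eq_bot {K : Subgroup L} (hK : K ≤ U) : H ⊓ K = ⊥ :=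
  eq_bot_iff.mpr ((inf_le_inf_left _ hK).trans S.HU.le)

/-- `|D : HK| = |U : K|`. -/
theorem Setup.relIndex_sup [Finite L] {K : Subgroup L} (hK : K ≤ U) :
    (H ⊔ K).relIndex D = K.relIndex U := by
  haveI := S.H_normal
  have hc : ∀ K : Subgroup L, K ≤ U → Nat.card ↥(H ⊔ K) = Nat.card H * Nat.card K := fun K hK => by
    rw [sup_comm, CfsgLib.Coprime.card_sup_of_disjoint
      (Subgroup.normalizer_eq_top_iff.mpr S.H_normal ▸ le_top) (S.inf_eq_bot hK), mul_comm]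
  have hD : H ⊔ U = D := le_antisymm (S.sup_le_D le_rfl) fun d hd => by
    obtain ⟨h, hh, u, hu, rfl⟩ := S.D_eq d hd
    exact Subgroup.mul_mem_sup hh hu
  have h1 := CfsgLib.OddOrder.card_mul_relIndex_of_le (S.sup_le_D hK)
  rw [hc K hK, ← hD, hc U le_rfl, ← CfsgLib.OddOrder.card_mul_relIndex_of_le hK, hD, ← mul_assoc] at h1
  exact Nat.eq_of_mul_eq_mul_left (Nat.mul_pos Nat.card_pos Nat.card_pos) h1

theorem Setup.comm_HC : ∀ h ∈ H, ∀ c ∈ C, c * h * c⁻¹ * h⁻¹ ∈ H₀ :=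
  fun h hh _ hc => ((S.mem_C _).mp hc).2 h hh

theorem Setup.H₀C_normal {N : Subgroup L} (hN : N ≤ C)
    (hn : U ⊔ W ≤ Subgroup.normalizer (N : Set L)) : (H₀ ⊔ N).Normal := by
  haveI := S.H₀_normal
  have hg : ∀ g, g ∈ Subgroup.normalizer (N : Set L) →
      g ∈ Subgroup.normalizer ((H₀ ⊔ N : Subgroup L) : Set L) := fun g hg => by
    refine (Subgroup.le_normalizer_iff.2 ?_) (Subgroup.mem_zpowers g)
    intro g' hg'
    have hg'' : g' ∈ Subgroup.normalizer (N : Set L) := (Subgroup.zpowers_le.mpr hg) hg'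
    suffices hm : H₀ ⊔ N ≤ (H₀ ⊔ N).comap (MulAut.conj g').toMonoidHom from fun x hx => hm hx
    exact sup_le (fun x hx => Subgroup.mem_sup_left (S.H₀_normal.conj_mem x hx g'))
      (fun x hx => Subgroup.mem_sup_right ((Subgroup.mem_normalizer_iff.mp hg'' x).mp hx))
  refine S.normal_of ?_ (fun u hu => hg u (hn (Subgroup.mem_sup_left hu)))
    (fun w hw => hg w (hn (Subgroup.mem_sup_right hw)))
  refine Subgroup.le_normalizer_iff.2 fun h hh => ?_
  suffices hm : H₀ ⊔ N ≤ (H₀ ⊔ N).comap (MulAut.conj h).toMonoidHom from fun x hx => hm hx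
  refine sup_le (fun x hx => Subgroup.mem_sup_left (S.H₀_normal.conj_mem x hx h)) fun x hx => ?_
  show h * x * h⁻¹ ∈ H₀ ⊔ N
  have e : h * x * h⁻¹ = (x * h * x⁻¹ * h⁻¹)⁻¹ * x := by group
  rw [e]
  exact Subgroup.mul_mem_sup (H₀.inv_mem (S.comm_HC h hh x (hN hx))) hx

theorem Setup.H₀C'_normal : (H₀ ⊔ ⁅C, C⁆).Normal := by
  refine S.H₀C_normal (Subgroup.commutator_le_self C) (Subgroup.le_normalizer_iff.2 fun g hg x hx => ?_)
  have h1 : C.map (MulAut.conj g).toMonoidHom ≤ C := by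
    rintro _ ⟨c, hc, rfl⟩
    exact (Subgroup.mem_normalizer_iff.mp (S.C_normal hg) c).mp hc
  have h2 : g * x * g⁻¹ ∈ (⁅C, C⁆).map (MulAut.conj g).toMonoidHom :=
    Subgroup.mem_map_of_mem (MulAut.conj g).toMonoidHom hx
  rw [Subgroup.map_commutator] at h2
  exact Subgroup.commutator_mono h1 h1 h2

/-- `HC / H₀C'` is abelian. -/
theorem Setup.comm_X : ∀ a ∈ H ⊔ C, ∀ b ∈ H ⊔ C, a * b * a⁻¹ * b⁻¹ ∈ H₀ ⊔ ⁅C, C⁆ := by
  haveI := S.H₀C'_normal
  let π := QuotientGroup.mk' (H₀ ⊔ ⁅C, C⁆)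
  have hcom : ∀ a b : L, (a * b * a⁻¹ * b⁻¹ ∈ H₀ ⊔ ⁅C, C⁆) → π b * π a = π a * π b := fun a b h => by
    rw [← QuotientGroup.eq_one_iff] at h
    have h' : π a * π b * (π a)⁻¹ * (π b)⁻¹ = 1 := by
      rw [← map_inv, ← map_inv, ← map_mul, ← map_mul, ← map_mul]; exact h
    exact (commutatorElement_eq_one_iff_mul_comm.mp (by rwa [commutatorElement_def])).symm
  have hH : H.map π ≤ Subgroup.centralizer (H.map π : Set _) ⊓ Subgroup.centralizer (C.map π : Set _) := by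
    rintro _ ⟨a, ha, rfl⟩
    constructor <;> refine Subgroup.mem_centralizer_iff.mpr ?_ <;> rintro _ ⟨b, hb, rfl⟩
    · exact hcom a b (Subgroup.mem_sup_left (S.comm_mem a ha b hb))
    · exact (hcom b a (Subgroup.mem_sup_left (S.comm_HC a ha b hb))).symm
  have hC : C.map π ≤ Subgroup.centralizer (C.map π : Set _) := by
    rintro _ ⟨a, ha, rfl⟩
    refine Subgroup.mem_centralizer_iff.mpr ?_
    rintro _ ⟨b, hb, rfl⟩
    exact hcom a b (Subgroup.mem_sup_right (Subgroup.commutator_mem_commutator ha hb))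
  have h1 : (H ⊔ C).map π ≤ Subgroup.centralizer (((H ⊔ C).map π : Subgroup _) : Set _) := by
    rw [Subgroup.map_sup]
    have h2 : H.map π ⊔ C.map π ≤ Subgroup.centralizer (H.map π : Set _) :=
      sup_le (hH.trans inf_le_left) (Subgroup.le_centralizer_iff.mp (hH.trans inf_le_right))
    have h3 : H.map π ⊔ C.map π ≤ Subgroup.centralizer (C.map π : Set _) :=
      sup_le (hH.trans inf_le_right) hC
    exact sup_le (Subgroup.le_centralizer_iff.mp h2) (Subgroup.le_centralizer_iff.mp h3)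
  intro a ha b hb
  have h4 := Subgroup.mem_centralizer_iff.mp (h1 (Subgroup.mem_map_of_mem π ha)) _
    (Subgroup.mem_map_of_mem π hb)
  rw [← QuotientGroup.eq_one_iff]
  show π (a * b * a⁻¹ * b⁻¹) = 1
  rw [map_mul, map_mul, map_mul, map_inv, map_inv, ← h4, mul_inv_cancel_right, mul_inv_cancel]

/-! ### Stabilisers of characters of `H / H₀` -/

theorem Setup.lfix_C {f : H →* ℂˣ} (hf : ∀ x ∈ H₀, lval f x = 1) {c : L} (hc : c ∈ C) : LFix f c := by
  intro h hh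
  have e : c * h * c⁻¹ = c * h * c⁻¹ * h⁻¹ * h := by group
  rw [e, lval_mul f (S.H₀_le (S.comm_HC h hh c hc)) hh, hf _ (S.comm_HC h hh c hc), one_mul]

theorem Setup.lfix_part {X : Subgroup L} (hHX : H ≤ X) {η : X →* ℂˣ} {f : H →* ℂˣ}
    (he : ∀ x ∈ H, lval η x = lval f x) {h v : L} (hh : h ∈ H) (hfix : LFix η (h * v)) : LFix f v := by
  intro x hx
  have h1 := hfix x (hHX hx)
  have e : h * v * x * (h * v)⁻¹ = h * (v * x * v⁻¹) * h⁻¹ := by group
  rw [e, he _ (S.conj_H h (S.conj_H v hx)), lval_conj f hh (S.conj_H v hx), he x hx] at h1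
  exact h1

/-- The stabiliser of an extension of `f` to `HK`. -/
theorem Setup.stab_sup {K : Subgroup L} {η : ↥(H ⊔ K) →* ℂˣ} {f : H →* ℂˣ}
    (he : ∀ x ∈ H, lval η x = lval f x) (hst : ∀ v ∈ U, LFix f v → v ∈ K) :
    ∀ d ∈ D, LFix η d → d ∈ H ⊔ K := by
  intro d hd hfix
  obtain ⟨h, hh, v, hv, rfl⟩ := S.D_eq d hd
  exact Subgroup.mul_mem_sup hh (hst v hv (S.lfix_part le_sup_left he hh hfix))

/-- A character of `H / H₀` fixed by `W` has stabiliser `C` in `U`. -/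
theorem Setup.mem_C_of_fixed {f : H →* ℂˣ} (hf : ∀ x ∈ H₀, lval f x = 1) (hne : f ≠ 1)
    (hW : ∀ w ∈ W, LFix f w) {v : L} (hv : v ∈ U) (hfix : LFix f v) : v ∈ C := by
  let N : Subgroup L :=
    { carrier := {z | z ∈ H ∧ ∀ m : L, lval f (m * z * m⁻¹) = 1}
      one_mem' := ⟨H.one_mem, fun m => by rw [mul_one, mul_inv_cancel, lval_one]⟩
      mul_mem' := fun {a b} ha hb => ⟨H.mul_mem ha.1 hb.1, fun m => by
        have e : m * (a * b) * m⁻¹ = m * a * m⁻¹ * (m * b * m⁻¹) := by group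
        rw [e, lval_mul f (S.conj_H m ha.1) (S.conj_H m hb.1), ha.2, hb.2, one_mul]⟩
      inv_mem' := fun {a} ha => ⟨H.inv_mem ha.1, fun m => by
        rw [← conj_inv, lval_inv f (S.conj_H m ha.1), ha.2, inv_one]⟩ }
  have hNn : N.Normal := ⟨fun z hz g => ⟨S.conj_H g hz.1, fun m => by
    have e : m * (g * z * g⁻¹) * m⁻¹ = m * g * z * (m * g)⁻¹ := by group
    rw [e]; exact hz.2 _⟩⟩
  have h0 : H₀ ≤ N := fun z hz => ⟨S.H₀_le hz, fun m => hf _ (S.H₀_normal.conj_mem z hz m)⟩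
  have hN : N = H₀ := (S.chief N h0 (fun z hz => hz.1) hNn).resolve_right fun e => by
    obtain ⟨x, hx, hx1⟩ := exists_apply_ne hne
    exact hx1 (by simpa using (e.ge hx).2 1)
  refine (S.mem_C v).mpr ⟨hv, fun h hh => ?_⟩
  refine hN.le ⟨H.mul_mem (S.conj_H v hh) (H.inv_mem hh), fun m => ?_⟩
  obtain ⟨h', hh', u, hu, w, hw, rfl⟩ := S.exists_mul m
  set v₁ := w * v * w⁻¹ with hv₁
  set x := w * h * w⁻¹ with hxdef
  have hx : x ∈ H := S.conj_H w hh
  have hv1U : v₁ ∈ U := (Subgroup.mem_normalizer_iff.mp (S.W_U hw) v).mp hv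
  have hfix1 : LFix f v₁ := by
    intro y hy
    have hy' : w⁻¹ * y * w ∈ H := by simpa using S.conj_H w⁻¹ hy
    have e : v₁ * y * v₁⁻¹ = w * (v * (w⁻¹ * y * w) * v⁻¹) * w⁻¹ := by rw [hv₁]; group
    rw [e, hW w hw _ (S.conj_H v hy'), hfix _ hy', ← hW w hw _ hy']
    congr 1
    group
  set v₂ := u * v₁ * u⁻¹ with hv₂
  have hfix2 : LFix f v₂ := by
    have e : v₂ = u * v₁ * u⁻¹ * v₁⁻¹ * v₁ := by rw [hv₂]; group
    rw [e]
    refine (S.lfix_C hf (S.derived_le ?_)).mul hfix1 fun y hy => S.conj_H v₁ hy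
    exact Subgroup.commutator_mem_commutator hu hv1U
  have hy : u * x * u⁻¹ ∈ H := S.conj_H u hx
  have hz : v₂ * (u * x * u⁻¹) * v₂⁻¹ * (u * x * u⁻¹)⁻¹ ∈ H :=
    H.mul_mem (S.conj_H v₂ hy) (H.inv_mem hy)
  have e : h' * u * w * (v * h * v⁻¹ * h⁻¹) * (h' * u * w)⁻¹ =
      h' * (v₂ * (u * x * u⁻¹) * v₂⁻¹ * (u * x * u⁻¹)⁻¹) * h'⁻¹ := by
    rw [hv₂, hv₁, hxdef]; group
  rw [e, lval_conj f hh' hz, lval_mul f (S.conj_H v₂ hy) (H.inv_mem hy), hfix2 _ hy,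
    lval_inv f hy, mul_inv_cancel₀ (lval_ne_zero f hy)]

/-- An extension of `f` to `HC` by a character of `C`. -/
theorem Setup.exists_extend {f : H →* ℂˣ} (hf : ∀ x ∈ H₀, lval f x = 1) (g : C →* ℂˣ) :
    ∃ η : ↥(H ⊔ C) →* ℂˣ, (∀ x ∈ H, lval η x = lval f x) ∧ ∀ c ∈ C, lval η c = lval g c :=
  exists_hom_sup f g ((Subgroup.normalizer_eq_top_iff.mpr S.H_normal).ge.trans' le_top)
    (S.inf_eq_bot S.C_le) fun _ hc n hn => S.lfix_C hf hc n hn

/-! ### Induction from `D` to `L` -/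

variable [Fintype L]

/-- Induction from `D` is reducible exactly on the invariant characters. -/
theorem Setup.ind_cases {θ : D → ℂ} (hθ : IsIrrCharacter D θ) :
    ((∀ g, conjChar S.D_normal θ g = θ) ∧ ¬ IsIrrCharacter L (indFun D θ) ∧
        classInner (indFun D θ) (indFun D θ) = (q : ℂ)) ∨
      ((∀ w ∈ W, conjChar S.D_normal θ w = θ → w = 1) ∧ IsIrrCharacter L (indFun D θ)) := by
  have hcl := isClassFunction_of_isCharacter (isCharacter_of_irr hθ)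
  set I := inertia S.D_normal θ with hI
  have hDI : D ≤ I := le_inertia S.D_normal hcl
  haveI := S.D_normal
  have hidx : D.index = q := by rw [S.tpl.quot_cyclic.2, S.W_card]
  have hin : classInner (indFun D θ) (indFun D θ) = (Nat.card D : ℂ)⁻¹ * (Nat.card I : ℂ) := by
    rw [classInner_indFun_indFun S.D_normal hcl]
    congr 1
    rw [Finset.sum_congr rfl (fun g _ => show
      classInner θ (conjChar S.D_normal θ g) = if g ∈ I then 1 else 0 from ?_), Finset.sum_boole,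
      Nat.card_eq_fintype_card, Fintype.card_subtype]
    split_ifs with hg
    · rw [show conjChar S.D_normal θ g = θ from hg, classInner_irr_self hθ]
    · exact classInner_irr_ne hθ (isIrrCharacter_conjChar S.D_normal hθ g) fun e => hg e.symm
  have h1 := Subgroup.relIndex_mul_index hDI
  rw [hidx] at h1
  have hcI := CfsgLib.OddOrder.card_mul_relIndex_of_le hDI
  rcases (S.q_prime.eq_one_or_self_of_dvd _ ⟨_, h1.symm⟩) with h | h
  · right
    have hID : I = D := le_antisymm (Subgroup.relIndex_eq_one.mp h) hDI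
    refine ⟨fun w hw hfix => ?_, isIrr_of_norm_one
      (CfsgLib.Induction.isCharacter_indFun D (isCharacter_of_irr hθ)) ?_⟩
    · have h2 : w ∈ D ⊓ W := ⟨hID.le (show w ∈ I from hfix), hw⟩
      rwa [S.tpl.disj, Subgroup.mem_bot] at h2
    · rw [hin, hID, inv_mul_cancel₀ (Nat.cast_ne_zero.mpr Nat.card_pos.ne')]
  · left
    rw [h] at h1 hcI
    have hI1 : I = ⊤ := Subgroup.index_eq_one.mp ((mul_eq_left₀ S.q_prime.ne_zero).mp h1)
    have hn : classInner (indFun D θ) (indFun D θ) = (q : ℂ) := by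
      rw [hin, ← hcI, Nat.cast_mul, ← mul_assoc,
        inv_mul_cancel₀ (Nat.cast_ne_zero.mpr Nat.card_pos.ne'), one_mul]
    refine ⟨fun g => show g ∈ I from hI1.ge (Subgroup.mem_top g), fun hirr => ?_, hn⟩
    have h2 := (classInner_irr_self hirr).symm.trans hn
    exact S.q_prime.ne_one (by exact_mod_cast h2.symm)

theorem Setup.irr_of_moved {θ : D → ℂ} (hθ : IsIrrCharacter D θ) {w : L}
    (hne : conjChar S.D_normal θ w ≠ θ) : IsIrrCharacter L (indFun D θ) :=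
  ((S.ind_cases hθ).resolve_left fun h => hne (h.1 w)).2

theorem Setup.invariant_of {θ : D → ℂ} (hθ : IsIrrCharacter D θ) {w : L} (hw : w ∈ W) (hw1 : w ≠ 1)
    (hfix : conjChar S.D_normal θ w = θ) : ∀ g, conjChar S.D_normal θ g = θ :=
  ((S.ind_cases hθ).resolve_right fun h => hw1 (h.1 w hw hfix)).1

theorem Setup.indFun_one {θ : D → ℂ} {n : ℕ} (h : θ 1 = (n : ℂ)) :
    indFun D θ 1 = ((q * n : ℕ) : ℂ) := by
  haveI := S.D_normal
  rw [CfsgLib.Induction.indFun_one_apply, h, S.tpl.quot_cyclic.2, S.W_card, Nat.cast_mul]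

/-- Members of `S(A)`. -/
theorem Setup.mem_seqInd {A : Subgroup L} {θ : D → ℂ} (hθ : IsIrrCharacter D θ)
    (hA : ∀ a : D, (a : L) ∈ A → θ a = θ 1) (hH : ∃ h : D, (h : L) ∈ H ∧ θ h ≠ θ 1) :
    indFun D θ ∈ seqInd D H A := by
  obtain ⟨h, hh, hne⟩ := hH
  refine ⟨⟨θ, hθ, fun e => hne (by rw [e]), hA, rfl⟩, ?_⟩
  rintro ⟨θ', hθ', -, hker, e⟩
  obtain ⟨x, rfl⟩ := CfsgLib.OddChar.conjChar_of_indFun_eq S.D_normal hθ hθ' e
  refine hne ?_
  rw [conjChar_apply_one]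
  exact hker _ (S.conj_H x hh)

theorem Setup.exists_of_mem {A : Subgroup L} {χ : L → ℂ} (h : χ ∈ seqInd D H A) :
    ∃ θ : D → ℂ, IsIrrCharacter D θ ∧ (∀ a : D, (a : L) ∈ A → θ a = θ 1) ∧
      (∃ h : D, (h : L) ∈ H ∧ θ h ≠ θ 1) ∧ χ = indFun D θ := by
  obtain ⟨⟨θ, hθ, hne, hA, rfl⟩, hn⟩ := h
  refine ⟨θ, hθ, hA, ?_, rfl⟩
  by_contra hc
  push Not at hc
  exact hn ⟨θ, hθ, hne, hc, rfl⟩

/-- Kernels of the induced characters. -/
theorem Setup.lind_ker {X N : Subgroup L} (hXD : X ≤ D) (hXn : D ≤ Subgroup.normalizer (X : Set L))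
    (hN : N ≤ X) (hn : D ≤ Subgroup.normalizer (N : Set L)) {η : X →* ℂˣ}
    (h1 : ∀ x ∈ N, lval η x = 1) : ∀ a : D, (a : L) ∈ N → lind D η a = lind D η 1 := fun a ha =>
  lind_eq_one hXD hXn (hN ha) fun d hd => h1 _ ((Subgroup.mem_normalizer_iff.mp (hn hd) _).mp ha)

theorem Setup.lind_nonker {X : Subgroup L} (hXD : X ≤ D) (hXn : D ≤ Subgroup.normalizer (X : Set L))
    (hHX : H ≤ X) {η : X →* ℂˣ} {f : H →* ℂˣ} (he : ∀ x ∈ H, lval η x = lval f x) (hne : f ≠ 1)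
    (hst : ∀ d ∈ D, LFix η d → d ∈ X) :
    ∃ h : D, (h : L) ∈ H ∧ lind D η h ≠ lind D η 1 := by
  obtain ⟨x, hx, hx1⟩ := exists_apply_ne hne
  refine ⟨⟨x, S.H_le hx⟩, hx, fun e => hx1 ?_⟩
  rw [← he x hx]
  exact lval_eq_one_of_constituent hXD hXn (lind_isCharacter η)
    (by rw [(lind_irr hXD hXn η hst).2.1]; exact one_ne_zero) (hHX hx) e

theorem Setup.X_normal_D : D ≤ Subgroup.normalizer ((H ⊔ C : Subgroup L) : Set L) :=
  S.D_normalizes_sup (le_sup_left.trans S.C_normal)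

/-- The character of `D` over an extension of `f` with stabiliser `C`. -/
theorem Setup.lind_HC {η : ↥(H ⊔ C) →* ℂˣ} {f : H →* ℂˣ} (he : ∀ x ∈ H, lval η x = lval f x)
    (hne : f ≠ 1) (hst : ∀ v ∈ U, LFix f v → v ∈ C) {A : Subgroup L} (hA : A ≤ H ⊔ C) (hAn : A.Normal)
    (hA1 : ∀ x ∈ A, lval η x = 1) :
    IsIrrCharacter D (lind D η) ∧ lind D η 1 = ((C.relIndex U : ℕ) : ℂ) ∧
      (∀ a : D, (a : L) ∈ A → lind D η a = lind D η 1) ∧
      ∃ h : D, (h : L) ∈ H ∧ lind D η h ≠ lind D η 1 := by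
  have h1 := S.sup_le_D S.C_le
  have h2 := S.stab_sup he hst
  exact ⟨(lind_irr h1 S.X_normal_D η h2).1, by rw [lind_one, S.relIndex_sup S.C_le],
    S.lind_ker h1 S.X_normal_D hA ((Subgroup.normalizer_eq_top_iff.mpr hAn).ge.trans' le_top) hA1,
    S.lind_nonker h1 S.X_normal_D le_sup_left he hne h2⟩

end CfsgLib.PF.Nine
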