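import Mathlib
import Cfsg.Agent.Lib.PF.Sec9CharsSetup

/-!
# Peterfalvi (9.8): the characters of `M'` above `H₀` fixed by `W₁`, and the reducible members of `S(H₀)`
-/

set_option autoImplicit false
set_option linter.style.haveILetI false
set_option linter.unusedSectionVars false

namespace CfsgLib.PF.Nine

open Cfsg CfsgLib.Characters CfsgLib.Clifford
open scoped Classical ComplexConjugate

universe u

variable {L : Type u} [Group L] [Fintype L] {D H H₀ U W W₂ C : Subgroup L} {p q : ℕ}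
  (S : Setup D H H₀ U W W₂ C p q)

include S

theorem Setup.exists_gen : ∃ w, w ∈ W ∧ w ≠ 1 ∧ W = Subgroup.zpowers w := by
  haveI := Fact.mk S.q_prime
  obtain ⟨w, hw, hw1⟩ := (Subgroup.bot_or_exists_ne_one W).resolve_left S.tpl.ne₁
  refine ⟨w, hw, hw1, le_antisymm (fun x hx => ?_) (Subgroup.zpowers_le.mpr hw)⟩
  have h := mem_zpowers_of_prime_card (G := W) (p := q) S.W_card (g := ⟨w, hw⟩)
    (g' := ⟨x, hx⟩) (fun e => hw1 (congrArg Subtype.val e))
  obtain ⟨k, hk⟩ := Subgroup.mem_zpowers_iff.mp h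
  exact Subgroup.mem_zpowers_iff.mpr ⟨k, congrArg Subtype.val hk⟩

/-- The images modulo `H₀` again form a type P configuration. -/
theorem Setup.tpl_quot [H₀.Normal] :
    CfsgLib.OddChar.TPL (D.map (QuotientGroup.mk' H₀)) (W.map (QuotientGroup.mk' H₀))
      (W₂.map (QuotientGroup.mk' H₀)) := by
  haveI := S.D_normal
  set π := QuotientGroup.mk' H₀ with hπ
  have hs : Function.Surjective π := QuotientGroup.mk'_surjective H₀
  have hcyc : ∀ K : Subgroup L, IsCyclic K → IsCyclic (K.map π) := fun K hK =>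
    isCyclic_of_surjective (π.subgroupMap K) (π.subgroupMap_surjective K)
  refine ⟨Subgroup.Normal.map S.D_normal π hs, ?_, ?_, ?_, hcyc W S.tpl.cyc₁, ?_,
    hcyc W₂ S.tpl.cyc₂, Subgroup.map_mono S.tpl.le₂, ?_⟩
  · refine eq_bot_iff.mpr ?_
    rintro _ ⟨⟨d, hd, rfl⟩, w, hw, e⟩
    have h1 : w⁻¹ * d ∈ H₀ := QuotientGroup.eq.mp e
    have h2 : w ∈ D ⊓ W := ⟨by
      have h3 : w⁻¹ * d * d⁻¹ ∈ D := D.mul_mem (S.H_le (S.H₀_le h1)) (D.inv_mem hd)
      rw [mul_inv_cancel_right] at h3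
      exact D.inv_mem_iff.mp h3, hw⟩
    rw [S.tpl.disj, Subgroup.mem_bot] at h2
    rw [Subgroup.mem_bot, ← e, h2, map_one]
  · rw [← Subgroup.map_sup, S.tpl.top, Subgroup.map_top_of_surjective π hs]
  · intro e
    obtain ⟨w, hw, hw1⟩ := (Subgroup.bot_or_exists_ne_one W).resolve_left S.tpl.ne₁
    have h1 : w ∈ H₀ := by
      have := e.le (Subgroup.mem_map_of_mem π hw)
      rw [Subgroup.mem_bot, hπ, QuotientGroup.mk'_apply, QuotientGroup.eq_one_iff] at this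
      exact this
    have h2 : w ∈ D ⊓ W := ⟨S.H_le (S.H₀_le h1), hw⟩
    rw [S.tpl.disj, Subgroup.mem_bot] at h2
    exact hw1 h2
  · exact (S.tpl.hall.coprime_dvd_left (Subgroup.card_map_dvd W π)).coprime_dvd_right
      (Subgroup.index_map_dvd W hs)
  · rintro _ ⟨x, hx, rfl⟩ hx1
    obtain ⟨w, hw, hw1, hgen⟩ := S.exists_gen
    have hxne : x ≠ 1 := fun e => hx1 (by rw [e, map_one])
    haveI := Fact.mk S.q_prime
    have hzx : W = Subgroup.zpowers x := le_antisymm (fun y hy => by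
      have h := mem_zpowers_of_prime_card (G := W) (p := q) S.W_card (g := ⟨x, hx⟩)
        (g' := ⟨y, hy⟩) (fun e => hxne (congrArg Subtype.val e))
      obtain ⟨k, hk⟩ := Subgroup.mem_zpowers_iff.mp h
      exact Subgroup.mem_zpowers_iff.mpr ⟨k, congrArg Subtype.val hk⟩) (Subgroup.zpowers_le.mpr hx)
    have hcop : (Nat.card W).Coprime (Nat.card D) := S.tpl.index_eq ▸ S.tpl.hall
    have hm := CfsgLib.Coprime.map_inf_centralizer π W D
      ((Subgroup.normalizer_eq_top_iff.mpr S.D_normal).ge.trans' le_top) hcop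
      (Or.inl (by haveI := S.tpl.cyc₁; letI := IsCyclic.commGroup (α := W); infer_instance))
    rw [hzx, MonoidHom.map_zpowers, Subgroup.zpowers_eq_closure, Subgroup.zpowers_eq_closure,
      Subgroup.centralizer_closure, Subgroup.centralizer_closure] at hm
    rw [← hm, S.tpl.cent x hx hxne]

theorem Setup.card_W₂_quot [H₀.Normal] : Nat.card (W₂.map (QuotientGroup.mk' H₀)) = p := by
  rw [← Subgroup.relIndex_ker, QuotientGroup.ker_mk', S.W₂_rel]

/-- At most `p` irreducible characters of `D / H₀` are fixed by `w`. -/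
theorem Setup.card_fixed_le {w : L} (hw : w ∈ W) (hw1 : w ≠ 1) :
    Nat.card {θ : IrrCharacter D // (∀ a : D, (a : L) ∈ H₀ → (θ : D → ℂ) a = (θ : D → ℂ) 1) ∧
      conjChar S.D_normal (θ : D → ℂ) w = (θ : D → ℂ)} ≤ p := by
  haveI := S.H₀_normal
  set π := QuotientGroup.mk' H₀ with hπ
  have hT := S.tpl_quot
  have hwπ : π w ≠ 1 := fun e => hw1 (by
    have h2 : w ∈ D ⊓ W := ⟨S.H_le (S.H₀_le ((QuotientGroup.eq_one_iff w).mp e)), hw⟩
    rwa [S.tpl.disj, Subgroup.mem_bot] at h2)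
  refine le_of_le_of_eq ?_ ((hT.card_fixed (Subgroup.mem_map_of_mem π hw) hwπ).trans S.card_W₂_quot)
  have hd : ∀ θ : {θ : IrrCharacter D // (∀ a : D, (a : L) ∈ H₀ → (θ : D → ℂ) a = (θ : D → ℂ) 1) ∧
      conjChar S.D_normal (θ : D → ℂ) w = (θ : D → ℂ)},
      ∃ ψ : D.map π → ℂ, IsIrrCharacter _ ψ ∧ ∀ x, (θ.1 : D → ℂ) x = ψ (π.subgroupMap D x) := fun θ =>
    exists_descend _ (π.subgroupMap_surjective D) θ.1.2 fun x hx => θ.2.1 x
      ((QuotientGroup.eq_one_iff (x : L)).mp (congrArg Subtype.val hx))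
  choose ψ hψ hψe using hd
  have hfix : ∀ θ, conjChar hT.normal (ψ θ) (π w) = ψ θ := by
    intro θ
    funext y
    obtain ⟨x, rfl⟩ := π.subgroupMap_surjective D y
    have h := congrFun θ.2.2 x
    rw [hψe θ x] at h
    refine Eq.trans ?_ h
    show ψ θ _ = (θ.1 : D → ℂ) _
    rw [hψe]
    refine congrArg (ψ θ) (Subtype.ext ?_)
    show π w * π x * (π w)⁻¹ = π (w * x * w⁻¹)
    rw [map_mul, map_mul, map_inv]
  refine Nat.card_le_card_of_injective (fun θ => ⟨⟨ψ θ, hψ θ⟩, hfix θ⟩) ?_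
  intro a b e
  have e' : ψ a = ψ b := congrArg (fun z => (z.1 : D.map π → ℂ)) e
  refine Subtype.ext (Subtype.ext (funext fun x => ?_))
  rw [hψe a x, hψe b x, e']

/-- The `p - 1` nontrivial characters of `H / H₀` fixed by `W`. -/
theorem Setup.card_fixed_lin :
    Nat.card {f : H →* ℂˣ // f ≠ 1 ∧ (∀ x ∈ H₀, lval f x = 1) ∧ ∀ w ∈ W, LFix f w} ≥ p - 1 := by
  haveI := S.H₀_normal
  obtain ⟨w, hw, hw1, hgen⟩ := S.exists_gen
  set π := QuotientGroup.mk' H₀ with hπ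
  set Hb := H.map π with hHb
  have hcom : ∀ a ∈ Hb, ∀ b ∈ Hb, a * b = b * a := by
    rintro _ ⟨a, ha, rfl⟩ _ ⟨b, hb, rfl⟩
    have h : π (a * b * a⁻¹ * b⁻¹) = 1 := (QuotientGroup.eq_one_iff _).mpr (S.comm_mem a ha b hb)
    rw [map_mul, map_mul, map_mul, map_inv, map_inv] at h
    exact commutatorElement_eq_one_iff_mul_comm.mp (by rwa [commutatorElement_def])
  have hconj : ∀ y ∈ Hb, π w * y * (π w)⁻¹ ∈ Hb := by
    rintro _ ⟨h, hh, rfl⟩
    exact ⟨w * h * w⁻¹, S.conj_H w hh, by rw [map_mul, map_mul, map_inv]⟩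
  let δ : Hb →* Hb := MonoidHom.mk'
    (fun y => ⟨π w * y * (π w)⁻¹ * (y : L ⧸ H₀)⁻¹, Hb.mul_mem (hconj y y.2) (Hb.inv_mem y.2)⟩)
    fun a b => Subtype.ext (by
      simp only [Subgroup.coe_mul, mul_inv_rev]
      have h1 := hcom _ (Hb.inv_mem a.2) _ (Hb.mul_mem (hconj b b.2) (Hb.inv_mem b.2))
      calc π w * ((a : L ⧸ H₀) * b) * (π w)⁻¹ * ((b : L ⧸ H₀)⁻¹ * (a : L ⧸ H₀)⁻¹)
          = π w * a * (π w)⁻¹ * ((π w * b * (π w)⁻¹ * (b : L ⧸ H₀)⁻¹) * (a : L ⧸ H₀)⁻¹) := by group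
        _ = _ := by rw [← h1]; group)
  have hker : δ.ker = (W₂.map π).subgroupOf Hb := by
    ext y
    rw [MonoidHom.mem_ker, Subgroup.mem_subgroupOf, Subtype.ext_iff]
    have hT := S.tpl_quot
    have hwπ : π w ≠ 1 := fun e => hw1 (by
      have h2 : w ∈ D ⊓ W := ⟨S.H_le (S.H₀_le ((QuotientGroup.eq_one_iff w).mp e)), hw⟩
      rwa [S.tpl.disj, Subgroup.mem_bot] at h2)
    show π w * y * (π w)⁻¹ * (y : L ⧸ H₀)⁻¹ = 1 ↔ _
    rw [mul_inv_eq_one, mul_inv_eq_iff_eq_mul]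
    exact ⟨fun e => hT.mem₂ (Subgroup.mem_map_of_mem π hw) hwπ (Subgroup.map_mono S.H_le y.2) e.symm,
      fun hy => ((hT.commute₂ (Subgroup.mem_map_of_mem π hw) hwπ hy).eq).symm⟩
  set N := (δ.range.map Hb.subtype).comap π with hN
  have hNrel : N.relIndex H = p := by
    rw [hN, Subgroup.relIndex_comap, Subgroup.relIndex, ← hHb, Subgroup.subgroupOf,
      Subgroup.comap_map_eq_self_of_injective Hb.subtype_injective, Subgroup.index_range, hker,
      CfsgLib.Coprime.card_subgroupOf (Subgroup.map_mono S.W₂_le), S.card_W₂_quot]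
  have hNH : N ≤ H := by
    intro x hx
    obtain ⟨h, hh, e⟩ := (Subgroup.map_subtype_le _ hx : π x ∈ Hb)
    have h1 : h⁻¹ * x ∈ H₀ := QuotientGroup.eq.mp e
    have := H.mul_mem hh (S.H₀_le h1)
    rwa [mul_inv_cancel_left] at this
  have h0 : H₀ ≤ N := fun x hx => by
    show π x ∈ δ.range.map Hb.subtype
    rw [show π x = 1 from (QuotientGroup.eq_one_iff x).mpr hx]
    exact one_mem _
  have hcm : ∀ a ∈ H, ∀ b ∈ H, a * b * a⁻¹ * b⁻¹ ∈ N := fun a ha b hb => h0 (S.comm_mem a ha b hb)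
  rw [ge_iff_le, ← hNrel, ← card_lin_ne_one hNH hcm]
  refine Nat.card_le_card_of_injective (fun f => ⟨f.1, f.2.1, fun x hx => f.2.2 x (h0 hx),
    fun z hz => ?_⟩) (fun a b e => Subtype.ext (congrArg
      (fun t : {f : H →* ℂˣ // f ≠ 1 ∧ (∀ x ∈ H₀, lval f x = 1) ∧ ∀ w ∈ W, LFix f w} => t.1) e))
  have hwfix : LFix f.1 w := by
    intro x hx
    have hmem : w * x * w⁻¹ * x⁻¹ ∈ N := by
      show π (w * x * w⁻¹ * x⁻¹) ∈ δ.range.map Hb.subtype
      exact ⟨δ ⟨π x, Subgroup.mem_map_of_mem π hx⟩, ⟨_, rfl⟩, by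
        show π w * π x * (π w)⁻¹ * (π x)⁻¹ = _
        rw [map_mul, map_mul, map_mul, map_inv, map_inv]⟩
    have e : w * x * w⁻¹ = w * x * w⁻¹ * x⁻¹ * x := by group
    rw [e, lval_mul f.1 (hNH hmem) hx, f.2.2 _ hmem, one_mul]
  have hz' : z ∈ Submonoid.powers w := mem_powers_iff_mem_zpowers.mpr (hgen ▸ hz)
  obtain ⟨n, rfl⟩ := hz'
  induction n with
  | zero => intro x _; simp
  | succ n ih => show LFix f.1 (w ^ (n + 1)); rw [pow_succ]; exact (ih (W.pow_mem hw n)).mul hwfix fun x hx => S.conj_H w hx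

/-- The fixed characters above `H₀` not trivial on `H` are the `p - 1` characters induced from `HC`. -/
theorem Setup.fixed_chars {w : L} (hw : w ∈ W) (hw1 : w ≠ 1) :
    Nat.card {θ : IrrCharacter D // (∀ a : D, (a : L) ∈ H₀ → (θ : D → ℂ) a = (θ : D → ℂ) 1) ∧
      conjChar S.D_normal (θ : D → ℂ) w = (θ : D → ℂ) ∧
      ∃ h : D, (h : L) ∈ H ∧ (θ : D → ℂ) h ≠ (θ : D → ℂ) 1} = p - 1 ∧
    ∀ θ : D → ℂ, IsIrrCharacter D θ → (∀ a : D, (a : L) ∈ H₀ → θ a = θ 1) →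
      conjChar S.D_normal θ w = θ → (∃ h : D, (h : L) ∈ H ∧ θ h ≠ θ 1) →
      (∀ a : D, (a : L) ∈ H₀ ⊔ C → θ a = θ 1) ∧ θ 1 = ((C.relIndex U : ℕ) : ℂ) := by
  set Θ := {θ : IrrCharacter D // (∀ a : D, (a : L) ∈ H₀ → (θ : D → ℂ) a = (θ : D → ℂ) 1) ∧
      conjChar S.D_normal (θ : D → ℂ) w = (θ : D → ℂ) ∧
      ∃ h : D, (h : L) ∈ H ∧ (θ : D → ℂ) h ≠ (θ : D → ℂ) 1}
  -- upper bound
  have hup : Nat.card (Option Θ) ≤ p := by
    refine le_trans (Nat.card_le_card_of_injective (fun o : Option Θ => (o.elim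
      ⟨principalIrr D, fun _ _ => rfl, rfl⟩ fun θ => ⟨θ.1, θ.2.1, θ.2.2.1⟩ :
        {θ : IrrCharacter D // (∀ a : D, (a : L) ∈ H₀ → (θ : D → ℂ) a = (θ : D → ℂ) 1) ∧
          conjChar S.D_normal (θ : D → ℂ) w = (θ : D → ℂ)})) ?_) (S.card_fixed_le hw hw1)
    rintro (_ | a) (_ | b) e
    · rfl
    · obtain ⟨h, -, hne⟩ := b.2.2.2
      exact absurd (by rw [← show principalIrr D = b.1 from congrArg Subtype.val e]; rfl) hne
    · obtain ⟨h, -, hne⟩ := a.2.2.2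
      exact absurd (by rw [show a.1 = principalIrr D from congrArg Subtype.val e]; rfl) hne
    · exact congrArg some (Subtype.ext (by simpa using congrArg Subtype.val e))
  rw [Finite.card_option] at hup
  -- the induced ones
  haveI hn := S.H₀C_normal le_rfl S.C_normal
  have hext : ∀ f : {f : H →* ℂˣ // f ≠ 1 ∧ (∀ x ∈ H₀, lval f x = 1) ∧ ∀ w ∈ W, LFix f w},
      ∃ η : ↥(H ⊔ C) →* ℂˣ, (∀ x ∈ H, lval η x = lval f.1 x) ∧ ∀ c ∈ C, lval η c = 1 := fun f => by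
    obtain ⟨η, h1, h2⟩ := S.exists_extend f.2.2.1 1
    exact ⟨η, h1, fun c hc => by rw [h2 c hc, lval_mem _ hc, MonoidHom.one_apply, Units.val_one]⟩
  choose η hηH hηC using hext
  have htriv : ∀ f, ∀ x ∈ H₀ ⊔ C, lval (η f) x = 1 := by
    intro f x hx
    haveI := S.H₀_normal
    obtain ⟨a, ha, c, hc, rfl⟩ := Subgroup.mem_sup_of_normal_left.mp hx
    rw [lval_mul (η f) (Subgroup.mem_sup_left (S.H₀_le ha)) (Subgroup.mem_sup_right hc),
      hηH f a (S.H₀_le ha), f.2.2.1 a ha, hηC f c hc, one_mul]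
  have hspec := fun f => S.lind_HC (hηH f) f.2.1
    (fun v hv hfix => S.mem_C_of_fixed f.2.2.1 f.2.1 f.2.2.2 hv hfix)
    (sup_le_sup_right S.H₀_le C) hn (htriv f)
  have hwX : w ∈ Subgroup.normalizer ((H ⊔ C : Subgroup L) : Set L) :=
    (Subgroup.normalizer_eq_top_iff.mpr S.HC_normal).ge (Subgroup.mem_top w)
  have hinv : ∀ f, conjChar S.D_normal (lind D (η f)) w = lind D (η f) := by
    intro f
    funext d
    refine lind_conj (S.sup_le_D S.C_le)
      ((Subgroup.normalizer_eq_top_iff.mpr S.D_normal).ge (Subgroup.mem_top w)) hwX ?_ d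
    intro x hx
    haveI := S.H_normal
    obtain ⟨h, hh, c, hc, rfl⟩ := Subgroup.mem_sup_of_normal_left.mp hx
    have hc' : w * c * w⁻¹ ∈ C :=
      (Subgroup.mem_normalizer_iff.mp (S.C_normal (Subgroup.mem_sup_right hw)) c).mp hc
    have e : w * (h * c) * w⁻¹ = w * h * w⁻¹ * (w * c * w⁻¹) := by group
    rw [e, lval_mul (η f) (Subgroup.mem_sup_left (S.conj_H w hh)) (Subgroup.mem_sup_right hc'),
      lval_mul (η f) (Subgroup.mem_sup_left hh) (Subgroup.mem_sup_right hc), hηC f c hc, hηC f _ hc',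
      hηH f _ (S.conj_H w hh), hηH f h hh, f.2.2.2 w hw h hh]
  let Φ : {f : H →* ℂˣ // f ≠ 1 ∧ (∀ x ∈ H₀, lval f x = 1) ∧ ∀ w ∈ W, LFix f w} → Θ := fun f =>
    ⟨⟨lind D (η f), (hspec f).1⟩, fun a ha => (hspec f).2.2.1 a (Subgroup.mem_sup_left ha), hinv f,
      (hspec f).2.2.2⟩
  have hinj : Function.Injective Φ := by
    intro f f' e
    have e' : lind D (η f') = lind D (η f) := (congrArg (fun t : Θ => (t.1 : D → ℂ)) e).symm
    obtain ⟨d, hd, hde⟩ := lind_eq (S.sup_le_D S.C_le) S.X_normal_D e'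
    obtain ⟨h, hh, v, hv, rfl⟩ := S.D_eq d hd
    have hfv : ∀ x ∈ H, lval f'.1 x = lval f.1 (v * x * v⁻¹) := by
      intro x hx
      rw [← hηH f' x hx, hde x (Subgroup.mem_sup_left hx)]
      have e1 : h * v * x * (h * v)⁻¹ = h * (v * x * v⁻¹) * h⁻¹ := by group
      rw [e1, hηH f _ (S.conj_H h (S.conj_H v hx)), lval_conj f.1 hh (S.conj_H v hx)]
    have hvC : v ∈ C := by
      refine S.fpf w⁻¹ (W.inv_mem hw) (fun e1 => hw1 (inv_eq_one.mp e1)) v hv ?_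
      refine S.mem_C_of_fixed f.2.2.1 f.2.1 f.2.2.2 (U.mul_mem ?_ (U.inv_mem hv)) ?_
      · exact (Subgroup.mem_normalizer_iff.mp (S.W_U (W.inv_mem hw)) v).mp hv
      intro y hy
      set x := v⁻¹ * y * v with hxdef
      have hx : x ∈ H := by
        have := S.conj_H v⁻¹ hy
        rwa [inv_inv] at this
      have hxw := S.conj_H w hx
      have h1 : lval f.1 (v * (w * x * w⁻¹) * v⁻¹) = lval f.1 (v * x * v⁻¹) := by
        rw [← hfv _ hxw, ← hfv x hx]; exact f'.2.2.2 w hw x hx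
      have hy2 : v * x * v⁻¹ = y := by rw [hxdef]; group
      rw [hy2, ← f.2.2.2 w⁻¹ (W.inv_mem hw) _ (S.conj_H v hxw)] at h1
      rw [← h1]
      congr 1
      rw [hxdef]; group
    refine (Subtype.ext (lval_ext fun x hx => ?_)).symm
    rw [hfv x hx, S.lfix_C f.2.2.1 hvC x hx]
  have hlow : p - 1 ≤ Nat.card Θ := S.card_fixed_lin.trans (Nat.card_le_card_of_injective Φ hinj)
  have hsurj : Function.Surjective Φ := ((Nat.bijective_iff_injective_and_card Φ).mpr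
    ⟨hinj, le_antisymm (Nat.card_le_card_of_injective Φ hinj)
      (le_trans (by omega) S.card_fixed_lin)⟩).2
  refine ⟨by omega, fun θ hθ h0 hfix hH => ?_⟩
  obtain ⟨f, hf⟩ := hsurj ⟨⟨θ, hθ⟩, h0, hfix, hH⟩
  have e : lind D (η f) = θ := congrArg (fun t : Θ => (t.1 : D → ℂ)) hf
  rw [← e]
  exact ⟨(hspec f).2.2.1, (hspec f).2.1⟩

/-- PF (9.8). -/
theorem Setup.reducible :
    Nat.card {χ // χ ∈ seqInd D H H₀ ∧ ¬ IsIrrCharacter L χ} = p - 1 ∧
      ∀ χ ∈ seqInd D H H₀, ¬ IsIrrCharacter L χ →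
        χ ∈ seqInd D H (H₀ ⊔ C) ∧ χ 1 = ((q * C.relIndex U : ℕ) : ℂ) ∧
          classInner χ χ = (q : ℂ) := by
  obtain ⟨w, hw, hw1, -⟩ := S.exists_gen
  obtain ⟨hcard, hall⟩ := S.fixed_chars hw hw1
  refine ⟨?_, fun χ hχ hred => ?_⟩
  · rw [← hcard]
    refine (Nat.card_eq_of_bijective (fun θ => ⟨indFun D (θ.1 : D → ℂ),
      S.mem_seqInd θ.1.2 θ.2.1 θ.2.2.2, fun hirr => ((S.ind_cases θ.1.2).elim
        (fun h => h.2.1 hirr) fun h => hw1 (h.1 w hw θ.2.2.1))⟩) ⟨?_, ?_⟩).symm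
    · intro a b e
      obtain ⟨x, hx⟩ := CfsgLib.OddChar.conjChar_of_indFun_eq S.D_normal a.1.2 b.1.2
        (congrArg Subtype.val e)
      refine Subtype.ext (Subtype.ext ?_)
      rw [← hx]
      exact S.invariant_of b.1.2 hw hw1 b.2.2.1 x
    · rintro ⟨χ, hχ, hred⟩
      obtain ⟨θ, hθ, hA, hH, rfl⟩ := S.exists_of_mem hχ
      rcases S.ind_cases hθ with h | h
      · exact ⟨⟨⟨θ, hθ⟩, hA, h.1 w, hH⟩, rfl⟩
      · exact absurd h.2 hred
  · obtain ⟨θ, hθ, hA, hH, rfl⟩ := S.exists_of_mem hχ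
    rcases S.ind_cases hθ with h | h
    · obtain ⟨h1, h2⟩ := hall θ hθ hA (h.1 w) hH
      exact ⟨S.mem_seqInd hθ h1 hH, S.indFun_one h2, h.2.2⟩
    · exact absurd h.2 hred

end CfsgLib.PF.Nine
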