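import Mathlib
import Cfsg.Agent.Lib.PF.Sec9CharsRed

/-!
# Peterfalvi (9.9), (9.10): the Galois case, and linear constituents on `HC`
-/

set_option autoImplicit false
set_option linter.style.haveILetI false
set_option linter.unusedSectionVars false

namespace CfsgLib.PF.Nine

open Cfsg CfsgLib.Characters CfsgLib.Clifford
open scoped Classical ComplexConjugate

universe u

variable {L : Type u} [Group L] [Fintype L] {D H H₀ U W W₂ C : Subgroup L} {p q : ℕ}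

/-- Conjugate of a linear character of a normal subgroup. -/
theorem exists_conj_hom {X : Subgroup L} (hX : X.Normal) (η : X →* ℂˣ) (g : L) :
    ∃ η' : X →* ℂˣ, ∀ x ∈ X, lval η' x = lval η (g * x * g⁻¹) :=
  ⟨η.comp (conjHom hX g), fun x hx => by
    rw [lval_mem _ hx, lval_mem _ (hX.conj_mem x hx g)]; rfl⟩

/-- Every linear character of `H / H₀` has stabiliser at most `C`. -/
def Free (H H₀ U C : Subgroup L) : Prop :=
  ∀ f : H →* ℂˣ, f ≠ 1 → (∀ x ∈ H₀, lval f x = 1) → ∀ v ∈ U, LFix f v → v ∈ C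

variable (S : Setup D H H₀ U W W₂ C p q)

include S

theorem Setup.exists_restrict {X : Subgroup L} (hHX : H ≤ X) (η : X →* ℂˣ) :
    ∃ f : H →* ℂˣ, ∀ x ∈ H, lval η x = lval f x :=
  ⟨η.comp (Subgroup.inclusion hHX), fun x hx => by rw [lval_mem _ (hHX hx), lval_mem _ hx]; rfl⟩

/-- A member of `S(H₀C')` lies over a linear character of `HC` that is nontrivial on `H`. -/
theorem Setup.exists_constituent {θ : D → ℂ} (hθ : IsIrrCharacter D θ)
    (hA : ∀ a : D, (a : L) ∈ H₀ ⊔ ⁅C, C⁆ → θ a = θ 1) (hH : ∃ h : D, (h : L) ∈ H ∧ θ h ≠ θ 1) :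
    ∃ (η : ↥(H ⊔ C) →* ℂˣ) (f : H →* ℂˣ), (∀ x ∈ H, lval η x = lval f x) ∧ f ≠ 1 ∧
      (∀ x ∈ H₀, lval f x = 1) ∧
      classInner (fun x : (H ⊔ C).subgroupOf D => θ x) (lfun D η) ≠ 0 := by
  obtain ⟨n, hn0, hn⟩ := irr_exists_degree hθ
  have hXD := S.sup_le_D S.C_le
  obtain ⟨η, hη, hne⟩ := exists_lin_constituent hXD S.X_normal_D
    (sup_le_sup S.H₀_le (Subgroup.commutator_le_self C)) S.comm_X
    (by rw [hn]; exact Nat.cast_ne_zero.mpr hn0.ne') hA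
  obtain ⟨f, hf⟩ := S.exists_restrict le_sup_left η
  refine ⟨η, f, hf, fun h1 => ?_, fun x hx => by
    rw [← hf x (S.H₀_le hx)]; exact hη x (Subgroup.mem_sup_left hx), hne⟩
  obtain ⟨h, hh, hne'⟩ := hH
  refine hne' (eq_one_of_constituent hXD S.X_normal_D hθ hne (c := (h : L))
    (Subgroup.mem_sup_left hh) fun d hd => ?_)
  rw [hf _ (S.conj_H d hh), h1, lval_mem _ (S.conj_H d hh), MonoidHom.one_apply, Units.val_one]

/-- PF (9.9), Galois case. -/
theorem Setup.degree_galois (hfree : Free H H₀ U C) :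
    ∀ χ ∈ seqInd D H (H₀ ⊔ ⁅C, C⁆), χ 1 = ((q * C.relIndex U : ℕ) : ℂ) := by
  intro χ hχ
  obtain ⟨θ, hθ, hA, hH, rfl⟩ := S.exists_of_mem hχ
  obtain ⟨η, f, hf, hf1, hf0, hne⟩ := S.exists_constituent hθ hA hH
  refine S.indFun_one ?_
  rw [(lind_irr (S.sup_le_D S.C_le) S.X_normal_D η
    (S.stab_sup hf (hfree f hf1 hf0))).2.2 θ hθ hne, lind_one, S.relIndex_sup S.C_le]

/-- An extension of `f` trivial on `H₀C'`. -/
theorem Setup.exists_extend_triv {f : H →* ℂˣ} (hf : ∀ x ∈ H₀, lval f x = 1) (g : C →* ℂˣ)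
    (hg : ∀ x ∈ ⁅C, C⁆, lval g x = 1) :
    ∃ η : ↥(H ⊔ C) →* ℂˣ, (∀ x ∈ H, lval η x = lval f x) ∧ (∀ c ∈ C, lval η c = lval g c) ∧
      ∀ x ∈ H₀ ⊔ ⁅C, C⁆, lval η x = 1 := by
  obtain ⟨η, h1, h2⟩ := S.exists_extend hf g
  refine ⟨η, h1, h2, fun x hx => ?_⟩
  haveI := S.H₀_normal
  obtain ⟨a, ha, c, hc, rfl⟩ := Subgroup.mem_sup_of_normal_left.mp hx
  have hcC := Subgroup.commutator_le_self C hc
  rw [lval_mul η (Subgroup.mem_sup_left (S.H₀_le ha)) (Subgroup.mem_sup_right hcC),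
    h1 a (S.H₀_le ha), hf a ha, h2 c hcC, hg c hc, one_mul]

/-- The character of `D` of a character with stabiliser `C`, together with its dichotomy. -/
theorem Setup.lind_cases {η : ↥(H ⊔ C) →* ℂˣ} {f : H →* ℂˣ} (he : ∀ x ∈ H, lval η x = lval f x)
    (hne : f ≠ 1) (hst : ∀ v ∈ U, LFix f v → v ∈ C) (hA1 : ∀ x ∈ H₀ ⊔ ⁅C, C⁆, lval η x = 1)
    (hno : ¬ ∃ χ ∈ seqInd D H (H₀ ⊔ ⁅C, C⁆),
      IsIrrCharacter L χ ∧ χ 1 = ((q * C.relIndex U : ℕ) : ℂ)) :
    (∀ g, conjChar S.D_normal (lind D η) g = lind D η) ∧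
      ∀ a : D, (a : L) ∈ H₀ ⊔ C → lind D η a = lind D η 1 := by
  haveI hn := S.H₀C'_normal
  obtain ⟨hirr, hdeg, hker, hH⟩ :=
    S.lind_HC he hne hst (sup_le_sup S.H₀_le (Subgroup.commutator_le_self C)) hn hA1
  rcases S.ind_cases hirr with h | h
  · obtain ⟨w, hw, hw1, -⟩ := S.exists_gen
    exact ⟨h.1, ((S.fixed_chars hw hw1).2 _ hirr (fun a ha => hker a (Subgroup.mem_sup_left ha))
      (h.1 w) hH).1⟩
  · exact absurd ⟨_, S.mem_seqInd hirr hker hH, h.2, S.indFun_one hdeg⟩ hno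

/-- PF (9.10), Galois case. -/
theorem Setup.cases_galois (hfree : Free H H₀ U C)
    (hdvd : C.relIndex U ∣ (p ^ q - 1) / (p - 1))
    (hno : ¬ ∃ χ ∈ seqInd D H (H₀ ⊔ ⁅C, C⁆),
      IsIrrCharacter L χ ∧ χ 1 = ((q * C.relIndex U : ℕ) : ℂ)) :
    C = ⊥ ∧ C.relIndex U = (p ^ q - 1) / (p - 1) := by
  constructor
  · by_contra hC
    haveI := S.U_nilpotent
    haveI : Group.IsNilpotent C := Group.nilpotent_of_mulEquiv
      (Subgroup.subgroupOfEquivOfLe S.C_le : C.subgroupOf U ≃* C)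
    haveI : Nontrivial C := (Subgroup.nontrivial_iff_ne_bot C).mpr hC
    have hlt := Group.IsSolvable.commutator_lt_top_of_nontrivial C
    obtain ⟨c, -, hc⟩ := SetLike.exists_of_lt hlt
    have hcC : (c : L) ∉ ⁅C, C⁆ := fun h => hc (by
      rw [← Subgroup.map_subtype_commutator] at h
      obtain ⟨c', hc', e⟩ := h
      rwa [← Subtype.ext e])
    obtain ⟨g, hg, hgc⟩ := exists_lin (Subgroup.commutator_le_self C)
      (fun a ha b hb => Subgroup.commutator_mem_commutator ha hb) c.2 hcC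
    obtain ⟨h, hh, hh0⟩ := SetLike.exists_of_lt S.lt
    obtain ⟨f, hf, hfh⟩ := exists_lin S.H₀_le S.comm_mem hh hh0
    have hf1 : f ≠ 1 := fun e => hfh (by rw [e, lval_mem _ hh, MonoidHom.one_apply, Units.val_one])
    obtain ⟨η, h1, h2, h3⟩ := S.exists_extend_triv hf g hg
    have h4 := (S.lind_cases h1 hf1 (hfree f hf1 hf) h3 hno).2 ⟨(c : L), S.U_le (S.C_le c.2)⟩
      (Subgroup.mem_sup_right c.2)
    refine hgc ?_
    rw [← h2 c c.2]
    refine lval_eq_one_of_constituent (S.sup_le_D S.C_le) S.X_normal_D (lind_isCharacter η) ?_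
      (Subgroup.mem_sup_right c.2) h4
    rw [(lind_irr (S.sup_le_D S.C_le) S.X_normal_D η (S.stab_sup h1 (hfree f hf1 hf))).2.1]
    exact one_ne_zero
  · obtain ⟨w, hw, hw1, -⟩ := S.exists_gen
    obtain ⟨hΘ, -⟩ := S.fixed_chars hw hw1
    set F := {f : H →* ℂˣ // f ≠ 1 ∧ ∀ x ∈ H₀, lval f x = 1}
    have hext : ∀ f : F, ∃ η : ↥(H ⊔ C) →* ℂˣ, (∀ x ∈ H, lval η x = lval f.1 x) ∧
        (∀ c ∈ C, lval η c = lval (1 : C →* ℂˣ) c) ∧ ∀ x ∈ H₀ ⊔ ⁅C, C⁆, lval η x = 1 := fun f =>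
      S.exists_extend_triv f.2.2 1 fun x hx => by
        rw [lval_mem _ (Subgroup.commutator_le_self C hx), MonoidHom.one_apply, Units.val_one]
    choose η hηH hηC hηA using hext
    have hst := fun f : F => hfree f.1 f.2.1 f.2.2
    have hspec := fun f : F => S.lind_HC (hηH f) f.2.1 (hst f)
      (sup_le_sup S.H₀_le (Subgroup.commutator_le_self C)) S.H₀C'_normal (hηA f)
    let Φ : F → {θ : IrrCharacter D // (∀ a : D, (a : L) ∈ H₀ → (θ : D → ℂ) a = (θ : D → ℂ) 1) ∧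
      conjChar S.D_normal (θ : D → ℂ) w = (θ : D → ℂ) ∧
      ∃ h : D, (h : L) ∈ H ∧ (θ : D → ℂ) h ≠ (θ : D → ℂ) 1} := fun f =>
      ⟨⟨lind D (η f), (hspec f).1⟩, fun a ha => (hspec f).2.2.1 a (Subgroup.mem_sup_left ha),
        (S.lind_cases (hηH f) f.2.1 (hst f) (hηA f) hno).1 w, (hspec f).2.2.2⟩
    have hcnt := CfsgLib.LinearTwist.card_le_mul_of_fibres Φ (C.relIndex U) fun θ => by
      rcases isEmpty_or_nonempty {f // Φ f = θ} with h | ⟨⟨f₀, hf₀⟩⟩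
      · simp
      rw [← S.relIndex_sup S.C_le]
      refine le_trans (Nat.card_le_card_of_injective (fun f : {f // Φ f = θ} =>
        (⟨η f.1, ?_⟩ : {η' : ↥(H ⊔ C) →* ℂˣ // lind D η' = lind D (η f₀)})) ?_)
        (card_lind_fibre (S.sup_le_D S.C_le) S.X_normal_D (η f₀))
      · exact congrArg (fun t => ((t.1 : IrrCharacter D) : D → ℂ)) (f.2.trans hf₀.symm)
      · intro a b e
        have e' : η a.1 = η b.1 := congrArg Subtype.val e
        refine Subtype.ext (Subtype.ext (lval_ext fun x hx => ?_))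
        rw [← hηH a.1 x hx, ← hηH b.1 x hx, e']
    rw [hΘ, card_lin_ne_one S.H₀_le S.comm_mem, S.card] at hcnt
    have hpos : 0 < (p ^ q - 1) / (p - 1) := by
      refine Nat.div_pos ?_ (by have := S.p_prime.two_le; omega)
      have := Nat.le_self_pow S.q_prime.ne_zero p
      omega
    refine le_antisymm (Nat.le_of_dvd hpos hdvd) ?_
    exact Nat.div_le_of_le_mul (by rw [mul_comm]; exact hcnt)

end CfsgLib.PF.Nine
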