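import Mathlib
import Cfsg.Agent.Lib.PF.Sec9CharsGalois

/-!
# Peterfalvi (9.8), (9.10): the non-Galois case

`M_F / H₀` is the sum of the `q` conjugates `Ln i` of a line `L₁` on which `U` induces a group of order
`a < p - 1`.
-/

set_option autoImplicit false
set_option linter.style.haveILetI false
set_option linter.unusedSectionVars false

namespace CfsgLib.PF.Nine

open Cfsg CfsgLib.Characters CfsgLib.Clifford
open scoped Classical ComplexConjugate

universe u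

variable {L : Type u} [Group L] [Fintype L] {D H H₀ U W W₂ C : Subgroup L} {p q a : ℕ}
  {w : L} {Ln : ℕ → Subgroup L} {L₁ K : Subgroup L}

/-- The lines of the non-Galois case. -/
structure Lines (H H₀ U W C : Subgroup L) (p q a : ℕ) (w : L) (Ln : ℕ → Subgroup L)
    (L₁ K : Subgroup L) : Prop where
  gen : Subgroup.zpowers w = W
  mem : ∀ i x, x ∈ Ln i ↔ (w ^ i)⁻¹ * x * w ^ i ∈ L₁
  le₀ : ∀ i, H₀ ≤ Ln i
  le : ∀ i, Ln i ≤ H
  rel : H₀.relIndex L₁ = p
  normal : ∀ i, U ≤ Subgroup.normalizer (Ln i : Set L)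
  span : H₀ ⊔ (Finset.range q).sup Ln = H
  indep : ∀ i < q, Ln i ⊓ (H₀ ⊔ ((Finset.range q).erase i).sup Ln) = H₀
  mem_K : ∀ u : L, u ∈ K ↔ u ∈ U ∧ ∀ x ∈ L₁, u * x * u⁻¹ * x⁻¹ ∈ H₀
  C_le : C ≤ K
  C_iff : ∀ u ∈ U, (u ∈ C ↔ ∀ i < q, (w ^ i)⁻¹ * u * w ^ i ∈ K)
  K_normal : U ≤ Subgroup.normalizer (K : Set L)
  K_rel : K.relIndex U = a
  lt : a < p - 1

/-- The sum of the lines other than the `i`-th. -/
def others (H₀ : Subgroup L) (Ln : ℕ → Subgroup L) (q i : ℕ) : Subgroup L :=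
  H₀ ⊔ ((Finset.range q).erase i).sup Ln

variable (S : Setup D H H₀ U W W₂ C p q) (T : Lines H H₀ U W C p q a w Ln L₁ K)

include S T

theorem Lines.w_mem : w ∈ W := T.gen ▸ Subgroup.mem_zpowers w

theorem Lines.zero : Ln 0 = L₁ := by
  ext x; rw [T.mem, pow_zero, inv_one, one_mul, mul_one]

theorem Lines.one_le : L₁ ≤ H := T.zero S ▸ T.le 0

theorem Lines.conj_mem_line {x : L} (i : ℕ) (hx : x ∈ L₁) : w ^ i * x * (w ^ i)⁻¹ ∈ Ln i := by
  rw [T.mem]
  have e : (w ^ i)⁻¹ * (w ^ i * x * (w ^ i)⁻¹) * w ^ i = x := by group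
  rwa [e]

theorem Lines.K_le : K ≤ U := fun _ h => ((T.mem_K _).mp h).1

theorem Lines.le_others {i j : ℕ} (hj : j < q) (hne : j ≠ i) : Ln j ≤ others H₀ Ln q i :=
  le_sup_of_le_right (Finset.le_sup (Finset.mem_erase.mpr ⟨hne, Finset.mem_range.mpr hj⟩))

theorem Lines.others_le (i : ℕ) : others H₀ Ln q i ≤ H :=
  sup_le S.H₀_le (Finset.sup_le fun j _ => T.le j)

theorem Lines.sup_others {i : ℕ} (hi : i < q) : Ln i ⊔ others H₀ Ln q i = H := by
  rw [others, sup_left_comm, ← Finset.sup_insert, Finset.insert_erase (Finset.mem_range.mpr hi), T.span]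

theorem Lines.others_normal (i : ℕ) : D ≤ Subgroup.normalizer (others H₀ Ln q i : Set L) := by
  intro d hd
  obtain ⟨h, hh, u, hu, rfl⟩ := S.D_eq d hd
  refine mul_mem ?_ ?_
  · refine (Subgroup.le_normalizer_iff.2 fun g hg x hx => ?_ : H ≤ _) hh
    have e : g * x * g⁻¹ = g * x * g⁻¹ * x⁻¹ * x := by group
    rw [e]
    exact Subgroup.mul_mem _ (Subgroup.mem_sup_left (S.comm_mem g hg x (T.others_le S i hx))) hx
  · refine (Subgroup.le_normalizer_iff.2 fun g hg => ?_ : U ≤ _) hu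
    suffices hm : others H₀ Ln q i ≤ (others H₀ Ln q i).comap (MulAut.conj g).toMonoidHom from
      fun x hx => hm hx
    refine sup_le (fun x hx => Subgroup.mem_sup_left (S.H₀_normal.conj_mem x hx g)) ?_
    refine Finset.sup_le fun j hj x hx => Subgroup.mem_sup_right ?_
    exact (Finset.le_sup hj : Ln j ≤ _) ((Subgroup.mem_normalizer_iff.mp (T.normal j hg) x).mp hx)

/-- A nontrivial character of `H / H₀` is nontrivial on some line. -/
theorem Lines.exists_line {f : H →* ℂˣ} (hne : f ≠ 1) (hf : ∀ x ∈ H₀, lval f x = 1) :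
    ∃ i < q, ∃ x ∈ Ln i, lval f x ≠ 1 := by
  by_contra hc
  push Not at hc
  let N : Subgroup L :=
    { carrier := {z | z ∈ H ∧ lval f z = 1}
      one_mem' := ⟨H.one_mem, lval_one f⟩
      mul_mem' := fun {a b} ha hb => ⟨H.mul_mem ha.1 hb.1, by
        rw [lval_mul f ha.1 hb.1, ha.2, hb.2, one_mul]⟩
      inv_mem' := fun {a} ha => ⟨H.inv_mem ha.1, by rw [lval_inv f ha.1, ha.2, inv_one]⟩ }
  have hle : H₀ ⊔ (Finset.range q).sup Ln ≤ N := sup_le (fun z hz => ⟨S.H₀_le hz, hf z hz⟩)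
    (Finset.sup_le fun i hi z hz => ⟨T.le i hz, hc i (Finset.mem_range.mp hi) z hz⟩)
  rw [T.span] at hle
  obtain ⟨x, hx, hx1⟩ := exists_apply_ne hne
  exact hx1 (hle hx).2

/-- An element fixing a character nontrivial on the line `i` centralises that line. -/
theorem Lines.mem_K_of_fixed {f : H →* ℂˣ} (hf : ∀ x ∈ H₀, lval f x = 1) {i : ℕ} {y : L}
    (hy : y ∈ Ln i) (hy1 : lval f y ≠ 1) {v : L} (hv : v ∈ U) (hfix : LFix f v) :
    (w ^ i)⁻¹ * v * w ^ i ∈ K := by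
  let N : Subgroup L :=
    { carrier := {z | z ∈ Ln i ∧ lval f z = 1}
      one_mem' := ⟨(Ln i).one_mem, lval_one f⟩
      mul_mem' := fun {a b} ha hb => ⟨(Ln i).mul_mem ha.1 hb.1, by
        rw [lval_mul f (T.le i ha.1) (T.le i hb.1), ha.2, hb.2, one_mul]⟩
      inv_mem' := fun {a} ha => ⟨(Ln i).inv_mem ha.1, by
        rw [lval_inv f (T.le i ha.1), ha.2, inv_one]⟩ }
  have h0 : H₀ ≤ N := fun z hz => ⟨T.le₀ i hz, hf z hz⟩
  have hwU : (w ^ i)⁻¹ * v * w ^ i ∈ U :=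
    (Subgroup.mem_normalizer_iff''.mp (S.W_U (W.pow_mem (T.w_mem S) i)) v).mp hv
  have hNle : N ≤ Ln i := fun z hz => hz.1
  have hrel : H₀.relIndex (Ln i) = p := by
    have e : Ln i = L₁.comap (MulAut.conj (w ^ i)⁻¹).toMonoidHom := by
      ext z; rw [T.mem]; simp only [Subgroup.mem_comap, MulEquiv.coe_toMonoidHom, MulAut.conj_apply, inv_inv]
    have e0 : H₀.comap (MulAut.conj (w ^ i)⁻¹).toMonoidHom = H₀ := by
      haveI := S.H₀_normal
      ext z
      rw [Subgroup.mem_comap]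
      show (w ^ i)⁻¹ * z * (w ^ i)⁻¹⁻¹ ∈ H₀ ↔ _
      rw [inv_inv]
      exact (Subgroup.mem_normalizer_iff''.mp
        ((Subgroup.normalizer_eq_top_iff.mpr S.H₀_normal).ge (Subgroup.mem_top (w ^ i))) z).symm
    rw [e]
    conv_lhs => rw [← e0]
    rw [Subgroup.relIndex_comap, Subgroup.map_comap_eq_self_of_surjective
      (MulAut.conj (w ^ i)⁻¹).surjective, T.rel]
  have hN : N = H₀ := by
    refine le_antisymm ?_ h0
    have h1 := Subgroup.relIndex_mul_relIndex H₀ N (Ln i) h0 hNle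
    rw [hrel] at h1
    rcases (S.p_prime.eq_one_or_self_of_dvd _ ⟨_, h1.symm⟩) with h | h
    · exact Subgroup.relIndex_eq_one.mp h
    · rw [h] at h1
      exact absurd (Subgroup.relIndex_eq_one.mp ((mul_eq_left₀ S.p_prime.ne_zero).mp h1) hy).2 hy1
  refine (T.mem_K _).mpr ⟨hwU, fun x hx => ?_⟩
  have hyL := T.conj_mem_line S i hx
  set y' := w ^ i * x * (w ^ i)⁻¹ with hy'
  have hm : v * y' * v⁻¹ ∈ Ln i := (Subgroup.mem_normalizer_iff.mp (T.normal i hv) y').mp hyL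
  have hz : v * y' * v⁻¹ * y'⁻¹ ∈ N := ⟨(Ln i).mul_mem hm ((Ln i).inv_mem hyL), by
    rw [lval_mul f (T.le i hm) (H.inv_mem (T.le i hyL)), hfix _ (T.le i hyL),
      lval_inv f (T.le i hyL), mul_inv_cancel₀ (lval_ne_zero f (T.le i hyL))]⟩
  rw [hN] at hz
  have := S.H₀_normal.conj_mem _ hz (w ^ i)⁻¹
  convert this using 1
  rw [hy']
  group

/-- PF (9.7), non-Galois case: degrees in `S(H₀C')` are multiples of `q a`. -/
theorem Lines.degree :
    ∀ χ ∈ seqInd D H (H₀ ⊔ ⁅C, C⁆), ∃ n : ℕ, χ 1 = ((n * (q * a) : ℕ) : ℂ) := by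
  intro χ hχ
  obtain ⟨θ, hθ, hA, hH, rfl⟩ := S.exists_of_mem hχ
  obtain ⟨η, f, hf, hf1, hf0, hne⟩ := S.exists_constituent hθ hA hH
  obtain ⟨i, -, y, hy, hy1⟩ := T.exists_line S hf1 hf0
  set e := (MulAut.conj (w ^ i)⁻¹).toMonoidHom with he
  have hconj : ∀ v : L, e v = (w ^ i)⁻¹ * v * w ^ i := fun v => by simp only [he, MulEquiv.coe_toMonoidHom, MulAut.conj_apply, inv_inv]
  set Ki := U ⊓ K.comap e with hKi
  have hrel : Ki.relIndex U = a := by
    have hmap : U.map e = U := by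
      refine le_antisymm ?_ fun v hv => ?_
      · rintro _ ⟨v, hv, rfl⟩
        rw [hconj]
        exact (Subgroup.mem_normalizer_iff''.mp (S.W_U (W.pow_mem (T.w_mem S) i)) v).mp hv
      · refine ⟨w ^ i * v * (w ^ i)⁻¹,
          (Subgroup.mem_normalizer_iff.mp (S.W_U (W.pow_mem (T.w_mem S) i)) v).mp hv, ?_⟩
        rw [hconj]; group
    rw [hKi, Subgroup.inf_relIndex_left, Subgroup.relIndex_comap, hmap, T.K_rel]
  obtain ⟨n, hn⟩ := exists_degree_mul (S.sup_le_D S.C_le) S.X_normal_D hθ hne (Y := H ⊔ Ki)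
    fun d hd hfix => by
      obtain ⟨h, hh, v, hv, rfl⟩ := S.D_eq d hd
      refine Subgroup.mul_mem_sup hh ⟨hv, ?_⟩
      show e v ∈ K
      rw [hconj]
      exact T.mem_K_of_fixed S hf0 hy hy1 hv (S.lfix_part le_sup_left hf hh hfix)
  rw [S.relIndex_sup inf_le_left, hrel] at hn
  exact ⟨n, by rw [S.indFun_one hn, mul_left_comm]⟩

/-- Characters that kill all lines but the first are not moved onto each other by `W`. -/
theorem Lines.moved {θ θ' : D → ℂ} (hJ : ∀ a : D, (a : L) ∈ others H₀ Ln q 0 → θ a = θ 1)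
    (hL : ∃ a : D, (a : L) ∈ L₁ ∧ θ' a ≠ θ' 1) {i : ℕ} (hi : i < q) (hi0 : i ≠ 0) :
    conjChar S.D_normal θ (w ^ i) ≠ θ' := by
  intro e
  obtain ⟨y, hy, hne⟩ := hL
  refine hne ?_
  rw [← e, conjChar_apply_one]
  exact hJ _ (T.le_others S hi hi0 (T.conj_mem_line S i hy))

/-- PF (9.7), non-Galois case: the count of the irreducible members of degree `q a`. -/
theorem Lines.count :
    (p - 1) * C.relIndex U ≤ Nat.card {χ // χ ∈ seqInd D H (H₀ ⊔ C) ∧
      IsIrrCharacter L χ ∧ χ 1 = ((q * a : ℕ) : ℂ)} * (a * a) := by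
  set Tχ := {χ : L → ℂ // χ ∈ seqInd D H (H₀ ⊔ C) ∧ IsIrrCharacter L χ ∧ χ 1 = ((q * a : ℕ) : ℂ)}
  haveI : Finite Tχ := Finite.of_injective (fun t : Tχ => (⟨t.1, t.2.2.1⟩ : IrrCharacter L))
    fun a b e => Subtype.ext (congrArg (fun z : IrrCharacter L => (z : L → ℂ)) e)
  set J := others H₀ Ln q 0 with hJ
  have h0J : H₀ ≤ J := le_sup_left
  have hJH : J ≤ H := T.others_le S 0
  have hJrel : J.relIndex H = p := by
    have h1 : L₁ ⊔ J = H := T.zero S ▸ T.sup_others S S.q_prime.pos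
    have h2 : L₁ ⊓ J = H₀ := T.zero S ▸ T.indep 0 S.q_prime.pos
    have h3 := CfsgLib.Coprime.card_sup_mul_card_inf (H := L₁) (N := J)
      ((T.one_le S).trans (S.H_le.trans (T.others_normal S 0)))
    have h4 := CfsgLib.OddOrder.card_mul_relIndex_of_le hJH
    have h5 := CfsgLib.OddOrder.card_mul_relIndex_of_le (show H₀ ≤ L₁ from T.zero S ▸ T.le₀ 0)
    rw [T.rel] at h5
    have h2' : J ⊓ L₁ = H₀ := inf_comm L₁ J ▸ h2
    simp only [h1, h2', ← h4, ← h5] at h3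
    refine Nat.eq_of_mul_eq_mul_left
      (Nat.mul_pos (Nat.card_pos (α := J)) (Nat.card_pos (α := H₀))) ?_
    linarith
  have hcK : ∀ x ∈ K, ∀ y ∈ K, x * y * x⁻¹ * y⁻¹ ∈ C := fun x hx y hy =>
    S.derived_le (Subgroup.commutator_mem_commutator (T.K_le S hx) (T.K_le S hy))
  have hKn : U ≤ Subgroup.normalizer (K : Set L) := T.K_normal
  have hYD := S.sup_le_D (T.K_le S)
  have hYn := S.D_normalizes_sup hKn
  set F := {f : H →* ℂˣ // f ≠ 1 ∧ ∀ x ∈ J, lval f x = 1}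
  set Gd := {g : K →* ℂˣ // ∀ x ∈ C, lval g x = 1}
  have hinv : ∀ f : F, ∀ k ∈ K, ∀ n ∈ H, lval f.1 (k * n * k⁻¹) = lval f.1 n := by
    intro f k hk n hn
    haveI := S.H_normal
    have hn' : n ∈ ((L₁ ⊔ J : Subgroup L) : Set L) := by
      show n ∈ L₁ ⊔ J
      rwa [← T.zero S, T.sup_others S S.q_prime.pos]
    rw [Subgroup.coe_mul_of_left_le_normalizer_right L₁ J
      ((T.one_le S).trans (S.H_le.trans (T.others_normal S 0)))] at hn'
    obtain ⟨l, hl, j, hj, rfl⟩ := Set.mem_mul.mp hn'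
    have hkD : k ∈ D := S.U_le (T.K_le S hk)
    have hkj : k * j * k⁻¹ ∈ J := (Subgroup.mem_normalizer_iff.mp (T.others_normal S 0 hkD) j).mp hj
    have hkl : k * l * k⁻¹ * l⁻¹ ∈ H₀ := ((T.mem_K k).mp hk).2 l hl
    have hlH := T.one_le S hl
    have e : k * (l * j) * k⁻¹ = k * l * k⁻¹ * l⁻¹ * l * (k * j * k⁻¹) := by group
    rw [e, lval_mul f.1 (H.mul_mem (S.H₀_le hkl) hlH) (hJH hkj), lval_mul f.1 (S.H₀_le hkl) hlH,
      lval_mul f.1 hlH (hJH hj), f.2.2 _ (h0J hkl), f.2.2 _ hkj, f.2.2 _ hj, one_mul, mul_one]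
  have hext := fun x : F × Gd => exists_hom_sup x.1.1 x.2.1
    ((Subgroup.normalizer_eq_top_iff.mpr S.H_normal).ge.trans' le_top) (S.inf_eq_bot (T.K_le S))
    (hinv x.1)
  choose η hηH hηK using hext
  have hline : ∀ f : F, ∃ y ∈ L₁, lval f.1 y ≠ 1 := by
    intro f
    obtain ⟨i, hi, y, hy, hy1⟩ := T.exists_line S f.2.1 fun x hx => f.2.2 x (h0J hx)
    by_cases hi0 : i = 0
    · exact ⟨y, T.zero S ▸ hi0 ▸ hy, hy1⟩
    · exact absurd (f.2.2 y (T.le_others S hi hi0 hy)) hy1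
  have hst : ∀ x : F × Gd, ∀ v ∈ U, LFix x.1.1 v → v ∈ K := by
    intro x v hv hfix
    obtain ⟨y, hy, hy1⟩ := hline x.1
    have h := T.mem_K_of_fixed S (fun z hz => x.1.2.2 z (h0J hz)) (i := 0) ((T.zero S).ge hy) hy1 hv hfix
    simpa using h
  have hstab := fun x : F × Gd => S.stab_sup (hηH x) (hst x)
  haveI hN := S.H₀C_normal le_rfl S.C_normal
  have htriv : ∀ x : F × Gd, ∀ z ∈ H₀ ⊔ C, lval (η x) z = 1 := by
    intro x z hz
    haveI := S.H₀_normal
    obtain ⟨b, hb, c, hc, rfl⟩ := Subgroup.mem_sup_of_normal_left.mp hz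
    rw [lval_mul (η x) (Subgroup.mem_sup_left (S.H₀_le hb)) (Subgroup.mem_sup_right (T.C_le hc)),
      hηH x b (S.H₀_le hb), x.1.2.2 b (h0J hb), hηK x c (T.C_le hc), x.2.2 c hc, one_mul]
  have hirr := fun x : F × Gd => lind_irr hYD hYn (η x) (hstab x)
  have hkerJ : ∀ x : F × Gd, ∀ b : D, (b : L) ∈ J → lind D (η x) b = lind D (η x) 1 := fun x =>
    S.lind_ker hYD hYn (hJH.trans le_sup_left) (T.others_normal S 0)
      fun z hz => by rw [hηH x z (hJH hz)]; exact x.1.2.2 z hz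
  have hkerC : ∀ x : F × Gd, ∀ b : D, (b : L) ∈ H₀ ⊔ C → lind D (η x) b = lind D (η x) 1 := fun x =>
    S.lind_ker hYD hYn (sup_le_sup S.H₀_le T.C_le)
      ((Subgroup.normalizer_eq_top_iff.mpr hN).ge.trans' le_top) (htriv x)
  have hnon : ∀ x : F × Gd, ∃ b : D, (b : L) ∈ L₁ ∧ lind D (η x) b ≠ lind D (η x) 1 := by
    intro x
    obtain ⟨y, hy, hy1⟩ := hline x.1
    refine ⟨⟨y, S.H_le (T.one_le S hy)⟩, hy, fun e => hy1 ?_⟩
    rw [← hηH x y (T.one_le S hy)]
    exact lval_eq_one_of_constituent hYD hYn (lind_isCharacter _)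
      (by rw [(hirr x).2.1]; exact one_ne_zero) (Subgroup.mem_sup_left (T.one_le S hy)) e
  have hdeg : ∀ x : F × Gd, lind D (η x) 1 = (a : ℂ) := fun x => by
    rw [lind_one, S.relIndex_sup (T.K_le S), T.K_rel]
  have hmv : ∀ x : F × Gd, conjChar S.D_normal (lind D (η x)) w ≠ lind D (η x) := fun x => by
    simpa using T.moved S (hkerJ x) (hnon x) (i := 1) S.q_prime.one_lt one_ne_zero
  let Φ : F × Gd → Tχ := fun x => ⟨indFun D (lind D (η x)),
    S.mem_seqInd (hirr x).1 (hkerC x) (by obtain ⟨b, hb, hne⟩ := hnon x; exact ⟨b, T.one_le S hb, hne⟩),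
    S.irr_of_moved (hirr x).1 (hmv x), S.indFun_one (hdeg x)⟩
  have hcnt := CfsgLib.LinearTwist.card_le_mul_of_fibres Φ a fun t => by
    rcases isEmpty_or_nonempty {x // Φ x = t} with h | ⟨⟨x₀, hx₀⟩⟩
    · simp
    rw [← T.K_rel, ← S.relIndex_sup (T.K_le S)]
    refine le_trans (Nat.card_le_card_of_injective (fun x : {x // Φ x = t} =>
      (⟨η x.1, ?_⟩ : {η' : ↥(H ⊔ K) →* ℂˣ // lind D η' = lind D (η x₀)})) ?_)
      (card_lind_fibre hYD hYn (η x₀))
    · have e : indFun D (lind D (η x.1)) = indFun D (lind D (η x₀)) :=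
        congrArg (fun s : Tχ => s.1) (x.2.trans hx₀.symm)
      obtain ⟨g, hg⟩ := CfsgLib.OddChar.conjChar_of_indFun_eq S.D_normal (hirr x.1).1 (hirr x₀).1 e
      obtain ⟨h, hh, u, hu, z, hz, rfl⟩ := S.exists_mul g
      have hfixd : conjChar S.D_normal (lind D (η x₀)) (h * u) = lind D (η x₀) :=
        le_inertia S.D_normal (isClassFunction_of_isCharacter (isCharacter_of_irr (hirr x₀).1))
          (D.mul_mem (S.H_le hh) (S.U_le hu))
      rw [← conjChar_mul, hfixd] at hg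
      have hord : orderOf w = q := by rw [← Nat.card_zpowers, T.gen, S.W_card]
      obtain ⟨i, hi⟩ : z ∈ Submonoid.powers w := mem_powers_iff_mem_zpowers.mpr (T.gen.symm ▸ hz)
      have hi' : w ^ i = z := hi
      rw [← hi', ← pow_mod_orderOf, hord] at hg
      by_cases h0 : i % q = 0
      · rw [h0, pow_zero, conjChar_one] at hg
        exact hg.symm
      · exact absurd hg (T.moved S (hkerJ x₀) (hnon x.1) (Nat.mod_lt _ S.q_prime.pos) h0)
    · intro x y e
      have e' : η x.1 = η y.1 := congrArg Subtype.val e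
      refine Subtype.ext (Prod.ext (Subtype.ext (lval_ext fun z hz => ?_))
        (Subtype.ext (lval_ext fun z hz => ?_)))
      · rw [← hηH x.1 z hz, ← hηH y.1 z hz, e']
      · rw [← hηK x.1 z hz, ← hηK y.1 z hz, e']
  have hF : Nat.card F = p - 1 := by
    have := card_lin_ne_one hJH fun b hb c hc => h0J (S.comm_mem b hb c hc)
    rwa [hJrel] at this
  have hG : Nat.card Gd = C.relIndex K := card_lin T.C_le hcK
  rw [Nat.card_prod, hF, hG] at hcnt
  have hu : C.relIndex K * a = C.relIndex U := by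
    rw [← T.K_rel]; exact Subgroup.relIndex_mul_relIndex C K U T.C_le (T.K_le S)
  rw [← hu, ← mul_assoc]
  calc (p - 1) * C.relIndex K * a ≤ a * Nat.card Tχ * a := Nat.mul_le_mul_right a hcnt
    _ = Nat.card Tχ * (a * a) := by ring

/-- PF (9.10), non-Galois case. -/
theorem Lines.exists_irr :
    ∃ χ ∈ seqInd D H (H₀ ⊔ ⁅C, C⁆), IsIrrCharacter L χ ∧ χ 1 = ((q * C.relIndex U : ℕ) : ℂ) := by
  haveI := S.H_normal
  haveI := S.H₀_normal
  have hlt : H₀ < L₁ := lt_of_le_of_ne (T.zero S ▸ T.le₀ 0) fun e => S.p_prime.ne_one (by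
    rw [← T.rel, e, Subgroup.relIndex_self])
  obtain ⟨y₀, hy₀, hy₀'⟩ := SetLike.exists_of_lt hlt
  let y : ℕ → L := fun i => w ^ i * y₀ * (w ^ i)⁻¹
  have hy : ∀ i, y i ∈ Ln i := fun i => T.conj_mem_line S i hy₀
  have hy' : ∀ i, y i ∉ H₀ := fun i h => hy₀' (by
    have := S.H₀_normal.conj_mem _ h (w ^ i)⁻¹
    have e : (w ^ i)⁻¹ * y i * (w ^ i)⁻¹⁻¹ = y₀ := by simp only [y]; group
    rwa [e] at this)
  have hg : ∀ i : Fin q, ∃ g : H →* ℂˣ, (∀ x ∈ others H₀ Ln q i, lval g x = 1) ∧ lval g (y i) ≠ 1 :=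
    fun i => exists_lin (T.others_le S i) (fun b hb c hc => Subgroup.mem_sup_left (S.comm_mem b hb c hc))
      (T.le i (hy i)) fun h => hy' i ((T.indep i i.2).le ⟨hy i, h⟩)
  choose g hg1 hg2 using hg
  have hg0 : ∀ i, ∀ x ∈ H₀, lval (g i) x = 1 := fun i x hx => hg1 i x (Subgroup.mem_sup_left hx)
  let i₀ : Fin q := ⟨0, S.q_prime.pos⟩
  let i₁ : Fin q := ⟨1, S.q_prime.one_lt⟩
  set z := lval (g i₁) (y i₁) with hz
  have hpw : ∀ n : ℕ, lval (g i₁) (y i₁ ^ n) = z ^ n := fun n => by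
    induction n with
    | zero => simp [lval_one]
    | succ n ih =>
      rw [pow_succ, pow_succ, lval_mul _ (H.pow_mem (T.le _ (hy _)) n) (T.le _ (hy _)), ih]
  have hzp : z ^ p = 1 := by rw [← hpw]; exact hg0 _ _ (S.pow_mem _ (T.le _ (hy _)))
  haveI := Fact.mk S.p_prime
  have hzord : orderOf z = p := orderOf_eq_prime hzp (hg2 i₁)
  -- a value not taken by the `U`-conjugates of the first line
  have hK : ∃ k, 0 < k ∧ k < p ∧ ∀ v ∈ U, lval (g i₀) (v * y₀ * v⁻¹) ≠ z ^ k := by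
    by_contra hc
    push Not at hc
    choose! v hvU hv using hc
    haveI : (K.subgroupOf U).Normal := Subgroup.normal_subgroupOf_of_le_normalizer T.K_normal
    let val : U ⧸ K.subgroupOf U → ℂ := fun t => lval (g i₀) ((t.out : L) * y₀ * (t.out : L)⁻¹)
    have hval : ∀ u : U, val (QuotientGroup.mk u) = lval (g i₀) ((u : L) * y₀ * (u : L)⁻¹) := by
      intro u
      obtain ⟨k, hk⟩ := QuotientGroup.mk_out_eq_mul (K.subgroupOf U) u
      show lval (g i₀) ((((QuotientGroup.mk u : U ⧸ K.subgroupOf U).out : U) : L) * y₀ *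
        (((QuotientGroup.mk u : U ⧸ K.subgroupOf U).out : U) : L)⁻¹) = _
      rw [hk, Subgroup.coe_mul]
      have hkK : ((k : U) : L) ∈ K := k.2
      have hc' := ((T.mem_K _).mp hkK).2 y₀ hy₀
      have hyH := T.one_le S hy₀
      have e : (u : L) * ((k : U) : L) * y₀ * ((u : L) * ((k : U) : L))⁻¹ =
          (u : L) * (((k : U) : L) * y₀ * ((k : U) : L)⁻¹ * y₀⁻¹) * (u : L)⁻¹ *
            ((u : L) * y₀ * (u : L)⁻¹) := by group
      rw [e, lval_mul _ (S.conj_H _ (S.H₀_le hc')) (S.conj_H _ hyH),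
        hg0 _ _ (S.H₀_normal.conj_mem _ hc' _), one_mul]
    have hinj : Function.Injective (fun k : Fin (p - 1) => (QuotientGroup.mk
        (⟨v (k + 1), hvU _ (by omega) (by omega)⟩ : U) : U ⧸ K.subgroupOf U)) := by
      intro a b e
      have e' := congrArg val e
      rw [hval, hval] at e'
      simp only at e'
      rw [hv (a + 1) (by omega) (by omega), hv (b + 1) (by omega) (by omega)] at e'
      have := pow_injOn_Iio_orderOf (x := z) (Set.mem_Iio.mpr (by omega : (a : ℕ) + 1 < orderOf z))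
        (Set.mem_Iio.mpr (by omega : (b : ℕ) + 1 < orderOf z)) e'
      exact Fin.ext (by omega)
    have h1 := Nat.card_le_card_of_injective _ hinj
    rw [Nat.card_fin, ← Subgroup.index_eq_card, ← Subgroup.relIndex, T.K_rel] at h1
    exact absurd T.lt (not_lt.mpr h1)
  obtain ⟨k, hk0, hkp, hk⟩ := hK
  let f : H →* ℂˣ := ∏ i : Fin q, g i ^ (if i = i₁ then k else 1)
  have hfapp : ∀ x ∈ H, lval f x = ∏ i : Fin q, lval (g i) x ^ (if i = i₁ then k else 1) := by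
    intro x hx
    simp only [lval_mem _ hx, f, MonoidHom.finsetProd_apply, Units.coe_prod, MonoidHom.pow_apply,
      Units.val_pow_eq_pow_val]
  have hfline : ∀ j : Fin q, ∀ x ∈ Ln j,
      lval f x = lval (g j) x ^ (if j = i₁ then k else 1) := by
    intro j x hx
    rw [hfapp x (T.le j hx), Finset.prod_eq_single j]
    · intro i _ hij
      rw [hg1 i x (T.le_others S j.2 (fun e => hij (Fin.ext e.symm)) hx), one_pow]
    · exact fun h => absurd (Finset.mem_univ j) h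
  have hf0 : ∀ x ∈ H₀, lval f x = 1 := fun x hx => by
    rw [hfapp x (S.H₀_le hx)]
    exact Finset.prod_eq_one fun i _ => by rw [hg0 i x hx, one_pow]
  have hfy : ∀ j : Fin q, lval f (y j) ≠ 1 := by
    intro j e
    rw [hfline j _ (hy j)] at e
    split_ifs at e with hj
    · subst hj
      have := Nat.le_of_dvd hk0 (orderOf_dvd_of_pow_eq_one (x := z) e)
      omega
    · exact hg2 j (by rwa [pow_one] at e)
  have hf1 : f ≠ 1 := fun e => hfy i₀ (by
    rw [e, lval_mem _ (T.le _ (hy _)), MonoidHom.one_apply, Units.val_one])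
  have hst : ∀ v ∈ U, LFix f v → v ∈ C := fun v hv hfix => (T.C_iff v hv).mpr fun i hi =>
    T.mem_K_of_fixed S hf0 (hy i) (hfy ⟨i, hi⟩) hv hfix
  obtain ⟨η, hη, -, hηA⟩ := S.exists_extend_triv hf0 1 fun x hx => by
    rw [lval_mem _ (Subgroup.commutator_le_self C hx), MonoidHom.one_apply, Units.val_one]
  obtain ⟨hirr, hdeg, hker, hH⟩ := S.lind_HC hη hf1 hst
    (sup_le_sup S.H₀_le (Subgroup.commutator_le_self C)) S.H₀C'_normal hηA
  refine ⟨_, S.mem_seqInd hirr hker hH, S.irr_of_moved hirr (w := w) fun hfix => ?_, S.indFun_one hdeg⟩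
  obtain ⟨η', hη'⟩ := exists_conj_hom S.HC_normal η w
  have e1 : lind D η' = lind D η := by
    funext d
    refine Eq.trans ?_ (congrFun hfix d)
    exact (lind_conj (S.sup_le_D S.C_le)
      ((Subgroup.normalizer_eq_top_iff.mpr S.D_normal).ge (Subgroup.mem_top w))
      ((Subgroup.normalizer_eq_top_iff.mpr S.HC_normal).ge (Subgroup.mem_top w)) hη' d).symm
  obtain ⟨d, hd, hde⟩ := lind_eq (S.sup_le_D S.C_le) S.X_normal_D e1
  obtain ⟨h, hh, v, hv, rfl⟩ := S.D_eq d hd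
  refine hk v hv ?_
  have hyH := T.one_le S hy₀
  have hX : y₀ ∈ H ⊔ C := Subgroup.mem_sup_left hyH
  have h1 := hde y₀ hX
  rw [hη' y₀ hX, hη _ (S.conj_H w hyH)] at h1
  have e2 : h * v * y₀ * (h * v)⁻¹ = h * (v * y₀ * v⁻¹) * h⁻¹ := by group
  rw [e2, hη _ (S.conj_H h (S.conj_H v hyH)), lval_conj f hh (S.conj_H v hyH)] at h1
  have hmem : v * y₀ * v⁻¹ ∈ Ln (i₀ : ℕ) := by
    show v * y₀ * v⁻¹ ∈ Ln 0
    exact (Subgroup.mem_normalizer_iff.mp (T.normal 0 hv) y₀).mp ((T.zero S).ge hy₀)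
  have e3 : w * y₀ * w⁻¹ = y (i₁ : ℕ) := by simp [y, i₁]
  have hne : i₀ ≠ i₁ := fun e => absurd (congrArg Fin.val e) (by simp [i₀, i₁])
  rw [hfline i₀ _ hmem, if_neg hne, pow_one, e3, hfline i₁ _ (hy _), if_pos rfl] at h1
  exact h1.symm

end CfsgLib.PF.Nine
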