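import Mathlib
import Cfsg.Agent.Lib.PF.Sec9Core

/-!
# Peterfalvi (9.7), Galois case: `M_F / H₀` is a field on which `U / C` acts by scalars
-/

set_option autoImplicit false

namespace CfsgLib.PF

open Subgroup CfsgLib.OddOrder
open scoped commutatorElement

universe u

/-- A commutative ring of operators without invariant subgroups is a field with the group a line
over it. -/
theorem exists_field_of_irreducible {A : Type u} [AddCommGroup A] [Finite A] {ι : Type u}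
    (ρ : ι → AddMonoid.End A) (hcomm : ∀ i j, ρ i * ρ j = ρ j * ρ i)
    (hirr : ∀ T : AddSubgroup A, (∀ i, ∀ t ∈ T, ρ i t ∈ T) → (∃ t ∈ T, t ≠ 0) → T = ⊤)
    (a₀ : A) (ha₀ : a₀ ≠ 0) {p n : ℕ} [Fact p.Prime] (hn : n ≠ 0) (hcard : Nat.card A = p ^ n) :
    ∃ (e : A ≃+ GaloisField p n) (c : ι → GaloisField p n), e a₀ = 1 ∧
      ∀ i a, e (ρ i a) = c i * e a := by
  classical
  let R : Subring (AddMonoid.End A) := Subring.closure (Set.range ρ)
  letI : CommRing R := Subring.closureCommRingOfComm (by rintro _ ⟨i, rfl⟩ _ ⟨j, rfl⟩; exact hcomm i j)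
  have hρR : ∀ i, ρ i ∈ R := fun i => Subring.subset_closure ⟨i, rfl⟩
  haveI : Finite (AddMonoid.End A) :=
    Finite.of_injective (fun f : AddMonoid.End A => (f : A → A)) DFunLike.coe_injective
  haveI : Nontrivial A := ⟨⟨a₀, 0, ha₀⟩⟩
  haveI : Nontrivial R := ⟨⟨1, 0, fun h => by
    have := DFunLike.congr_fun (congrArg Subtype.val h) a₀
    exact ha₀ this⟩⟩
  let ev : R →+ A :=
    { toFun := fun r => (r : AddMonoid.End A) a₀
      map_zero' := rfl
      map_add' := fun r s => rfl }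
  have hsurj : Function.Surjective ev := by
    intro b
    have hT : ev.range = ⊤ := hirr _ (fun i t ht => by
      obtain ⟨r, rfl⟩ := ht
      exact ⟨⟨ρ i, hρR i⟩ * r, rfl⟩) ⟨a₀, ⟨1, rfl⟩, ha₀⟩
    exact (hT ▸ AddSubgroup.mem_top b : b ∈ ev.range)
  have hzero : ∀ r : R, ev r = 0 → r = 0 := fun r h => Subtype.ext (AddMonoidHom.ext fun b => by
    obtain ⟨s, rfl⟩ := hsurj b
    show (((r * s : R) : AddMonoid.End A)) a₀ = 0
    rw [mul_comm]
    show (s : AddMonoid.End A) ((r : AddMonoid.End A) a₀) = 0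
    rw [show (r : AddMonoid.End A) a₀ = 0 from h, map_zero])
  haveI : NoZeroDivisors R := ⟨fun {r s} hrs => by
    by_contra! hne
    refine hne.1 (hzero r ?_)
    have hT : AddMonoidHom.ker (r : AddMonoid.End A) = ⊤ := hirr _ (fun i t ht => by
      show (r : AddMonoid.End A) (ρ i t) = 0
      have hc : (r : AddMonoid.End A) * ρ i = ρ i * r := congrArg Subtype.val (mul_comm r ⟨ρ i, hρR i⟩)
      calc _ = ((r : AddMonoid.End A) * ρ i) t := rfl
        _ = (ρ i * (r : AddMonoid.End A)) t := by rw [hc]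
        _ = ρ i ((r : AddMonoid.End A) t) := rfl
        _ = 0 := by rw [show (r : AddMonoid.End A) t = 0 from ht, map_zero])
      ⟨ev s, show (r : AddMonoid.End A) ((s : AddMonoid.End A) a₀) = 0 by
        show ((r * s : R) : AddMonoid.End A) a₀ = 0
        rw [hrs]; rfl, fun h => hne.2 (hzero s h)⟩
    show (r : AddMonoid.End A) a₀ = 0
    exact (hT ▸ AddSubgroup.mem_top a₀ : a₀ ∈ AddMonoidHom.ker (r : AddMonoid.End A))⟩
  haveI : IsDomain R := NoZeroDivisors.to_isDomain R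
  haveI := Fintype.ofFinite R
  letI : Field R := Fintype.fieldOfDomain R
  let E : R ≃+ A := AddEquiv.ofBijective ev
    ⟨(injective_iff_map_eq_zero ev).mpr hzero, hsurj⟩
  haveI := Fintype.ofFinite (GaloisField p n)
  let φ : R ≃+* GaloisField p n := FiniteField.ringEquivOfCardEq (by
    rw [Fintype.card_eq_nat_card, Fintype.card_eq_nat_card, GaloisField.card p n hn,
      Nat.card_congr E.toEquiv, hcard])
  refine ⟨E.symm.trans φ.toAddEquiv, fun i => φ ⟨ρ i, hρR i⟩, ?_, fun i a => ?_⟩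
  · show φ (E.symm a₀) = 1
    rw [show E.symm a₀ = 1 from (AddEquiv.symm_apply_eq E).mpr rfl, map_one]
  · show φ (E.symm (ρ i a)) = _ * φ (E.symm a)
    rw [← map_mul]
    congr 1
    refine (AddEquiv.symm_apply_eq E).mpr ?_
    show ρ i a = ρ i (E (E.symm a))
    rw [AddEquiv.apply_symm_apply]

variable {G : Type u} [Group G] [Finite G] {M W₁ U W₂ H₀ C : Subgroup G} {p : ℕ}

/-- The field and the scalars, before the arithmetic. -/
theorem exists_field_coord (hd : Cfsg.IsTypePWith M W₁ U W₂) (hF : CoreFactor M W₁ U W₂ H₀ C p)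
    (hq : (Nat.card W₁).Prime) (hGal : Galois M U H₀) [Fact p.Prime] :
    ∃ (f : G → GaloisField p (Nat.card W₁)) (ψ : G → GaloisField p (Nat.card W₁)),
      Set.SurjOn f (Cfsg.fittingHallOf M : Set G) Set.univ ∧
      (∀ x ∈ Cfsg.fittingHallOf M, ∀ x' ∈ Cfsg.fittingHallOf M, f (x * x') = f x + f x') ∧
      (∀ x ∈ Cfsg.fittingHallOf M, (f x = 0 ↔ x ∈ H₀)) ∧
      (∀ u ∈ U, ∀ x ∈ Cfsg.fittingHallOf M, f (u * x * u⁻¹) = ψ u * f x) ∧
      ∀ x ∈ W₂, f x ^ p = f x := by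
  classical
  set H := Cfsg.fittingHallOf M with hH
  set q := Nat.card W₁ with hqdef
  haveI : (H₀.subgroupOf H).Normal :=
    Subgroup.normal_subgroupOf_of_le_normalizer ((fittingHallOf_le M).trans hF.normal)
  letI : CommGroup (H ⧸ H₀.subgroupOf H) :=
    { (inferInstance : Group (H ⧸ H₀.subgroupOf H)) with
      mul_comm := fun a b => by
        obtain ⟨a, rfl⟩ := QuotientGroup.mk'_surjective _ a
        obtain ⟨b, rfl⟩ := QuotientGroup.mk'_surjective _ b
        refine commutatorElement_eq_one_iff_commute.mp ?_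
        rw [← map_commutatorElement, QuotientGroup.mk'_apply, QuotientGroup.eq_one_iff,
          Subgroup.mem_subgroupOf]
        exact hF.comm_mem a a.2 b b.2 }
  let A := Additive (H ⧸ H₀.subgroupOf H)
  let cl : H → A := fun x => Additive.ofMul (QuotientGroup.mk x)
  have hcl : ∀ x y : H, cl (x * y) = cl x + cl y := fun x y => rfl
  have hcl0 : ∀ x : H, cl x = 0 ↔ (x : G) ∈ H₀ := fun x => by
    show QuotientGroup.mk x = (1 : H ⧸ H₀.subgroupOf H) ↔ _
    rw [QuotientGroup.eq_one_iff, Subgroup.mem_subgroupOf]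
  have hsurjcl : Function.Surjective cl := fun a => by
    obtain ⟨x, hx⟩ := QuotientGroup.mk_surjective a.toMul
    exact ⟨x, congrArg Additive.ofMul hx⟩
  have hUH := TypeP.U_normalizes_core hd
  let cu : U → (H →* H) := fun u => MonoidHom.mk'
    (fun x => (⟨(u : G) * x * (u : G)⁻¹, (Subgroup.mem_normalizer_iff.mp (hUH u.2) x).mp x.2⟩ : H))
    fun x y => Subtype.ext (by simp [mul_assoc])
  let ρ : U → AddMonoid.End A := fun u => MonoidHom.toAdditive (QuotientGroup.map _ (H₀.subgroupOf H)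
    (cu u) fun x hx => Subgroup.mem_subgroupOf.mpr ((Subgroup.mem_normalizer_iff.mp
      (hF.normal (TypeP.U_le hd u.2)) _).mp (Subgroup.mem_subgroupOf.mp hx)))
  have hρ : ∀ u x, ρ u (cl x) = cl (cu u x) := fun u x => rfl
  have hcomm : ∀ u v, ρ u * ρ v = ρ v * ρ u := fun u v => AddMonoidHom.ext fun a => by
    obtain ⟨x, rfl⟩ := hsurjcl a
    show ρ u (ρ v (cl x)) = ρ v (ρ u (cl x))
    rw [hρ, hρ, hρ, hρ]
    refine congrArg Additive.ofMul (QuotientGroup.eq.mpr ?_)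
    rw [Subgroup.mem_subgroupOf]
    have hc : ⁅(v : G)⁻¹, (u : G)⁻¹⁆ ∈ C :=
      hF.derived_le (Subgroup.commutator_mem_commutator (U.inv_mem v.2) (U.inv_mem u.2))
    have h1 := ((hF.mem_C _).mp hc).2 (x : G) x.2
    have h2 := (Subgroup.mem_normalizer_iff.mp
      (hF.normal (TypeP.U_le hd (U.mul_mem u.2 v.2))) _).mp h1
    have e : ((u : G) * ((v : G) * x * (v : G)⁻¹) * (u : G)⁻¹)⁻¹ *
        ((v : G) * ((u : G) * x * (u : G)⁻¹) * (v : G)⁻¹) =
        (u : G) * v * ((x : G)⁻¹ * (⁅(v : G)⁻¹, (u : G)⁻¹⁆ * x * ⁅(v : G)⁻¹, (u : G)⁻¹⁆⁻¹ * (x : G)⁻¹) * x) *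
          ((u : G) * v)⁻¹ := by
      simp only [commutatorElement_def]; group
    show ((u : G) * ((v : G) * x * (v : G)⁻¹) * (u : G)⁻¹)⁻¹ *
      ((v : G) * ((u : G) * x * (u : G)⁻¹) * (v : G)⁻¹) ∈ H₀
    rw [e]
    exact (Subgroup.mem_normalizer_iff.mp (hF.normal (TypeP.U_le hd (U.mul_mem u.2 v.2))) _).mp
      ((Subgroup.mem_normalizer_iff''.mp (hF.normal (fittingHallOf_le M x.2)) _).mp (((hF.mem_C _).mp hc).2 x x.2))
  have hirr : ∀ T : AddSubgroup A, (∀ u, ∀ t ∈ T, ρ u t ∈ T) → (∃ t ∈ T, t ≠ 0) → T = ⊤ := by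
    rintro T hT ⟨t, ht, ht0⟩
    let X : Subgroup G :=
      { carrier := {x | ∃ h : x ∈ H, cl ⟨x, h⟩ ∈ T}
        one_mem' := ⟨H.one_mem, T.zero_mem⟩
        mul_mem' := fun {x y} ⟨hx, hx'⟩ ⟨hy, hy'⟩ => ⟨H.mul_mem hx hy, T.add_mem hx' hy'⟩
        inv_mem' := fun {x} ⟨hx, hx'⟩ => ⟨H.inv_mem hx, T.neg_mem hx'⟩ }
    have h := hGal X (fun x hx => ⟨hF.lt.le hx, ((hcl0 ⟨x, hF.lt.le hx⟩).mpr hx).symm ▸ T.zero_mem⟩)
      (fun x hx => hx.1) (Subgroup.le_normalizer_iff.2 fun u hu x ⟨hx, hx'⟩ =>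
        ⟨(Subgroup.mem_normalizer_iff.mp (hUH hu) x).mp hx, hT ⟨u, hu⟩ _ hx'⟩)
    obtain ⟨x, rfl⟩ := hsurjcl t
    rcases h with h | h
    · exact absurd ((hcl0 x).mpr (h ▸ (⟨x.2, ht⟩ : (x : G) ∈ X))) ht0
    · refine eq_top_iff.mpr fun a _ => ?_
      obtain ⟨y, rfl⟩ := hsurjcl a
      obtain ⟨_, hy⟩ := (h.symm ▸ y.2 : (y : G) ∈ X)
      exact hy
  obtain ⟨x₀, hx₀, hx₀'⟩ : ∃ x ∈ W₂, x ∉ H₀ := by
    by_contra! hall
    exact hF.prime.ne_one (hF.W₂_rel ▸ Subgroup.relIndex_eq_one.mpr hall)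
  let a₀ : A := cl ⟨x₀, TypeP.W₂_le_core hd hx₀⟩
  obtain ⟨e, c, he, hec⟩ := exists_field_of_irreducible ρ hcomm hirr a₀
    (fun h => hx₀' ((hcl0 _).mp h)) hq.ne_zero (hF.card : Nat.card A = p ^ q)
  refine ⟨fun x => if h : x ∈ H then e (cl ⟨x, h⟩) else 0, fun u => if h : u ∈ U then c ⟨u, h⟩ else 0,
    fun z _ => ?_, fun x hx y hy => ?_, fun x hx => ?_, fun u hu x hx => ?_, fun x hx => ?_⟩
  · obtain ⟨y, hy⟩ := hsurjcl (e.symm z)
    refine ⟨y, y.2, ?_⟩
    simp only [dif_pos y.2, Subtype.coe_eta, hy, AddEquiv.apply_symm_apply]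
  · simp only [dif_pos hx, dif_pos hy, dif_pos (H.mul_mem hx hy)]
    rw [← map_add, ← hcl]
    rfl
  · simp only [dif_pos hx]
    rw [map_eq_zero_iff e e.injective, hcl0]
  · simp only [dif_pos hx, dif_pos hu]
    rw [← hec ⟨u, hu⟩, hρ]
    exact dif_pos _
  · have hxH : x ∈ H := TypeP.W₂_le_core hd hx
    simp only [dif_pos hxH]
    obtain ⟨k, hk⟩ : ∃ k : ℤ, cl ⟨x, hxH⟩ = k • a₀ := by
      let Y := (Subgroup.zpowers a₀.toMul).comap
        ((QuotientGroup.mk' (H₀.subgroupOf H)).comp (Subgroup.inclusion (TypeP.W₂_le_core hd)))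
      have h0Y : H₀.subgroupOf W₂ ≤ Y := fun y hy => by
        show QuotientGroup.mk' (H₀.subgroupOf H) _ ∈ Subgroup.zpowers a₀.toMul
        rw [show QuotientGroup.mk' (H₀.subgroupOf H) (Subgroup.inclusion (TypeP.W₂_le_core hd) y) = 1 from
          (QuotientGroup.eq_one_iff _).mpr (Subgroup.mem_subgroupOf.mpr (Subgroup.mem_subgroupOf.mp hy :
            ((Subgroup.inclusion (TypeP.W₂_le_core hd) y : H) : G) ∈ H₀))]
        exact Subgroup.one_mem _
      have hYtop : Y = ⊤ := by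
        have hrel := Subgroup.relIndex_mul_index h0Y
        rw [show (H₀.subgroupOf W₂).index = p from hF.W₂_rel] at hrel
        rcases hF.prime.eq_one_or_self_of_dvd _ (Dvd.intro_left _ hrel) with h | h
        · exact Subgroup.index_eq_one.mp h
        · exfalso
          rw [h] at hrel
          have h1 : (H₀.subgroupOf W₂).relIndex Y = 1 :=
            Nat.eq_of_mul_eq_mul_right hF.prime.pos (hrel.trans (one_mul p).symm)
          exact hx₀' (Subgroup.mem_subgroupOf.mp (Subgroup.relIndex_eq_one.mp h1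
            (show (⟨x₀, hx₀⟩ : W₂) ∈ Y from Subgroup.mem_zpowers _)))
      obtain ⟨k, hk⟩ : (⟨x, hx⟩ : W₂) ∈ Y := hYtop ▸ Subgroup.mem_top _
      exact ⟨k, (congrArg Additive.ofMul hk).symm⟩
    rw [hk, map_zsmul, he, zsmul_one, ← Subfield.mem_bot_iff_pow_eq_self, mem_bot_iff_intCast p]
    exact ⟨k, rfl⟩

/-- PF (9.7), Galois case. -/
theorem propGaloisField [Fintype G] : PropGaloisField G := by
  classical
  intro M W₁ U W₂ H₀ C p _ hK hF hGal
  obtain ⟨hd, -, hq⟩ := Kind2.or_basic hK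
  haveI := Fact.mk hF.prime
  set H := Cfsg.fittingHallOf M with hH
  set q := Nat.card W₁ with hqdef
  obtain ⟨f, ψ, hsurj, hadd, hzero, hscal, hW₂⟩ := exists_field_coord hd hF hq hGal
  obtain ⟨x₁, hx₁, hf₁⟩ := hsurj (Set.mem_univ (1 : GaloisField p q))
  have hUH := TypeP.U_normalizes_core hd
  have hconj : ∀ u ∈ U, ∀ x ∈ H, u * x * u⁻¹ ∈ H := fun u hu x hx =>
    (Subgroup.mem_normalizer_iff.mp (hUH hu) x).mp hx
  have hψ : ∀ u ∈ U, f (u * x₁ * u⁻¹) = ψ u := fun u hu => by rw [hscal u hu x₁ hx₁, hf₁, mul_one]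
  have hψmul : ∀ u ∈ U, ∀ v ∈ U, ψ (u * v) = ψ u * ψ v := fun u hu v hv => by
    rw [← hψ _ (U.mul_mem hu hv), show u * v * x₁ * (u * v)⁻¹ = u * (v * x₁ * v⁻¹) * u⁻¹ by group,
      hscal u hu _ (hconj v hv _ hx₁), hψ v hv]
  have hψ1 : ψ 1 = 1 := by rw [← hψ 1 U.one_mem]; simpa using hf₁
  have hdiff : ∀ x ∈ H, ∀ y ∈ H, (f x = f y ↔ x * y⁻¹ ∈ H₀) := fun x hx y hy => by
    have h := hadd _ (H.mul_mem hx (H.inv_mem hy)) y hy
    rw [show x * y⁻¹ * y = x by group] at h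
    rw [← hzero _ (H.mul_mem hx (H.inv_mem hy)), h, add_eq_right]
  have hψC : ∀ u ∈ U, (ψ u = 1 ↔ u ∈ C) := fun u hu => by
    rw [hF.mem_C]
    refine ⟨fun h => ⟨hu, fun x hx => (hdiff _ (hconj u hu x hx) x hx).mp (by
      rw [hscal u hu x hx, h, one_mul])⟩, fun h => ?_⟩
    rw [← hψ u hu, ← hf₁]
    exact (hdiff _ (hconj u hu x₁ hx₁) x₁ hx₁).mpr (h.2 x₁ hx₁)
  have hψne : ∀ u ∈ U, ψ u ≠ 0 := fun u hu h => by
    have := hψmul u hu u⁻¹ (U.inv_mem hu)
    rw [mul_inv_cancel, hψ1, h, zero_mul] at this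
    exact one_ne_zero this
  let Ψ : U →* (GaloisField p q)ˣ := MonoidHom.toHomUnits
    { toFun := fun u => ψ u
      map_one' := hψ1
      map_mul' := fun u v => hψmul u u.2 v v.2 }
  have hker : Ψ.ker = C.subgroupOf U := by
    ext u
    rw [MonoidHom.mem_ker, Subgroup.mem_subgroupOf, ← hψC u u.2, Units.ext_iff]
    rfl
  have hrange : Nat.card Ψ.range = C.relIndex U := by
    rw [Subgroup.relIndex, ← hker, Subgroup.index_ker]
  haveI : Fintype (GaloisField p q) := Fintype.ofFinite _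
  have hcardF : Fintype.card (GaloisField p q) = p ^ q := by
    rw [Fintype.card_eq_nat_card, GaloisField.card p q hq.ne_zero]
  -- no non-trivial scalar from the prime field
  have hprime : ∀ u ∈ U, ψ u ^ p = ψ u → u ∈ C := by
    intro u hu hp
    rw [← Subfield.mem_bot_iff_pow_eq_self, mem_bot_iff_intCast p] at hp
    obtain ⟨k, hk⟩ := hp
    obtain ⟨w, hw, hw1⟩ := (Subgroup.bot_or_exists_ne_one W₁).resolve_left hd.W₁_ne
    refine hF.fpf w hw hw1 u hu ?_
    set v := w * u * w⁻¹ with hv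
    have hvU : v ∈ U := (Subgroup.mem_normalizer_iff.mp (hd.U_normal hw) u).mp hu
    have hzpow : ∀ x ∈ H, f (x ^ k) = k * f x := by
      intro x hx
      let φ : H →* Multiplicative (GaloisField p q) := MonoidHom.mk'
        (fun y => Multiplicative.ofAdd (f y)) fun y z => congrArg Multiplicative.ofAdd (hadd y y.2 z z.2)
      have h := congrArg Multiplicative.toAdd (map_zpow φ ⟨x, hx⟩ k)
      rw [toAdd_zpow, zsmul_eq_mul] at h
      exact h
    have hv1 : ψ v = ψ u := by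
      set y := w⁻¹ * x₁ * w with hy
      have hyH : y ∈ H := (Subgroup.mem_normalizer_iff''.mp (TypeP.W₁_normalizes_core hd hw) x₁).mp hx₁
      have h1 := (hdiff _ (hconj u hu y hyH) _ (H.zpow_mem hyH k)).mp (by
        rw [hscal u hu y hyH, hzpow y hyH, hk])
      have h2 := (Subgroup.mem_normalizer_iff.mp (hF.normal (TypeP.W₁_le hd hw)) _).mp h1
      have e : w * (u * y * u⁻¹ * (y ^ k)⁻¹) * w⁻¹ = v * x₁ * v⁻¹ * (x₁ ^ k)⁻¹ := by
        have e1 : w * y ^ k * w⁻¹ = x₁ ^ k := by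
          rw [← conj_zpow, hy]; congr 1; group
        rw [← e1, hy, hv]; group
      rw [e] at h2
      rw [← hψ v hvU, (hdiff _ (hconj v hvU x₁ hx₁) _ (H.zpow_mem hx₁ k)).mpr h2, hzpow x₁ hx₁, hf₁,
        mul_one, hk]
    refine (hψC _ (U.mul_mem hvU (U.inv_mem hu))).mp ?_
    rw [hψmul v hvU u⁻¹ (U.inv_mem hu), hv1, ← hψmul u hu u⁻¹ (U.inv_mem hu), mul_inv_cancel, hψ1]
  have hcop : Nat.Coprime (C.relIndex U) (p - 1) := by
    refine Nat.coprime_of_dvd fun r hr h1 h2 => ?_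
    haveI := Fact.mk hr
    obtain ⟨y, hu⟩ := exists_prime_orderOf_dvd_card' r (hrange.symm ▸ h1 : r ∣ Nat.card Ψ.range)
    obtain ⟨u, hu'⟩ := MonoidHom.mem_range.mp y.2
    rw [← Subgroup.orderOf_coe, ← hu'] at hu
    have h3 : Ψ u ^ (p - 1) = 1 := orderOf_dvd_iff_pow_eq_one.mp (hu ▸ h2)
    have h4 : ψ (u : G) ^ (p - 1) = 1 := by simpa [Ψ] using congrArg Units.val h3
    have h5 := hprime u u.2 (by
      have h := pow_succ (ψ (u : G)) (p - 1)
      rw [h4, one_mul, Nat.sub_add_cancel hF.prime.one_le] at h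
      exact h)
    have h6 : Ψ u = 1 := Units.ext ((hψC u u.2).mpr h5)
    rw [h6, orderOf_one] at hu
    exact hr.ne_one hu.symm
  refine ⟨hcop.dvd_of_dvd_mul_right ?_, hcop, ?_, GaloisField p q, inferInstance, inferInstance, f, ψ,
    hcardF, hsurj, hadd, hzero, fun u hu => ⟨hψne u hu, fun x hx => hscal u hu x hx⟩, hψmul, hψC, hW₂⟩
  · have h1 : C.relIndex U ∣ p ^ q - 1 := by
      rw [← hrange, ← hcardF, ← Fintype.card_units, Fintype.card_eq_nat_card]
      exact Subgroup.card_subgroup_dvd_card _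
    rwa [Nat.div_mul_cancel (by simpa using Nat.sub_dvd_pow_sub_pow p 1 q)]
  · obtain ⟨⟨_, ⟨u, rfl⟩⟩, hu⟩ := IsCyclic.exists_generator (α := Ψ.range)
    refine ⟨u, u.2, le_antisymm (fun x hx => ?_) (sup_le hF.C_lt.le (Subgroup.zpowers_le.mpr u.2))⟩
    obtain ⟨k, hk⟩ := hu ⟨Ψ ⟨x, hx⟩, ⟨x, hx⟩, rfl⟩
    have h1 : (⟨x, hx⟩ : U) * (u ^ k)⁻¹ ∈ Ψ.ker := by
      rw [MonoidHom.mem_ker, map_mul, map_inv, map_zpow,
        show Ψ u ^ k = Ψ ⟨x, hx⟩ by simpa using congrArg Subtype.val hk, mul_inv_cancel]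
    rw [hker, Subgroup.mem_subgroupOf] at h1
    have h2 := Subgroup.mul_mem_sup h1 (Subgroup.zpow_mem_zpowers (u : G) k)
    simpa [mul_assoc] using h2

end CfsgLib.PF
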