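import Mathlib
import Cfsg.Agent.Lib.PF.Sec9Core
import Cfsg.Agent.Lib.OddOrder.MinSimple

/-!
# Peterfalvi (9.7), non-Galois case: `M_F / H₀` is a sum of `q` lines permuted by `W₁`
-/

set_option autoImplicit false

namespace CfsgLib.PF

open Subgroup CfsgLib.OddOrder
open scoped commutatorElement

universe u

variable {G : Type u} [Group G] {M W₁ U W₂ H₀ C : Subgroup G} {p : ℕ}

/-- The conjugate of `L` by the `i`-th power of `w`. -/
def line (w : G) (L : Subgroup G) (i : ℕ) : Subgroup G :=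
  L.map (MulAut.conj (w ^ i)).toMonoidHom

theorem mem_line {w x : G} {L : Subgroup G} {i : ℕ} :
    x ∈ line w L i ↔ (w ^ i)⁻¹ * x * w ^ i ∈ L := by
  constructor
  · rintro ⟨y, hy, rfl⟩
    show (w ^ i)⁻¹ * (w ^ i * y * (w ^ i)⁻¹) * w ^ i ∈ L
    simpa [mul_assoc] using hy
  · intro h
    refine ⟨_, h, ?_⟩
    show w ^ i * ((w ^ i)⁻¹ * x * w ^ i) * (w ^ i)⁻¹ = x
    simp [mul_assoc]

/-- The group part of PF (9.7), non-Galois case: the line `L`, its conjugates and the kernel `K` of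
`U` on `L / H₀`, of index `a`. -/
structure LineData (M W₁ U H₀ C : Subgroup G) (p a : ℕ) (w : G) (L K : Subgroup G) : Prop where
  gen : Subgroup.zpowers w = W₁
  lt : H₀ < L
  le : L ≤ Cfsg.fittingHallOf M
  rel : H₀.relIndex L = p
  normal : U ≤ Subgroup.normalizer (L : Set G)
  line_mem : ∀ i, H₀ ≤ line w L i ∧ line w L i ≤ Cfsg.fittingHallOf M ∧
    U ≤ Subgroup.normalizer (line w L i : Set G)
  span : H₀ ⊔ (Finset.range (Nat.card W₁)).sup (line w L) = Cfsg.fittingHallOf M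
  indep : ∀ i < Nat.card W₁,
    line w L i ⊓ (H₀ ⊔ ((Finset.range (Nat.card W₁)).erase i).sup (line w L)) = H₀
  mem_K : ∀ u : G, u ∈ K ↔ u ∈ U ∧ ∀ x ∈ L, u * x * u⁻¹ * x⁻¹ ∈ H₀
  K_normal : U ≤ Subgroup.normalizer (K : Set G)
  C_le : C ≤ K
  C_iff : ∀ u ∈ U, (u ∈ C ↔ ∀ i < Nat.card W₁, (w ^ i)⁻¹ * u * w ^ i ∈ K)
  K_rel : K.relIndex U = a
  K_cyclic : ∃ u ∈ U, U = K ⊔ Subgroup.zpowers u
  one_lt : 1 < a
  dvd : a ∣ p - 1
  pow_mem : ∀ u ∈ U, u ^ a ∈ C
  dvd_pow : C.relIndex U ∣ a ^ (Nat.card W₁ - 1)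

variable (hd : Cfsg.IsTypePWith M W₁ U W₂) (hF : CoreFactor M W₁ U W₂ H₀ C p)

include hd hF in
/-- Everything between `H₀` and `M_F` is normalised by `M_F`. -/
theorem CoreFactor.core_normalizes {X : Subgroup G} (h0 : H₀ ≤ X) (hX : X ≤ Cfsg.fittingHallOf M) :
    Cfsg.fittingHallOf M ≤ Subgroup.normalizer (X : Set G) :=
  Subgroup.le_normalizer_iff.2 fun h hh x hx => by
    have e : h * x * h⁻¹ = h * x * h⁻¹ * x⁻¹ * x := by group
    rw [e]
    exact X.mul_mem (h0 (hF.comm_mem h hh x (hX hx))) hx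

variable [Finite G]

include hd hF in
/-- A `U`-invariant line whose conjugates decompose `M_F / H₀`. -/
theorem exists_line (hq : (Nat.card W₁).Prime) (hng : ¬ Galois M U H₀) :
    ∃ (w : G) (L : Subgroup G), Subgroup.zpowers w = W₁ ∧ H₀ < L ∧ L ≤ Cfsg.fittingHallOf M ∧
      H₀.relIndex L = p ∧ U ≤ Subgroup.normalizer (L : Set G) ∧
      (∀ i, H₀ ≤ line w L i ∧ line w L i ≤ Cfsg.fittingHallOf M ∧
        U ≤ Subgroup.normalizer (line w L i : Set G)) ∧
      H₀ ⊔ (Finset.range (Nat.card W₁)).sup (line w L) = Cfsg.fittingHallOf M ∧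
      ∀ i < Nat.card W₁,
        line w L i ⊓ (H₀ ⊔ ((Finset.range (Nat.card W₁)).erase i).sup (line w L)) = H₀ := by
  classical
  set H := Cfsg.fittingHallOf M with hH
  set q := Nat.card W₁ with hqdef
  obtain ⟨Y, hY0, hYH, hYU, hY1, hY2⟩ : ∃ Y, H₀ ≤ Y ∧ Y ≤ H ∧
      U ≤ Subgroup.normalizer (Y : Set G) ∧ Y ≠ H₀ ∧ Y ≠ H := by
    unfold Galois at hng
    push Not at hng
    exact hng
  obtain ⟨L, hLY, ⟨hL0, hLU⟩, hmin⟩ := Set.Finite.exists_le_minimal
    (s := {X : Subgroup G | H₀ < X ∧ U ≤ Subgroup.normalizer (X : Set G)}) (Set.toFinite _)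
    (a := Y) ⟨lt_of_le_of_ne hY0 hY1.symm, hYU⟩
  have hLH : L ≤ H := hLY.trans hYH
  have hLneH : L ≠ H := fun h => hY2 (le_antisymm hYH (h ▸ hLY))
  haveI := hd.W₁_cyclic
  obtain ⟨w, hw⟩ := IsCyclic.exists_generator (α := W₁)
  have hgen : Subgroup.zpowers (w : G) = W₁ := by
    refine le_antisymm (Subgroup.zpowers_le.mpr w.2) fun x hx => ?_
    obtain ⟨k, hk⟩ := hw ⟨x, hx⟩
    exact ⟨k, by simpa using congrArg Subtype.val hk⟩
  have hwn : ∀ i, (w : G) ^ i ∈ W₁ := fun i => W₁.pow_mem w.2 i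
  have hN₀ : W₁ ≤ Subgroup.normalizer (H₀ : Set G) := (TypeP.W₁_le hd).trans hF.normal
  have hlU : ∀ i, U ≤ Subgroup.normalizer (line (w : G) L i : Set G) := fun i =>
    Subgroup.le_normalizer_iff.2 fun u hu x hx => by
      rw [mem_line] at hx ⊢
      have hu' : ((w : G) ^ i)⁻¹ * u * (w : G) ^ i ∈ U :=
        (Subgroup.mem_normalizer_iff''.mp (hd.U_normal (hwn i)) u).mp hu
      have e : ((w : G) ^ i)⁻¹ * (u * x * u⁻¹) * (w : G) ^ i = (((w : G) ^ i)⁻¹ * u * (w : G) ^ i) *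
          (((w : G) ^ i)⁻¹ * x * (w : G) ^ i) * (((w : G) ^ i)⁻¹ * u * (w : G) ^ i)⁻¹ := by group
      rw [e]
      exact (Subgroup.mem_normalizer_iff.mp (hLU hu') _).mp hx
  have hl0 : ∀ i, H₀ ≤ line (w : G) L i := fun i x hx => mem_line.mpr
    (hL0.le ((Subgroup.mem_normalizer_iff''.mp (hN₀ (hwn i)) x).mp hx))
  have hlH : ∀ i, line (w : G) L i ≤ H := fun i x hx => by
    have h1 := (Subgroup.mem_normalizer_iff.mp (TypeP.W₁_normalizes_core hd (hwn i)) _).mp
      (hLH (mem_line.mp hx))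
    simpa [mul_assoc] using h1
  have hcard : ∀ i, Nat.card (line (w : G) L i) = Nat.card H₀ * H₀.relIndex L := fun i => by
    rw [line, Subgroup.card_map_of_injective (MulAut.conj _).injective,
      ← card_mul_relIndex_of_le hL0.le]
  -- a join either absorbs the next line or meets it in `H₀`
  have hmeet : ∀ i, ∀ J : Subgroup G, H₀ ≤ J → J ≤ H → U ≤ Subgroup.normalizer (J : Set G) →
      line (w : G) L i ≤ J ∨ line (w : G) L i ⊓ J = H₀ := by
    intro i J h0 hJ hJU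
    by_cases hX : H₀ = line (w : G) L i ⊓ J
    · exact Or.inr hX.symm
    left
    let X := (line (w : G) L i ⊓ J).comap (MulAut.conj ((w : G) ^ i)).toMonoidHom
    have hmemX : ∀ x, x ∈ X ↔ x ∈ L ∧ (w : G) ^ i * x * ((w : G) ^ i)⁻¹ ∈ J := fun x => by
      show ((w : G) ^ i * x * ((w : G) ^ i)⁻¹ ∈ line (w : G) L i ⊓ J) ↔ _
      rw [Subgroup.mem_inf, mem_line]
      simp [mul_assoc]
    have h0X : H₀ ≤ X := fun x hx => (hmemX x).mpr
      ⟨hL0.le hx, h0 ((Subgroup.mem_normalizer_iff.mp (hN₀ (hwn i)) x).mp hx)⟩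
    have hXU : U ≤ Subgroup.normalizer (X : Set G) := Subgroup.le_normalizer_iff.2 fun u hu x hx => by
      rw [hmemX] at hx ⊢
      refine ⟨(Subgroup.mem_normalizer_iff.mp (hLU hu) x).mp hx.1, ?_⟩
      have hu' : (w : G) ^ i * u * ((w : G) ^ i)⁻¹ ∈ U :=
        (Subgroup.mem_normalizer_iff.mp (hd.U_normal (hwn i)) u).mp hu
      have e : (w : G) ^ i * (u * x * u⁻¹) * ((w : G) ^ i)⁻¹ = ((w : G) ^ i * u * ((w : G) ^ i)⁻¹) *
          ((w : G) ^ i * x * ((w : G) ^ i)⁻¹) * ((w : G) ^ i * u * ((w : G) ^ i)⁻¹)⁻¹ := by group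
      rw [e]
      exact (Subgroup.mem_normalizer_iff.mp (hJU hu') _).mp hx.2
    have hne : H₀ ≠ X := fun h => hX (le_antisymm (le_inf (hl0 i) h0) fun x hx => by
      have h1 : ((w : G) ^ i)⁻¹ * x * (w : G) ^ i ∈ X :=
        (hmemX _).mpr ⟨mem_line.mp hx.1, by simpa [mul_assoc] using hx.2⟩
      rw [← h] at h1
      exact (Subgroup.mem_normalizer_iff''.mp (hN₀ (hwn i)) x).mpr h1)
    have hXL : L ≤ X := hmin ⟨lt_of_le_of_ne h0X hne, hXU⟩ fun x hx => ((hmemX x).mp hx).1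
    intro x hx
    simpa [mul_assoc] using ((hmemX _).mp (hXL (mem_line.mp hx))).2
  -- the joins
  have hJ : ∀ s : Finset ℕ, H₀ ≤ H₀ ⊔ s.sup (line (w : G) L) ∧ H₀ ⊔ s.sup (line (w : G) L) ≤ H ∧
      U ≤ Subgroup.normalizer ((H₀ ⊔ s.sup (line (w : G) L) : Subgroup G) : Set G) := by
    intro s
    refine ⟨le_sup_left, sup_le (hF.lt.le) (Finset.sup_le fun i _ => hlH i), ?_⟩
    refine Subgroup.le_normalizer_iff.2 fun u hu => ?_
    suffices hm : H₀ ⊔ s.sup (line (w : G) L) ≤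
        (H₀ ⊔ s.sup (line (w : G) L)).comap (MulAut.conj u).toMonoidHom from fun x hx => hm hx
    refine sup_le (fun x hx => Subgroup.mem_sup_left
      ((Subgroup.mem_normalizer_iff.mp ((TypeP.U_le hd).trans hF.normal hu) x).mp hx)) ?_
    refine Finset.sup_le fun i hi x hx => Subgroup.mem_sup_right ?_
    exact (Finset.le_sup hi : line (w : G) L i ≤ _) ((Subgroup.mem_normalizer_iff.mp (hlU i hu) x).mp hx)
  have hins : ∀ a (s : Finset ℕ), H₀ ⊔ (insert a s).sup (line (w : G) L) =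
      line (w : G) L a ⊔ (H₀ ⊔ s.sup (line (w : G) L)) := fun a s => by
    rw [Finset.sup_insert, sup_left_comm]
  have hgrow : ∀ s : Finset ℕ, ∃ m ≤ s.card,
      Nat.card ↥(H₀ ⊔ s.sup (line (w : G) L)) = Nat.card H₀ * H₀.relIndex L ^ m := by
    intro s
    induction s using Finset.induction with
    | empty =>
      refine ⟨0, le_rfl, ?_⟩
      rw [Finset.sup_empty, sup_bot_eq, pow_zero, mul_one]
    | insert a s ha ih =>
      obtain ⟨m, hm, hc⟩ := ih
      rw [hins, Finset.card_insert_of_notMem ha]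
      rcases hmeet a _ (hJ s).1 (hJ s).2.1 (hJ s).2.2 with h | h
      · exact ⟨m, by omega, by rw [sup_eq_right.mpr h, hc]⟩
      · refine ⟨m + 1, by omega, ?_⟩
        have h1 := CfsgLib.Coprime.card_sup_mul_card_inf
          ((hlH a).trans (CoreFactor.core_normalizes hd hF (hJ s).1 (hJ s).2.1))
        rw [inf_comm, h, hcard, hc] at h1
        refine Nat.eq_of_mul_eq_mul_right (Nat.card_pos (α := H₀)) ?_
        rw [h1]
        ring
  have hspan : H₀ ⊔ (Finset.range q).sup (line (w : G) L) = H := by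
    obtain ⟨h0, hle, hU'⟩ := hJ (Finset.range q)
    refine (hF.chief _ h0 hle ?_).resolve_left fun h => ?_
    · refine TypeP.le_normalizer_of hd (CoreFactor.core_normalizes hd hF h0 hle) hU' ?_
      refine Subgroup.le_normalizer_iff.2 fun g hg => ?_
      suffices hm : H₀ ⊔ (Finset.range q).sup (line (w : G) L) ≤
          (H₀ ⊔ (Finset.range q).sup (line (w : G) L)).comap (MulAut.conj g).toMonoidHom from
        fun x hx => hm hx
      refine sup_le (fun x hx => Subgroup.mem_sup_left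
        ((Subgroup.mem_normalizer_iff.mp (hN₀ hg) x).mp hx)) ?_
      refine Finset.sup_le fun i _ x hx => Subgroup.mem_sup_right ?_
      obtain ⟨j, hj⟩ : ∃ j, (w : G) ^ j = g * (w : G) ^ i :=
        mem_powers_iff_mem_zpowers.mpr (hgen.symm ▸ W₁.mul_mem hg (hwn i))
      have hord : orderOf (w : G) = q := by rw [← Nat.card_zpowers, hgen]
      have hjq : (w : G) ^ (j % q) = g * (w : G) ^ i := by rw [← hj, ← hord, pow_mod_orderOf]
      refine (Finset.le_sup (Finset.mem_range.mpr (Nat.mod_lt j (hord ▸ orderOf_pos _))) :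
        line (w : G) L (j % q) ≤ _) ?_
      rw [mem_line, hjq]
      simpa [mul_assoc] using mem_line.mp hx
    · refine hL0.not_ge ?_
      rw [← h]
      refine le_sup_of_le_right (le_trans ?_ (Finset.le_sup (Finset.mem_range.mpr hq.pos)))
      intro x hx
      rw [mem_line]
      simpa using hx
  have hpos := Nat.card_pos (α := H₀)
  obtain ⟨m, hm, hc⟩ := hgrow (Finset.range q)
  rw [hspan, ← card_mul_relIndex_of_le hF.lt.le, hF.card] at hc
  rw [Finset.card_range] at hm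
  have hdm : p ^ q = H₀.relIndex L ^ m := Nat.eq_of_mul_eq_mul_left hpos hc
  obtain ⟨k, hk, hdk⟩ := (Nat.dvd_prime_pow hF.prime).mp
    (hF.card ▸ Dvd.intro _ (Subgroup.relIndex_mul_relIndex H₀ L H hL0.le hLH) : H₀.relIndex L ∣ p ^ q)
  rw [hdk, ← pow_mul] at hdm
  have hkm := (Nat.pow_right_injective hF.prime.two_le hdm).symm
  have hk1 : k = 1 := by
    refine (hq.eq_one_or_self_of_dvd k ⟨m, hkm.symm⟩).resolve_right fun h => hLneH ?_
    refine Subgroup.eq_of_le_of_card_ge hLH ?_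
    rw [← card_mul_relIndex_of_le hF.lt.le, hF.card, ← card_mul_relIndex_of_le hL0.le, hdk, h]
  subst hk1
  rw [one_mul] at hkm
  rw [pow_one] at hdk
  refine ⟨w, L, hgen, hL0, hLH, hdk, hLU, fun i => ⟨hl0 i, hlH i, hlU i⟩, hspan, fun i hi => ?_⟩
  obtain ⟨h0, hle, hU'⟩ := hJ ((Finset.range q).erase i)
  refine (hmeet i _ h0 hle hU').resolve_left fun h => ?_
  obtain ⟨m', hm', hc'⟩ := hgrow ((Finset.range q).erase i)
  have h1 := hins i ((Finset.range q).erase i)
  rw [Finset.insert_erase (Finset.mem_range.mpr hi), sup_eq_right.mpr h, hspan] at h1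
  rw [← h1, ← card_mul_relIndex_of_le hF.lt.le, hF.card, hdk] at hc'
  have := Nat.pow_right_injective hF.prime.two_le (Nat.eq_of_mul_eq_mul_left hpos hc')
  rw [Finset.card_erase_of_mem (Finset.mem_range.mpr hi), Finset.card_range] at hm'
  omega

include hd hF in
/-- PF (9.7), non-Galois case, group part. -/
theorem exists_lineData (hodd : Odd (Nat.card U)) (hq : (Nat.card W₁).Prime)
    (hng : ¬ Galois M U H₀) :
    ∃ (a : ℕ) (w : G) (L K : Subgroup G), Odd a ∧ LineData M W₁ U H₀ C p a w L K := by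
  classical
  obtain ⟨w, L, hgen, hL0, hLH, hrel, hLU, hline, hspan, hindep⟩ := exists_line hd hF hq hng
  set H := Cfsg.fittingHallOf M with hH
  set q := Nat.card W₁ with hqdef
  haveI := Fact.mk hF.prime
  haveI hHn : (H₀.subgroupOf L).Normal := Subgroup.normal_subgroupOf_of_le_normalizer
    (hLH.trans (CoreFactor.core_normalizes hd hF le_rfl hF.lt.le))
  have hUn₀ : U ≤ Subgroup.normalizer (H₀ : Set G) := (TypeP.U_le hd).trans hF.normal
  let Q := L ⧸ H₀.subgroupOf L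
  have hQ : Nat.card Q = p := hrel
  haveI : IsCyclic Q := isCyclic_of_prime_card hQ
  -- the action of `U` on the line
  let cq : U → (Q →* Q) := fun u => QuotientGroup.map _ _
    (MonoidHom.mk' (fun x : L => (⟨(u : G) * x * (u : G)⁻¹,
      (Subgroup.mem_normalizer_iff.mp (hLU u.2) x).mp x.2⟩ : L)) fun x y => Subtype.ext (by simp [mul_assoc]))
    fun x hx => Subgroup.mem_subgroupOf.mpr
      ((Subgroup.mem_normalizer_iff.mp (hUn₀ u.2) _).mp (Subgroup.mem_subgroupOf.mp hx))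
  have hcq : ∀ (u : U) (x : L), cq u (QuotientGroup.mk x) =
      QuotientGroup.mk (s := H₀.subgroupOf L) (⟨(u : G) * x * (u : G)⁻¹,
        (Subgroup.mem_normalizer_iff.mp (hLU u.2) x).mp x.2⟩ : L) := fun u x => rfl
  have hmul : ∀ (u v : U) (z : Q), cq (u * v) z = cq u (cq v z) := by
    intro u v z
    obtain ⟨x, rfl⟩ := QuotientGroup.mk_surjective z
    rw [hcq, hcq, hcq]
    exact congrArg _ (Subtype.ext (by simp [mul_assoc]))
  have hone : ∀ z : Q, cq 1 z = z := by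
    intro z
    obtain ⟨x, rfl⟩ := QuotientGroup.mk_surjective z
    rw [hcq]
    exact congrArg _ (Subtype.ext (by simp))
  let ρ : U →* MulAut Q := MonoidHom.mk' (fun u =>
    { toFun := cq u
      invFun := cq u⁻¹
      left_inv := fun z => by rw [← hmul, inv_mul_cancel, hone]
      right_inv := fun z => by rw [← hmul, mul_inv_cancel, hone]
      map_mul' := map_mul (cq u) }) fun u v => MulEquiv.ext fun z => hmul u v z
  set K := ρ.ker.map U.subtype with hKdef
  have hsub : K.subgroupOf U = ρ.ker := Subgroup.comap_map_eq_self_of_injective U.subtype_injective _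
  have hKn : U ≤ Subgroup.normalizer (K : Set G) := by
    haveI : (K.subgroupOf U).Normal := hsub ▸ inferInstance
    exact Subgroup.normal_subgroupOf_iff_le_normalizer (Subgroup.map_subtype_le _) |>.mp inferInstance
  have hker : ∀ u : U, u ∈ ρ.ker ↔ ∀ x ∈ L, (u : G) * x * (u : G)⁻¹ * x⁻¹ ∈ H₀ := by
    intro u
    have key : ∀ x : L, cq u (QuotientGroup.mk x) = QuotientGroup.mk x ↔
        (u : G) * (x : G) * (u : G)⁻¹ * (x : G)⁻¹ ∈ H₀ := fun x => by
      rw [hcq, QuotientGroup.eq_iff_div_mem, Subgroup.mem_subgroupOf, div_eq_mul_inv]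
      rfl
    rw [MonoidHom.mem_ker, MulEquiv.ext_iff]
    constructor
    · exact fun h x hx => (key ⟨x, hx⟩).mp (h (QuotientGroup.mk ⟨x, hx⟩))
    · intro h z
      obtain ⟨x, rfl⟩ := QuotientGroup.mk_surjective z
      exact (key x).mpr (h x x.2)
  have hmemK : ∀ u : G, u ∈ K ↔ u ∈ U ∧ ∀ x ∈ L, u * x * u⁻¹ * x⁻¹ ∈ H₀ := fun u =>
    ⟨by rintro ⟨v, hv, rfl⟩; exact ⟨v.2, (hker v).mp hv⟩,
      fun ⟨hu, h⟩ => ⟨⟨u, hu⟩, (hker ⟨u, hu⟩).mpr h, rfl⟩⟩
  haveI : IsCyclic (ZMod (Nat.card Q))ˣ := by rw [hQ]; infer_instance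
  haveI : IsCyclic (MulAut Q) :=
    isCyclic_of_surjective (IsCyclic.mulAutMulEquiv Q).symm (IsCyclic.mulAutMulEquiv Q).symm.surjective
  set a := K.relIndex U with hadef
  have haU : a = Nat.card ρ.range := by rw [hadef, Subgroup.relIndex, hsub, Subgroup.index_ker]
  have hadvd : a ∣ p - 1 := by
    rw [haU, show p - 1 = Nat.card (MulAut Q) by
      rw [IsCyclic.card_mulAut, hQ, Nat.totient_prime hF.prime]]
    exact Subgroup.card_subgroup_dvd_card _
  have hpowK : ∀ u ∈ U, u ^ a ∈ K := by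
    intro u hu
    haveI : (K.subgroupOf U).Normal := hsub ▸ inferInstance
    have h := Subgroup.pow_index_mem (K.subgroupOf U) (⟨u, hu⟩ : U)
    rwa [Subgroup.mem_subgroupOf] at h
  have hcyc : ∃ u ∈ U, U = K ⊔ Subgroup.zpowers u := by
    obtain ⟨⟨_, ⟨u, rfl⟩⟩, hu⟩ := IsCyclic.exists_generator (α := ρ.range)
    refine ⟨u, u.2, le_antisymm (fun x hx => ?_) (sup_le (Subgroup.map_subtype_le _)
      (Subgroup.zpowers_le.mpr u.2))⟩
    obtain ⟨k, hk⟩ := hu ⟨ρ ⟨x, hx⟩, ⟨x, hx⟩, rfl⟩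
    have h1 : (⟨x, hx⟩ : U) * (u ^ k)⁻¹ ∈ ρ.ker := by
      rw [MonoidHom.mem_ker, map_mul, map_inv, map_zpow,
        show ρ u ^ k = ρ ⟨x, hx⟩ by simpa using congrArg Subtype.val hk, mul_inv_cancel]
    have h2 := Subgroup.mul_mem_sup (Subgroup.mem_map_of_mem U.subtype h1)
      ((Subgroup.zpow_mem_zpowers (u : G) k))
    simpa [mul_assoc] using h2
  have hCK : C ≤ K := fun u hu => (hmemK u).mpr
    ⟨((hF.mem_C u).mp hu).1, fun x hx => ((hF.mem_C u).mp hu).2 x (hLH hx)⟩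
  have hwn : ∀ i, w ^ i ∈ W₁ := fun i => hgen ▸ Subgroup.pow_mem _ (Subgroup.mem_zpowers w) i
  have hWU : ∀ i u, u ∈ U → (w ^ i)⁻¹ * u * w ^ i ∈ U := fun i u hu =>
    (Subgroup.mem_normalizer_iff''.mp (hd.U_normal (hwn i)) u).mp hu
  -- an element is in `C` when it fixes every line
  have hCiff : ∀ u ∈ U, (u ∈ C ↔ ∀ i < q, (w ^ i)⁻¹ * u * w ^ i ∈ K) := by
    intro u hu
    refine ⟨fun h i _ => hCK ((Subgroup.mem_normalizer_iff''.mp
      (hF.C_normal (Subgroup.mem_sup_right (hwn i))) u).mp h), fun h => (hF.mem_C u).mpr ⟨hu, ?_⟩⟩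
    let T : Subgroup G :=
      { carrier := {x | x ∈ H ∧ u * x * u⁻¹ * x⁻¹ ∈ H₀}
        one_mem' := ⟨H.one_mem, by simp⟩
        mul_mem' := fun {x y} hx hy => ⟨H.mul_mem hx.1 hy.1, by
          have e : u * (x * y) * u⁻¹ * (x * y)⁻¹ =
              (u * x * u⁻¹ * x⁻¹) * (x * (u * y * u⁻¹ * y⁻¹) * x⁻¹) := by group
          rw [e]
          exact H₀.mul_mem hx.2 ((Subgroup.mem_normalizer_iff.mp
            (hF.normal (fittingHallOf_le M hx.1)) _).mp hy.2)⟩
        inv_mem' := fun {x} hx => ⟨H.inv_mem hx.1, by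
          have e : u * x⁻¹ * u⁻¹ * x⁻¹⁻¹ = x⁻¹ * (u * x * u⁻¹ * x⁻¹)⁻¹ * x := by group
          rw [e]
          exact (Subgroup.mem_normalizer_iff''.mp (hF.normal (fittingHallOf_le M hx.1)) _).mp
            (H₀.inv_mem hx.2)⟩ }
    intro x hx
    have hle : H₀ ⊔ (Finset.range q).sup (line w L) ≤ T := by
      refine sup_le (fun y hy => ⟨hF.lt.le hy, H₀.mul_mem
        ((Subgroup.mem_normalizer_iff.mp (hUn₀ hu) y).mp hy) (H₀.inv_mem hy)⟩) ?_
      refine Finset.sup_le fun i hi y hy => ⟨(hline i).2.1 hy, ?_⟩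
      have h1 := ((hmemK _).mp (h i (Finset.mem_range.mp hi))).2 _ (mem_line.mp hy)
      have h2 := (Subgroup.mem_normalizer_iff.mp (hF.normal (TypeP.W₁_le hd (hwn i))) _).mp h1
      simpa [mul_assoc] using h2
    rw [hspan] at hle
    exact (hle hx).2
  have hpow : ∀ u ∈ U, u ^ a ∈ C := fun u hu => (hCiff _ (U.pow_mem hu a)).mpr fun i _ => by
    have h := hpowK _ (hWU i u hu)
    have e : ((w ^ i)⁻¹ * u * w ^ i) ^ a = (w ^ i)⁻¹ * u ^ a * w ^ i := by
      simpa using conj_pow (a := (w ^ i)⁻¹) (b := u) (i := a)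
    rwa [e] at h
  -- `U / C` is abelian and the product of the conjugates of an element vanishes there
  haveI hCnor : (C.subgroupOf U).Normal :=
    Subgroup.normal_subgroupOf_of_le_normalizer (le_sup_left.trans hF.C_normal)
  letI : CommGroup (U ⧸ C.subgroupOf U) :=
    { (inferInstance : Group (U ⧸ C.subgroupOf U)) with
      mul_comm := fun x y => by
        obtain ⟨x, rfl⟩ := QuotientGroup.mk'_surjective _ x
        obtain ⟨y, rfl⟩ := QuotientGroup.mk'_surjective _ y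
        refine commutatorElement_eq_one_iff_commute.mp ?_
        rw [← map_commutatorElement, QuotientGroup.mk'_apply, QuotientGroup.eq_one_iff,
          Subgroup.mem_subgroupOf]
        exact hF.derived_le (Subgroup.commutator_mem_commutator x.2 y.2) }
  let cw : ℕ → (U →* U) := fun i => MonoidHom.mk'
    (fun u => (⟨(w ^ i)⁻¹ * u * w ^ i, hWU i u u.2⟩ : U)) fun x y => Subtype.ext (by simp [mul_assoc])
  let π : U →* U ⧸ C.subgroupOf U := QuotientGroup.mk' _
  have hord : w ^ q = 1 := by rw [hqdef, ← hgen, Nat.card_zpowers, pow_orderOf_eq_one]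
  have hnorm : ∀ u : U, ∏ i ∈ Finset.range q, π (cw i u) = 1 := by
    intro u
    obtain ⟨n, hn⟩ := QuotientGroup.mk'_surjective _ (∏ i ∈ Finset.range q, π (cw i u))
    let θ : U ⧸ C.subgroupOf U →* U ⧸ C.subgroupOf U := QuotientGroup.map _ _ (cw 1) fun x hx =>
      Subgroup.mem_subgroupOf.mpr ((Subgroup.mem_normalizer_iff''.mp
        (hF.C_normal (Subgroup.mem_sup_right (hwn 1))) _).mp (Subgroup.mem_subgroupOf.mp hx))
    have hθ : ∀ i, θ (π (cw i u)) = π (cw (i + 1) u) := fun i => congrArg π (Subtype.ext (by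
      show (w ^ 1)⁻¹ * ((w ^ i)⁻¹ * (u : G) * w ^ i) * w ^ 1 = (w ^ (i + 1))⁻¹ * u * w ^ (i + 1)
      rw [pow_one, pow_succ]; group))
    have h0 : π (cw 0 u) = π (cw q u) := congrArg π (Subtype.ext (by simp [cw, hord]))
    have hfix : θ (π n) = π n := by
      show θ (QuotientGroup.mk' _ n) = QuotientGroup.mk' _ n
      rw [hn, map_prod, Finset.prod_congr rfl fun i _ => hθ i]
      have h1 := Finset.prod_range_succ' (fun i => π (cw i u)) q
      have h2 := Finset.prod_range_succ (fun i => π (cw i u)) q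
      rw [h2, h0] at h1
      exact mul_right_cancel h1.symm
    have h3 : π (cw 1 n) = π n := hfix
    rw [← hn]
    show π n = 1
    rw [QuotientGroup.mk'_apply, QuotientGroup.eq_one_iff, Subgroup.mem_subgroupOf]
    have h4 := QuotientGroup.eq.mp h3.symm
    rw [Subgroup.mem_subgroupOf] at h4
    simp only [Subgroup.coe_mul, Subgroup.coe_inv, cw, MonoidHom.mk'_apply, pow_one] at h4
    have hw1 : w⁻¹ ∈ W₁ := W₁.inv_mem (pow_one w ▸ hwn 1)
    have hwne : w⁻¹ ≠ 1 := fun h => hd.W₁_ne (by rw [← hgen, inv_eq_one.mp h, Subgroup.zpowers_one_eq_bot])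
    refine hF.fpf _ hw1 hwne n n.2 ?_
    have e : w⁻¹ * (n : G) * w⁻¹⁻¹ * (n : G)⁻¹ = (n : G) * ((n : G)⁻¹ * (w⁻¹ * n * w)) * (n : G)⁻¹ := by group
    rw [e]
    exact (Subgroup.mem_normalizer_iff.mp (hF.C_normal (Subgroup.mem_sup_left n.2)) _).mp h4
  -- coordinates on all lines but the first
  letI : CommGroup ρ.range := IsCyclic.commGroup
  let χ : Fin (q - 1) → (U →* ρ.range) := fun i => ρ.rangeRestrict.comp (cw (i + 1))
  have hχker : (MonoidHom.pi χ).ker = C.subgroupOf U := by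
    ext u
    rw [MonoidHom.mem_ker, Subgroup.mem_subgroupOf, hCiff _ u.2]
    have hcoord : ∀ i, (ρ.rangeRestrict (cw i u) = 1 ↔ (w ^ i)⁻¹ * (u : G) * w ^ i ∈ K) := by
      intro i
      rw [Subtype.ext_iff]
      show ρ (cw i u) = 1 ↔ _
      rw [← MonoidHom.mem_ker, ← hsub, Subgroup.mem_subgroupOf]
      rfl
    constructor
    · intro h i hi
      refine (hcoord i).mp ?_
      have hi0 : ∀ j, 0 < j → j < q → ρ.rangeRestrict (cw j u) = 1 := fun j hj hjq => by
        have := congrFun h ⟨j - 1, by omega⟩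
        simpa [χ, Nat.sub_add_cancel hj] using this
      rcases Nat.eq_zero_or_pos i with rfl | h0
      · have h1 : ∏ j ∈ Finset.range q, ρ.rangeRestrict (cw j u) = 1 := by
          let φ : U ⧸ C.subgroupOf U →* ρ.range := QuotientGroup.lift _ ρ.rangeRestrict fun x hx => by
            rw [MonoidHom.mem_ker]
            exact Subtype.ext ((MonoidHom.mem_ker).mp (hsub ▸ Subgroup.mem_subgroupOf.mpr
              (hCK (Subgroup.mem_subgroupOf.mp hx))))
          have := congrArg φ (hnorm u)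
          rwa [map_prod, map_one] at this
        rwa [Finset.prod_eq_single_of_mem 0 (Finset.mem_range.mpr hq.pos)
          (fun j hj hj0 => hi0 j (by omega) (Finset.mem_range.mp hj))] at h1
      · exact hi0 i h0 hi
    · intro h
      funext i
      exact (hcoord _).mpr (h _ (by omega))
  have hdvdpow : C.relIndex U ∣ a ^ (q - 1) := by
    rw [Subgroup.relIndex, ← hχker, Subgroup.index_ker, haU]
    refine (Subgroup.card_subgroup_dvd_card _).trans (dvd_of_eq ?_)
    rw [Nat.card_pi, Finset.prod_const, Finset.card_univ, Fintype.card_fin]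
  have ha1 : 1 < a := by
    refine Nat.one_lt_iff_ne_zero_and_ne_one.mpr ⟨Subgroup.index_ne_zero_of_finite, fun h => ?_⟩
    have hUK : U ≤ K := Subgroup.relIndex_eq_one.mp h
    refine hF.C_lt.not_ge fun u hu => (hCiff u hu).mpr fun i _ => hUK (hWU i u hu)
  exact ⟨a, w, L, K, hodd.of_dvd_nat (Subgroup.relIndex_dvd_card K U),
    ⟨hgen, hL0, hLH, hrel, hLU, hline, hspan, hindep, hmemK, hKn, hCK, hCiff, rfl, hcyc, ha1, hadvd,
      hpow, hdvdpow⟩⟩

/-- The group part of PF (9.7), non-Galois case. -/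
theorem propNonGalois_group [Fintype G] (hG : Cfsg.IsMinSimpleOddOrder G)
    (hK : Kind2 M W₁ U W₂ ∨ Kind34 M W₁ U W₂) (hF : CoreFactor M W₁ U W₂ H₀ C p)
    (hng : ¬ Galois M U H₀) :
    ∃ a : ℕ, 1 < a ∧ a ∣ p - 1 ∧ Odd a ∧ C.relIndex U ∣ a ^ (Nat.card W₁ - 1) ∧ ∀ u ∈ U, u ^ a ∈ C := by
  obtain ⟨hd, -, hq⟩ := Kind2.or_basic hK
  obtain ⟨a, w, L, K, hodd, hL⟩ := exists_lineData hd hF (minSimple_odd hG U) hq hng
  exact ⟨a, hL.one_lt, hL.dvd, hodd, hL.dvd_pow, hL.pow_mem⟩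

end CfsgLib.PF
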