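import Mathlib
import Cfsg.Agent.Lib.PF.Sec9Lines
import Cfsg.Agent.Lib.PF.Sec9Field
import Cfsg.Agent.Lib.PF.TIDataExists
import Cfsg.Agent.Lib.PF.Sec9CharsLines

/-!
# Peterfalvi (9.7)–(9.10): the propositions on `S(H₀)`
-/

set_option autoImplicit false
set_option linter.style.haveILetI false
set_option linter.unusedSectionVars false

namespace CfsgLib.PF

open CfsgLib.OddOrder
open scoped Classical

universe u

variable {G : Type u} [Group G] {M W₁ U W₂ H₀ C : Subgroup G} {p : ℕ}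

theorem subgroupOf_normalizer {A X : Subgroup G} (h : A ≤ Subgroup.normalizer (X : Set G)) :
    A.subgroupOf M ≤ Subgroup.normalizer (X.subgroupOf M : Set M) :=
  Subgroup.le_normalizer_iff.2 fun g hg x hx =>
    (Subgroup.mem_normalizer_iff.mp (h hg) (x : G)).mp hx

theorem commutator_subgroupOf {A : Subgroup G} (hA : A ≤ M) :
    (⁅A, A⁆ : Subgroup G).subgroupOf M = ⁅A.subgroupOf M, A.subgroupOf M⁆ := by
  refine Subgroup.map_injective M.subtype_injective ?_
  rw [Subgroup.map_commutator, Subgroup.map_subgroupOf_eq_of_le hA,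
    Subgroup.map_subgroupOf_eq_of_le ((Subgroup.commutator_le_self A).trans hA)]

/-- The setting of PF (9.2)–(9.4) inside `M`. -/
theorem setup_nine [Fintype G] (hd : Cfsg.IsTypePWith M W₁ U W₂) (hq : (Nat.card W₁).Prime)
    (hF : CoreFactor M W₁ U W₂ H₀ C p) :
    Nine.Setup ((⁅M, M⁆ : Subgroup G).subgroupOf M) ((Cfsg.fittingHallOf M).subgroupOf M)
      (H₀.subgroupOf M) (U.subgroupOf M) (W₁.subgroupOf M) (W₂.subgroupOf M) (C.subgroupOf M) p
      (Nat.card W₁) := by
  have hUM := TypeP.U_le hd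
  have hW := TypeP.W₁_le hd
  have hHM := fittingHallOf_le M
  have hW₂M : W₂ ≤ M := (TypeP.W₂_le_core hd).trans hHM
  have hCM : C ≤ M := hF.C_lt.le.trans hUM
  refine
    { tpl := typeP_TPL hd
      H_normal := Subgroup.normal_subgroupOf_of_le_normalizer (fittingHallOf_normal M)
      H₀_normal := Subgroup.normal_subgroupOf_of_le_normalizer hF.normal
      H_le := fun x hx => TypeP.core_le_derived hd hx
      U_le := fun x hx => hd.U_compl.2.1 hx
      lt := ?_
      HU := ?_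
      D_eq := ?_
      W_card := CfsgLib.Coprime.card_subgroupOf hW
      q_prime := hq
      p_prime := hF.prime
      W_U := subgroupOf_normalizer hd.U_normal
      card := ?_
      W₂_le := fun x hx => TypeP.W₂_le_core hd hx
      W₂_rel := ?_
      comm_mem := fun a ha b hb => hF.comm_mem (a : G) ha (b : G) hb
      pow_mem := fun h hh => hF.pow_mem (h : G) hh
      chief := ?_
      mem_C := ?_
      C_lt := ?_
      C_normal := ?_
      derived_le := ?_
      fpf := ?_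
      U_nilpotent := ?_ }
  · refine lt_of_le_of_ne (fun x hx => hF.lt.le hx) fun e => hF.lt.ne ?_
    rw [← Subgroup.map_subgroupOf_eq_of_le (hF.lt.le.trans hHM), e,
      Subgroup.map_subgroupOf_eq_of_le hHM]
  · refine eq_bot_iff.mpr fun x hx => Subgroup.mem_bot.mpr (Subtype.ext ?_)
    exact Subgroup.mem_bot.mp (hd.U_compl.2.2.1.le ⟨hx.1, hx.2⟩)
  · intro d hdD
    obtain ⟨h, hh, u, hu, e⟩ := hd.U_compl.2.2.2 (d : G) hdD
    exact ⟨⟨h, hHM hh⟩, hh, ⟨u, hUM hu⟩, hu, Subtype.ext e⟩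
  · rw [Subgroup.relIndex_subgroupOf hHM, hF.card]
  · rw [Subgroup.relIndex_subgroupOf hW₂M, hF.W₂_rel]
  · intro X h0 hXH hXn
    have key := hF.chief (X.map M.subtype) (fun x hx => ⟨⟨x, hHM (hF.lt.le hx)⟩, h0 hx, rfl⟩)
      (by rintro _ ⟨x, hx, rfl⟩; exact hXH hx)
      (Subgroup.le_normalizer_iff.2 fun g hg => by
        rintro _ ⟨x, hx, rfl⟩
        exact ⟨⟨g, hg⟩ * x * ⟨g, hg⟩⁻¹, hXn.conj_mem x hx ⟨g, hg⟩, rfl⟩)
    rcases key with h | h
    · left
      rw [← Subgroup.comap_map_eq_self_of_injective M.subtype_injective X, h, Subgroup.subgroupOf]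
    · right
      rw [← Subgroup.comap_map_eq_self_of_injective M.subtype_injective X, h, Subgroup.subgroupOf]
  · intro u
    rw [Subgroup.mem_subgroupOf, hF.mem_C, Subgroup.mem_subgroupOf]
    exact and_congr_right fun _ => ⟨fun h x hx => h (x : G) hx, fun h x hx => h ⟨x, hHM hx⟩ hx⟩
  · refine lt_of_le_of_ne (fun x hx => hF.C_lt.le hx) fun e => hF.C_lt.ne ?_
    rw [← Subgroup.map_subgroupOf_eq_of_le hCM, e, Subgroup.map_subgroupOf_eq_of_le hUM]
  · exact sup_le (subgroupOf_normalizer (le_sup_left.trans hF.C_normal))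
      (subgroupOf_normalizer (le_sup_right.trans hF.C_normal))
  · rw [← commutator_subgroupOf hUM]
    exact fun x hx => hF.derived_le hx
  · exact fun w hw hw1 u hu h =>
      hF.fpf (w : G) hw (fun e => hw1 (Subtype.ext e)) (u : G) hu h
  · haveI := hd.U_nilpotent
    exact Group.nilpotent_of_mulEquiv (Subgroup.subgroupOfEquivOfLe hUM).symm

theorem relIndex_C (hd : Cfsg.IsTypePWith M W₁ U W₂) :
    (C.subgroupOf M).relIndex (U.subgroupOf M) = C.relIndex U :=
  Subgroup.relIndex_subgroupOf (TypeP.U_le hd)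

theorem H₀C_subgroupOf (hd : Cfsg.IsTypePWith M W₁ U W₂) (hF : CoreFactor M W₁ U W₂ H₀ C p) :
    (H₀ ⊔ C).subgroupOf M = H₀.subgroupOf M ⊔ C.subgroupOf M :=
  Subgroup.subgroupOf_sup (hF.lt.le.trans (fittingHallOf_le M)) (hF.C_lt.le.trans (TypeP.U_le hd))

theorem H₀C'_subgroupOf (hd : Cfsg.IsTypePWith M W₁ U W₂) (hF : CoreFactor M W₁ U W₂ H₀ C p) :
    (H₀ ⊔ ⁅C, C⁆).subgroupOf M = H₀.subgroupOf M ⊔ ⁅C.subgroupOf M, C.subgroupOf M⁆ := by
  have hCM : C ≤ M := hF.C_lt.le.trans (TypeP.U_le hd)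
  rw [Subgroup.subgroupOf_sup (hF.lt.le.trans (fittingHallOf_le M))
    ((Subgroup.commutator_le_self C).trans hCM), commutator_subgroupOf hCM]

variable [Fintype G]

/-- In the Galois case the characters of `M_F / H₀` have trivial stabilisers in `U / C`. -/
theorem free_of_galois (hM : IsCoatom M) (hK : Kind2 M W₁ U W₂ ∨ Kind34 M W₁ U W₂)
    (hF : CoreFactor M W₁ U W₂ H₀ C p) (hGal : Galois M U H₀) :
    Nine.Free ((Cfsg.fittingHallOf M).subgroupOf M) (H₀.subgroupOf M) (U.subgroupOf M)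
      (C.subgroupOf M) := by
  obtain ⟨-, -, -, F, _, _, f, ψ, -, hsurj, hadd, hker, hψ, -, hψC, -⟩ :=
    propGaloisField M W₁ U W₂ H₀ C p hM hK hF hGal
  intro φ hφ hφ0 v hv hfix
  by_contra hvC
  obtain ⟨y, hy, hy1⟩ := Nine.exists_apply_ne hφ
  have h1 : ψ (v : G) - 1 ≠ 0 := sub_ne_zero.mpr fun e => hvC ((hψC (v : G) hv).mp e)
  obtain ⟨x, hx, hfx⟩ := hsurj (Set.mem_univ ((ψ (v : G) - 1)⁻¹ * f (y : G)))
  have hx' : x ∈ Cfsg.fittingHallOf M := hx
  set X : ↥M := ⟨x, fittingHallOf_le M hx'⟩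
  have hXH : X ∈ (Cfsg.fittingHallOf M).subgroupOf M := hx'
  have hvX : v * X * v⁻¹ ∈ (Cfsg.fittingHallOf M).subgroupOf M := by
    haveI : ((Cfsg.fittingHallOf M).subgroupOf M).Normal :=
      Subgroup.normal_subgroupOf_of_le_normalizer (fittingHallOf_normal M)
    exact Subgroup.Normal.conj_mem inferInstance X hXH v
  set d : ↥M := v * X * v⁻¹ * X⁻¹ with hddef
  have hdH : d ∈ (Cfsg.fittingHallOf M).subgroupOf M := mul_mem hvX (inv_mem hXH)
  have hf1 : f 1 = 0 := (hker 1 (one_mem _)).mpr (one_mem _)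
  have hfinv : ∀ z ∈ Cfsg.fittingHallOf M, f z⁻¹ = - f z := fun z hz => by
    have := hadd z hz z⁻¹ (inv_mem hz)
    rw [mul_inv_cancel, hf1] at this
    exact eq_neg_of_add_eq_zero_right this.symm
  have hfd : f (d : G) = f (y : G) := by
    show f ((v : G) * x * (v : G)⁻¹ * x⁻¹) = _
    rw [hadd ((v : G) * x * (v : G)⁻¹) hvX x⁻¹ (inv_mem hx'), (hψ (v : G) hv).2 x hx', hfinv x hx', hfx]
    field_simp
    ring
  have hz : (y * d⁻¹ : ↥M) ∈ H₀.subgroupOf M := by
    show (y : G) * (d : G)⁻¹ ∈ H₀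
    rw [← hker ((y : G) * (d : G)⁻¹) (mul_mem hy (inv_mem hdH)), hadd (y : G) hy (d : G)⁻¹ (inv_mem hdH),
      hfinv (d : G) hdH, hfd, add_neg_cancel]
  refine hy1 ?_
  have e : y = y * d⁻¹ * d := by group
  rw [e, Nine.lval_mul φ (mul_mem hy (inv_mem hdH)) hdH, hφ0 _ hz, one_mul, hddef,
    Nine.lval_mul φ hvX (inv_mem hXH), hfix X hXH, Nine.lval_inv φ hXH,
    mul_inv_cancel₀ (Nine.lval_ne_zero φ hXH)]

/-- PF (9.8), (9.9). -/
theorem propReducible : PropReducible G := by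
  intro M W₁ U W₂ H₀ C p _ hK hF
  obtain ⟨hd, -, hq⟩ := Kind2.or_basic hK
  have h := (setup_nine hd hq hF).reducible
  rw [relIndex_C hd, ← H₀C_subgroupOf hd hF] at h
  exact h

/-- PF (9.9). -/
theorem propGaloisDegrees : PropGaloisDegrees G := by
  intro M W₁ U W₂ H₀ C p hM hK hF hGal
  obtain ⟨hd, -, hq⟩ := Kind2.or_basic hK
  have h := (setup_nine hd hq hF).degree_galois (free_of_galois hM hK hF hGal)
  rw [relIndex_C hd, ← H₀C'_subgroupOf hd hF] at h
  exact h

/-- The lines of the non-Galois case inside `M`. -/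
theorem lines_nine {a : ℕ} {w : G} {L K : Subgroup G} (hd : Cfsg.IsTypePWith M W₁ U W₂)
    (hT : LineData M W₁ U H₀ C p a w L K) (hlt : a < p - 1) :
    ∃ w' : ↥M, (w' : G) = w ∧ Nine.Lines ((Cfsg.fittingHallOf M).subgroupOf M) (H₀.subgroupOf M)
      (U.subgroupOf M) (W₁.subgroupOf M) (C.subgroupOf M) p (Nat.card W₁) a w'
      (fun i => (line w L i).subgroupOf M) (L.subgroupOf M) (K.subgroupOf M) := by
  have hHM := fittingHallOf_le M
  have hwW : w ∈ W₁ := hT.gen ▸ Subgroup.mem_zpowers w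
  have hwM : w ∈ M := TypeP.W₁_le hd hwW
  have hlM : ∀ i, line w L i ≤ M := fun i => (hT.line_mem i).2.1.trans hHM
  have hKU : K ≤ U := fun u hu => ((hT.mem_K u).mp hu).1
  have hKM : K ≤ M := hKU.trans (TypeP.U_le hd)
  have hH₀M : H₀ ≤ M := hT.lt.le.trans (hT.le.trans hHM)
  have hsup : ∀ s : Finset ℕ, (H₀ ⊔ s.sup (line w L)).subgroupOf M =
      H₀.subgroupOf M ⊔ s.sup fun i => (line w L i).subgroupOf M := by
    intro s
    have hs : s.sup (line w L) ≤ M := Finset.sup_le fun i _ => hlM i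
    rw [Subgroup.subgroupOf_sup hH₀M hs]
    congr 1
    induction s using Finset.induction with
    | empty => simp
    | insert b s hb ih =>
      have hs' : s.sup (line w L) ≤ M := Finset.sup_le fun i _ => hlM i
      rw [Finset.sup_insert, Finset.sup_insert, Subgroup.subgroupOf_sup (hlM b) hs', ih hs']
  refine ⟨⟨w, hwM⟩, rfl, ?_⟩
  exact
    { gen := by
        ext x
        rw [Subgroup.mem_subgroupOf, ← hT.gen, Subgroup.mem_zpowers_iff, Subgroup.mem_zpowers_iff]
        exact ⟨fun ⟨k, hk⟩ => ⟨k, by rw [← hk]; rfl⟩, fun ⟨k, hk⟩ => ⟨k, Subtype.ext hk⟩⟩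
      mem := fun i x => mem_line
      le₀ := fun i x hx => (hT.line_mem i).1 hx
      le := fun i x hx => (hT.line_mem i).2.1 hx
      rel := by rw [Subgroup.relIndex_subgroupOf (hT.le.trans hHM), hT.rel]
      normal := fun i => subgroupOf_normalizer (hT.line_mem i).2.2
      span := by rw [← hsup, hT.span]
      indep := fun i hi => by
        rw [← hsup]
        show (_ : Subgroup G).comap M.subtype ⊓ _ = _
        rw [Subgroup.subgroupOf, ← Subgroup.comap_inf, hT.indep i hi]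
        rfl
      mem_K := fun u => by
        rw [Subgroup.mem_subgroupOf, hT.mem_K, Subgroup.mem_subgroupOf]
        exact and_congr_right fun _ =>
          ⟨fun h x hx => h (x : G) hx, fun h x hx => h ⟨x, hHM (hT.le hx)⟩ hx⟩
      C_le := fun x hx => hT.C_le hx
      C_iff := fun u hu => hT.C_iff (u : G) hu
      K_normal := subgroupOf_normalizer hT.K_normal
      K_rel := by rw [Subgroup.relIndex_subgroupOf (TypeP.U_le hd), hT.K_rel]
      lt := hlt }

/-- `a < p - 1` in a group of odd order. -/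
theorem lt_pred_of_odd (hG : Cfsg.IsMinSimpleOddOrder G) (hF : CoreFactor M W₁ U W₂ H₀ C p)
    (hq : (Nat.card W₁).Prime) {a : ℕ} (ha : Odd a) (hdvd : a ∣ p - 1) : a < p - 1 := by
  have hp2 : Odd p := by
    refine Odd.of_dvd_nat (minSimple_odd hG (Cfsg.fittingHallOf M)) ?_
    refine (dvd_pow_self p hq.ne_zero).trans ?_
    rw [← hF.card]
    exact Subgroup.relIndex_dvd_card _ _
  refine lt_of_le_of_ne (Nat.le_of_dvd (by have := hF.prime.two_le; omega) hdvd) fun e => ?_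
  rw [e] at ha
  obtain ⟨m, hm⟩ := ha
  obtain ⟨n, hn⟩ := hp2
  omega

/-- PF (9.7), non-Galois case. -/
theorem propNonGalois (hG : Cfsg.IsMinSimpleOddOrder G) : PropNonGalois G := by
  intro M W₁ U W₂ H₀ C p _ hK hF hng
  obtain ⟨hd, -, hq⟩ := Kind2.or_basic hK
  obtain ⟨a, w, L, K, hodd, hT⟩ := exists_lineData hd hF (minSimple_odd hG U) hq hng
  obtain ⟨w', -, hT'⟩ := lines_nine hd hT (lt_pred_of_odd hG hF hq hodd hT.dvd)
  have S := setup_nine hd hq hF
  refine ⟨a, hT.one_lt, hT.dvd, hodd, hT.dvd_pow, hT.pow_mem, ?_, ?_⟩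
  · have h := hT'.degree S
    rw [← H₀C'_subgroupOf hd hF] at h
    exact h
  · have h := hT'.count S
    rw [relIndex_C hd, ← H₀C_subgroupOf hd hF] at h
    exact h

/-- PF (9.10). -/
theorem propReducibleCases (hG : Cfsg.IsMinSimpleOddOrder G) : PropReducibleCases G := by
  intro M W₁ U W₂ H₀ C p hM hK hF
  obtain ⟨hd, -, hq⟩ := Kind2.or_basic hK
  have S := setup_nine hd hq hF
  by_cases hGal : Galois M U H₀
  · by_cases hex : ∃ χ ∈ calS M (Cfsg.fittingHallOf M) (H₀ ⊔ ⁅C, C⁆),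
        Cfsg.IsIrrCharacter ↥M χ ∧ χ 1 = ((Nat.card W₁ * C.relIndex U : ℕ) : ℂ)
    · exact Or.inl hex
    · obtain ⟨hdvd, -⟩ := propGaloisField M W₁ U W₂ H₀ C p hM hK hF hGal
      rw [← relIndex_C hd] at hdvd
      obtain ⟨h1, h2⟩ := S.cases_galois (free_of_galois hM hK hF hGal) hdvd (by
        rw [relIndex_C hd, ← H₀C'_subgroupOf hd hF]; exact hex)
      refine Or.inr ⟨hGal, ?_, by rwa [relIndex_C hd] at h2⟩
      rw [← Subgroup.map_subgroupOf_eq_of_le (hF.C_lt.le.trans (TypeP.U_le hd)), h1, Subgroup.map_bot]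
  · obtain ⟨a, w, L, K, hodd, hT⟩ := exists_lineData hd hF (minSimple_odd hG U) hq hGal
    obtain ⟨w', -, hT'⟩ := lines_nine hd hT (lt_pred_of_odd hG hF hq hodd hT.dvd)
    have h := hT'.exists_irr S
    rw [relIndex_C hd, ← H₀C'_subgroupOf hd hF] at h
    exact Or.inl h

end CfsgLib.PF
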