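import Mathlib
import Cfsg.Agent.Lib.PF.Sec9Core

/-!
# Peterfalvi §9: in Type II nothing of `M_F` other than `1` centralises `U`
-/

set_option autoImplicit false

namespace CfsgLib.PF

open Subgroup CfsgLib.OddOrder

universe u

variable {G : Type u} [Group G] [Finite G] {M W₁ U W₂ : Subgroup G}

/-- In Type II, `C_{M_F}(U) = 1`. -/
theorem Kind2.core_inf_centralizer_U (h2 : Kind2 M W₁ U W₂) :
    Cfsg.fittingHallOf M ⊓ Subgroup.centralizer (U : Set G) = ⊥ := by
  classical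
  have hd := h2.data
  set H := Cfsg.fittingHallOf M with hH
  set D := ⁅M, M⁆ with hD
  obtain ⟨hsolv, -, -, -, V, -, hVc, -, V₀, hV₀, hexp, hfree⟩ := h2.derived_typeF
  haveI := hsolv
  have hHmap : (Cfsg.fittingHall ↥D).map D.subtype = H := h2.derived_fittingHall
  have hBV : Cfsg.IsComplIn H (V.map D.subtype) D := by
    refine ⟨hd.U_compl.1, Subgroup.map_subtype_le _, ?_, fun m hm => ?_⟩
    · rw [← hHmap, ← Subgroup.map_inf _ _ _ D.subtype_injective, disjoint_iff.mp hVc.disjoint,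
        Subgroup.map_bot]
    · obtain ⟨⟨⟨a, ha⟩, ⟨b, hb⟩⟩, hab⟩ := hVc.2 ⟨m, hm⟩
      exact ⟨a, hHmap ▸ ⟨a, ha, rfl⟩, b, ⟨b, hb, rfl⟩, (congrArg Subtype.val hab).symm⟩
  obtain ⟨g, hg, hgU⟩ := OddOrder42.exists_conj_complIn hd.U_compl hBV (typeP_coprime_card hd)
  rw [eq_bot_iff]
  intro x hx
  by_contra hx1
  rw [Subgroup.mem_bot] at hx1
  have hy : g * x * g⁻¹ ∈ H := (Subgroup.mem_normalizer_iff.mp
    ((Subgroup.commutator_le_self M).trans (fittingHallOf_normal M) hg) x).mp hx.1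
  rw [← hHmap] at hy
  obtain ⟨y, hy, hyx⟩ := hy
  have hy1 : y ≠ 1 := fun h => hx1 (by
    rw [h, map_one] at hyx
    exact conj_eq_one_iff.mp hyx.symm)
  have hV₀bot : V₀ = ⊥ := by
    rw [eq_bot_iff]
    intro v hv
    by_contra hv1
    rw [Subgroup.mem_bot] at hv1
    refine hy1 (hfree v hv hv1 y hy (Subtype.ext ?_))
    have h1 : (v : G) ∈ V.map D.subtype := Subgroup.mem_map_of_mem _ (hV₀ hv)
    rw [← hgU] at h1
    obtain ⟨a, ha, hav⟩ := h1
    have hc := Subgroup.mem_centralizer_iff.mp hx.2 a ha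
    change (v : G) * (y : G) = (y : G) * v
    rw [← hav, show (y : G) = g * x * g⁻¹ from hyx]
    show g * a * g⁻¹ * (g * x * g⁻¹) = g * x * g⁻¹ * (g * a * g⁻¹)
    calc _ = g * (a * x) * g⁻¹ := by group
      _ = g * (x * a) * g⁻¹ := by rw [hc]
      _ = _ := by group
  subst hV₀bot
  have hV1 : V = ⊥ := by
    rw [eq_bot_iff]
    intro v hv
    have h1 : Monoid.exponent V = 1 := by
      rw [← hexp]
      exact Monoid.exp_eq_one_iff.mpr inferInstance
    exact Subgroup.mem_bot.mpr (congrArg Subtype.val ((Monoid.exp_eq_one_iff.mp h1).elim ⟨v, hv⟩ 1))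
  refine h2.U_ne (Subgroup.card_eq_one.mp ?_)
  rw [← OddOrder.Transitivity.card_cj g U, hgU, hV1, Subgroup.map_bot, Subgroup.card_bot]

/-- In Type II, `|M_F| = |W₂| ^ |W₁|`. -/
theorem Kind2.card_core (h2 : Kind2 M W₁ U W₂) :
    Nat.card (Cfsg.fittingHallOf M) = Nat.card W₂ ^ Nat.card W₁ := by
  have hd := h2.data
  haveI := fittingHallOf_isNilpotent M
  have h := relIndex_eq_pow (H₀ := ⊥) bot_le hd.W₁_ne hd.U_normal (TypeP.coprime_U_W₁ hd)
    (TypeP.W₁_fpf hd) (TypeP.sup_normalizes_core hd) (fun g _ => Subgroup.mem_normalizer_iff.mpr fun x => by simp)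
    (TypeP.coprime_core_sup hd) (Kind2.core_inf_centralizer_U h2).le
  rwa [TypeP.core_inf_centralizer hd, Subgroup.relIndex_bot_left, Subgroup.relIndex_bot_left] at h

/-- In Type II with `|W₂|` prime, `M_F` is elementary abelian. -/
theorem Kind2.elementary [Fintype G] (hM : IsCoatom M) (h2 : Kind2 M W₁ U W₂)
    (hp : (Nat.card W₂).Prime) :
    Cfsg.IsElementaryAbelian (Nat.card W₂) (Cfsg.fittingHallOf M) := by
  obtain ⟨H₀, C, p, hF⟩ := propCoreFactor M W₁ U W₂ hM (Or.inl h2)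
  have hdvd : p ∣ Nat.card W₂ := hF.W₂_rel ▸ Subgroup.relIndex_dvd_card H₀ W₂
  have hpW : p = Nat.card W₂ := (Nat.prime_dvd_prime_iff_eq hF.prime hp).mp hdvd
  have h1 := card_mul_relIndex_of_le hF.lt.le
  rw [hF.card, Kind2.card_core h2, ← hpW] at h1
  have hbot : H₀ = ⊥ := Subgroup.card_eq_one.mp
    (Nat.eq_of_mul_eq_mul_right (pow_pos hF.prime.pos _) (h1.trans (one_mul _).symm))
  have hc : ∀ a ∈ Cfsg.fittingHallOf M, ∀ b ∈ Cfsg.fittingHallOf M, a * b = b * a := fun a ha b hb => by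
    have := hF.comm_mem a ha b hb
    rw [hbot, Subgroup.mem_bot, mul_inv_eq_one, mul_inv_eq_iff_eq_mul] at this
    exact this
  exact ⟨⟨⟨fun a b => Subtype.ext (hc a a.2 b b.2)⟩⟩, fun a ha => by
    have := hF.pow_mem a ha
    rwa [hbot, Subgroup.mem_bot, hpW] at this⟩

end CfsgLib.PF
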