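import Cfsg.Agent.Lib.OddChar.FeitFrobenius
import Cfsg.Agent.Lib.OddChar.FrobeniusQuot
import Cfsg.Agent.Lib.OddChar.DadeVirtual
import Cfsg.Agent.Lib.OddOrder.FittingHall
import Cfsg.Agent.Lib.OddOrder.MinSimple
import Cfsg.Agent.Lib.Frobenius.Action
import Cfsg.Agent.Lib.ConstStab.Basic
import Cfsg.Agent.S1524
import Cfsg.Prelude.Def_OddOrderChar

/-!
Peterfalvi §12: coherence for a Frobenius maximal subgroup of Type I, given the Dade hypothesis for
`A(L)`, `L`, `R`.
-/

set_option autoImplicit false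
set_option linter.style.haveILetI false

namespace CfsgLib.PF

universe u

open CfsgLib.OddChar CfsgLib.OddOrder CfsgLib.Characters
open scoped Classical

section Dade

variable {G : Type u} [Group G] {A : Set G} {L : Subgroup G} {R : G → Subgroup G}

theorem dadeIsometry_add (α β : L → ℂ) :
    Cfsg.dadeIsometry A L R (α + β) = Cfsg.dadeIsometry A L R α + Cfsg.dadeIsometry A L R β := by
  funext g
  simp only [Cfsg.dadeIsometry, Pi.add_apply]
  split_ifs <;> simp

theorem dadeIsometry_zsmul (n : ℤ) (α : L → ℂ) :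
    Cfsg.dadeIsometry A L R (n • α) = n • Cfsg.dadeIsometry A L R α := by
  funext g
  simp only [Cfsg.dadeIsometry, Pi.smul_apply]
  split_ifs <;> simp

theorem dadeIsometry_one (hD : Cfsg.DadeHypothesis A L R) (α : L → ℂ) :
    Cfsg.dadeIsometry A L R α 1 = 0 := by
  refine dadeIsometry_of_not_mem ?_
  rintro ⟨a, ha, u, hu, x, e⟩
  rw [mul_one, mul_inv_cancel] at e
  have haL : a ∈ L ⊓ Subgroup.centralizer ({a} : Set G) :=
    ⟨hD.subset ha, Subgroup.mem_centralizer_singleton_iff.mpr rfl⟩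
  have haR : a ∈ R a := by
    have e' : a = u⁻¹ := eq_inv_of_mul_eq_one_left e.symm
    have := (R a).inv_mem hu
    rwa [← e'] at this
  have := (hD.inf_eq_bot a ha).le ⟨haR, haL⟩
  exact hD.one_not_mem ((Subgroup.mem_bot.mp this) ▸ ha)

end Dade

variable {G : Type u} [Group G]

theorem IsMulCommutative.of_map {L : Subgroup G} {H : Subgroup L}
    (h : IsMulCommutative (H.map L.subtype)) : IsMulCommutative H :=
  ⟨⟨fun a b => Subtype.ext (Subtype.ext (by
    simpa using congrArg Subtype.val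
      (h.1.1 ⟨_, Subgroup.mem_map_of_mem _ a.2⟩ ⟨_, Subgroup.mem_map_of_mem _ b.2⟩)))⟩⟩

theorem mem_kernel_iff {L : Subgroup G} (hfrob : ∀ x ∈ Cfsg.fittingHallOf L, x ≠ 1 →
      L ⊓ Subgroup.centralizer ({x} : Set G) ≤ Cfsg.fittingHallOf L) (x : L) :
    (x : G) ∈ {a | a ∈ L ∧ a ≠ 1 ∧ ∃ y ∈ Cfsg.fittingHallOf L, y ≠ 1 ∧ a * y = y * a} ↔
      x ∈ Cfsg.fittingHall L ∧ x ≠ 1 := by
  constructor
  · rintro ⟨hxL, hx1, y, hy, hy1, hc⟩
    have : (x : G) ∈ Cfsg.fittingHallOf L :=
      hfrob y hy hy1 ⟨hxL, Subgroup.mem_centralizer_singleton_iff.mpr hc⟩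
    rw [← Subgroup.mem_subgroupOf, fittingHallOf_subgroupOf] at this
    exact ⟨this, fun e => hx1 (by rw [e]; rfl)⟩
  · rintro ⟨hxH, hx1⟩
    exact ⟨x.2, fun e => hx1 (Subtype.ext e), x, Subgroup.mem_map_of_mem _ hxH,
      fun e => hx1 (Subtype.ext e), rfl⟩

section Complement

variable {N : Type u} [Group N] [Finite N]

/-- a fixed-point-free complement of odd order has exponent equal to its order -/
theorem exponent_eq_card_of_fpf {H U : Subgroup N} [H.Normal] (hH : H ≠ ⊥) (hodd : Odd (Nat.card U))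
    (hfpf : ∀ u ∈ U, u ≠ 1 → ∀ h ∈ H, u * h = h * u → h = 1) :
    Monoid.exponent U = Nat.card U := by
  haveI : Nontrivial H := (Subgroup.nontrivial_iff_ne_bot H).2 hH
  have hcyc : ∀ B : Subgroup N, B ≤ U → IsMulCommutative B → IsCyclic B := by
    intro B hB hBc
    letI : MulDistribMulAction B H :=
      MulDistribMulAction.compHom H ((MulAut.conjNormal (H := H)).comp B.subtype)
    have hf : CfsgLib.Frobenius.IsFPF B H := fun a ha k hk => by
      have h1 : (a : N) * k * (a : N)⁻¹ = k := congrArg Subtype.val hk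
      exact Subtype.ext (hfpf a (hB a.2) (fun e => ha (Subtype.ext e)) k k.2
        (mul_inv_eq_iff_eq_mul.1 h1))
    exact hf.isCyclic_of_commutative
  refine Nat.dvd_antisymm Group.exponent_dvd_nat_card
    ((Nat.dvd_iff_prime_pow_dvd_dvd _ _).2 fun q k hq hqk => ?_)
  rcases Nat.eq_zero_or_pos k with rfl | hk
  · simp
  haveI := Fact.mk hq
  have hq2 : q ≠ 2 := fun e => by
    have := hodd.of_dvd_nat ((dvd_pow_self q hk.ne').trans hqk)
    rw [e, Nat.odd_iff] at this
    omega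
  obtain ⟨Q, hQ⟩ := Sylow.exists_subgroup_card_pow_prime (G := U) q hqk
  have hQp : IsPGroup q Q := IsPGroup.of_card hQ
  haveI : IsCyclic Q := by
    refine CfsgLib.ConstStab.isCyclic_of_unique_prime_subgroup hq2 hQp fun x y hx1 hx hy => ?_
    haveI : Nontrivial Q := ⟨⟨x, 1, hx1⟩⟩
    haveI := hQp.center_nontrivial
    obtain ⟨⟨z, hzc⟩, hz⟩ :=
      exists_prime_orderOf_dvd_card' (G := Subgroup.center Q) q
        (by
          obtain ⟨j, hj, hjc⟩ := (hQp.to_subgroup (Subgroup.center Q)).nontrivial_iff_card.1 inferInstance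
          rw [hjc]; exact dvd_pow_self q hj.ne')
    have hz' : orderOf z = q := (Subgroup.orderOf_coe ⟨z, hzc⟩).trans hz
    have key : ∀ w : Q, w ^ q = 1 → w ∈ Subgroup.zpowers z := by
      intro w hw
      set B : Subgroup N :=
        (Subgroup.closure ({w, z} : Set Q)).map (U.subtype.comp Q.subtype) with hB
      have hBU : B ≤ U := by
        rintro _ ⟨a, -, rfl⟩
        exact (a : U).2
      have hcomm : IsMulCommutative ↥(Subgroup.closure ({w, z} : Set Q)) :=
        Subgroup.isMulCommutative_closure (by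
          have h := Subgroup.mem_center_iff.1 hzc w
          rintro a (rfl | rfl) b (rfl | rfl) <;> first | rfl | exact h | exact h.symm)
      haveI : IsCyclic B := hcyc B hBU ⟨⟨by
        rintro ⟨_, a, ha, rfl⟩ ⟨_, b, hb, rfl⟩
        exact Subtype.ext (by
          simpa using congrArg (fun t => U.subtype.comp Q.subtype t)
            (congrArg Subtype.val (hcomm.1.1 ⟨a, ha⟩ ⟨b, hb⟩)))⟩⟩
      haveI : IsCyclic ↥(Subgroup.closure ({w, z} : Set Q)) :=
        (Subgroup.equivMapOfInjective _ (U.subtype.comp Q.subtype)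
          (fun a b e => Subtype.ext (Subtype.ext e))).isCyclic.2 (by rw [← hB]; infer_instance)
      set C := Subgroup.closure ({w, z} : Set Q)
      letI := Fintype.ofFinite C
      have hzC : z ∈ C := Subgroup.subset_closure (by simp)
      have hwC : w ∈ C := Subgroup.subset_closure (by simp)
      have hsub : (Subgroup.zpowers (⟨z, hzC⟩ : C) : Subgroup C).carrier.toFinset ⊆
          Finset.univ.filter (fun c : C => c ^ q = 1) := by
        intro c hc
        obtain ⟨i, rfl⟩ := Set.mem_toFinset.1 hc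
        refine Finset.mem_filter.2 ⟨Finset.mem_univ _, Subtype.ext ?_⟩
        change (z ^ i) ^ q = 1
        rw [← zpow_natCast, ← zpow_mul, mul_comm, zpow_mul, zpow_natCast, ← hz',
          pow_orderOf_eq_one, one_zpow]
      have heq := Finset.eq_of_subset_of_card_le hsub (by
        refine le_trans (IsCyclic.card_pow_eq_one_le hq.pos) ?_
        rw [Set.toFinset_card, ← Nat.card_eq_fintype_card]
        show q ≤ Nat.card (Subgroup.zpowers (⟨z, hzC⟩ : C))
        rw [Nat.card_zpowers, ← Subgroup.orderOf_coe, hz'])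
      have : (⟨w, hwC⟩ : C) ∈ (Subgroup.zpowers (⟨z, hzC⟩ : C) : Subgroup C).carrier.toFinset := by
        rw [heq]
        exact Finset.mem_filter.2 ⟨Finset.mem_univ _, Subtype.ext hw⟩
      obtain ⟨i, hi⟩ := Set.mem_toFinset.1 this
      exact ⟨i, by simpa using congrArg Subtype.val hi⟩
    have hxz : Subgroup.zpowers x ≤ Subgroup.zpowers z := Subgroup.zpowers_le.2 (key x hx)
    have : Subgroup.zpowers x = Subgroup.zpowers z := Subgroup.eq_of_le_of_card_ge hxz
      (by rw [Nat.card_zpowers, Nat.card_zpowers, orderOf_eq_prime hx hx1, hz'])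
    rw [this]; exact key y hy
  calc q ^ k = Monoid.exponent Q := by rw [IsCyclic.exponent_eq_card, hQ]
    _ ∣ _ := Monoid.exponent_dvd_of_monoidHom Q.subtype Q.subtype_injective

end Complement

/-- The coherence theorem for a Frobenius maximal subgroup with kernel `M_F` satisfying one of the
three alternatives of Type I, given the Dade hypothesis for a set `A` meeting `L` in `M_F \ {1}`. -/
theorem frobenius_coherent [Fintype G] (hG : Cfsg.IsMinSimpleOddOrder G) (L : Subgroup G)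
    [Fintype L] (hL : IsCoatom L) (hF : Cfsg.IsOfTypeF L)
    (hcase : Cfsg.IsTISubset (Cfsg.fittingHallOf L : Set G) ∨
      IsMulCommutative (Cfsg.fittingHallOf L) ∨
      ∀ p : ℕ, p.Prime → p ∣ Nat.card (Cfsg.fittingHallOf L) →
        Monoid.exponent (L ⧸ Cfsg.fittingHall L) ∣ p - 1)
    (hfrob : ∀ x ∈ Cfsg.fittingHallOf L, x ≠ 1 →
      L ⊓ Subgroup.centralizer ({x} : Set G) ≤ Cfsg.fittingHallOf L)
    (A : Set G) (R : G → Subgroup G) (hA₀ : ∀ x : L, (x : G) ∈ A ↔
      x ∈ Cfsg.fittingHall L ∧ x ≠ 1) (hD : Cfsg.DadeHypothesis A L R) :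
    (∀ χ ∈ Cfsg.inducedIrrAbove (Cfsg.fittingHall L) ⊥, Cfsg.IsIrrCharacter L χ) ∧
      Cfsg.IsCoherent (Cfsg.inducedIrrAbove (Cfsg.fittingHall L) ⊥) {1}ᶜ
        (Cfsg.dadeIsometry A L R) := by
  obtain ⟨-, hodd, hH1, hH2, U, hU1, hUc, -, -⟩ := hF
  set H := Cfsg.fittingHall L with hHdef
  have hA : ∀ x : L, (x : G) ∈ A ↔ x ∈ H ∧ x ≠ 1 := hA₀
  haveI : Fintype H := Fintype.ofFinite H
  haveI : H.Normal := Cfsg.fittingHall_normal L
  have hC : ∀ h ∈ H, h ≠ 1 → Subgroup.centralizer ({h} : Set L) ≤ H := by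
    intro h hh h1 x hx
    have : (x : G) ∈ Cfsg.fittingHallOf L :=
      hfrob h (Subgroup.mem_map_of_mem _ hh) (fun e => h1 (Subtype.ext e))
        ⟨x.2, Subgroup.mem_centralizer_singleton_iff.mpr
          (congrArg Subtype.val (Subgroup.mem_centralizer_singleton_iff.mp hx))⟩
    rw [← Subgroup.mem_subgroupOf, fittingHallOf_subgroupOf] at this
    exact this
  rw [← coe_indAboveFinset]
  have hirr : ∀ χ ∈ (↑(indAboveFinset H ⊥) : Set (L → ℂ)), Cfsg.IsIrrCharacter L χ :=
    fun χ hχ => indAbove_irr hC hχ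
  refine ⟨hirr, ?_⟩
  set τ := Cfsg.dadeIsometry A L R
  set S : Set (L → ℂ) := ↑(indAboveFinset H ⊥) with hS
  have hgen : ∀ α ∈ Cfsg.zspanOn S {1}ᶜ, Cfsg.IsGeneralizedCharacter L α := fun α hα =>
    zspan_generalized (fun χ hχ => isGeneralizedCharacter_of_isCharacter (isCharacter_of_irr (hirr χ hχ))) hα.1
  have hsupp : ∀ α ∈ Cfsg.zspanOn S {1}ᶜ, ∀ x : L, (x : G) ∉ A → α x = 0 := by
    intro α hα x hx
    by_cases hx1 : x = 1
    · exact hx1 ▸ zspanOn_compl_one.mp hα |>.2
    refine zspan_vanish (fun χ hχ => ?_) hα.1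
    rw [hS, coe_indAboveFinset] at hχ
    obtain ⟨θ, -, -, -, rfl⟩ := hχ
    exact CfsgLib.Induction.indFun_normal_eq_zero H (fun hxH => hx ((hA x).2 ⟨hxH, hx1⟩))
  have hsys : IrrSys S τ := by
    refine ⟨hirr, ⟨fun α _ β _ => dadeIsometry_add α β, fun α _ n => dadeIsometry_zsmul n α,
      fun α hα β hβ => ?_, fun α hα => dade_virtual hD (hgen α hα) (hsupp α hα)⟩,
      fun α _ => dadeIsometry_one hD α⟩
    exact dade_isometry hD (isClassFunction_of_isGeneralizedCharacter (hgen α hα)) (hsupp α hα)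
      (isClassFunction_of_isGeneralizedCharacter (hgen β hβ))
  have hoH : Odd (Nat.card H) := hodd.of_dvd_nat H.card_subgroup_dvd_card
  have hoe : Odd H.index := hodd.of_dvd_nat H.index_dvd_card
  rcases feit_coherence hC hH1 hH2
      (fun e => Nat.not_even_iff_odd.mpr hoH (e ▸ hoe.add_one)) hsys with h | hex
  · exact h
  obtain ⟨p, hp, ⟨m, hm⟩, hna, hsmall⟩ := hex
  have hfpf : ∀ u ∈ U, u ≠ 1 → ∀ h ∈ H, u * h = h * u → h = 1 := by
    intro u hu hu1 h hh hc
    by_contra h1
    have := hC h hh h1 (Subgroup.mem_centralizer_singleton_iff.mpr hc)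
    exact hu1 (Subgroup.mem_bot.mp (hUc.disjoint.le_bot ⟨this, hu⟩))
  rcases hcase with hTI | hab | hexp
  · -- `H` is a TI-subset: the Dade map is induction
    set H₀ := Cfsg.fittingHallOf L with hH₀
    have hle : H₀ ≤ L := fittingHallOf_le L
    have h0 : H₀ ≠ ⊥ := by
      rw [hH₀, Cfsg.fittingHallOf, ne_eq, Subgroup.map_eq_bot_iff_of_injective _ L.subtype_injective]
      exact hH1
    have hN : Subgroup.normalizer (H₀ : Set G) = L :=
      normalizer_eq_of_isCoatom hG hL hle h0 (fittingHallOf_normal L)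
    have hmapinf : H₀ ⊓ U.map L.subtype = ⊥ := by
      rw [hH₀, Cfsg.fittingHallOf, ← Subgroup.map_inf _ _ _ L.subtype_injective,
        disjoint_iff.mp hUc.disjoint, Subgroup.map_bot]
    have hmapsup : H₀ ⊔ U.map L.subtype = L := by
      rw [hH₀, Cfsg.fittingHallOf, ← Subgroup.map_sup, hUc.sup_eq_top, ← MonoidHom.range_eq_map,
        Subgroup.range_subtype]
    have h24 := Cfsg.Agent.S1524.result H₀ L (U.map L.subtype) hodd hle (Subgroup.map_subtype_le _) h0
      (by rw [ne_eq, Subgroup.map_eq_bot_iff_of_injective _ L.subtype_injective]; exact hU1)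
      (fittingHallOf_isNilpotent L) (fun x hx h hh => (Subgroup.mem_normalizer_iff.mp (hN.ge hx) h).mp hh)
      hmapinf hmapsup (by
        rintro _ ⟨w, hw, rfl⟩ hw1 _ ⟨h, hh, rfl⟩ hc
        exact congrArg Subtype.val (hfpf w hw (fun e => hw1 (by rw [e]; rfl)) h hh (Subtype.ext hc)))
      hTI hN
    rw [hH₀, fittingHallOf_subgroupOf, ← hHdef, ← coe_indAboveFinset, ← hS] at h24
    obtain ⟨hne, τ₁, hτ₁, hag⟩ := h24
    refine ⟨hne, τ₁, hτ₁, fun α hα => (hag α hα).trans (funext fun g => ?_)⟩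
    have hαc := isClassFunction_of_isGeneralizedCharacter (hgen α hα)
    have hR : ∀ a ∈ A, R a = ⊥ := by
      intro a ha
      have hCL : Subgroup.centralizer ({a} : Set G) ≤ L := by
        refine fun x hx => hN ▸ by_contra fun hxN => ?_
        have haL := hD.subset ha
        have hA' := (hA ⟨a, haL⟩).1 ha
        refine hA'.2 (Subtype.ext (hTI x hxN a (Subgroup.mem_map_of_mem _ hA'.1) ?_))
        rw [Subgroup.mem_centralizer_singleton_iff.mp hx, mul_inv_cancel_right]
        exact Subgroup.mem_map_of_mem _ hA'.1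
      refine le_bot_iff.mp fun x hx => (hD.inf_eq_bot a ha).le ⟨hx, ?_⟩
      exact ⟨hCL (hD.le_centralizer a ha hx), hD.le_centralizer a ha hx⟩
    have hzero : ∀ z : G, z ∉ A → Cfsg.extendByZero L α z = 0 := by
      intro z hz
      by_cases hzL : z ∈ L
      · rw [Cfsg.extendByZero]
        exact (Subtype.val_injective.extend_apply α 0 ⟨z, hzL⟩).trans (hsupp α hα _ hz)
      · exact Function.extend_apply' _ _ _ (by rintro ⟨y, rfl⟩; exact hzL y.2)
    show Cfsg.indFun L α g = τ α g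
    by_cases hg : ∃ a ∈ A, ∃ x₀ : G, x₀ * g * x₀⁻¹ = a
    · obtain ⟨a, ha, x₀, hx₀⟩ := hg
      have haL := hD.subset ha
      rw [show τ α g = α ⟨a, haL⟩ from dadeIsometry_apply hD hαc (a := ⟨a, haL⟩) (u := 1) (x := x₀)
        ha (Subgroup.one_mem _) (by simpa using hx₀)]
      have hterm : ∀ x : G, Cfsg.extendByZero L α (x⁻¹ * g * x) =
          if x⁻¹ * x₀⁻¹ ∈ L then α ⟨a, haL⟩ else 0 := by
        intro x
        have e : x⁻¹ * g * x = (x⁻¹ * x₀⁻¹) * a * (x⁻¹ * x₀⁻¹)⁻¹ := by rw [← hx₀]; group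
        by_cases hy : x⁻¹ * x₀⁻¹ ∈ L
        · rw [if_pos hy, e, ← hαc ⟨a, haL⟩ ⟨_, hy⟩]
          exact Subtype.val_injective.extend_apply α 0 ((⟨_, hy⟩ : L) * ⟨a, haL⟩ * (⟨_, hy⟩ : L)⁻¹)
        · rw [if_neg hy]
          refine hzero _ fun hz => ?_
          have h2 := hD.subset hz
          have hz' := (hA ⟨_, h2⟩).1 hz
          have ha' := (hA ⟨a, haL⟩).1 ha
          refine ha'.2 (Subtype.ext (hTI _ (fun hn => hy (hN ▸ hn)) a
            (Subgroup.mem_map_of_mem _ ha'.1) ?_))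
          rw [← e]
          exact Subgroup.mem_map_of_mem _ hz'.1
      have hcount : (Finset.univ.filter (fun x : G => x⁻¹ * x₀⁻¹ ∈ L)).card = Nat.card L := by
        rw [Nat.card_eq_fintype_card, ← Fintype.card_subtype]
        exact Fintype.card_congr
          { toFun := fun x => ⟨(x : G)⁻¹ * x₀⁻¹, x.2⟩
            invFun := fun y => ⟨x₀⁻¹ * (y : G)⁻¹, by simp⟩
            left_inv := fun x => Subtype.ext (by group)
            right_inv := fun y => Subtype.ext (by group) }
      simp only [Cfsg.indFun, hterm]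
      rw [Finset.sum_ite, Finset.sum_const, Finset.sum_const_zero, add_zero, hcount, nsmul_eq_mul,
        inv_mul_cancel_left₀ (Nat.cast_ne_zero.mpr Nat.card_pos.ne')]
    · rw [show τ α g = 0 from dadeIsometry_of_not_mem (by
        rintro ⟨a, ha, u, hu, x, e⟩
        have hu1 : u = 1 := Subgroup.mem_bot.mp (by rw [← hR a ha]; exact hu)
        rw [hu1, mul_one] at e
        exact hg ⟨a, ha, x, e⟩)]
      refine (mul_eq_zero.mpr (Or.inr (Finset.sum_eq_zero fun x _ => hzero _ fun hz => hg ?_)))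
      exact ⟨_, hz, x⁻¹, by rw [inv_inv]⟩
  · exact absurd (IsMulCommutative.of_map hab) hna
  · -- the exponent of `L/H` divides `p - 1`
    exfalso
    have hm0 : m ≠ 0 := fun e => hH1 (Subgroup.card_eq_one.mp (by rw [hm, e, pow_zero]))
    have hpd : p ∣ Nat.card (Cfsg.fittingHallOf L) := by
      rw [Cfsg.fittingHallOf, Subgroup.card_map_of_injective L.subtype_injective, ← hHdef, hm]
      exact dvd_pow_self p hm0
    have hexp' := hexp p hp hpd
    rw [Monoid.exponent_eq_of_mulEquiv (hUc.symm.QuotientMulEquiv),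
      exponent_eq_card_of_fpf hH1 (hodd.of_dvd_nat U.card_subgroup_dvd_card) hfpf,
      ← hUc.symm.index_eq_card] at hexp'
    obtain ⟨k, -, hk⟩ := (Nat.dvd_prime_pow hp).mp (hm ▸ Subgroup.relIndex_dvd_card ⁅H, H⁆ H)
    have hnilH : Group.IsNilpotent H := kernel_isNilpotent hC hH2
    have hlt : ⁅H, H⁆ < H := commutator_lt_kernel_step hnilH hH1 le_rfl
    have hk2 : 2 ≤ k := by
      by_contra hk2
      interval_cases k
      · exact hlt.not_ge (Subgroup.relIndex_eq_one.mp (by rw [hk, pow_zero]))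
      · haveI : ((⊥ : Subgroup L).subgroupOf H).Normal := inferInstance
        haveI := hnilH
        have hb : ⁅H, H⁆ = ⊥ := le_bot_iff.mp (commutator_le_of_prime (K := H) (H₁ := ⁅H, H⁆) ⊥
          inferInstance bot_le (by simp) (by rw [hk, pow_one]; exact hp))
        exact hna ⟨⟨fun a b => Subtype.ext (commutatorElement_eq_one_iff_mul_comm.mp
          (Subgroup.mem_bot.mp (hb ▸ Subgroup.commutator_mem_commutator a.2 b.2)))⟩⟩
    obtain ⟨a, ha⟩ := hoH.of_dvd_nat (hm ▸ dvd_pow_self p hm0)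
    obtain ⟨b, hb⟩ := hoe
    rw [ha, hb, Nat.add_sub_cancel] at hexp'
    have h2 : 2 * b + 1 ∣ a :=
      (Nat.coprime_two_right.mpr ⟨b, rfl⟩ : Nat.Coprime (2 * b + 1) 2).dvd_of_dvd_mul_left hexp'
    have hab := Nat.le_of_dvd (by have := hp.two_le; omega) h2
    have h3 : p ^ 2 ≤ 4 * H.index ^ 2 + 1 :=
      le_trans (Nat.pow_le_pow_right hp.pos hk2) (hk ▸ hsmall)
    rw [ha, hb] at h3
    nlinarith

/-- The form of S1542, given the Dade hypothesis. -/
theorem type_one_frobenius_coherent [Fintype G] (hG : Cfsg.IsMinSimpleOddOrder G) (L : Subgroup G)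
    [Fintype L] (hL : IsCoatom L) (hI : Cfsg.IsOfTypeI L)
    (hfrob : ∀ x ∈ Cfsg.fittingHallOf L, x ≠ 1 →
      L ⊓ Subgroup.centralizer ({x} : Set G) ≤ Cfsg.fittingHallOf L)
    (hD : Cfsg.DadeHypothesis (Cfsg.typeA L) L (Cfsg.supportR L)) :
    (∀ χ ∈ Cfsg.inducedIrrAbove (Cfsg.fittingHall L) ⊥, Cfsg.IsIrrCharacter L χ) ∧
      Cfsg.IsCoherent (Cfsg.inducedIrrAbove (Cfsg.fittingHall L) ⊥) {1}ᶜ
        (Cfsg.dadeIsometry (Cfsg.typeA L) L (Cfsg.supportR L)) := by
  refine frobenius_coherent hG L hL hI.1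
    (hI.2.imp_right (Or.imp And.left And.left)) hfrob _ _ (fun x => ?_) hD
  rw [Cfsg.typeA, if_pos hI]
  exact mem_kernel_iff hfrob x

end CfsgLib.PF
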