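import Cfsg.Agent.Lib.PF.Props8
import Cfsg.Agent.Lib.PF.Props12
import Cfsg.Agent.Lib.PF.TypeOneCoherence
import Cfsg.Agent.Lib.PF.DadePairs
import Cfsg.Agent.Lib.OddOrder.CliffordInd
import Cfsg.Agent.Lib.OddChar.FixedIrr
import Cfsg.Agent.Lib.OddChar.CoherenceExtend
import Cfsg.Agent.Lib.Characters.Counting

/-!
Peterfalvi (12.1)–(12.2): the coherence system of a maximal subgroup of Type I, given the Dade
hypothesis.
-/

set_option autoImplicit false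
set_option linter.style.haveILetI false

namespace CfsgLib.PF

universe u

open CfsgLib.OddChar CfsgLib.OddOrder CfsgLib.Characters
open scoped Classical ComplexConjugate

section Fixed

variable {X : Type u} [Group X] [Finite X]

/-- an element fixing a non-principal irreducible character of a normal subgroup centralises a
non-identity element of it -/
theorem exists_commute_of_fixes (H : Subgroup X) [hN : H.Normal] {θ : H → ℂ}
    (hθ : Cfsg.IsIrrCharacter H θ) (h1 : θ ≠ fun _ => 1) (y : X)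
    (hy : ∀ h : H, θ ⟨y * h * y⁻¹, hN.conj_mem h h.2 y⟩ = θ h) :
    ∃ h ∈ H, h ≠ 1 ∧ y * h = h * y := by
  by_contra hno
  push Not at hno
  obtain ⟨h, hh, hconj⟩ := (exists_fixed_irr_iff H y).mp ⟨θ, hθ, h1, funext hy⟩
  obtain ⟨c, hc⟩ := isConj_iff.mp hconj
  have hc' : (c : X) * (y * h * y⁻¹) * (c : X)⁻¹ = h := congrArg Subtype.val hc
  let f : H → H := fun t => ⟨(t : X) * (y * (t : X)⁻¹ * y⁻¹),
    H.mul_mem t.2 (hN.conj_mem _ (H.inv_mem t.2) y)⟩
  have hf : Function.Injective f := fun a b e => by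
    have e' : (a : X) * (y * (a : X)⁻¹ * y⁻¹) = (b : X) * (y * (b : X)⁻¹ * y⁻¹) :=
      congrArg Subtype.val e
    refine Subtype.ext (inv_mul_eq_one.mp (by_contra fun hne => hno _ (H.mul_mem (H.inv_mem b.2) a.2) hne ?_)).symm
    calc y * ((b : X)⁻¹ * a) = (b : X)⁻¹ * ((b : X) * (y * (b : X)⁻¹ * y⁻¹)) * y * a := by group
      _ = (b : X)⁻¹ * ((a : X) * (y * (a : X)⁻¹ * y⁻¹)) * y * a := by rw [e']
      _ = _ := by group
  obtain ⟨t, ht⟩ := (Finite.injective_iff_surjective.mp hf) c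
  have ht' : (t : X) * (y * (t : X)⁻¹ * y⁻¹) = c := congrArg Subtype.val ht
  refine hno ((t : X)⁻¹ * h * t) (H.mul_mem (H.mul_mem (H.inv_mem t.2) h.2) t.2)
    (fun e => hh (Subtype.ext ?_)) ?_
  · calc (h : X) = (t : X) * ((t : X)⁻¹ * h * t) * (t : X)⁻¹ := by group
      _ = 1 := by rw [e]; group
  · have h2 : ((c : X) * y) * h = h * ((c : X) * y) := by
      calc ((c : X) * y) * h = (c : X) * (y * h * y⁻¹) * (c : X)⁻¹ * ((c : X) * y) := by group
        _ = _ := by rw [hc']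
    have h3 : (c : X) * y = (t : X) * y * (t : X)⁻¹ := by rw [← ht']; group
    rw [h3] at h2
    calc y * ((t : X)⁻¹ * h * t) = (t : X)⁻¹ * ((t : X) * y * (t : X)⁻¹ * h) * t := by group
      _ = (t : X)⁻¹ * ((h : X) * ((t : X) * y * (t : X)⁻¹)) * t := by rw [h2]
      _ = _ := by group

end Fixed

theorem conjFun_indFun {X : Type u} [Group X] [Fintype X] (H : Subgroup X) (θ : H → ℂ) :
    Cfsg.conjFun (Cfsg.indFun H θ) = Cfsg.indFun H (Cfsg.conjFun θ) := by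
  funext g
  simp only [Cfsg.conjFun, Cfsg.indFun, map_mul, map_inv₀, map_natCast, map_sum]
  congr 1
  refine Finset.sum_congr rfl fun x _ => ?_
  by_cases hm : x⁻¹ * g * x ∈ H
  · rw [CfsgLib.Induction.extendByZero_mem _ _ hm, CfsgLib.Induction.extendByZero_mem _ _ hm]
    rfl
  · rw [CfsgLib.Induction.extendByZero_notMem _ _ hm, CfsgLib.Induction.extendByZero_notMem _ _ hm,
      map_zero]

section Main

variable {G : Type u} [Group G] [Fintype G] {L : Subgroup G} [Fintype L]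

/-- PF (12.1): the members of `calI` are sums of distinct irreducible characters vanishing outside
`A ∪ {1}`. -/
theorem exists_constituents {H U U₁ : Subgroup L} [Fintype H] [hN : H.Normal]
    (hodd : Odd (Nat.card L)) (hcop : (Nat.card H).Coprime H.index) (hUc : H.IsComplement' U)
    (hU₁ : IsMulCommutative U₁)
    (hcent : ∀ x ∈ H, x ≠ 1 → U ⊓ Subgroup.centralizer ({x} : Set L) ≤ U₁) {θ : H → ℂ}
    (hθ : Cfsg.IsIrrCharacter H θ) (h1 : θ ≠ fun _ => 1) :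
    ∃ C : Finset (L → ℂ), Cfsg.indFun H θ = ∑ ψ ∈ C, ψ ∧
      ∀ ψ ∈ C, Cfsg.IsIrrCharacter L ψ ∧ Cfsg.conjFun ψ ≠ ψ ∧
        ∀ g : L, ψ g ≠ 0 → g ≠ 1 → ∃ h ∈ H, h ≠ 1 ∧ g * h = h * g := by
  set T := CfsgLib.Clifford.inertia hN θ with hTdef
  have hT : ∀ g : L, g ∈ T ↔ ∀ h : H, θ ⟨g * h * g⁻¹, hN.conj_mem h h.2 g⟩ = θ h :=
    fun g => CfsgLib.Clifford.mem_inertia
  have hHT : H ≤ T := CfsgLib.Clifford.le_inertia hN
    (isClassFunction_of_isCharacter (isCharacter_of_irr hθ))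
  have hred : ∀ x ∈ T, ∃ h ∈ H, ∃ u ∈ U₁, x = h * u := by
    intro x hx
    obtain ⟨⟨⟨h, hh⟩, ⟨u, hu⟩⟩, rfl⟩ := hUc.2 x
    have huT : u ∈ T := by
      have := T.mul_mem (T.inv_mem (hHT hh)) hx
      simpa using this
    obtain ⟨k, hk, hk1, hkc⟩ := exists_commute_of_fixes H hθ h1 u ((hT u).mp huT)
    exact ⟨h, hh, u, hcent k hk hk1 ⟨hu, Subgroup.mem_centralizer_singleton_iff.mpr hkc⟩, rfl⟩
  have hab : ∀ x ∈ T, ∀ y ∈ T, x * y * x⁻¹ * y⁻¹ ∈ H := by
    intro x hx y hy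
    obtain ⟨a, ha, u, hu, rfl⟩ := hred x hx
    obtain ⟨b, hb, v, hv, rfl⟩ := hred y hy
    rw [← QuotientGroup.eq_one_iff]
    have ha' : (a : L ⧸ H) = 1 := (QuotientGroup.eq_one_iff a).mpr ha
    have hb' : (b : L ⧸ H) = 1 := (QuotientGroup.eq_one_iff b).mpr hb
    have huv : u * v = v * u := congrArg Subtype.val (hU₁.1.1 ⟨u, hu⟩ ⟨v, hv⟩)
    simp only [QuotientGroup.mk_mul, QuotientGroup.mk_inv, ha', hb', one_mul]
    rw [← QuotientGroup.mk_mul, huv, QuotientGroup.mk_mul]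
    group
  obtain ⟨k, C, -, hC, -, hsum, -, hk⟩ :=
    CfsgLib.OddOrder.CliffordInd.indFun_abelian_inertia H T hθ hT hab
  rw [hk (hcop.coprime_dvd_right (Subgroup.relIndex_dvd_index_of_normal H T)), Nat.cast_one, one_smul] at hsum
  refine ⟨C, hsum, fun ψ hψ => ?_⟩
  have hψc := isClassFunction_of_isCharacter (isCharacter_of_irr (hC ψ hψ))
  have hcon : Cfsg.classInner (fun n : H => ψ n) θ ≠ 0 := by
    have e : Cfsg.classInner (Cfsg.indFun H θ) ψ = 1 := by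
      rw [hsum, classInner_sum_left, Finset.sum_eq_single ψ
        (fun b hb hne => classInner_irr_ne (hC b hb) (hC ψ hψ) hne) (fun hn => absurd hψ hn),
        classInner_irr_self (hC ψ hψ)]
    rw [CfsgLib.Induction.classInner_indFun H θ hψc] at e
    rw [classInner_conj_symm, e, map_one]
    exact one_ne_zero
  refine ⟨hC ψ hψ, fun hreal => ?_, fun g hg hg1 => ?_⟩
  · have hp := real_irr_eq_one hodd ⟨ψ, hC ψ hψ⟩ fun g =>
      Complex.conj_eq_iff_im.mp (congrFun hreal g)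
    have hp' : ψ = fun _ => 1 := congrArg Subtype.val hp
    refine hcon ?_
    rw [hp']
    exact classInner_irr_ne (principalIrr H).2 hθ (Ne.symm h1)
  · haveI : Fintype T := Fintype.ofFinite _
    obtain ⟨η, -, hind, -⟩ := CfsgLib.Clifford.correspondence hN hθ T rfl hHT (hC ψ hψ) hcon
    by_contra hno
    push Not at hno
    refine hg ?_
    rw [← hind]
    refine CfsgLib.Induction.indFun_eq_zero_of_forall T fun x hx => ?_
    obtain ⟨h, hh, hh1, hc⟩ := exists_commute_of_fixes H hθ h1 _ ((hT _).mp hx)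
    refine hno (x * h * x⁻¹) (hN.conj_mem h hh x) (fun e => hh1 ?_) ?_
    · calc h = x⁻¹ * (x * h * x⁻¹) * x := by group
        _ = 1 := by rw [e]; group
    · calc g * (x * h * x⁻¹) = x * ((x⁻¹ * g * x) * h) * x⁻¹ := by group
        _ = x * (h * (x⁻¹ * g * x)) * x⁻¹ := by rw [hc]
        _ = _ := by group

/-- An induced non-principal character of odd order is not real. -/
theorem conjFun_indFun_ne {H : Subgroup L} [Fintype H] [hN : H.Normal] (hodd : Odd (Nat.card L))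
    {θ : H → ℂ} (hθ : Cfsg.IsIrrCharacter H θ) (h1 : θ ≠ fun _ => 1) :
    Cfsg.conjFun (Cfsg.indFun H θ) ≠ Cfsg.indFun H θ := by
  intro e
  rw [conjFun_indFun] at e
  obtain ⟨x, hx⟩ := conjChar_of_indFun_eq hN (conjFun_irr hθ) hθ e
  have hx2 : x * x ∈ CfsgLib.Clifford.inertia hN θ := by
    have e' : CfsgLib.Clifford.conjChar hN θ (x * x) = θ := by
      rw [← CfsgLib.Clifford.conjChar_mul, hx]
      funext n
      show conj (θ _) = θ n
      have := congrFun hx n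
      rw [show θ ⟨x * n * x⁻¹, hN.conj_mem n n.2 x⟩ = CfsgLib.Clifford.conjChar hN θ x n from rfl,
        this]
      simp [Cfsg.conjFun]
    exact e'
  obtain ⟨m, hm⟩ : Odd (orderOf x) := hodd.of_dvd_nat (orderOf_dvd_natCard x)
  have hxI : x ∈ CfsgLib.Clifford.inertia hN θ := by
    have : (x * x) ^ (m + 1) = x := by
      rw [← sq, ← pow_mul, show 2 * (m + 1) = orderOf x + 1 by omega, pow_succ, pow_orderOf_eq_one,
        one_mul]
    rw [← this]
    exact Subgroup.pow_mem _ hx2 _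
  rw [show CfsgLib.Clifford.conjChar hN θ x = θ from
    funext (CfsgLib.Clifford.mem_inertia.mp hxI)] at hx
  exact h1 (congrArg Subtype.val
    (real_irr_eq_one (hodd.of_dvd_nat H.card_subgroup_dvd_card) ⟨θ, hθ⟩ fun g =>
      Complex.conj_eq_iff_im.mp (congrFun hx g).symm))

end Main

/-- PF (12.2), given the Dade hypothesis of (8.15). -/
theorem subcoherentI {G : Type u} [Group G] [Fintype G] (hDade : PropDade G) : PropSubcoherentI G := by
  intro L hL hI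
  obtain ⟨⟨hsolv, hodd, hH1, hH2, U, hU1, hUc, ⟨U₁, -, -, hU₁, hcent⟩, -⟩, -⟩ := id hI
  set H := Cfsg.fittingHall L with hHdef
  haveI : Fintype H := Fintype.ofFinite H
  haveI hN : H.Normal := Cfsg.fittingHall_normal L
  set A := suppA0 L with hAdef
  have hD : Cfsg.DadeHypothesis A L (Cfsg.supportR L) := ((hDade L A hL) (Or.inr (Or.inr rfl))).2
  set τ := tau L with hτdef
  have hτ : τ = Cfsg.dadeIsometry A L (Cfsg.supportR L) := rfl
  have hA : ∀ g : L, g ≠ 1 → (∃ h ∈ H, h ≠ 1 ∧ g * h = h * g) → (g : G) ∈ A := by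
    rintro g hg ⟨h, hh, hh1, hc⟩
    refine Or.inl ?_
    rw [suppA, if_pos hI]
    exact ⟨g.2, fun e => hg (Subtype.ext e), h, Subgroup.mem_map_of_mem _ hh,
      fun e => hh1 (Subtype.ext e), congrArg Subtype.val hc⟩
  have hex : ∀ χ ∈ calI L, ∃ C : Finset (L → ℂ), χ = ∑ ψ ∈ C, ψ ∧
      ∀ ψ ∈ C, Cfsg.IsIrrCharacter L ψ ∧ Cfsg.conjFun ψ ≠ ψ ∧
        ∀ g : L, (g : G) ∉ A → g ≠ 1 → ψ g = 0 := by
    rintro χ ⟨θ, hθ, h1, -, rfl⟩
    obtain ⟨C, hC, hC'⟩ := exists_constituents hodd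
      (fittingHall_coprime_index (G := L)) hUc hU₁ hcent hθ h1
    exact ⟨C, hC, fun ψ hψ => ⟨(hC' ψ hψ).1, (hC' ψ hψ).2.1, fun g hg hg1 => by_contra fun h0 =>
      hg (hA g hg1 ((hC' ψ hψ).2.2 g h0 hg1))⟩⟩
  set Good : (L → ℂ) → Prop := fun ψ => Cfsg.IsIrrCharacter L ψ ∧ Cfsg.conjFun ψ ≠ ψ ∧
    ∀ g : L, (g : G) ∉ A → g ≠ 1 → ψ g = 0
  set d : (L → ℂ) → (L → ℂ) := fun ψ => ψ - Cfsg.conjFun ψ with hd
  obtain ⟨μ, P, hμP⟩ := exists_pairs hD Good (fun ψ hψ => ⟨hψ.1, hψ.2.1, hψ.2.2⟩)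
  obtain ⟨hPsigned, hPin, hPsum, hPorth, -⟩ := hμP
  set C : (L → ℂ) → Finset (L → ℂ) := fun χ => if h : χ ∈ calI L then (hex χ h).choose else ∅
    with hCdef
  have hC : ∀ χ ∈ calI L, χ = ∑ ψ ∈ C χ, ψ ∧ ∀ ψ ∈ C χ, Good ψ := fun χ h => by
    simp only [hCdef, dif_pos h]; exact (hex χ h).choose_spec
  have hmem : ∀ χ ∈ calI L, ∃ θ : H → ℂ, Cfsg.IsIrrCharacter H θ ∧ θ ≠ (fun _ => 1) ∧
      χ = Cfsg.indFun H θ := fun χ ⟨θ, a, b, _, e⟩ => ⟨θ, a, b, e⟩
  have horth : ∀ χ ∈ calI L, ∀ φ ∈ calI L, χ ≠ φ → Cfsg.classInner χ φ = 0 := by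
    intro χ hχ φ hφ hne
    obtain ⟨θ, hθ, -, rfl⟩ := hmem χ hχ
    obtain ⟨η, hη, -, rfl⟩ := hmem φ hφ
    exact indFun_inner_eq_zero hN hθ hη hne
  have hconjmem : ∀ χ ∈ calI L, Cfsg.conjFun χ ∈ calI L := by
    intro χ hχ
    obtain ⟨θ, hθ, h1, rfl⟩ := hmem χ hχ
    refine ⟨Cfsg.conjFun θ, conjFun_irr hθ, fun e => h1 ?_, fun a ha => ?_, conjFun_indFun H θ⟩
    · rw [← conjFun_conjFun θ, e]; funext x; simp [Cfsg.conjFun]
    · have : a = 1 := Subtype.ext (Subgroup.mem_bot.mp ha)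
      rw [this]
  have hconjne : ∀ χ ∈ calI L, Cfsg.conjFun χ ≠ χ := by
    intro χ hχ
    obtain ⟨θ, hθ, h1, rfl⟩ := hmem χ hχ
    exact conjFun_indFun_ne hodd hθ h1
  have hdisC : ∀ χ ∈ calI L, ∀ φ ∈ calI L, Cfsg.classInner χ φ = 0 →
      ∀ ψ ∈ C χ, ψ ∉ C φ := by
    intro χ hχ φ hφ h0 ψ hψ hψ'
    rw [(hC χ hχ).1, (hC φ hφ).1, classInner_sum_left] at h0
    have hval : ∀ a ∈ C χ, Cfsg.classInner a (∑ b ∈ C φ, b) =
        ((if a ∈ C φ then 1 else 0 : ℕ) : ℂ) := by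
      intro a ha
      rw [classInner_sum_right]
      split_ifs with h
      · rw [Finset.sum_eq_single a
          (fun b hb hne => classInner_irr_ne ((hC χ hχ).2 a ha).1 ((hC φ hφ).2 b hb).1 hne.symm)
          (fun hn => absurd h hn), classInner_irr_self ((hC χ hχ).2 a ha).1, Nat.cast_one]
      · rw [Nat.cast_zero]
        exact Finset.sum_eq_zero fun b hb => classInner_irr_ne ((hC χ hχ).2 a ha).1
          ((hC φ hφ).2 b hb).1 fun e => h (e ▸ hb)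
    rw [Finset.sum_congr rfl hval, ← Nat.cast_sum, Nat.cast_eq_zero,
      Finset.sum_eq_zero_iff] at h0
    simpa [hψ'] using h0 ψ hψ
  have hCconj : ∀ χ ∈ calI L, ∀ ψ ∈ C χ, Cfsg.conjFun ψ ∈ C (Cfsg.conjFun χ) := by
    intro χ hχ ψ hψ
    by_contra hnot
    have hz : Cfsg.classInner (Cfsg.conjFun χ) (Cfsg.conjFun ψ) = 0 := by
      rw [(hC _ (hconjmem χ hχ)).1, classInner_sum_left]
      exact Finset.sum_eq_zero fun b hb => classInner_irr_ne ((hC _ (hconjmem χ hχ)).2 b hb).1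
        (conjFun_irr ((hC χ hχ).2 ψ hψ).1) fun e => hnot (e ▸ hb)
    rw [classInner_conjFun, map_eq_zero, (hC χ hχ).1, classInner_sum_left,
      Finset.sum_eq_single ψ (fun b hb hne => classInner_irr_ne ((hC χ hχ).2 b hb).1
        ((hC χ hχ).2 ψ hψ).1 hne) (fun hn => absurd hψ hn),
      classInner_irr_self ((hC χ hχ).2 ψ hψ).1] at hz
    exact one_ne_zero hz
  have hpairwise : ∀ χ ∈ calI L, ∀ ψ ∈ C χ, ∀ φ ∈ C χ, ψ ≠ φ →
      ∀ α ∈ P ψ, ∀ β ∈ P φ, Cfsg.classInner α β = 0 := by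
    intro χ hχ ψ hψ φ hφ hne
    refine hPorth ψ φ ((hC χ hχ).2 ψ hψ) ((hC χ hχ).2 φ hφ) hne fun e => ?_
    exact hdisC χ hχ _ (hconjmem χ hχ) (horth χ hχ _ (hconjmem χ hχ) (hconjne χ hχ).symm) ψ hψ
      (e ▸ hCconj χ hχ φ hφ)
  have hsupp : ∀ α ∈ Cfsg.zspanOn (calI L) ({1}ᶜ : Set L), ∀ x : L, (x : G) ∉ A → α x = 0 := by
    intro α hα x hx
    by_cases hx1 : x = 1
    · exact hx1 ▸ zspanOn_compl_one.mp hα |>.2
    refine zspan_vanish (fun χ hχ => ?_) hα.1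
    obtain ⟨θ, -, -, rfl⟩ := hmem χ hχ
    exact CfsgLib.Induction.indFun_normal_eq_zero H
      (fun hxH => hx (hA x hx1 ⟨x, hxH, hx1, rfl⟩))
  have hgen : ∀ α ∈ Cfsg.zspanOn (calI L) ({1}ᶜ : Set L), Cfsg.IsGeneralizedCharacter L α := by
    intro α hα
    refine zspan_generalized (fun χ hχ => ?_) hα.1
    obtain ⟨θ, hθ, -, rfl⟩ := hmem χ hχ
    exact isGeneralizedCharacter_of_isCharacter
      (CfsgLib.Induction.isCharacter_indFun H (isCharacter_of_irr hθ))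
  refine ⟨fun χ => (C χ).biUnion P, ?_⟩
  constructor
  · haveI := hsolv
    obtain ⟨φ, hφ, -⟩ := exists_linear_above H inferInstance ⊥ (bot_lt_iff_ne_bot.mpr hH1)
    exact ⟨φ, hφ⟩
  · intro χ hχ
    obtain ⟨θ, hθ, -, rfl⟩ := hmem χ hχ
    exact CfsgLib.Induction.isCharacter_indFun H (isCharacter_of_irr hθ)
  · exact hconjmem
  · exact hconjne
  · exact ⟨fun α _ β _ => dadeIsometry_add α β, fun α _ n => dadeIsometry_zsmul n α,
      fun α hα β hβ => dade_isometry hD (isClassFunction_of_isGeneralizedCharacter (hgen α hα))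
        (hsupp α hα) (isClassFunction_of_isGeneralizedCharacter (hgen β hβ)),
      fun α hα => dade_virtual hD (hgen α hα) (hsupp α hα)⟩
  · exact fun α _ => dadeIsometry_one hD α
  · exact horth
  · intro χ hχ α hα β hβ
    obtain ⟨ψ, hψ, hα⟩ := Finset.mem_biUnion.mp hα
    obtain ⟨φ, hφ, hβ⟩ := Finset.mem_biUnion.mp hβ
    by_cases e : ψ = φ
    · subst e; exact hPin ψ ((hC χ hχ).2 ψ hψ) α hα β hβ
    · have h0 := hpairwise χ hχ ψ hψ φ hφ e α hα β hβ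
      rw [h0, if_neg]
      rintro rfl
      rw [(hPsigned ψ ((hC χ hχ).2 ψ hψ) α hα).norm_one] at h0
      exact one_ne_zero h0
  · intro χ hχ α hα
    obtain ⟨ψ, hψ, hα⟩ := Finset.mem_biUnion.mp hα
    exact (hPsigned ψ ((hC χ hχ).2 ψ hψ) α hα).generalized
  · intro χ hχ
    rw [Finset.sum_biUnion (fun ψ hψ φ hφ hne => Finset.disjoint_left.mpr fun α hα hα' =>
      one_ne_zero ((hPsigned ψ ((hC χ hχ).2 ψ hψ) α hα).norm_one.symm.trans
        (hpairwise χ hχ ψ hψ φ hφ hne α hα α hα'))),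
      Finset.sum_congr rfl fun ψ hψ => hPsum ψ ((hC χ hχ).2 ψ hψ)]
    have hlin : ∀ (s : Finset (L → ℂ)) (f : (L → ℂ) → (L → ℂ)),
        τ (∑ ψ ∈ s, f ψ) = ∑ ψ ∈ s, τ (f ψ) := by
      intro s f
      have hadd : ∀ a b, τ (a + b) = τ a + τ b := fun a b => by rw [hτ]; exact dadeIsometry_add a b
      exact map_sum (AddMonoidHom.mk' τ hadd) f s
    show τ (χ - Cfsg.conjFun χ) = ∑ ψ ∈ C χ, τ (d ψ)
    rw [← hlin]
    congr 1
    rw [hd, Finset.sum_sub_distrib, ← (hC χ hχ).1]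
    congr 1
    conv_lhs => rw [(hC χ hχ).1]
    funext g
    simp [Cfsg.conjFun, Finset.sum_apply]
  · intro χ hχ φ hφ h0 h0' α hα β hβ
    obtain ⟨ψ, hψ, hα⟩ := Finset.mem_biUnion.mp hα
    obtain ⟨ξ, hξ, hβ⟩ := Finset.mem_biUnion.mp hβ
    refine hPorth ψ ξ ((hC φ hφ).2 ψ hψ) ((hC χ hχ).2 ξ hξ) ?_ ?_ α hα β hβ
    · rintro rfl; exact hdisC φ hφ χ hχ h0 ψ hψ hξ
    · rintro rfl; exact hdisC φ hφ _ (hconjmem χ hχ) h0' _ hψ (hCconj χ hχ ξ hξ)

end CfsgLib.PF
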