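import Cfsg.Agent.Lib.PF.TIDataExists
import Cfsg.Agent.Lib.PF.DadePairs
import Cfsg.Agent.Lib.PF.SubcoherentI

/-!
PF (5.2)–(5.3), (8.15): the coherence system of a maximal subgroup of type P.
-/

set_option autoImplicit false
set_option linter.style.haveILetI false

namespace CfsgLib.PF

universe u

open CfsgLib.OddChar CfsgLib.Characters
open scoped Classical ComplexConjugate

variable {G : Type u} [Group G] [Fintype G]

section Columns

set_option linter.unusedSectionVars false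

variable {W₁ W₂ : Subgroup G}

theorem hom_inv_inv (a : ↥(W₁ ⊔ W₂) →* ℂˣ) : a⁻¹⁻¹ = a := MonoidHom.ext fun w => by simp

theorem hom_inv_one : (1 : ↥(W₁ ⊔ W₂) →* ℂˣ)⁻¹ = 1 := MonoidHom.ext fun w => by simp

theorem not_agreeR_inv {ω : ↥(W₁ ⊔ W₂) →* ℂˣ} (hodd : Odd (Nat.card ↥(W₁ ⊔ W₂)))
    (h : ¬ AgreeR W₁ W₂ ω 1) : ¬ AgreeR W₁ W₂ ω ω⁻¹ := by
  intro he
  refine h fun w hw => ?_
  have h2 : ω w * ω w = 1 := by
    nth_rw 2 [he w hw]
    rw [MonoidHom.inv_apply, mul_inv_cancel]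
  obtain ⟨k, hk⟩ : Odd (orderOf w) := hodd.of_dvd_nat (orderOf_dvd_natCard w)
  have h3 : ω w ^ (2 * k + 1) = 1 := by rw [← hk, ← map_pow, pow_orderOf_eq_one, map_one]
  rw [pow_succ, pow_mul, pow_two, h2, one_pow, one_mul] at h3
  rw [h3, MonoidHom.one_apply]

theorem agreeR_inv {a b : ↥(W₁ ⊔ W₂) →* ℂˣ} (h : AgreeR W₁ W₂ a b) : AgreeR W₁ W₂ a⁻¹ b⁻¹ :=
  fun w hw => by rw [MonoidHom.inv_apply, MonoidHom.inv_apply, h w hw]

/-- A generalised character of norm two, negated by conjugation and vanishing on `W - (W₁ ∪ W₂)`,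
is orthogonal to the cyclic family. -/
theorem family_orth (hW : Cfsg.IsSelfNormalizingCyclic W₁ W₂) (hodd : Odd (Nat.card ↥(W₁ ⊔ W₂)))
    {η : (↥(W₁ ⊔ W₂) →* ℂˣ) → (G → ℂ)} (hη : Cfsg.IsCyclicTIFamily W₁ W₂ η)
    (hηc : ∀ ω, η ω⁻¹ = Cfsg.conjFun (η ω)) {θ : G → ℂ} (hgen : Cfsg.IsGeneralizedCharacter G θ)
    (hnorm : Cfsg.classInner θ θ = 2) (hc : Cfsg.conjFun θ = -θ)
    (hoff : ∀ w : ↥(W₁ ⊔ W₂), (w : G) ∉ W₁ → (w : G) ∉ W₂ → θ w = 0) :
    ∀ ω, Cfsg.classInner θ (η ω) = 0 := by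
  haveI := Fintype.ofFinite ↥(W₁ ⊔ W₂)
  haveI := finite_linChar hW
  haveI := Fintype.ofFinite (↥(W₁ ⊔ W₂) →* ℂˣ)
  obtain ⟨-, -, hdisj, hcomm, -, -⟩ := id hW
  have hint : ∀ ω, ∃ n : ℤ, Cfsg.classInner θ (η ω) = n := fun ω =>
    classInner_generalized_int hgen (family_signed hη ω).generalized
  choose c hcs using hint
  have hinv : ∀ ω, c ω⁻¹ = -c ω := by
    intro ω
    have h := classInner_conjFun θ (η ω)
    rw [hc, ← hηc, classInner_neg_left, hcs, hcs, map_intCast] at h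
    have : ((c ω⁻¹ : ℤ) : ℂ) = ((-c ω : ℤ) : ℂ) := by push_cast; linear_combination -h
    exact_mod_cast this
  have h1 : c 1 = 0 := by
    have := hinv 1
    rw [show (1 : ↥(W₁ ⊔ W₂) →* ℂˣ)⁻¹ = 1 from MonoidHom.ext fun w => by simp] at this
    omega
  have hrel : ∀ φ ψ, TrivR φ → TrivL ψ → c (φ * ψ) = c φ + c ψ := by
    intro φ ψ hφ hψ
    have h := family_coeff η hη (isClassFunction_of_isGeneralizedCharacter hgen) hφ hψ
    have hz : Cfsg.classInner (fun w : ↥(W₁ ⊔ W₂) => θ w) (ctiAlpha φ ψ) = 0 := by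
      simp only [Cfsg.classInner]
      refine mul_eq_zero_of_right _ (Finset.sum_eq_zero fun w _ => ?_)
      by_cases hw : (w : G) ∈ W₁ ∨ (w : G) ∈ W₂
      · rw [ctiAlpha_vanish hφ hψ w hw, map_zero, mul_zero]
      · rw [not_or] at hw
        rw [hoff w hw.1 hw.2, zero_mul]
    rw [hz, hcs, hcs, hcs, hcs, h1, Int.cast_zero, add_zero] at h
    have : ((c (φ * ψ) : ℤ) : ℂ) = ((c φ + c ψ : ℤ) : ℂ) := by push_cast; linear_combination h
    exact_mod_cast this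
  have hb : ∑ ω, c ω * c ω ≤ 2 := by
    have := TILocal.family_bessel hη c hcs
    rw [hnorm, show ((2 : ℂ).re) = ((2 : ℤ) : ℝ) by norm_num] at this
    exact_mod_cast this
  have honly : ∀ ω, c ω ≠ 0 → ω⁻¹ ≠ ω → ∀ ω', ω' ≠ ω → ω' ≠ ω⁻¹ → c ω' = 0 := by
    intro ω hω hne ω' h h'
    by_contra h0
    have hsub := Finset.sum_le_sum_of_subset_of_nonneg (Finset.subset_univ ({ω, ω⁻¹, ω'} : Finset _))
      (f := fun x => c x * c x) (fun x _ _ => mul_self_nonneg (c x))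
    rw [Finset.sum_insert (by simp [hne.symm, h.symm]), Finset.sum_pair h'.symm, hinv] at hsub
    nlinarith [mul_self_pos.mpr hω, mul_self_pos.mpr h0]
  have hneinv : ∀ ω, c ω ≠ 0 → ω⁻¹ ≠ ω := fun ω hω e => by
    have := hinv ω
    rw [e] at this
    omega
  have hcard := three_le_card hW hodd
  have htR1 : TrivR (1 : ↥(W₁ ⊔ W₂) →* ℂˣ) := fun w _ => rfl
  have htL1 : TrivL (1 : ↥(W₁ ⊔ W₂) →* ℂˣ) := fun w _ => rfl
  have hrowzero : ∀ φ, TrivR φ → c φ = 0 := by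
    intro φ hφ
    by_contra h0
    haveI : Nontrivial {ψ : ↥(W₁ ⊔ W₂) →* ℂˣ // TrivL ψ} :=
      Finite.one_lt_card_iff_nontrivial.mp (by rw [card_trivL hW]; omega)
    obtain ⟨⟨ψ, hψ⟩, hψne⟩ := exists_ne (⟨1, htL1⟩ : {ψ : ↥(W₁ ⊔ W₂) →* ℂˣ // TrivL ψ})
    have hψ1 : ψ ≠ 1 := fun e => hψne (Subtype.ext e)
    have hφi : TrivR φ⁻¹ := fun w hw => by rw [MonoidHom.inv_apply, hφ w hw, inv_one]
    have key : ∀ a b, TrivR a → TrivR b → a * ψ ≠ b := fun a b ha hb e =>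
      hψ1 (mul_inj_trivR_trivL hdisj hcomm ha hb hψ htL1 (e.trans (mul_one b).symm)).2
    have hψeq : ∀ b, TrivR b → ψ ≠ b := fun b hb e => key 1 b htR1 hb ((one_mul ψ).trans e)
    have := hrel φ ψ hφ hψ
    rw [honly φ h0 (hneinv φ h0) _ (key φ φ hφ hφ) (key φ φ⁻¹ hφ hφi),
      honly φ h0 (hneinv φ h0) _ (hψeq φ hφ) (hψeq φ⁻¹ hφi)] at this
    omega
  have hcolzero : ∀ ψ, TrivL ψ → c ψ = 0 := by
    intro ψ hψ
    by_contra h0
    haveI : Nontrivial {φ : ↥(W₁ ⊔ W₂) →* ℂˣ // TrivR φ} :=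
      Finite.one_lt_card_iff_nontrivial.mp (by rw [card_trivR hW]; omega)
    obtain ⟨⟨φ, hφ⟩, hφne⟩ := exists_ne (⟨1, htR1⟩ : {φ : ↥(W₁ ⊔ W₂) →* ℂˣ // TrivR φ})
    have hφ1 : φ ≠ 1 := fun e => hφne (Subtype.ext e)
    have hψi : TrivL ψ⁻¹ := fun w hw => by rw [MonoidHom.inv_apply, hψ w hw, inv_one]
    have key : ∀ a b, TrivL a → TrivL b → φ * a ≠ b := fun a b ha hb e =>
      hφ1 (mul_inj_trivR_trivL hdisj hcomm hφ htR1 ha hb (e.trans (one_mul b).symm)).1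
    have hφeq : ∀ b, TrivL b → φ ≠ b := fun b hb e => key 1 b htL1 hb ((mul_one φ).trans e)
    have := hrel φ ψ hφ hψ
    rw [honly ψ h0 (hneinv ψ h0) _ (key ψ ψ hψ hψ) (key ψ ψ⁻¹ hψ hψi),
      honly ψ h0 (hneinv ψ h0) _ (hφeq ψ hψ) (hφeq ψ⁻¹ hψi)] at this
    omega
  intro ω
  obtain ⟨φ, ψ, hφ, hψ, rfl⟩ := exists_trivR_mul_trivL hdisj hcomm ω
  rw [hcs, hrel φ ψ hφ hψ, hrowzero φ hφ, hcolzero ψ hψ, add_zero, Int.cast_zero]

end Columns

/-- The members of `calS M M_s ⊥` vanish outside `A(M) ∪ {1}`. -/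
theorem calS_core_vanish (hT : PropTypes G) {M W₁ U W₂ : Subgroup G} (hM : IsCoatom M)
    (hP : Cfsg.IsTypePWith M W₁ U W₂) {θ : ↥((⁅M, M⁆ : Subgroup G).subgroupOf M) → ℂ}
    (hθ : Cfsg.IsIrrCharacter ↥((⁅M, M⁆ : Subgroup G).subgroupOf M) θ)
    (hker : ∃ a : ↥((⁅M, M⁆ : Subgroup G).subgroupOf M),
      ((a : M) : G) ∈ Cfsg.typeCore M ∧ θ a ≠ θ 1)
    {x : M} (hx : (x : G) ∉ suppA M) (hx1 : x ≠ 1) :
    Cfsg.indFun ((⁅M, M⁆ : Subgroup G).subgroupOf M) θ x = 0 := by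
  set K := (⁅M, M⁆ : Subgroup G).subgroupOf M with hK
  by_cases hxK : x ∈ K
  swap
  · exact CfsgLib.Induction.indFun_normal_eq_zero K hxK
  obtain ⟨hcK, -, hcN⟩ := typeCore_props hP
  haveI := hcN
  obtain ⟨n, ρ, hρ, rfl⟩ := hθ
  haveI := hρ
  rw [CfsgLib.Induction.indFun_normal_apply K _ ⟨x, hxK⟩]
  refine mul_eq_zero_of_right _ (Finset.sum_eq_zero fun y _ => ?_)
  refine Cfsg.Agent.S0181.result ρ (((Cfsg.typeCore M).subgroupOf M).subgroupOf K) ?_ _
    fun h hh hc => ?_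
  · obtain ⟨a, ha, ha'⟩ := hker
    refine ⟨a, ha, fun e => ha' ?_⟩
    rw [show ρ.character 1 = (Module.finrank ℂ (Fin n → ℂ) : ℂ) from Representation.char_one ρ]
    exact (char_eq_degree_iff ρ a).mpr e
  · by_contra hh1
    refine hx ?_
    rw [suppA_eq_centSupp hT hM hP]
    refine ⟨hxK, fun e => hx1 (Subtype.ext e), (y⁻¹ * ((h : M)) * y : M), ?_, fun e => hh1 ?_, ?_⟩
    · have := hcN.conj_mem (h : M) hh y⁻¹
      simpa [Subgroup.mem_subgroupOf] using this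
    · refine Subtype.ext ?_
      have e' : y⁻¹ * (h : M) * y = 1 := Subtype.ext e
      calc (h : M) = y * (y⁻¹ * (h : M) * y) * y⁻¹ := by group
        _ = 1 := by rw [e']; group
    · have hc' : (h : M) * (y * x * y⁻¹) = (y * x * y⁻¹) * (h : M) := congrArg Subtype.val hc
      have e' : x * (y⁻¹ * (h : M) * y) = (y⁻¹ * (h : M) * y) * x := by
        calc x * (y⁻¹ * (h : M) * y) = y⁻¹ * ((y * x * y⁻¹) * (h : M)) * y := by group
          _ = y⁻¹ * ((h : M) * (y * x * y⁻¹)) * y := by rw [hc']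
          _ = _ := by group
      exact congrArg Subtype.val e'

/-- PF (5.2)–(5.3) for type P, given (8.15). -/
theorem subcoherentP (hG : Cfsg.IsMinSimpleOddOrder G) (hT : PropTypes G) (hD : PropDade G) :
    PropSubcoherentP G := by
  intro M W₁ U W₂ hM hP μ δ η hd
  have hW := hP.selfNormalizing
  have hoddW := odd_W hG hP
  have hoddM : Odd (Nat.card M) := hG.1.of_dvd_nat (Subgroup.card_subgroup_dvd_card M)
  haveI := finite_linChar hW
  haveI := Fintype.ofFinite (↥(W₁ ⊔ W₂) →* ℂˣ)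
  obtain ⟨hW₁M, hdM, hHd, hW₂H, hWM⟩ := typeP_le hP
  obtain ⟨hcK, hW₂c, hcN⟩ := typeCore_props hP
  haveI := hcN
  obtain ⟨-, -, hdisj, hcomm, -, -⟩ := id hW
  set K := (⁅M, M⁆ : Subgroup G).subgroupOf M with hKdef
  set Kh := (Cfsg.typeCore M).subgroupOf M with hKh
  haveI hKn : K.Normal := derived_subgroupOf_normal M
  have hDd := dade hT hD hM hP
  set S := calS M (Cfsg.typeCore M) ⊥ with hS
  set col : (↥(W₁ ⊔ W₂) →* ℂˣ) → Finset (↥(W₁ ⊔ W₂) →* ℂˣ) :=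
    fun ω => Finset.univ.filter fun ω' => AgreeR W₁ W₂ ω ω' with hcol
  set ind : (↥(W₁ ⊔ W₂) →* ℂˣ) → (↥M → ℂ) :=
    fun ω => Cfsg.indFun K (resD M (μ ω)) with hind
  have hmemcol : ∀ ω ω', ω' ∈ col ω ↔ AgreeR W₁ W₂ ω ω' := fun ω ω' => by simp [hcol]
  have hself : ∀ ω, AgreeR W₁ W₂ ω ω := fun ω w _ => rfl
  have hsymm : ∀ {a b}, AgreeR W₁ W₂ a b → AgreeR W₁ W₂ b a := fun h w hw => (h w hw).symm
  have htrans : ∀ {a b c}, AgreeR W₁ W₂ a b → AgreeR W₁ W₂ b c → AgreeR W₁ W₂ a c :=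
    fun h h' w hw => (h w hw).trans (h' w hw)
  have hindsum : ∀ ω, ind ω = ∑ ω' ∈ col ω, μ ω' := fun ω => by
    rw [hind]
    refine (hd.ind_res ω).trans ?_
    rw [finsum_mem_eq_finite_toFinset_sum _ (Set.toFinite _)]
    exact Finset.sum_congr (by ext x; simp [hcol]) fun _ _ => rfl
  have hinnerμ : ∀ a b, Cfsg.classInner (μ a) (μ b) = if a = b then 1 else 0 := by
    intro a b
    split_ifs with h
    · rw [h, classInner_irr_self (hd.μ_irr b)]
    · exact classInner_irr_ne (hd.μ_irr a) (hd.μ_irr b) fun e => h (hd.μ_inj e)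
  have hindinner : ∀ ω a, Cfsg.classInner (ind ω) (μ a) = if AgreeR W₁ W₂ ω a then 1 else 0 := by
    intro ω a
    rw [hindsum, classInner_sum_left, Finset.sum_congr rfl fun b _ => hinnerμ b a,
      Finset.sum_ite_eq']
    simp [hmemcol]
  have hindeq : ∀ {ω ω₁}, ind ω = ind ω₁ → AgreeR W₁ W₂ ω ω₁ := by
    intro ω ω₁ e
    have h := hindinner ω ω₁
    rw [e, hindinner ω₁ ω₁, if_pos (hself ω₁)] at h
    by_contra hne
    rw [if_neg hne] at h
    exact one_ne_zero h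
  have hnotirr : ∀ ω, ¬ Cfsg.IsIrrCharacter M (ind ω) := by
    intro ω h
    have hcard := three_le_card hW hoddW
    haveI : Nontrivial {φ : ↥(W₁ ⊔ W₂) →* ℂˣ // TrivR φ} :=
      Finite.one_lt_card_iff_nontrivial.mp (by rw [card_trivR hW]; omega)
    obtain ⟨⟨φ, hφ⟩, hφne⟩ :=
      exists_ne (⟨1, fun w _ => rfl⟩ : {φ : ↥(W₁ ⊔ W₂) →* ℂˣ // TrivR φ})
    have heq : ∀ a, AgreeR W₁ W₂ ω a → ind ω = μ a := fun a ha => by
      by_contra hne
      have := hindinner ω a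
      rw [if_pos ha, classInner_irr_ne h (hd.μ_irr a) hne] at this
      exact zero_ne_one this
    have h2 : AgreeR W₁ W₂ ω (φ * ω) := fun w hw => by
      rw [MonoidHom.mul_apply, hφ w hw, one_mul]
    have := hd.μ_inj ((heq ω (hself ω)).symm.trans (heq _ h2))
    refine hφne (Subtype.ext (MonoidHom.ext fun w => ?_))
    have h3 := DFunLike.congr_fun this.symm w
    rw [MonoidHom.mul_apply, mul_eq_right] at h3
    exact h3
  set Good : (↥M → ℂ) → Prop := fun χ => Cfsg.IsIrrCharacter M χ ∧ χ ∈ S with hGood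
  have hmem : ∀ χ ∈ S, ∃ θ : K → ℂ, Cfsg.IsIrrCharacter K θ ∧ θ ≠ (fun _ => 1) ∧
      χ = Cfsg.indFun K θ ∧ ∃ a : K, ((a : M) : G) ∈ Cfsg.typeCore M ∧ θ a ≠ θ 1 := by
    rintro χ ⟨⟨θ, hθ, h1, -, rfl⟩, hnot⟩
    refine ⟨θ, hθ, h1, rfl, ?_⟩
    by_contra hall
    push Not at hall
    exact hnot ⟨θ, hθ, h1, fun a ha => hall a ha, rfl⟩
  have hchar : ∀ χ ∈ S, Cfsg.IsCharacter M χ := fun χ hχ => by
    obtain ⟨θ, hθ, -, rfl, -⟩ := hmem χ hχ
    exact CfsgLib.Induction.isCharacter_indFun K (isCharacter_of_irr hθ)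
  have hvanish : ∀ χ ∈ S, ∀ x : M, (x : G) ∉ suppA0 M → x ≠ 1 → χ x = 0 := by
    intro χ hχ x hx hx1
    obtain ⟨θ, hθ, -, rfl, hker⟩ := hmem χ hχ
    exact calS_core_vanish hT hM hP hθ hker (fun h => hx (Or.inl h)) hx1
  have hoffW : ∀ χ ∈ S, ∀ x : M, (x : G) ∈ W₁ ⊔ W₂ → (x : G) ∉ W₂ → χ x = 0 := by
    intro χ hχ x hx hx2
    obtain ⟨θ, hθ, -, rfl, -⟩ := hmem χ hχ
    refine CfsgLib.Induction.indFun_normal_eq_zero K ?_
    refine TILocal.notMem_K (typeP_TPL hP) ?_ hx2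
    rw [← Subgroup.subgroupOf_sup hW₁M (le_sup_right.trans hWM)]
    exact hx
  have horth : ∀ χ ∈ S, ∀ φ ∈ S, χ ≠ φ → Cfsg.classInner χ φ = 0 := by
    intro χ hχ φ hφ hne
    obtain ⟨θ, hθ, -, rfl, -⟩ := hmem χ hχ
    obtain ⟨ζ, hζ, -, rfl, -⟩ := hmem φ hφ
    exact indFun_inner_eq_zero hKn hθ hζ hne
  have hnorm : ∀ χ ∈ S, Cfsg.classInner χ χ ≠ 0 := by
    intro χ hχ h
    obtain ⟨θ, hθ, -, rfl, -⟩ := hmem χ hχ
    have h1 := congrFun (eq_zero_of_classInner_self h) 1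
    rw [CfsgLib.Induction.indFun_one_apply] at h1
    obtain ⟨m, hm0, hm⟩ := irr_exists_degree hθ
    simp [hm, hm0.ne', Subgroup.index_ne_zero_of_finite] at h1
  have hconjmem : ∀ χ ∈ S, Cfsg.conjFun χ ∈ S := fun χ hχ =>
    ⟨indAbove_conj K _ hχ.1, fun h => hχ.2 (by
      have := indAbove_conj K _ h
      rwa [conjFun_conjFun] at this)⟩
  have hconjne : ∀ χ ∈ S, Cfsg.conjFun χ ≠ χ := by
    intro χ hχ
    obtain ⟨θ, hθ, h1, rfl, -⟩ := hmem χ hχ
    exact conjFun_indFun_ne hoddM hθ h1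
  obtain ⟨m, P, hPsigned, hPin, hPsum, hPorth, hPμ⟩ := exists_pairs hDd Good
    fun χ hχ => ⟨hχ.1, hconjne χ hχ.2, hvanish χ hχ.2⟩
  have hred : ∀ χ ∈ S, ¬ Cfsg.IsIrrCharacter M χ → ∃ ω, ¬ AgreeR W₁ W₂ ω 1 ∧ χ = ind ω := by
    intro χ hχ hni
    obtain ⟨θ, hθ, h1, rfl, -⟩ := hmem χ hχ
    obtain ⟨ω, rfl⟩ := hd.reducible θ hθ hni
    refine ⟨ω, fun h => h1 (funext fun x => ?_), rfl⟩
    exact (hd.trivial_col ω h).2 x x.2
  set RC : (↥(W₁ ⊔ W₂) →* ℂˣ) → Finset (G → ℂ) := fun ω =>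
    (col ω).image (fun ω' => δ ω • η ω') ∪ (col ω).image (fun ω' => -(δ ω • η ω'⁻¹)) with hRC
  have hmemRC : ∀ ω α, α ∈ RC ω ↔ ∃ ω', AgreeR W₁ W₂ ω ω' ∧
      (α = δ ω • η ω' ∨ α = -(δ ω • η ω'⁻¹)) := by
    intro ω α
    simp only [hRC, Finset.mem_union, Finset.mem_image, hmemcol]
    constructor
    · rintro (⟨a, ha, rfl⟩ | ⟨a, ha, rfl⟩)
      · exact ⟨a, ha, Or.inl rfl⟩
      · exact ⟨a, ha, Or.inr rfl⟩
    · rintro ⟨a, ha, rfl | rfl⟩
      · exact Or.inl ⟨a, ha, rfl⟩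
      · exact Or.inr ⟨a, ha, rfl⟩
  have hRCeq : ∀ {ω ω₁}, AgreeR W₁ W₂ ω ω₁ → RC ω = RC ω₁ := by
    intro ω ω₁ h
    have : col ω = col ω₁ := by
      ext a
      rw [hmemcol, hmemcol]
      exact ⟨htrans (hsymm h), htrans h⟩
    simp only [hRC, this, hd.δ_col ω ω₁ h]
  set R : (↥M → ℂ) → Finset (G → ℂ) := fun χ =>
    if h : ∃ ω, ¬ AgreeR W₁ W₂ ω 1 ∧ χ = ind ω then RC h.choose else P χ with hR
  have hRind : ∀ ω, ¬ AgreeR W₁ W₂ ω 1 → R (ind ω) = RC ω := by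
    intro ω hω
    have h : ∃ ω', ¬ AgreeR W₁ W₂ ω' 1 ∧ ind ω = ind ω' := ⟨ω, hω, rfl⟩
    simp only [hR, dif_pos h]
    exact hRCeq (hsymm (hindeq h.choose_spec.2))
  have hRirr : ∀ χ, Cfsg.IsIrrCharacter M χ → R χ = P χ := fun χ hχ =>
    dif_neg fun ⟨ω, _, e⟩ => hnotirr ω (e ▸ hχ)
  have hδsq : ∀ ω, δ ω * conj (δ ω) = 1 := fun ω => by
    rcases hd.δ_sign ω with h | h <;> simp [h]
  have hηin : ∀ a b, Cfsg.classInner (η a) (η b) = if a = b then 1 else 0 := fun a b => by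
    rw [hd.family.orthonormal]
    split_ifs <;> rfl
  have hRCrep : ∀ ω, ∀ α ∈ RC ω, ∃ a, ∃ s : ℂ, (s = 1 ∨ s = -1) ∧ α = (s * δ ω) • η a ∧
      ((AgreeR W₁ W₂ ω a ∧ s = 1) ∨ (AgreeR W₁ W₂ ω a⁻¹ ∧ s = -1)) := by
    intro ω α hα
    obtain ⟨a, ha, rfl | rfl⟩ := (hmemRC ω α).mp hα
    · exact ⟨a, 1, Or.inl rfl, by rw [one_mul], Or.inl ⟨ha, rfl⟩⟩
    · exact ⟨a⁻¹, -1, Or.inr rfl, by rw [neg_one_mul, neg_smul],
        Or.inr ⟨by rwa [show a⁻¹⁻¹ = a from MonoidHom.ext fun w => by simp], rfl⟩⟩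
  have hPη : ∀ χ ∈ S, Cfsg.IsIrrCharacter M χ → ∀ α ∈ P χ, ∀ ω,
      Cfsg.classInner α (η ω) = 0 := by
    intro χ hχ hirr
    have hg : Good χ := ⟨hirr, hχ⟩
    obtain ⟨hs, h0, hτ, hPeq⟩ := hPμ χ hg
    set β := m χ
    have hself' : Cfsg.classInner (β - Cfsg.conjFun β) (β - Cfsg.conjFun β) = 2 := by
      rw [classInner_sub_left, classInner_sub_right, classInner_sub_right, hs.norm_one,
        (conjFun_signed hs).norm_one, h0,
        show Cfsg.classInner (Cfsg.conjFun β) β = 0 by rw [classInner_conj_symm, h0, map_zero]]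
      norm_num
    have hanti : Cfsg.conjFun (β - Cfsg.conjFun β) = -(β - Cfsg.conjFun β) := by
      funext g
      simp [Cfsg.conjFun]
    have hgen : Cfsg.IsGeneralizedCharacter G (β - Cfsg.conjFun β) :=
      isGeneralizedCharacter_sub hs.generalized (conjFun_signed hs).generalized
    have hz := family_orth hW hoddW hd.family hd.η_conj hgen hself' hanti fun w h₁ h₂ => by
      rw [← hτ]
      show tau M _ w = 0
      rw [tau_hat hT hD hM hP (isClassFunction_of_isGeneralizedCharacter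
        (isGeneralizedCharacter_sub (isGeneralizedCharacter_irr ⟨χ, hirr⟩)
          (isGeneralizedCharacter_irr ⟨_, conjFun_irr hirr⟩))) w h₁ h₂ (hWM w.2),
        Pi.sub_apply]
      show χ _ - Cfsg.conjFun χ _ = 0
      rw [hoffW χ hχ _ w.2 h₂, hoffW _ (hconjmem χ hχ) _ w.2 h₂, sub_zero]
    have hzero : ∀ ω, Cfsg.classInner β (η ω) = 0 := by
      intro ω
      have h := hz ω
      rw [classInner_sub_left] at h
      have hs' : Cfsg.classInner (Cfsg.conjFun β) β = 0 := by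
        rw [classInner_conj_symm, h0, map_zero]
      rcases (family_signed hd.family ω).cases hs with e | e | e
      · rw [e, hs.norm_one, hs', sub_zero] at h
        exact absurd h one_ne_zero
      · rw [e, classInner_neg_right, classInner_neg_right, hs.norm_one, hs'] at h
        norm_num at h
      · rw [classInner_conj_symm, e, map_zero]
    intro α hα ω
    rw [hPeq, Finset.mem_insert, Finset.mem_singleton] at hα
    rcases hα with rfl | rfl
    · exact hzero ω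
    · have := classInner_conjFun β (η ω⁻¹)
      rw [← hd.η_conj, show ω⁻¹⁻¹ = ω from MonoidHom.ext fun w => by simp, hzero, map_zero] at this
      rw [classInner_neg_left, this, neg_zero]
  have hcases : ∀ χ ∈ S, (Good χ ∧ R χ = P χ) ∨
      ∃ ω, ¬ AgreeR W₁ W₂ ω 1 ∧ χ = ind ω ∧ R χ = RC ω := by
    intro χ hχ
    by_cases hi : Cfsg.IsIrrCharacter M χ
    · exact Or.inl ⟨⟨hi, hχ⟩, hRirr χ hi⟩
    · obtain ⟨ω, hω, rfl⟩ := hred χ hχ hi
      exact Or.inr ⟨ω, hω, rfl, hRind ω hω⟩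
  have hmixed : ∀ χ, Good χ → ∀ ω, ∀ α ∈ P χ, ∀ β ∈ RC ω, Cfsg.classInner α β = 0 := by
    intro χ hχ ω α hα β hβ
    obtain ⟨a, s, -, rfl, -⟩ := hRCrep ω β hβ
    rw [classInner_smul_right, hPη χ hχ.2 hχ.1 α hα a, mul_zero]
  have hindconj : ∀ ω, Cfsg.conjFun (ind ω) = ind ω⁻¹ := by
    intro ω
    simp only [hind]
    rw [conjFun_indFun, hd.μ_conj ω]
    rfl
  refine ⟨R, ?_, fun χ hχ hirr α hα => hPη χ hχ hirr α (hRirr χ hirr ▸ hα), fun ω hω α => by
    rw [show Cfsg.indFun ((⁅M, M⁆ : Subgroup G).subgroupOf M) (resD M (μ ω)) = ind ω from rfl,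
      hRind ω hω, hmemRC]⟩
  have hgen : ∀ α ∈ Cfsg.zspanOn S ({1}ᶜ : Set M), Cfsg.IsGeneralizedCharacter M α := fun α hα =>
    zspan_generalized (fun χ hχ => isGeneralizedCharacter_of_isCharacter (hchar χ hχ)) hα.1
  have hsupp : ∀ α ∈ Cfsg.zspanOn S ({1}ᶜ : Set M), ∀ x : M, (x : G) ∉ suppA0 M → α x = 0 := by
    intro α hα x hx
    by_cases hx1 : x = 1
    · exact hx1 ▸ (zspanOn_compl_one.mp hα).2
    exact zspan_vanish (fun χ hχ => hvanish χ hχ x hx hx1) hα.1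
  constructor
  · -- nonempty
    obtain ⟨w, hw, hw1⟩ := (Subgroup.bot_or_exists_ne_one W₂).resolve_left hW.2.1
    have hwK : (⟨w, hWM (Subgroup.mem_sup_right hw)⟩ : M) ∈ K := hcK (hW₂c hw)
    set k : K := ⟨_, hwK⟩
    obtain ⟨θ, hθ⟩ : ∃ θ : Cfsg.IrrCharacter K, (θ : K → ℂ) k ≠ (θ : K → ℂ) 1 := by
      by_contra hall
      push Not at hall
      have h := sum_degree_mul_irr (G := K) k
      simp only [hall] at h
      rw [sum_degree_mul_irr (G := K) 1, if_pos rfl,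
        if_neg (fun e => hw1 (congrArg (fun z : K => ((z : M) : G)) e))] at h
      exact Nat.cast_ne_zero.mpr Nat.card_pos.ne' h
    have h1 : (θ : K → ℂ) ≠ fun _ => 1 := fun e => hθ (by rw [e])
    refine ⟨Cfsg.indFun K θ, ⟨θ, θ.2, h1, fun a ha => ?_, rfl⟩, ?_⟩
    · rw [Subgroup.bot_subgroupOf, Subgroup.mem_bot] at ha
      rw [show a = 1 from Subtype.ext ha]
    · rintro ⟨ζ, hζ, hζ1, hker, e⟩
      refine hθ ?_
      have hmem' := thetaAbove_closed hKn Kh ⟨ζ, hζ⟩ (mem_thetaAbove.mpr ⟨hζ1, hker⟩) θ e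
      exact (mem_thetaAbove.mp hmem').2 k (hW₂c hw)
  · exact hchar
  · exact hconjmem
  · exact hconjne
  · exact ⟨fun α _ β _ => dadeIsometry_add α β, fun α _ n => dadeIsometry_zsmul n α,
      fun α hα β hβ => dade_isometry hDd (isClassFunction_of_isGeneralizedCharacter (hgen α hα))
        (hsupp α hα) (isClassFunction_of_isGeneralizedCharacter (hgen β hβ)),
      fun α hα => dade_virtual hDd (hgen α hα) (hsupp α hα)⟩
  · exact fun α _ => dadeIsometry_one hDd α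
  · exact horth
  · -- orthonormal
    intro χ hχ α hα β hβ
    rcases hcases χ hχ with ⟨hg, e⟩ | ⟨ω, hω, rfl, e⟩ <;> rw [e] at hα hβ
    · exact hPin χ hg α hα β hβ
    · obtain ⟨a, s, hs, rfl, ha⟩ := hRCrep ω α hα
      obtain ⟨b, t, ht, rfl, hb⟩ := hRCrep ω β hβ
      rw [classInner_smul_left, classInner_smul_right, hηin]
      by_cases hab : a = b
      · subst hab
        have hst : s = t := by
          rcases ha with ⟨h, rfl⟩ | ⟨h, rfl⟩ <;> rcases hb with ⟨h', rfl⟩ | ⟨h', rfl⟩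
          · rfl
          · exact absurd (htrans h (by simpa [hom_inv_inv] using agreeR_inv (hsymm h')))
              (not_agreeR_inv hoddW hω)
          · exact absurd (htrans h' (by simpa [hom_inv_inv] using agreeR_inv (hsymm h)))
              (not_agreeR_inv hoddW hω)
          · rfl
        subst hst
        rw [if_pos rfl, if_pos rfl, mul_one, map_mul]
        rcases hs with rfl | rfl <;> simp [hδsq ω]
      · rw [if_neg hab, mul_zero, mul_zero, if_neg]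
        intro e'
        have h2 := congrArg (fun f => Cfsg.classInner f (η a)) e'
        simp only [classInner_smul_left, hηin, if_neg (Ne.symm hab), if_pos, mul_one,
          mul_zero] at h2
        rcases hs with rfl | rfl <;> rcases hd.δ_sign ω with r | r <;> simp [r] at h2
  · -- virtual
    intro χ hχ α hα
    rcases hcases χ hχ with ⟨hg, e⟩ | ⟨ω, hω, rfl, e⟩ <;> rw [e] at hα
    · exact (hPsigned χ hg α hα).generalized
    · obtain ⟨a, s, hs, rfl, -⟩ := hRCrep ω α hα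
      have := (family_signed hd.family a).generalized
      rcases hs with rfl | rfl <;> rcases hd.δ_sign ω with r | r <;>
        simp [r, isGeneralizedCharacter_neg this, this]
  · -- sum
    intro χ hχ
    rcases hcases χ hχ with ⟨hg, e⟩ | ⟨ω, hω, rfl, e⟩ <;> rw [e]
    · exact (hPsum χ hg).symm
    obtain ⟨r, c, hr, hc, hrc⟩ := exists_trivR_mul_trivL hdisj hcomm ω
    have hωc : AgreeR W₁ W₂ ω c := fun w hw => by
      rw [← hrc, MonoidHom.mul_apply, hr w hw, one_mul]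
    set p : (↥(W₁ ⊔ W₂) →* ℂˣ) → (↥(W₁ ⊔ W₂) →* ℂˣ) := fun a => a * (c * c)⁻¹ with hp
    have hpL : ∀ a, AgreeL W₁ W₂ a (p a) := fun a w hw => by
      simp [hp, hc w hw]
    have hpR : ∀ {a}, AgreeR W₁ W₂ ω a → AgreeR W₁ W₂ ω⁻¹ (p a) := fun {a} ha w hw => by
      simp [hp, ← ha w hw, hωc w hw]
    have hre : ∀ (N : Type u) (f : (↥(W₁ ⊔ W₂) →* ℂˣ) → (N → ℂ)),
        ∑ a ∈ col ω, f (p a) = ∑ a ∈ col ω, f a⁻¹ := by
      intro N f
      refine Finset.sum_nbij' (fun a => (p a)⁻¹) (fun a => a⁻¹ * (c * c)) (fun a ha => ?_)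
        (fun a ha => ?_) (fun a _ => ?_) (fun a _ => ?_) (fun a _ => by rw [hom_inv_inv])
      · rw [hmemcol] at ha ⊢
        simpa [hom_inv_inv] using agreeR_inv (hpR ha)
      · rw [hmemcol] at ha ⊢
        intro w hw
        simp [← ha w hw, hωc w hw]
      · refine MonoidHom.ext fun w => ?_
        simp only [hp, MonoidHom.inv_apply, MonoidHom.mul_apply]
        group
      · refine MonoidHom.ext fun w => ?_
        simp only [hp, MonoidHom.inv_apply, MonoidHom.mul_apply]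
        group
    have hnot : ∀ {a}, AgreeR W₁ W₂ ω a → ¬ AgreeR W₁ W₂ a 1 := fun ha h => hω (htrans ha h)
    have hnot' : ∀ {a}, AgreeR W₁ W₂ ω a → ¬ AgreeR W₁ W₂ (p a) 1 := fun ha h =>
      hω (by simpa [hom_inv_inv, hom_inv_one] using agreeR_inv (htrans (hpR ha) h))
    have hconjone : ∀ a, μ a⁻¹ 1 = μ a 1 := fun a => by
      rw [hd.μ_conj, conjFun_one (isCharacter_of_irr (hd.μ_irr a))]
    have hdeg : ∀ a, AgreeR W₁ W₂ ω a → μ a 1 = μ (p a) 1 := fun a ha => by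
      have h1 : resD M (μ (p a)) = resD M (μ a⁻¹) :=
        hd.res_eq _ _ (htrans (hsymm (hpR ha)) (agreeR_inv ha))
      have := congrFun h1 1
      simp only [resD, OneMemClass.coe_one] at this
      rw [this, hconjone]
    have hadd : ∀ a b, tau M (a + b) = tau M a + tau M b := fun a b => dadeIsometry_add a b
    have hdiff : ind ω - Cfsg.conjFun (ind ω) = ∑ a ∈ col ω, (μ a - μ (p a)) := by
      rw [Finset.sum_sub_distrib, hre M μ, ← hindsum]
      congr 1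
      conv_lhs => rw [hindsum]
      funext g
      simp [Cfsg.conjFun, Finset.sum_apply, hd.μ_conj]
    rw [hdiff, show tau M (∑ a ∈ col ω, (μ a - μ (p a))) = ∑ a ∈ col ω, tau M (μ a - μ (p a)) from
      map_sum (AddMonoidHom.mk' (tau M) hadd) _ _,
      Finset.sum_congr rfl fun a ha => show tau M (μ a - μ (p a)) = δ ω • η a - δ ω • η (p a) by
        rw [hmemcol] at ha
        rw [(hd.tau_row a (p a) (hpL a) (hnot ha) (hnot' ha) (hdeg a ha)).2,
          ← hd.δ_col ω a ha, smul_sub],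
      Finset.sum_sub_distrib, hre G fun a => δ ω • η a, sub_eq_add_neg, ← Finset.sum_neg_distrib]
    have hne0 : δ ω ≠ 0 := by rcases hd.δ_sign ω with r | r <;> simp [r]
    have hinj : ∀ a b, δ ω • η a = δ ω • η b → a = b := fun a b h => by
      by_contra hab
      have h2 := congrArg (fun f => Cfsg.classInner f (η a)) h
      simp only [classInner_smul_left, hηin, if_pos, if_neg (Ne.symm hab), mul_one, mul_zero] at h2
      exact hne0 h2
    rw [hRC, Finset.sum_union, Finset.sum_image fun a _ b _ h => hinj a b h,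
      Finset.sum_image fun a _ b _ h => inv_injective (hinj _ _ (neg_injective h))]
    refine Finset.disjoint_left.mpr fun α h₁ h₂ => ?_
    obtain ⟨a, ha, rfl⟩ := Finset.mem_image.mp h₁
    obtain ⟨b, hb, h⟩ := Finset.mem_image.mp h₂
    rw [hmemcol] at ha hb
    by_cases hab : b⁻¹ = a
    · exact not_agreeR_inv hoddW hω (htrans ha (hab ▸ agreeR_inv (hsymm hb)))
    · have h2 := congrArg (fun f => Cfsg.classInner f (η a)) h
      simp only [classInner_neg_left, classInner_smul_left, hηin, if_neg hab, if_pos, mul_one,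
        mul_zero, neg_zero] at h2
      exact hne0 h2.symm
  · -- disjointness
    intro χ hχ φ hφ h0 h0' α hα β hβ
    rcases hcases φ hφ with ⟨hg, e⟩ | ⟨ω, hω, rfl, e⟩ <;> rw [e] at hα <;>
      rcases hcases χ hχ with ⟨hg', e'⟩ | ⟨ω', hω', rfl, e'⟩ <;> rw [e'] at hβ
    · refine hPorth φ χ hg hg' ?_ ?_ α hα β hβ
      · rintro rfl; exact hnorm _ hχ h0
      · rintro rfl; exact hnorm _ hφ h0'
    · exact hmixed φ hg ω' α hα β hβ
    · rw [classInner_conj_symm, hmixed χ hg' ω β hβ α hα, map_zero]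
    · have hn1 : ¬ AgreeR W₁ W₂ ω ω' := fun h => by
        refine hnorm _ hχ ?_
        have e2 : ind ω = ind ω' := by
          simp only [hind]; rw [hd.res_eq ω ω' h]
        rwa [e2] at h0
      have hn2 : ¬ AgreeR W₁ W₂ ω ω'⁻¹ := fun h => by
        refine hnorm _ hφ ?_
        have e2 : Cfsg.conjFun (ind ω') = ind ω := by
          rw [hindconj]
          simp only [hind]; rw [hd.res_eq ω _ h]
        rwa [e2] at h0'
      obtain ⟨a, s, -, rfl, ha⟩ := hRCrep ω α hα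
      obtain ⟨b, t, -, rfl, hb⟩ := hRCrep ω' β hβ
      rw [classInner_smul_left, classInner_smul_right, hηin, if_neg, mul_zero, mul_zero]
      rintro rfl
      rcases ha with ⟨p1, -⟩ | ⟨p1, -⟩ <;> rcases hb with ⟨p2, -⟩ | ⟨p2, -⟩
      · exact hn1 (htrans p1 (hsymm p2))
      · exact hn2 (htrans p1 (by simpa [hom_inv_inv] using agreeR_inv (hsymm p2)))
      · exact hn2 (htrans p1 (agreeR_inv (hsymm p2)))
      · exact hn1 (htrans p1 (hsymm p2))

end CfsgLib.PF
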