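import Cfsg.Agent.Lib.PF.Sec9Coherence
import Cfsg.Agent.Lib.PF.Sec9Chars
import Cfsg.Agent.Lib.PF.Sec9Type2
import Cfsg.Agent.Lib.PF.SubcoherentP
import Cfsg.Agent.Lib.PF.Constants
import Cfsg.Agent.Lib.PF.Sec8Tame

/-!
# PF (10.11): Type II and the primality of `|W₁|`, `|W₂|`
-/

set_option autoImplicit false
set_option linter.unusedSectionVars false

namespace CfsgLib.PF

open scoped Classical

universe u

variable {G : Type u} [Group G] [Fintype G]

/-- PF (10.11a). -/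
theorem propPrimes (hG : Cfsg.IsMinSimpleOddOrder G) (hV : PropNoTypeV G) : PropPrimes G := by
  intro M W₁ U W₂ hM hP
  obtain ⟨T, V, hpair⟩ := propPartner hG M W₁ U W₂ hM hP
  refine ⟨?_, ?_⟩
  · rcases hV M W₁ U W₂ hM hP with h | h <;> exact h.W₁_prime
  · rcases hV T W₂ V W₁ hpair.right_max hpair.right with h | h <;> exact h.W₁_prime

/-- PF (10.11b). -/
theorem propTypeII (hG : Cfsg.IsMinSimpleOddOrder G) (hV : PropNoTypeV G) : PropTypeII G := by
  intro M W₁ U W₂ hM h2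
  obtain ⟨-, hp⟩ := propPrimes hG hV M W₁ U W₂ hM h2.data
  obtain ⟨H₀, C, p, hF⟩ := propCoreFactor M W₁ U W₂ hM (Or.inl h2)
  have helem := Kind2.elementary hM h2 hp
  refine ⟨helem, Kind2.card_core h2, ?_⟩
  have hdvd : p ∣ Nat.card W₂ := hF.W₂_rel ▸ Subgroup.relIndex_dvd_card H₀ W₂
  have hpW : p = Nat.card W₂ := (Nat.prime_dvd_prime_iff_eq hF.prime hp).mp hdvd
  have hbot : H₀ = ⊥ := by
    refine Subgroup.card_eq_one.mp (Nat.eq_of_mul_eq_mul_right (pow_pos hF.prime.pos (Nat.card W₁)) ?_)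
    have h1 := Subgroup.relIndex_mul_relIndex ⊥ H₀ (Cfsg.fittingHallOf M) bot_le hF.lt.le
    rw [Subgroup.relIndex_bot_left, Subgroup.relIndex_bot_left, hF.card, Kind2.card_core h2,
      ← hpW] at h1
    rw [h1, one_mul]
  have hC : ⁅C, C⁆ = ⊥ := by
    refine eq_bot_iff.mpr ((Subgroup.commutator_mono hF.C_lt.le hF.C_lt.le).trans ?_)
    rw [Subgroup.commutator_le]
    intro a ha b hb
    rw [Subgroup.mem_bot, commutatorElement_eq_one_iff_mul_comm]
    exact congrArg Subtype.val (h2.U_comm.is_comm.comm ⟨a, ha⟩ ⟨b, hb⟩)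
  have hcoh := propCoreCoherence hG (propDade hG) (propTIData hG (propTypes hG) (propDade hG))
    (subcoherentP hG (propTypes hG) (propDade hG)) propReducible (propNonGalois hG) propGaloisDegrees
    M W₁ U W₂ H₀ C p hM (Or.inl h2) hF
  rwa [hbot, hC, bot_sup_eq] at hcoh

end CfsgLib.PF
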