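import Cfsg.Agent.Lib.PF.Sec9CohSetting
import Cfsg.Agent.Lib.PF.Sec9CohExtend
import Cfsg.Agent.Lib.OddChar.DadeVirtual
import Cfsg.Agent.Lib.OddChar.DadeInner
import Cfsg.Agent.Lib.OddOrder.MinSimple

/-!
# PF (9.11): coherence of `S(H₀C')`
-/

set_option autoImplicit false
set_option linter.style.haveILetI false
set_option linter.unusedSectionVars false

namespace CfsgLib.PF

open scoped Classical ComplexConjugate
open Finset CfsgLib.Characters CfsgLib.OddChar CfsgLib.OddOrder Sec9Coh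

universe u

/-- Two members of `R ψ` per conjugate pair meeting `Γ`. -/
theorem exists_hit_set {L G : Type*} [Group L] [Fintype L] [Group G] [Fintype G] {S : Set (L → ℂ)}
    {τ : (L → ℂ) → (G → ℂ)} {R : (L → ℂ) → Finset (G → ℂ)} (hS : Cfsg.IsCoherenceSystem S τ R)
    (Γ : G → ℂ) (T : Finset (L → ℂ)) (hT : (↑T : Set (L → ℂ)) ⊆ S)
    (hTc : ∀ φ ∈ T, Cfsg.conjFun φ ∈ T)
    (h0 : ∀ φ ∈ T, Cfsg.classInner Γ (τ (φ - Cfsg.conjFun φ)) = 0)
    (hhit : ∀ φ ∈ T, ∃ α ∈ R φ, Cfsg.classInner Γ α ≠ 0) :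
    ∃ E : Finset (G → ℂ), T.card ≤ E.card ∧
      (∀ α ∈ E, ∀ β ∈ E, Cfsg.classInner α β = if α = β then 1 else 0) ∧
      ∀ α ∈ E, Cfsg.classInner Γ α ≠ 0 ∧ ∃ φ ∈ T, α ∈ R φ := by
  induction T using Finset.strongInductionOn with
  | _ T ih =>
    by_cases hne : T = ∅
    · exact ⟨∅, by simp [hne], by simp, by simp⟩
    obtain ⟨ψ, hψ⟩ := Finset.nonempty_of_ne_empty hne
    set T' := T \ {ψ, Cfsg.conjFun ψ} with hT'
    have hsub : T' ⊆ T := Finset.sdiff_subset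
    have hlt : T' ⊂ T := Finset.ssubset_iff_of_subset hsub |>.mpr ⟨ψ, hψ, by simp [hT']⟩
    have hT'c : ∀ φ ∈ T', Cfsg.conjFun φ ∈ T' := by
      intro φ hφ
      simp only [hT', Finset.mem_sdiff, Finset.mem_insert, Finset.mem_singleton, not_or] at hφ ⊢
      refine ⟨hTc φ hφ.1, fun e => hφ.2.2 (by rw [← e, conjFun_conjFun]), fun e => hφ.2.1 ?_⟩
      rw [← conjFun_conjFun φ, e, conjFun_conjFun]
    obtain ⟨E, hEc, hEo, hE⟩ := ih T' hlt (fun φ hφ => hT (hsub hφ)) hT'c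
      (fun φ hφ => h0 φ (hsub hφ)) (fun φ hφ => hhit φ (hsub hφ))
    obtain ⟨α, hα, hα0⟩ := hhit ψ hψ
    have hψS := hT hψ
    obtain ⟨β, hβ, hβα, hβ0⟩ : ∃ β ∈ R ψ, β ≠ α ∧ Cfsg.classInner Γ β ≠ 0 := by
      by_contra hc
      push Not at hc
      refine hα0 ?_
      have h := h0 ψ hψ
      rw [hS.sum_eq ψ hψS, classInner_sum_right, Finset.sum_eq_single α (fun β hβ e => hc β hβ e)
        (fun h' => absurd hα h')] at h
      exact h
    have hsep : ∀ δ ∈ E, ∀ ε ∈ R ψ, Cfsg.classInner δ ε = 0 := by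
      intro δ hδ ε hε
      obtain ⟨-, φ, hφ, hδφ⟩ := hE δ hδ
      have hφ' := Finset.mem_sdiff.mp hφ
      simp only [Finset.mem_insert, Finset.mem_singleton, not_or] at hφ'
      exact hS.disjoint ψ hψS φ (hT (hsub hφ))
        (hS.orthogonal φ (hT (hsub hφ)) ψ hψS hφ'.2.1)
        (hS.orthogonal φ (hT (hsub hφ)) _ (hS.conj_mem ψ hψS) hφ'.2.2) δ hδφ ε hε
    have hone : ∀ ε ∈ R ψ, ε ∉ E := fun ε hε hεE => by
      have h := hsep ε hεE ε hε
      rw [hS.orthonormal ψ hψS ε hε ε hε, if_pos rfl] at h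
      exact one_ne_zero h
    refine ⟨insert α (insert β E), ?_, ?_, ?_⟩
    · rw [Finset.card_insert_of_notMem (by simp [hone α hα, hβα.symm]),
        Finset.card_insert_of_notMem (hone β hβ)]
      have h1 := Finset.card_sdiff_add_card_inter T {ψ, Cfsg.conjFun ψ}
      rw [← hT'] at h1
      have h2 : (T ∩ {ψ, Cfsg.conjFun ψ}).card ≤ 2 :=
        (Finset.card_le_card Finset.inter_subset_right).trans Finset.card_le_two
      omega
    · intro δ hδ ε hε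
      simp only [Finset.mem_insert] at hδ hε
      have hmix : ∀ x ∈ E, ∀ y ∈ R ψ, Cfsg.classInner x y = (if x = y then 1 else 0) ∧
          Cfsg.classInner y x = (if y = x then 1 else 0) := fun x hx y hy => by
        have hxy : x ≠ y := fun e => hone y hy (e ▸ hx)
        exact ⟨by rw [hsep x hx y hy, if_neg hxy],
          by rw [classInner_conj_symm, hsep x hx y hy, map_zero, if_neg hxy.symm]⟩
      rcases hδ with rfl | rfl | hδ <;> rcases hε with rfl | rfl | hε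
      all_goals first
        | exact hS.orthonormal ψ hψS _ ‹_› _ ‹_›
        | exact hEo _ ‹_› _ ‹_›
        | exact (hmix _ ‹_› _ ‹_›).2
        | exact (hmix _ ‹_› _ ‹_›).1
    · intro δ hδ
      simp only [Finset.mem_insert] at hδ
      rcases hδ with rfl | rfl | hδ
      · exact ⟨hα0, ψ, hψ, hα⟩
      · exact ⟨hβ0, ψ, hψ, hβ⟩
      · obtain ⟨h1, φ, hφ, h2⟩ := hE δ hδ
        exact ⟨h1, φ, hsub hφ, h2⟩

/-- Bessel for a virtual character against signed characters it meets. -/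
theorem card_le_of_hits {G : Type*} [Group G] [Fintype G] {Γ : G → ℂ} {r : ℝ}
    (hΓ : Cfsg.IsGeneralizedCharacter G Γ) (hr : Cfsg.classInner Γ Γ = (r : ℂ)) (E : Finset (G → ℂ))
    (hgen : ∀ α ∈ E, Cfsg.IsGeneralizedCharacter G α)
    (horth : ∀ α ∈ E, ∀ β ∈ E, Cfsg.classInner α β = if α = β then 1 else 0)
    (hne : ∀ α ∈ E, Cfsg.classInner Γ α ≠ 0) : (E.card : ℝ) ≤ r := by
  have ho : ∀ α ∈ E, ∀ β ∈ E, α ≠ β → Cfsg.classInner α β = 0 := fun α hα β hβ e => by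
    rw [horth α hα β hβ, if_neg e]
  have hn1 : ∀ α ∈ E, Cfsg.classInner α α = 1 := fun α hα => by rw [horth α hα α hα, if_pos rfl]
  have hex : ∀ α, ∃ z : ℤ, α ∈ E → Cfsg.classInner Γ α = z := by
    intro α
    by_cases hα : α ∈ E
    · obtain ⟨z, hz⟩ := classInner_generalized_int hΓ (hgen α hα)
      exact ⟨z, fun _ => hz⟩
    · exact ⟨0, fun h => absurd h hα⟩
  choose c hc using hex
  have hb := classInner_self_re_nonneg (Γ - orthProj E Γ)
  rw [orthProj_pythagoras ho (fun α hα => by rw [hn1 α hα]; exact one_ne_zero),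
    sum_conj_int hn1 hc, hr, Complex.sub_re, Complex.ofReal_re] at hb
  have h1 : (E.card : ℤ) ≤ ∑ α ∈ E, c α ^ 2 := by
    rw [Finset.card_eq_sum_ones, Nat.cast_sum]
    refine Finset.sum_le_sum fun α hα => ?_
    have hc0 : c α ≠ 0 := fun e => hne α hα (by rw [hc α hα, e, Int.cast_zero])
    have := mul_self_pos.mpr hc0
    push_cast
    nlinarith
  have h2 : (E.card : ℝ) ≤ ((∑ α ∈ E, c α ^ 2 : ℤ) : ℝ) := by exact_mod_cast h1
  simp only [Complex.intCast_re] at hb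
  linarith

/-- The final inequality. -/
theorem final_bound {p q a u N r : ℝ} {k : ℕ} (hk : (k : ℝ) = q) (hq : 3 ≤ k) (ha : 3 ≤ a)
    (hp : 2 * a + 1 ≤ p) (hu : u ≤ a ^ (k - 1)) (hu0 : 0 ≤ u) (hN : N ≤ r)
    (hr : u * (r - a - 1) ≤ (q - 1) * a ^ (k - 1))
    (h : p ^ k - 1 ≤ 2 * a * u + 2 * q * a + N * q * u) : False := by
  obtain ⟨n, rfl⟩ : ∃ n, k = n + 3 := ⟨k - 3, by omega⟩
  rw [show n + 3 - 1 = n + 2 from rfl] at hu hr
  subst hk
  set A := a ^ (n + 2) with hA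
  have hA0 : 0 < A := pow_pos (by linarith) _
  have hbin : ∀ m : ℕ, (2 * a) ^ (m + 1) + (m + 1) * (2 * a) ^ m ≤ (2 * a + 1) ^ (m + 1) := by
    intro m
    induction m with
    | zero => simp
    | succ m ih =>
      have h1 := mul_le_mul_of_nonneg_right ih (by linarith : (0 : ℝ) ≤ 2 * a + 1)
      have h2 : (0 : ℝ) ≤ (m + 1) * (2 * a) ^ m := by positivity
      push_cast
      calc _ ≤ ((2 * a) ^ (m + 1) + (m + 1) * (2 * a) ^ m) * (2 * a + 1) := by
            rw [pow_succ (2 * a) (m + 1), pow_succ (2 * a) m]; nlinarith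
        _ ≤ _ := by rw [pow_succ (2 * a + 1) (m + 1)]; exact h1
  have hb := hbin (n + 2)
  have hpk : (2 * a + 1) ^ (n + 3) ≤ p ^ (n + 3) := pow_le_pow_left₀ (by linarith) hp _
  rw [pow_succ (2 * a) (n + 2), mul_pow, ← hA] at hb
  -- the powers of two
  have h2n : ∀ m : ℕ, ((m : ℝ) + 4) * 2 ≤ (2 : ℝ) ^ (m + 2) * 2 := by
    intro m
    induction m with
    | zero => norm_num
    | succ m ih => push_cast; rw [pow_succ]; nlinarith [pow_pos (two_pos (α := ℝ)) (m + 2)]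
  have h3 := h2n n
  have hA3 : a * (3 * 3 ^ n) ≤ A := by
    rw [hA, pow_succ, mul_comm a]
    gcongr
    rw [← pow_succ']
    exact pow_le_pow_left₀ (by norm_num) ha _
  have h3n : ∀ m : ℕ, 2 * ((m : ℝ) + 3) + 1 ≤ 3 * (3 * (3 : ℝ) ^ m) := by
    intro m
    induction m with
    | zero => norm_num
    | succ m ih => push_cast; rw [pow_succ]; nlinarith [pow_pos (show (0:ℝ) < 3 by norm_num) m]
  have h4 := h3n n
  have hu' : (2 : ℝ) * a * u ≤ 2 * a * A := by nlinarith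
  have hNu : N * u ≤ u * (a + 1) + ((n : ℝ) + 2) * A := by
    have := mul_le_mul_of_nonneg_right hN hu0
    push_cast at hr
    nlinarith
  have hua : u * (a + 1) ≤ A * (a + 1) := mul_le_mul_of_nonneg_right hu (by linarith)
  have k1 : ((n : ℝ) + 3) * ((n : ℝ) + 2) * A + ((n : ℝ) + 3) * A ≤ ((n : ℝ) + 3) * 2 ^ (n + 2) * A := by
    have : ((n : ℝ) + 3) ≤ (2 : ℝ) ^ (n + 2) := by linarith
    have := mul_le_mul_of_nonneg_left (mul_le_mul_of_nonneg_right this hA0.le) (by positivity : (0:ℝ) ≤ (n:ℝ) + 3)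
    nlinarith
  have k2 : ((n : ℝ) + 5 + 3) * (A * a) ≤ (2 : ℝ) ^ (n + 2) * 2 * (A * a) :=
    mul_le_mul_of_nonneg_right (by linarith) (by positivity)
  have k3 : 2 * ((n : ℝ) + 3) * a + 1 < 3 * (A * a) := by
    have := mul_le_mul_of_nonneg_left hA3 (by linarith : (0 : ℝ) ≤ 3)
    nlinarith
  push_cast at h hb
  nlinarith

variable {G : Type u} [Group G] [Fintype G]

/-- PF (9.11). -/
theorem propCoreCoherence (hG : Cfsg.IsMinSimpleOddOrder G) (hD : PropDade G) (hTI : PropTIData G)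
    (hSC : PropSubcoherentP G) (hRed : PropReducible G) (hNG : PropNonGalois G)
    (hGD : PropGaloisDegrees G) : PropCoreCoherence G := by
  intro M W₁ U W₂ H₀ C p hM hK hF
  obtain ⟨hd, -, hq⟩ := Kind2.or_basic hK
  set q := Nat.card W₁ with hqdef
  set u := C.relIndex U with hudef
  have hq3 : 3 ≤ q := by
    obtain ⟨m, hm⟩ := minSimple_odd hG W₁
    have := hq.two_le
    omega
  have hu0 : 0 < u := Nat.pos_of_ne_zero Subgroup.index_ne_zero_of_finite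
  have hp3 : 3 ≤ p := by
    have h1 : p ∣ Nat.card G := by
      refine (dvd_pow_self p (by omega : q ≠ 0)).trans ?_
      rw [← hF.card]
      exact (Subgroup.relIndex_dvd_card _ _).trans (Subgroup.card_subgroup_dvd_card _)
    obtain ⟨m, hm⟩ := hG.1.of_dvd_nat h1
    have := hF.prime.two_le
    omega
  have hHM : Cfsg.fittingHallOf M ≤ M :=
    (TypeP.core_le_derived hd).trans (Subgroup.commutator_le_self M)
  have hctx : Ctx (Kin M) (Hin M) (H₀.subgroupOf M) (C.subgroupOf M) (U.subgroupOf M) :=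
    Sec9Coh.ctx hd hF hq hq3
  haveI hKn : (Kin M).Normal := hctx.K_normal
  haveI hHn : (Hin M).Normal := hctx.H_normal
  have hidx : (Kin M).index = q := index_Kin hd hF
  have hu' : (Hin M ⊔ C.subgroupOf M).relIndex (Kin M) = u := relIndex_HC hd hF
  set A1 : Subgroup ↥M := (H₀ ⊔ ⁅C, C⁆).subgroupOf M with hA1
  set A2 : Subgroup ↥M := (H₀ ⊔ C).subgroupOf M with hA2
  have hA12 : A1 ≤ A2 := fun x hx => Subgroup.mem_subgroupOf.mpr
    ((sup_le_sup_left (Subgroup.commutator_le_self C) H₀) (Subgroup.mem_subgroupOf.mp hx))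
  set S : Set (↥M → ℂ) := calS M (Cfsg.fittingHallOf M) (H₀ ⊔ ⁅C, C⁆) with hSdef
  have hSeq : S = Cfsg.inducedIrrAbove (Kin M) A1 \ Cfsg.inducedIrrAbove (Kin M) (Hin M) := rfl
  have hmem : ∀ χ ∈ S, ∃ θ : Kin M → ℂ, Cfsg.IsIrrCharacter (Kin M) θ ∧
      (∀ k : Kin M, (k : ↥M) ∈ A1 → θ k = θ 1) ∧ (∃ k : Kin M, (k : ↥M) ∈ Hin M ∧ θ k ≠ θ 1) ∧
      χ = Cfsg.indFun (Kin M) θ := by
    rintro χ ⟨⟨θ, h1, h2, h3, rfl⟩, hno⟩
    refine ⟨θ, h1, h3, ?_, rfl⟩
    by_contra hc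
    push Not at hc
    exact hno ⟨θ, h1, h2, hc, rfl⟩
  have hconj : ∀ χ ∈ S, Cfsg.conjFun χ ∈ S := fun χ hχ =>
    ⟨indAbove_conj (Kin M) A1 hχ.1, fun h => hχ.2 (by
      have h' := indAbove_conj (Kin M) (Hin M) h
      rw [conjFun_conjFun] at h'
      exact h')⟩
  have hchar : ∀ χ ∈ S, Cfsg.IsCharacter ↥M χ := fun χ hχ => by
    obtain ⟨θ, hθ, -, -, rfl⟩ := hmem χ hχ
    exact CfsgLib.Induction.isCharacter_indFun _ (isCharacter_of_irr hθ)
  have hdeg : ∀ χ ∈ S, natDeg χ ≤ q * u := by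
    intro χ hχ
    obtain ⟨θ, hθ, hk, -, rfl⟩ := hmem χ hχ
    rw [natDeg_indFun (isCharacter_of_irr hθ), hidx]
    refine Nat.mul_le_mul_left q ?_
    have h1 := sq_natDeg_le_section hθ ((Hin M ⊔ C.subgroupOf M).subgroupOf (Kin M))
      ((Hin M ⊔ C.subgroupOf M).subgroupOf (Kin M)) fun d hd' c hc =>
      comm_kernel hd hF hθ (fun k hk' => hk k (Subgroup.mem_subgroupOf.mpr hk')) d hd' c hc
    rw [Subgroup.relIndex_self, mul_one] at h1
    rw [← hu']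
    exact Nat.pow_le_pow_iff_left (two_ne_zero) |>.mp h1
  -- the coherence system
  have hHc : Cfsg.fittingHallOf M ≤ Cfsg.typeCore M := by
    unfold Cfsg.typeCore
    split_ifs
    exacts [TypeP.core_le_derived hd, le_rfl]
  obtain ⟨μ, δ, η, hTD⟩ := hTI M W₁ U W₂ hM hd
  obtain ⟨R, hR, -, -⟩ := hSC M W₁ U W₂ hM hd μ δ η hTD
  have hSsub : S ⊆ calS M (Cfsg.typeCore M) ⊥ := fun χ hχ =>
    ⟨indAbove_mono (Kin M) (A := A1) (B := (⊥ : Subgroup G).subgroupOf M)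
      (fun x hx => Subgroup.mem_subgroupOf.mpr (by
        rw [Subgroup.mem_bot.mp (Subgroup.mem_subgroupOf.mp hx)]; exact one_mem _)) hχ.1,
      fun h => hχ.2 (indAbove_mono (Kin M)
        (fun x hx => Subgroup.mem_subgroupOf.mpr (hHc (mem_Hin.mp hx))) h)⟩
  -- the reducible members
  obtain ⟨hredcard, hred⟩ := hRed M W₁ U W₂ H₀ C p hM hK hF
  have hS₀ : S ⊆ calS M (Cfsg.fittingHallOf M) H₀ := fun χ hχ =>
    ⟨indAbove_mono (Kin M) (fun x hx => Subgroup.mem_subgroupOf.mpr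
      (Subgroup.mem_sup_left (Subgroup.mem_subgroupOf.mp hx))) hχ.1, hχ.2⟩
  have hA2S : ∀ χ ∈ calS M (Cfsg.fittingHallOf M) (H₀ ⊔ C), χ ∈ S := fun χ hχ =>
    ⟨indAbove_mono (Kin M) hA12 hχ.1, hχ.2⟩
  have hne : S.Nonempty := by
    have hpos : 0 < Nat.card {χ // χ ∈ calS M (Cfsg.fittingHallOf M) H₀ ∧ ¬ Cfsg.IsIrrCharacter ↥M χ} := by
      rw [hredcard]; omega
    obtain ⟨⟨χ, hχ, hχi⟩⟩ := (Nat.card_pos_iff.mp hpos).1
    exact ⟨χ, hA2S χ (hred χ hχ hχi).1⟩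
  have hsys : Cfsg.IsCoherenceSystem S (tau M) R := sys_sub hR hSsub hne hconj
  by_cases hgal : Galois M U H₀
  · refine Cfsg.Agent.S1517.result S (tau M) R hsys fun φ hφ ψ hψ => ?_
    rw [hGD M W₁ U W₂ H₀ C p hM hK hF hgal φ hφ, hGD M W₁ U W₂ H₀ C p hM hK hF hgal ψ hψ]
  obtain ⟨a, ha1, hadvd, haodd, hudvd, -, hmul, hcount⟩ := hNG M W₁ U W₂ H₀ C p hM hK hF hgal
  have ha3 : 3 ≤ a := by obtain ⟨m, hm⟩ := haodd; omega
  have hpa : 2 * a ≤ p - 1 := by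
    obtain ⟨k, hk⟩ := hadvd
    have hp2 : Odd p := hF.prime.odd_of_ne_two (by omega)
    obtain ⟨j, hj⟩ := hp2
    obtain ⟨m, hm⟩ := haodd
    rcases k with _ | _ | k
    · omega
    · omega
    · rw [hk]; nlinarith
  -- finite sets of characters
  set Sf : Finset (↥M → ℂ) := indAboveFinset (Kin M) A1 \ indAboveFinset (Kin M) (Hin M) with hSf
  have hSf' : (↑Sf : Set (↥M → ℂ)) = S := by
    rw [hSf, Finset.coe_sdiff, coe_indAboveFinset, coe_indAboveFinset, hSeq]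
  have hmS : ∀ χ, χ ∈ Sf ↔ χ ∈ S := fun χ => by rw [← hSf', Finset.mem_coe]
  have hdm : ∀ χ ∈ S, ∃ n : ℕ, natDeg χ = q * a * n := by
    intro χ hχ
    obtain ⟨n, hn⟩ := hmul χ hχ
    refine ⟨n, ?_⟩
    rw [natDeg_spec (hchar χ hχ)] at hn
    rw [Nat.cast_inj.mp hn, ← hqdef]; ring
  have hdc : ∀ χ ∈ S, natDeg (Cfsg.conjFun χ) = natDeg χ := by
    intro χ hχ
    have h := natDeg_spec (hchar _ (hconj χ hχ))
    rw [sys_conj_one hsys hχ, natDeg_spec (hchar χ hχ)] at h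
    exact_mod_cast h.symm
  have hn1 : ∀ χ, Cfsg.IsIrrCharacter ↥M χ → (natNorm χ : ℝ) = 1 := fun χ hχ => by
    simp [natNorm, classInner_irr_self hχ]
  set S1 := Sf.filter (fun χ => Cfsg.IsIrrCharacter ↥M χ ∧ natDeg χ = q * a) with hS1
  set low := Sf.filter (fun χ => Cfsg.IsIrrCharacter ↥M χ ∧ (natDeg χ = q * a ∨ natDeg χ < q * u))
    with hlow
  have hS1sub : (↑S1 : Set (↥M → ℂ)) ⊆ S := fun χ hχ => (hmS χ).mp (Finset.mem_filter.mp hχ).1
  have hlowsub : (↑low : Set (↥M → ℂ)) ⊆ S := fun χ hχ => (hmS χ).mp (Finset.mem_filter.mp hχ).1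
  have hS1c : ∀ χ ∈ S1, Cfsg.conjFun χ ∈ S1 := fun χ hχ => by
    obtain ⟨h1, h2, h3⟩ := Finset.mem_filter.mp hχ
    exact Finset.mem_filter.mpr ⟨(hmS _).mpr (hconj χ ((hmS χ).mp h1)), conjFun_irr h2,
      (hdc χ ((hmS χ).mp h1)).trans h3⟩
  have hlowc : ∀ χ ∈ low, Cfsg.conjFun χ ∈ low := fun χ hχ => by
    obtain ⟨h1, h2, h3⟩ := Finset.mem_filter.mp hχ
    exact Finset.mem_filter.mpr ⟨(hmS _).mpr (hconj χ ((hmS χ).mp h1)), conjFun_irr h2, by
      rwa [hdc χ ((hmS χ).mp h1)]⟩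
  have hS1card : (p - 1) * u ≤ S1.card * (a * a) := by
    refine hcount.trans (Nat.mul_le_mul_right _ ?_)
    rw [← Fintype.card_coe S1, ← Nat.card_eq_fintype_card]
    refine Nat.card_le_card_of_injective (fun χ => ⟨χ.1, Finset.mem_filter.mpr
      ⟨(hmS _).mpr (hA2S _ χ.2.1), χ.2.2.1, ?_⟩⟩) fun x y e => Subtype.ext (congrArg (fun z => z.1) e)
    have := χ.2.2.2
    rw [natDeg_spec (hchar _ (hA2S _ χ.2.1))] at this
    exact_mod_cast this
  have hsumS1 : ∑ φ ∈ S1, ((natDeg φ : ℝ) ^ 2 / (natNorm φ : ℝ)) = (S1.card : ℝ) * (q * a) ^ 2 := by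
    rw [Finset.sum_congr rfl fun φ hφ => by
      rw [(Finset.mem_filter.mp hφ).2.2, hn1 φ (Finset.mem_filter.mp hφ).2.1, div_one],
      Finset.sum_const, nsmul_eq_mul, Nat.cast_mul]
  set B : ℝ := 2 * (q * u : ℕ) * (q * a : ℕ) with hB
  have hS1ge : B ≤ ∑ φ ∈ S1, ((natDeg φ : ℝ) ^ 2 / (natNorm φ : ℝ)) := by
    rw [hsumS1, hB]
    have h1 : (2 * a * u : ℕ) ≤ S1.card * (a * a) := (Nat.mul_le_mul_right u hpa).trans hS1card
    have h2 : (2 * a * u : ℝ) ≤ S1.card * (a * a) := by exact_mod_cast h1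
    push_cast
    nlinarith [mul_le_mul_of_nonneg_left h2 (sq_nonneg (q : ℝ))]
  obtain ⟨χ₁, hχ₁, hχ₁A⟩ : ∃ χ ∈ S1, χ ∈ calS M (Cfsg.fittingHallOf M) (H₀ ⊔ C) := by
    have hpos : 0 < Nat.card {χ // χ ∈ calS M (Cfsg.fittingHallOf M) (H₀ ⊔ C) ∧
        Cfsg.IsIrrCharacter ↥M χ ∧ χ 1 = ((Nat.card W₁ * a : ℕ) : ℂ)} := by
      by_contra h0
      rw [Nat.eq_zero_of_not_pos h0, zero_mul] at hcount
      nlinarith [(by omega : 0 < p - 1)]
    obtain ⟨⟨χ, h1, h2, h3⟩⟩ := (Nat.card_pos_iff.mp hpos).1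
    refine ⟨χ, Finset.mem_filter.mpr ⟨(hmS χ).mpr (hA2S χ h1), h2, ?_⟩, h1⟩
    rw [natDeg_spec (hchar _ (hA2S _ h1))] at h3
    exact_mod_cast h3
  have hd₁ : natDeg χ₁ = q * a := (Finset.mem_filter.mp hχ₁).2.2
  have hdvd : ∀ χ ∈ S, natDeg χ₁ ∣ natDeg χ := fun χ hχ => by
    obtain ⟨n, hn⟩ := hdm χ hχ
    exact ⟨n, by rw [hn, hd₁]⟩
  have hfinish : ∀ T : Finset (↥M → ℂ), (↑T : Set (↥M → ℂ)) ⊆ S →
      (∀ φ ∈ T, Cfsg.conjFun φ ∈ T) → χ₁ ∈ T →
      Cfsg.IsCoherent (↑T : Set (↥M → ℂ)) {1}ᶜ (tau M) →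
      B < ∑ φ ∈ T, ((natDeg φ : ℝ) ^ 2 / (natNorm φ : ℝ)) →
      Cfsg.IsCoherent S {1}ᶜ (tau M) := by
    intro T hT hTc hχT hTcoh hlt
    have h := coherent_add_all hsys χ₁ T hT hTc hTcoh hχT Sf (hSf'.le)
      (fun φ hφ => (hmS _).mpr (hconj φ ((hmS φ).mp hφ))) fun χ hχ =>
      ⟨hdvd χ ((hmS χ).mp hχ), lt_of_le_of_lt (by
        rw [hB, hd₁]
        have : (natDeg χ : ℝ) ≤ (q * u : ℕ) := Nat.cast_le.mpr (hdeg χ ((hmS χ).mp hχ))
        gcongr) hlt⟩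
    rwa [Finset.coe_union, hSf', Set.union_eq_right.mpr hT] at h
  have hcoh1 : Cfsg.IsCoherent (↑S1 : Set (↥M → ℂ)) {1}ᶜ (tau M) := by
    refine Cfsg.Agent.S1517.result _ _ R (sys_sub hsys hS1sub ⟨χ₁, hχ₁⟩ hS1c) fun φ hφ ψ hψ => ?_
    rw [natDeg_spec (hchar φ (hS1sub hφ)), natDeg_spec (hchar ψ (hS1sub hψ)),
      (Finset.mem_filter.mp hφ).2.2, (Finset.mem_filter.mp hψ).2.2]
  have hS1low : S1 ⊆ low := fun χ hχ => by
    obtain ⟨h1, h2, h3⟩ := Finset.mem_filter.mp hχ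
    exact Finset.mem_filter.mpr ⟨h1, h2, Or.inl h3⟩
  have hcoh2 : Cfsg.IsCoherent (↑low : Set (↥M → ℂ)) {1}ᶜ (tau M) := by
    have h := coherent_add_all hsys χ₁ S1 hS1sub hS1c hcoh1 hχ₁ (low \ S1)
      (fun φ hφ => hlowsub (Finset.mem_sdiff.mp hφ).1)
      (fun φ hφ => Finset.mem_sdiff.mpr ⟨hlowc φ (Finset.mem_sdiff.mp hφ).1, fun h =>
        (Finset.mem_sdiff.mp hφ).2 (by simpa [conjFun_conjFun] using hS1c _ h)⟩)
      fun χ hχ => by
        obtain ⟨hχl, hχ1⟩ := Finset.mem_sdiff.mp hχ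
        obtain ⟨h1, h2, h3⟩ := Finset.mem_filter.mp hχl
        have hlt : natDeg χ < q * u := h3.resolve_left fun e =>
          hχ1 (Finset.mem_filter.mpr ⟨h1, h2, e⟩)
        refine ⟨hdvd χ ((hmS χ).mp h1), lt_of_lt_of_le ?_ hS1ge⟩
        rw [hB, hd₁]
        have hqa : (0 : ℝ) < (q * a : ℕ) := Nat.cast_pos.mpr (Nat.mul_pos (by omega) (by omega))
        have : (natDeg χ : ℝ) < (q * u : ℕ) := Nat.cast_lt.mpr hlt
        nlinarith
    rwa [Finset.union_sdiff_of_subset hS1low] at h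
  by_cases hslack : B < ∑ φ ∈ low, ((natDeg φ : ℝ) ^ 2 / (natNorm φ : ℝ))
  · exact hfinish low hlowsub hlowc (hS1low hχ₁) hcoh2 hslack
  -- the limiting case
  push Not at hslack
  have hlowS1 : low = S1 := by
    refine Finset.Subset.antisymm (fun χ hχ => ?_) hS1low
    by_contra hχ1
    have h1 : ∑ φ ∈ insert χ S1, ((natDeg φ : ℝ) ^ 2 / (natNorm φ : ℝ)) ≤
        ∑ φ ∈ low, ((natDeg φ : ℝ) ^ 2 / (natNorm φ : ℝ)) :=
      Finset.sum_le_sum_of_subset_of_nonneg (Finset.insert_subset hχ hS1low)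
        fun _ _ _ => div_nonneg (sq_nonneg _) (Nat.cast_nonneg _)
    rw [Finset.sum_insert hχ1, hn1 χ (Finset.mem_filter.mp hχ).2.1, div_one] at h1
    have h2 : (1 : ℝ) ≤ natDeg χ := by
      exact_mod_cast natDeg_pos (Finset.mem_filter.mp hχ).2.1
    nlinarith
  have hN : (S1.card : ℝ) * a = 2 * u := by
    have h1 := hlowS1 ▸ hslack
    rw [hsumS1] at h1 hS1ge
    have h2 := le_antisymm h1 hS1ge
    rw [hB] at h2
    push_cast at h2
    have hne : ((q : ℝ) ^ 2 * a) ≠ 0 := by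
      have : (0 : ℝ) < q := Nat.cast_pos.mpr (by omega)
      have : (0 : ℝ) < a := Nat.cast_pos.mpr (by omega)
      positivity
    exact mul_left_cancel₀ hne (by linear_combination h2)
  have hp2a : p - 1 ≤ 2 * a := by
    have h1 : ((p - 1) * u : ℕ) ≤ S1.card * (a * a) := hS1card
    have h2 : S1.card * a = 2 * u := by exact_mod_cast hN
    rw [← mul_assoc, h2] at h1
    refine Nat.le_of_mul_le_mul_right (c := u) (h1.trans (le_of_eq (by ring))) hu0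
  set high := Sf.filter (fun χ => Cfsg.IsIrrCharacter ↥M χ ∧ natDeg χ ≠ q * a) with hhigh
  have hhighdeg : ∀ χ ∈ high, natDeg χ = q * u := by
    intro χ hχ
    obtain ⟨h1, h2, h3⟩ := Finset.mem_filter.mp hχ
    by_contra hne'
    have : χ ∈ low := Finset.mem_filter.mpr
      ⟨h1, h2, Or.inr (lt_of_le_of_ne (hdeg χ ((hmS χ).mp h1)) hne')⟩
    rw [hlowS1] at this
    exact h3 (Finset.mem_filter.mp this).2.2
  have hhighS1 : ∀ χ ∈ high, χ ∉ S1 := fun χ hχ h =>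
    (Finset.mem_filter.mp hχ).2.2 (Finset.mem_filter.mp h).2.2
  by_cases hext : ∃ ψ ∈ high,
      Cfsg.IsCoherent (↑S1 ∪ {ψ, Cfsg.conjFun ψ} : Set (↥M → ℂ)) {1}ᶜ (tau M)
  · obtain ⟨ψ, hψ, hψcoh⟩ := hext
    have hψS : ψ ∈ S := (hmS ψ).mp (Finset.mem_filter.mp hψ).1
    set T := S1 ∪ {ψ, Cfsg.conjFun ψ} with hTdef
    refine hfinish T (fun φ hφ => ?_) (fun φ hφ => ?_) (Finset.mem_union_left _ hχ₁) ?_ ?_
    · simp only [hTdef, Finset.mem_coe, Finset.mem_union, Finset.mem_insert, Finset.mem_singleton] at hφ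
      rcases hφ with h | rfl | rfl
      exacts [hS1sub h, hψS, hconj ψ hψS]
    · simp only [hTdef, Finset.mem_union, Finset.mem_insert, Finset.mem_singleton] at hφ ⊢
      rcases hφ with h | rfl | rfl
      exacts [Or.inl (hS1c φ h), Or.inr (Or.inr rfl), Or.inr (Or.inl (conjFun_conjFun ψ))]
    · rw [hTdef, Finset.coe_union, Finset.coe_pair]; exact hψcoh
    · refine lt_of_le_of_lt hS1ge (Finset.sum_lt_sum_of_subset Finset.subset_union_left
        (i := ψ) (by simp [hTdef]) (hhighS1 ψ hψ) ?_ fun _ _ _ => div_nonneg (sq_nonneg _) (Nat.cast_nonneg _))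
      rw [hn1 ψ (Finset.mem_filter.mp hψ).2.1, div_one]
      exact pow_pos (Nat.cast_pos.mpr (natDeg_pos (Finset.mem_filter.mp hψ).2.1)) 2
  exfalso
  -- the test function
  obtain ⟨θ, hθ, hθA, hθne, hθeq⟩ : ∃ θ : Kin M → ℂ, Cfsg.IsIrrCharacter (Kin M) θ ∧
      (∀ k : Kin M, (k : ↥M) ∈ A2 → θ k = θ 1) ∧ (∃ k : Kin M, (k : ↥M) ∈ Hin M ∧ θ k ≠ θ 1) ∧
      χ₁ = Cfsg.indFun (Kin M) θ := by
    obtain ⟨⟨θ, h1, h2, h3, e⟩, hno⟩ := hχ₁A
    refine ⟨θ, h1, h3, ?_, e⟩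
    by_contra hc
    push Not at hc
    exact hno ⟨θ, h1, h2, hc, e⟩
  obtain ⟨Λ, hΛc, hΛg, hΛ1, hΛsupp, hΛS, r, hΛn, hΛr⟩ := hctx.exists_test hθ
    (hθeq ▸ (Finset.mem_filter.mp hχ₁).2.1)
    (fun k hk => hθA k (Subgroup.mem_subgroupOf.mpr
      (Subgroup.mem_sup_left (Subgroup.mem_subgroupOf.mp hk))))
    (fun k hk => hθA k (Subgroup.mem_subgroupOf.mpr
      (Subgroup.mem_sup_right (Subgroup.mem_subgroupOf.mp hk)))) hθne
  have hθd : natDeg θ = a := by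
    rw [hθeq, natDeg_indFun (isCharacter_of_irr hθ), hidx] at hd₁
    exact Nat.eq_of_mul_eq_mul_left (by omega) hd₁
  rw [hu', hθd, hidx] at hΛr
  -- supports
  have hsuppA : ∀ x : ↥M, x ∈ Kin M → x ≠ 1 → (∃ h ∈ Hin M, h ≠ 1 ∧ x * h = h * x) →
      (x : G) ∈ suppA0 M := by
    intro x hx hx1 ⟨h, hh, hh1, hc⟩
    have hx1' : (x : G) ≠ 1 := fun e => hx1 (Subtype.ext e)
    have hh1' : (h : G) ≠ 1 := fun e => hh1 (Subtype.ext e)
    refine Or.inl ?_
    unfold suppA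
    split_ifs
    · exact ⟨x.2, hx1', h, mem_Hin.mp hh, hh1', congrArg Subtype.val hc⟩
    · exact ⟨mem_Kin.mp hx, hx1', h, hHc (mem_Hin.mp hh), hh1', congrArg Subtype.val hc⟩
  have hΛA : ∀ x : ↥M, (x : G) ∉ suppA0 M → Λ x = 0 := fun x hx => by
    by_contra h0
    obtain ⟨h1, h2⟩ := hΛsupp x h0
    exact hx (hsuppA x h1 (fun e => h0 (e ▸ hΛ1)) h2)
  have hSA : ∀ α ∈ Cfsg.zspanOn S {1}ᶜ, ∀ x : ↥M, (x : G) ∉ suppA0 M → α x = 0 := by
    intro α hα x hx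
    by_cases hx1 : x = 1
    · rw [hx1]; exact (zspanOn_compl_one.mp hα).2
    refine zspan_vanish (fun χ hχ => ?_) hα.1
    obtain ⟨η', hη', -, ⟨k, hk, hkne⟩, rfl⟩ := hmem χ hχ
    by_cases hxK : x ∈ Kin M
    swap
    · exact CfsgLib.Induction.indFun_normal_eq_zero (Kin M) hxK
    haveI : ((Hin M).subgroupOf (Kin M)).Normal := Subgroup.normal_subgroupOf
    refine apply_eq_zero_of_fpf (H := Hin M) (CfsgLib.Induction.isClassFunction_indFun _ _) ?_ ?_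
    · refine indFun_sum_translate_eq_zero (H := Hin M) (Kin M) hctx.H_le fun y => ?_
      refine Eq.trans ?_ (sum_translate_eq_zero (H := (Hin M).subgroupOf (Kin M)) hη'
        ⟨k, Subgroup.mem_subgroupOf.mpr hk, hkne⟩ y)
      exact Fintype.sum_equiv (Subgroup.subgroupOfEquivOfLe hctx.H_le).symm.toEquiv _ _ fun h => rfl
    · intro h hh hc
      by_contra hh1
      exact hx (hsuppA x hxK hx1 ⟨h, hh, hh1, hc⟩)
  obtain ⟨-, hDade⟩ := hD M (suppA0 M) hM (Or.inr (Or.inr rfl))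
  have hcf : ∀ α ∈ Cfsg.zspanOn S {1}ᶜ, Cfsg.IsClassFunction ↥M α := fun α hα =>
    isClassFunction_of_isGeneralizedCharacter (zspan_generalized
      (fun χ hχ => isGeneralizedCharacter_of_isCharacter (hchar χ hχ)) hα.1)
  set Γ := tau M Λ with hΓ
  have hΓiso : ∀ α ∈ Cfsg.zspanOn S {1}ᶜ,
      Cfsg.classInner Γ (tau M α) = Cfsg.classInner Λ α := fun α hα =>
    dade_isometry hDade hΛc hΛA (hcf α hα)
  have hΓn : Cfsg.classInner Γ Γ = (r : ℂ) := by
    rw [← hΛn]; exact dade_isometry hDade hΛc hΛA hΛc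
  have hΓg : Cfsg.IsGeneralizedCharacter G Γ := dade_virtual hDade hΛg hΛA
  have hΛχ : ∀ χ ∈ S, Cfsg.classInner Λ χ = -(if χ = χ₁ then 1 else 0) := by
    intro χ hχ
    obtain ⟨η', hη', -, hne', rfl⟩ := hmem χ hχ
    rw [hΛS η' hη' hne', ← hθeq]
    split_ifs with e
    · rw [e, classInner_irr_self (Finset.mem_filter.mp hχ₁).2.1]
    · rw [hsys.orthogonal χ₁ (hS1sub hχ₁) _ hχ (Ne.symm e)]
  -- every high member meets `Γ`
  have hhit : ∀ ψ ∈ high, ∃ α ∈ R ψ, Cfsg.classInner Γ α ≠ 0 := by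
    intro ψ hψ
    by_contra hno
    push Not at hno
    have hψS : ψ ∈ S := (hmS ψ).mp (Finset.mem_filter.mp hψ).1
    refine hext ⟨ψ, hψ, coherent_extend_le hsys natDeg natNorm
      (fun φ h => natDeg_spec (hchar φ h)) (fun φ h => natNorm_spec (hchar φ h)) S1 hS1sub hS1c hcoh1
      ψ hψS (hhighS1 ψ hψ) (fun h => hhighS1 ψ hψ (by simpa [conjFun_conjFun] using hS1c _ h))
      χ₁ hχ₁ (hdvd ψ hψS) ?_ ?_⟩
    · rw [hhighdeg ψ hψ, hd₁]; exact hB ▸ hS1ge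
    intro τ₁ hτ₁ hτext b hb hdec
    have hub : u = a * b := by
      rw [hhighdeg ψ hψ, hd₁, mul_assoc] at hb
      exact Nat.eq_of_mul_eq_mul_left (by omega) hb
    have hb1 : b ≠ 1 := fun e => (Finset.mem_filter.mp hψ).2.2 (by rw [hhighdeg ψ hψ, hub, e, mul_one])
    have hN' : (S1.card : ℂ) = 2 * b := by
      have h1 : S1.card * a = 2 * u := by exact_mod_cast hN
      rw [hub, ← mul_assoc, mul_right_comm] at h1
      exact_mod_cast Nat.eq_of_mul_eq_mul_right (by omega : 0 < a) h1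
    have hγ : ψ - (b : ℤ) • χ₁ ∈ Cfsg.zspanOn S {1}ᶜ := zspanOn_compl_one.mpr
      ⟨zspan_sub (zspan_of_mem hψS) (zspan_zsmul _ (zspan_of_mem (hS1sub hχ₁))), by
        rw [Pi.sub_apply, Pi.smul_apply, natDeg_spec (hchar ψ hψS),
          natDeg_spec (hchar χ₁ (hS1sub hχ₁)), hb]
        simp [mul_comm]⟩
    have hψne : ψ ≠ χ₁ := fun e => hhighS1 ψ hψ (e ▸ hχ₁)
    have hL : Cfsg.classInner Γ (tau M (ψ - (b : ℤ) • χ₁)) = (b : ℂ) := by
      rw [hΓiso _ hγ, classInner_sub_right, classInner_zsmul_right, hΛχ ψ hψS,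
        hΛχ χ₁ (hS1sub hχ₁), if_neg hψne, if_pos rfl]
      push_cast; ring
    obtain ⟨w, hw⟩ := classInner_generalized_int hΓg (hτ₁.2.2.2 χ₁ (zspan_of_mem hχ₁))
    have hx : ∀ φ ∈ S1, Cfsg.classInner Γ (τ₁ φ) = (w + 1 : ℂ) - (if φ = χ₁ then 1 else 0) := by
      intro φ hφ
      have hm : φ - χ₁ ∈ Cfsg.zspanOn (↑S1 : Set (↥M → ℂ)) {1}ᶜ := zspanOn_compl_one.mpr
        ⟨zspan_sub (zspan_of_mem hφ) (zspan_of_mem hχ₁), by
          rw [Pi.sub_apply, natDeg_spec (hchar φ (hS1sub hφ)), natDeg_spec (hchar χ₁ (hS1sub hχ₁)),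
            (Finset.mem_filter.mp hφ).2.2, hd₁, sub_self]⟩
      have h := hΓiso _ (zspanOn_mono hS1sub _ hm)
      rw [← hτext _ hm, isometry_sub hτ₁ (zspan_of_mem hφ) (zspan_of_mem hχ₁) hm.1,
        classInner_sub_right, classInner_sub_right, hw, hΛχ φ (hS1sub hφ), hΛχ χ₁ (hS1sub hχ₁),
        if_pos rfl] at h
      linear_combination h
    have hP0 : Cfsg.classInner Γ (orthProj (R ψ) (tau M (ψ - (b : ℤ) • χ₁))) = 0 := by
      rw [classInner_conj_symm, classInner_orthProj_zero (fun α hα => by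
        rw [classInner_conj_symm, hno α hα, map_zero]), map_zero]
    rw [hdec, classInner_add_right, hP0, zero_add, classInner_sum_right] at hL
    rw [Finset.sum_congr rfl (fun φ hφ => by
      rw [classInner_smul_right, hx φ hφ,
        show (natNorm φ : ℂ) = 1 by exact_mod_cast hn1 φ (Finset.mem_filter.mp hφ).2.1,
        show (natNorm χ₁ : ℂ) = 1 by exact_mod_cast hn1 χ₁ (Finset.mem_filter.mp hχ₁).2.1,
        (Finset.mem_filter.mp hφ).2.2, hd₁, div_one,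
        div_self (Nat.cast_ne_zero.mpr (Nat.mul_ne_zero (by omega) (by omega))),
        show conj ((1 : ℂ) - (b : ℂ) * 1 * (if φ = χ₁ then (1 : ℂ) else 0)) *
            ((w + 1 : ℂ) - (if φ = χ₁ then 1 else 0)) =
          (w + 1 : ℂ) + (if φ = χ₁ then ((b : ℂ) - 1 - b * (w + 1)) else 0) by
          split_ifs <;> simp <;> ring]), Finset.sum_add_distrib, Finset.sum_const, nsmul_eq_mul,
      Finset.sum_ite_eq', if_pos hχ₁, hN'] at hL
    have h1 : (((b : ℤ) * (w + 1) : ℤ) : ℂ) = ((1 : ℤ) : ℂ) := by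
      push_cast; linear_combination hL
    have h2 : (b : ℤ) ∣ 1 := ⟨w + 1, (Int.cast_inj.mp h1).symm⟩
    exact hb1 (by exact_mod_cast Int.eq_one_of_dvd_one (Int.natCast_nonneg b) h2)
  have hhighsub : (↑high : Set (↥M → ℂ)) ⊆ S := fun χ hχ => (hmS χ).mp (Finset.mem_filter.mp hχ).1
  have hhighc : ∀ χ ∈ high, Cfsg.conjFun χ ∈ high := fun χ hχ => by
    obtain ⟨h1, h2, h3⟩ := Finset.mem_filter.mp hχ
    exact Finset.mem_filter.mpr ⟨(hmS _).mpr (hconj χ ((hmS χ).mp h1)), conjFun_irr h2, by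
      rwa [hdc χ ((hmS χ).mp h1)]⟩
  obtain ⟨E, hEc, hEo, hE⟩ := exists_hit_set hsys Γ high hhighsub hhighc (fun φ hφ => by
    have hφne : ∀ {χ : ↥M → ℂ}, χ ∈ high → χ ≠ χ₁ := fun hχ e => hhighS1 _ hχ (e ▸ hχ₁)
    rw [hΓiso _ (sys_sub_conj_mem hsys (hhighsub hφ)), classInner_sub_right,
      hΛχ φ (hhighsub hφ), hΛχ _ (hconj φ (hhighsub hφ)), if_neg (hφne hφ),
      if_neg (hφne (hhighc φ hφ))]
    simp) hhit
  have hEr : (high.card : ℝ) ≤ r := by
    refine le_trans (Nat.cast_le.mpr hEc) (card_le_of_hits hΓg hΓn E (fun α hα => ?_) hEo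
      fun α hα => (hE α hα).1)
    obtain ⟨-, φ, hφ, hαφ⟩ := hE α hα
    exact hsys.virtual φ (hhighsub hφ) α hαφ
  -- the sum over `S(H₀C)`
  haveI hA2n : A2.Normal := by
    rw [hA2]
    refine Subgroup.normal_subgroupOf_of_le_normalizer (TypeP.le_normalizer_of hd ?_ ?_ ?_)
    · refine Subgroup.le_normalizer_iff.2 fun g hg => ?_
      suffices h : H₀ ⊔ C ≤ (H₀ ⊔ C).comap (MulAut.conj g).toMonoidHom from fun x hx => h hx
      refine sup_le (fun x hx => Subgroup.mem_sup_left ((Subgroup.mem_normalizer_iff.mp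
        (hF.normal (hHM hg)) x).mp hx)) (fun x hx => ?_)
      show g * x * g⁻¹ ∈ H₀ ⊔ C
      have e : g * x * g⁻¹ = (x * g * x⁻¹ * g⁻¹)⁻¹ * x := by group
      rw [e]
      exact Subgroup.mul_mem _ (Subgroup.mem_sup_left (H₀.inv_mem (((hF.mem_C x).mp hx).2 g hg)))
        (Subgroup.mem_sup_right hx)
    all_goals
      refine Subgroup.le_normalizer_iff.2 fun g hg => ?_
      suffices h : H₀ ⊔ C ≤ (H₀ ⊔ C).comap (MulAut.conj g).toMonoidHom from fun x hx => h hx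
      have h1 : g ∈ Subgroup.normalizer (H₀ : Set G) := by
        first
        | exact hF.normal (TypeP.U_le hd hg)
        | exact hF.normal (TypeP.W₁_le hd hg)
      have h2 : g ∈ Subgroup.normalizer (C : Set G) := by
        first
        | exact hF.C_normal (Subgroup.mem_sup_left hg)
        | exact hF.C_normal (Subgroup.mem_sup_right hg)
      exact sup_le (fun x hx => Subgroup.mem_sup_left ((Subgroup.mem_normalizer_iff.mp h1 x).mp hx))
        (fun x hx => Subgroup.mem_sup_right ((Subgroup.mem_normalizer_iff.mp h2 x).mp hx))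
  haveI hHCn : (Hin M ⊔ C.subgroupOf M).Normal := hctx.HC_normal
  set I2 := indAboveFinset (Kin M) A2 with hI2
  set IH := indAboveFinset (Kin M) (Hin M) with hIH
  set IHC := indAboveFinset (Kin M) (Hin M ⊔ C.subgroupOf M) with hIHC
  have hint : I2 ∩ IH = IHC := by
    refine Finset.Subset.antisymm (fun χ hχ => ?_) (fun χ hχ => ?_)
    · obtain ⟨h1, h2⟩ := Finset.mem_inter.mp hχ
      obtain ⟨t, ht, rfl⟩ := Finset.mem_image.mp h1
      rw [hIH, ← Finset.mem_coe, coe_indAboveFinset] at h2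
      obtain ⟨η', hη', hη1, hηH, e⟩ := h2
      have ht2 := thetaAbove_closed (K := Kin M) hKn (Hin M) ⟨η', hη'⟩
        (mem_thetaAbove.mpr ⟨hη1, hηH⟩) t e
      refine Finset.mem_image.mpr ⟨t, mem_thetaAbove.mpr ⟨(mem_thetaAbove.mp ht).1, fun k hk => ?_⟩, rfl⟩
      obtain ⟨h, hh, c, hc, e'⟩ := Subgroup.mem_sup_of_normal_left.mp hk
      have hcK : c ∈ Kin M := hctx.V_le (hctx.C_le hc)
      rw [show k = ⟨h, hctx.H_le hh⟩ * ⟨c, hcK⟩ from Subtype.ext e'.symm,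
        char_translate (irr_isCharacter t) ((mem_thetaAbove.mp ht).2 ⟨c, hcK⟩
          (Subgroup.mem_subgroupOf.mpr (Subgroup.mem_sup_right (Subgroup.mem_subgroupOf.mp hc))))]
      exact (mem_thetaAbove.mp ht2).2 _ hh
    · rw [hIHC, ← Finset.mem_coe, coe_indAboveFinset] at hχ
      rw [Finset.mem_inter, hI2, hIH, ← Finset.mem_coe, coe_indAboveFinset, ← Finset.mem_coe,
        coe_indAboveFinset]
      refine ⟨indAbove_mono (Kin M) (fun x hx => ?_) hχ, indAbove_mono (Kin M) le_sup_left hχ⟩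
      rw [hA2, Subgroup.subgroupOf_sup (H₀_le_M hd hF) (C_le_M hd hF)] at hx
      exact sup_le_sup_right hctx.H₀_le _ hx
  have hrelA2 : A2.relIndex (Kin M) = p ^ q * u := relIndex_H₀C hd hF
  have hsum2 : ∑ φ ∈ I2 \ IH, ((natDeg φ : ℝ) ^ 2 / (natNorm φ : ℝ)) =
      (q : ℝ) * ((p : ℝ) ^ q * u - u) := by
    have h := Finset.sum_inter_add_sum_sdiff I2 IH (fun φ : ↥M → ℂ => ((natDeg φ : ℝ) ^ 2 / (natNorm φ : ℝ)))
    rw [hint, hI2, hIHC, sum_indAbove hKn A2, sum_indAbove hKn, hidx, hrelA2, hu'] at h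
    push_cast at h ⊢
    linarith
  have hA2mem : ∀ φ ∈ I2 \ IH, φ ∈ calS M (Cfsg.fittingHallOf M) (H₀ ⊔ C) := by
    intro φ hφ
    obtain ⟨h1, h2⟩ := Finset.mem_sdiff.mp hφ
    rw [hI2, ← Finset.mem_coe, coe_indAboveFinset] at h1
    rw [hIH, ← Finset.mem_coe, coe_indAboveFinset] at h2
    exact ⟨h1, h2⟩
  set Red := (I2 \ IH).filter (fun φ => ¬ Cfsg.IsIrrCharacter ↥M φ) with hRed'
  have hredle : Red.card ≤ p - 1 := by
    haveI : Finite {χ // χ ∈ calS M (Cfsg.fittingHallOf M) H₀ ∧ ¬ Cfsg.IsIrrCharacter ↥M χ} :=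
      Nat.finite_of_card_ne_zero (by rw [hredcard]; omega)
    rw [← hredcard, ← Fintype.card_coe Red, ← Nat.card_eq_fintype_card]
    refine Nat.card_le_card_of_injective
      (fun χ => ⟨χ.1, hS₀ (hA2S _ (hA2mem _ (Finset.mem_filter.mp χ.2).1)), (Finset.mem_filter.mp χ.2).2⟩)
      fun x y e => Subtype.ext (congrArg (fun z => z.1) e)
  have hbound : (q : ℝ) * ((p : ℝ) ^ q * u - u) ≤
      ((p : ℝ) - 1) * (q * u ^ 2) + B + (high.card : ℝ) * (q * u) ^ 2 := by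
    rw [← hsum2, ← Finset.sum_filter_add_sum_filter_not (I2 \ IH) (fun φ => ¬ Cfsg.IsIrrCharacter ↥M φ),
      add_assoc]
    refine add_le_add ?_ ?_
    · refine (Finset.sum_le_card_nsmul _ _ ((q : ℝ) * u ^ 2) fun φ hφ => le_of_eq ?_).trans ?_
      · obtain ⟨h1, h2⟩ := Finset.mem_filter.mp hφ
        obtain ⟨-, h3, h4⟩ := hred φ (hS₀ (hA2S _ (hA2mem _ h1))) h2
        have hφc := hchar φ (hA2S _ (hA2mem _ h1))
        have e1 : natDeg φ = q * u := by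
          rw [natDeg_spec hφc] at h3
          exact_mod_cast h3
        have e2 : natNorm φ = q := by
          rw [natNorm_spec hφc] at h4
          exact_mod_cast h4
        rw [e1, e2]
        have : (q : ℝ) ≠ 0 := Nat.cast_ne_zero.mpr (by omega)
        push_cast
        field_simp
      · rw [nsmul_eq_mul]
        refine mul_le_mul_of_nonneg_right ?_ (by positivity)
        rw [← Nat.cast_one, ← Nat.cast_sub (by omega : 1 ≤ p)]
        exact_mod_cast hredle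
    · refine le_trans (Finset.sum_le_sum_of_subset_of_nonneg (t := S1 ∪ high) (fun φ hφ => ?_)
        fun _ _ _ => div_nonneg (sq_nonneg _) (Nat.cast_nonneg _)) ?_
      · obtain ⟨h1, h2⟩ := Finset.mem_filter.mp hφ
        push Not at h2
        by_cases e : natDeg φ = q * a
        · exact Finset.mem_union_left _ (Finset.mem_filter.mpr
            ⟨(hmS φ).mpr (hA2S _ (hA2mem _ h1)), h2, e⟩)
        · exact Finset.mem_union_right _ (Finset.mem_filter.mpr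
            ⟨(hmS φ).mpr (hA2S _ (hA2mem _ h1)), h2, e⟩)
      · rw [Finset.sum_union (Finset.disjoint_left.mpr fun φ h1 h2 => hhighS1 φ h2 h1),
          Finset.sum_congr rfl (fun φ (hφ : φ ∈ high) => by
            rw [hhighdeg φ hφ, hn1 φ (Finset.mem_filter.mp hφ).2.1, div_one]), Finset.sum_const,
          nsmul_eq_mul, Nat.cast_mul]
        exact add_le_add (hlowS1 ▸ hslack) le_rfl
  have hqR : (0 : ℝ) < q := Nat.cast_pos.mpr (by omega)
  have huR : (0 : ℝ) < u := Nat.cast_pos.mpr hu0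
  have hp2aR : (p : ℝ) - 1 ≤ 2 * a := by
    rw [← Nat.cast_one, ← Nat.cast_sub (by omega : 1 ≤ p)]
    exact_mod_cast hp2a
  refine final_bound (k := q) (q := (q : ℝ)) (p := (p : ℝ)) (a := (a : ℝ)) (u := (u : ℝ))
    (N := (high.card : ℝ)) (r := r) rfl hq3 (by exact_mod_cast ha3) ?_ ?_ huR.le hEr hΛr ?_
  · have : ((2 * a : ℕ) : ℝ) ≤ ((p - 1 : ℕ) : ℝ) := Nat.cast_le.mpr hpa
    rw [Nat.cast_sub (by omega : 1 ≤ p)] at this
    push_cast at this
    linarith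
  · exact_mod_cast Nat.le_of_dvd (pow_pos (by omega) _) hudvd
  · have h1 : (q : ℝ) * u * ((p : ℝ) ^ q - 1) ≤
        (q : ℝ) * u * (2 * a * u + 2 * q * a + (high.card : ℝ) * q * u) := by
      rw [hB] at hbound
      push_cast at hbound
      have := mul_le_mul_of_nonneg_right hp2aR (by positivity : (0 : ℝ) ≤ (q : ℝ) * u ^ 2)
      nlinarith
    exact le_of_mul_le_mul_left h1 (by positivity)

end CfsgLib.PF
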