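import Cfsg.Agent.Lib.PF.Sec11Bridge
import Cfsg.Agent.Lib.PF.Sec8Base
import Cfsg.Agent.Lib.PF.Sec8Tame
import Cfsg.Agent.Lib.PF.SubcoherentP
import Cfsg.Agent.Lib.PF.TIDataExists
import Cfsg.Agent.Lib.PF.Sec9Core
import Cfsg.Agent.Lib.PF.Sec9Field
import Cfsg.Agent.Lib.PF.Sec9Chars
import Cfsg.Agent.Lib.PF.Sec9Coherence
import Cfsg.Agent.Lib.PF.Sec10Noncoherence

/-!
# Peterfalvi (11.6), (11.7), (11.9): `PropTypeIII`
-/

set_option autoImplicit false
set_option linter.unusedSectionVars false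
set_option linter.style.haveILetI false

namespace CfsgLib.PF.Sec11

open Finset CfsgLib.Characters CfsgLib.OddChar CfsgLib.OddOrder CfsgLib.Clifford
open scoped Classical ComplexConjugate

universe u

variable {G : Type u} [Group G] [Fintype G]

namespace Ctx

variable {M W₁ U W₂ C : Subgroup G} {p : ℕ} {μ : (↥(W₁ ⊔ W₂) →* ℂˣ) → (↥M → ℂ)}
  {δ : (↥(W₁ ⊔ W₂) →* ℂˣ) → ℂ} {η : (↥(W₁ ⊔ W₂) →* ℂˣ) → (G → ℂ)}
  (c : Ctx M W₁ U W₂ C p μ δ η)

include c

/-- PF (11.9): the Galois case holds, and `p < q`. -/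
theorem galois_and_lt (hCC : PropCoreCoherence G) (hNG : PropNonGalois G) :
    Galois M U ⊥ ∧ p < Nat.card W₁ := by
  obtain hA | ⟨hlt, ζ, hζ, s, hs0, hps, hcol⟩ := c.dichotomy
  · exact (c.first_case_false hA hCC).elim
  refine ⟨?_, hlt⟩
  by_contra hGal
  obtain ⟨a, ha1, hadvd, -, -, -, -, hcount⟩ :=
    hNG M W₁ U W₂ ⊥ C p c.s.max (Or.inr c.s.kind) c.s.fac hGal
  set q := Nat.card W₁ with hq
  set u := C.relIndex U with hu
  have hp3 := c.s.p_ge c.I
  have hu2 : 2 * q < u := c.s.two_q_lt_u c.I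
  have hq3 : 3 ≤ q := c.s.q_ge c.I
  have hap : a ≤ p - 1 := Nat.le_of_dvd (by omega) hadvd
  -- an irreducible member of degree `q a`
  obtain ⟨χ, hχS, hχi, hχ1⟩ : ∃ χ : ↥M → ℂ, χ ∈ calS M (Cfsg.fittingHallOf M) (⊥ ⊔ C) ∧
      Cfsg.IsIrrCharacter ↥M χ ∧ χ 1 = ((q * a : ℕ) : ℂ) := by
    by_contra hno
    haveI : IsEmpty {χ // χ ∈ calS M (Cfsg.fittingHallOf M) (⊥ ⊔ C) ∧
        Cfsg.IsIrrCharacter ↥M χ ∧ χ 1 = ((q * a : ℕ) : ℂ)} := ⟨fun x => hno ⟨x.1, x.2⟩⟩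
    rw [Nat.card_of_isEmpty, zero_mul] at hcount
    have : 0 < (p - 1) * u := Nat.mul_pos (by omega) (by omega)
    omega
  have hχ : χ ∈ coreSet M C := ⟨indAbove_mono _ (Subgroup.comap_mono
    ((Subgroup.commutator_le_self C).trans le_sup_right)) hχS.1, hχS.2⟩
  -- the coherent part
  have hS₂ := hCC M W₁ U W₂ ⊥ C p c.s.max (Or.inr c.s.kind) c.s.fac
  rw [bot_sup_eq] at hS₂
  obtain ⟨R, hR, hirr, hred⟩ := c.I.subcoherent M W₁ U W₂ c.s.max c.data μ δ η c.ti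
  obtain ⟨-, τ₂, hτ₂, hext⟩ := hS₂
  have hc : CoherentPart M W₁ W₂ μ δ η R (coreSet M C) τ₂ :=
    ⟨hR, hirr, hred, fun φ h => c.coreSet_sub h, fun φ h => c.coreSet_conj h, hτ₂, hext⟩
  obtain ⟨ω, hω⟩ := c.exists_column
  have hω' : ¬ AgreeR W₁ W₂ ω⁻¹ 1 := fun h => hω (by
    have h2 := h.inv
    rwa [linInv, linInv_one] at h2)
  have hr := c.red_mem_coreSet hω
  obtain ⟨t, ht, hts⟩ : ∃ t : ℤ, |t| = |s| ∧
      Cfsg.classInner (tau M (red M μ 1 - ζ)) (τ₂ (red M μ ω)) = (t : ℂ) := by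
    rcases hc.tau1_red c.ti c.I.simple c.types c.dadeP c.s.max c.data hω hr hχ
        (fun e => c.red_not_irr ω (e ▸ hχi)) (fun e => c.red_not_irr ω⁻¹ (e ▸ hχi)) with h | h
    · exact ⟨s, rfl, by rw [h, (c.column_value hω).2, one_smul, hcol ω hω]⟩
    · exact ⟨-s, abs_neg s, by
        rw [h, (c.column_value hω).2, one_smul, classInner_neg_right, hcol _ hω', Int.cast_neg]⟩
  set g := red M μ 1 - ζ with hg
  have hgS : Supp M W₁ g := c.supp_g hζ
  obtain ⟨f, hf⟩ : ∃ f : ℤ, Cfsg.classInner (tau M g) (τ₂ χ) = (f : ℂ) :=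
    classInner_generalized_int (c.tau_gen hgS (c.gen_g hζ)) (hτ₂.2.2.2 χ (zspan_of_mem hχ))
  set α := (u : ℤ) • χ - (a : ℤ) • red M μ ω with hα
  have hαT : α ∈ Cfsg.zspanOn (coreSet M C) {1}ᶜ := zspanOn_map hχ hr _ _ (by
    rw [hχ1, c.red_one_apply hω, ← hq, ← hu]; push_cast; ring)
  have hτα : tau M α = (u : ℂ) • τ₂ χ - (a : ℂ) • τ₂ (red M μ ω) := by
    rw [← hext α hαT, hα,
      isometry_sub hτ₂ (zspan_zsmul _ (zspan_of_mem hχ)) (zspan_zsmul _ (zspan_of_mem hr)) hαT.1,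
      hτ₂.2.1 _ (zspan_of_mem hχ), hτ₂.2.1 _ (zspan_of_mem hr), CfsgLib.OddChar.zsmul_eq_smul,
      CfsgLib.OddChar.zsmul_eq_smul, Int.cast_natCast, Int.cast_natCast]
  have hαc : Cfsg.IsClassFunction ↥M α := fun x y => by
    simp only [hα, Pi.sub_apply, Pi.smul_apply,
      isClassFunction_of_isCharacter (isCharacter_of_irr hχi) x y, c.cls_red ω x y]
  have hgχ : Cfsg.classInner g χ = 0 := by
    haveI := finite_linChar c.hW
    have h1 : Cfsg.classInner (red M μ 1) χ = 0 := by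
      rw [c.ti.red_eq c.hW, finsum_mem_eq_finite_toFinset_sum _ (Set.toFinite _), classInner_sum_left]
      refine Finset.sum_eq_zero fun ν hν => classInner_irr_ne (c.ti.μ_irr ν) hχi fun e => ?_
      rw [Set.Finite.mem_toFinset] at hν
      have h2 := congrFun e 1
      rw [(c.ti.trivial_col ν (AgreeR.symm hν)).2 1 (Subgroup.one_mem _), hχ1] at h2
      have h3 : q * a = 1 := by exact_mod_cast h2.symm
      have := Nat.eq_one_of_mul_eq_one_right h3
      omega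
    rw [hg, classInner_sub_left, h1,
      classInner_irr_ne (c.ζ_irr hζ) hχi (c.coreSet_ne hχ hζ).symm, sub_zero]
  have hgr : Cfsg.classInner g (red M μ ω) = 0 := by
    rw [hg, classInner_sub_left, c.ti.classInner_red_red c.hW, if_neg fun h => hω h.symm,
      (c.ζ_red hζ ω).1, sub_zero]
  have e := c.tau_isometry hgS hαc
  rw [hτα] at e
  simp only [hα, CfsgLib.OddChar.zsmul_eq_smul, Int.cast_natCast, classInner_sub_right,
    classInner_smul_right, map_natCast, hf, hts, hgχ, hgr, mul_zero, sub_zero] at e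
  have e' : (u : ℤ) * f = (a : ℤ) * t := by
    have : (((u : ℤ) * f : ℤ) : ℂ) = (((a : ℤ) * t : ℤ) : ℂ) := by
      push_cast
      linear_combination e
    exact_mod_cast this
  have ht1 : 1 ≤ |t| := ht ▸ Int.one_le_abs hs0
  have hpos : 0 < (a : ℤ) * |t| := mul_pos (by omega) (by omega)
  have hdvd : (u : ℤ) ∣ (a : ℤ) * |t| := by
    have h1 : (u : ℤ) ∣ |(a : ℤ) * t| := (dvd_abs _ _).mpr ⟨f, e'.symm⟩
    rwa [abs_mul, Nat.abs_cast] at h1
  have hle := Int.le_of_dvd hpos hdvd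
  rw [ht] at hle ht1
  have hlt' : (a : ℤ) * |s| < (p : ℤ) * |s| := mul_lt_mul_of_pos_right (by omega) (by omega)
  omega

/-- PF (11.6), (11.9) for a subgroup with `H₀ = 1`. -/
theorem type_three (hCC : PropCoreCoherence G) (hNG : PropNonGalois G) :
    IsMulCommutative U ∧ Nat.card W₂ < Nat.card W₁ ∧
      Cfsg.IsElementaryAbelian (Nat.card W₂) (Cfsg.fittingHallOf M) ∧
      Nat.card (Cfsg.fittingHallOf M) = Nat.card W₂ ^ Nat.card W₁ ∧
      U ⊓ Subgroup.centralizer (Cfsg.fittingHallOf M : Set G) = ⊥ ∧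
      Galois M U ⊥ ∧
      Cfsg.IsCoherent (calS M (Cfsg.fittingHallOf M) ⊥) ({1}ᶜ : Set ↥M) (tau M) := by
  obtain ⟨hpW, -, -⟩ := c.s.prime_eq c.I
  obtain ⟨hGal, hlt⟩ := c.galois_and_lt hCC hNG
  have hF := c.s.fac
  -- `U` is cyclic
  obtain ⟨-, -, ⟨x, hx, hUx⟩, -⟩ :=
    propGaloisField M W₁ U W₂ ⊥ C p c.s.max (Or.inr c.s.kind) hF hGal
  have hC := c.s.C_eq c.I
  have hUz : Subgroup.zpowers x = U := eq_of_sup_derived c.data.U_nilpotent
    (Subgroup.zpowers_le.mpr hx) (by rw [← hC, sup_comm]; exact hUx.symm)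
  have hcomm : IsMulCommutative U := hUz ▸ inferInstance
  have hC0 : C = ⊥ := by
    rw [hC, eq_bot_iff, Subgroup.commutator_le]
    intro a ha b hb
    rw [Subgroup.mem_bot, commutatorElement_eq_one_iff_commute]
    haveI := hcomm
    exact congrArg Subtype.val (mul_comm' (⟨a, ha⟩ : U) ⟨b, hb⟩)
  refine ⟨hcomm, hpW ▸ hlt, ⟨⟨⟨fun a b => Subtype.ext ?_⟩⟩, fun a ha => ?_⟩, ?_, ?_, hGal, ?_⟩
  · have h := hF.comm_mem a a.2 b b.2
    rw [Subgroup.mem_bot, mul_inv_eq_one, mul_inv_eq_iff_eq_mul] at h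
    exact h
  · have h := hF.pow_mem a ha
    rw [Subgroup.mem_bot] at h
    rw [← hpW]
    exact h
  · have h := hF.card
    rw [Subgroup.relIndex_bot_left, hpW] at h
    exact h
  · rw [eq_bot_iff]
    intro y hy
    have hyC : y ∈ C := (hF.mem_C y).mpr ⟨hy.1, fun h hh => by
      rw [Subgroup.mem_bot, mul_inv_eq_one, mul_inv_eq_iff_eq_mul]
      exact (Subgroup.mem_centralizer_iff.mp hy.2 h hh).symm⟩
    rwa [hC0] at hyC
  · have h := hCC M W₁ U W₂ ⊥ C p c.s.max (Or.inr c.s.kind) hF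
    rw [hC0, Subgroup.commutator_bot_left, sup_idem] at h
    exact h

end Ctx

end CfsgLib.PF.Sec11

namespace CfsgLib.PF

open scoped Classical

universe v

variable {G : Type v} [Group G] [Fintype G]

/-- PF (11.6), (11.7), (11.9). -/
theorem propTypeIII (hG : Cfsg.IsMinSimpleOddOrder G) : PropTypeIII G := by
  intro M W₁ U W₂ hM hK
  have hT := propTypes hG
  have hD := propDade hG
  have hTI := propTIData hG hT hD
  have hSC := subcoherentP hG hT hD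
  have I : Sec11.Inputs G :=
    ⟨hG, propKinds hG, propPartner hG, hSC, hTI, propNoncoherence hG⟩
  have hNG : PropNonGalois G := propNonGalois hG
  have hCC : PropCoreCoherence G :=
    propCoreCoherence hG hD hTI hSC propReducible hNG propGaloisDegrees
  obtain ⟨H₀, C, p, hF⟩ := propCoreFactor M W₁ U W₂ hM (Or.inr hK)
  have s : Sec11.Setup M W₁ U W₂ H₀ C p := ⟨hM, hK, hF⟩
  obtain rfl : H₀ = ⊥ := s.H₀_bot I
  obtain ⟨μ, δ, η, hti⟩ := hTI M W₁ U W₂ hM s.data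
  exact Sec11.Ctx.type_three ⟨s, I, hT, hD, propReducible, hti⟩ hCC hNG

end CfsgLib.PF
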