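import Mathlib
import Cfsg.Agent.Lib.PF.Props9
import Cfsg.Agent.Lib.PF.Props12
import Cfsg.Agent.Lib.PF.Sec13Facts
import Cfsg.Agent.Lib.PF.Sec9Core
import Cfsg.Agent.Lib.Sporadic.NormalizerCriterion

/-!
# PF (13.12): the orders involved and the final arithmetic

The group data follow `Sec13RegData`, for either kind and on either side.
-/

set_option autoImplicit false
set_option linter.style.haveILetI false
set_option linter.unusedSectionVars false

namespace CfsgLib.PF.Sec13Reg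

open Subgroup CfsgLib.OddOrder
open scoped Classical

theorem aux_pow {q : ℕ} (hq : 5 ≤ q) : q * (q - 1) * (q + 6) < 8 * 3 ^ (q - 1) := by
  induction q, hq using Nat.le_induction with
  | base => norm_num
  | succ n hn ih =>
    obtain ⟨m, rfl⟩ : ∃ m, n = m + 5 := ⟨n - 5, by omega⟩
    simp only [show m + 5 + 1 - 1 = m + 4 + 1 by omega, show m + 5 - 1 = m + 4 by omega] at ih ⊢
    rw [pow_succ]
    have h6 : (m + 5 + 1) * (m + 5 + 1 + 6) ≤ 3 * ((m + 4) * (m + 5 + 6)) := by nlinarith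
    have : (m + 5 + 1) * (m + 4 + 1) * (m + 5 + 1 + 6) ≤ 3 * ((m + 5) * (m + 4) * (m + 5 + 6)) := by
      calc (m + 5 + 1) * (m + 4 + 1) * (m + 5 + 1 + 6)
          = (m + 5) * ((m + 5 + 1) * (m + 5 + 1 + 6)) := by ring
        _ ≤ (m + 5) * (3 * ((m + 4) * (m + 5 + 6))) := Nat.mul_le_mul_left _ h6
        _ = _ := by ring
    calc (m + 5 + 1) * (m + 4 + 1) * (m + 5 + 1 + 6)
        ≤ 3 * ((m + 5) * (m + 4) * (m + 5 + 6)) := this
      _ < 3 * (8 * 3 ^ (m + 4)) := Nat.mul_lt_mul_of_pos_left ih (by norm_num)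
      _ = _ := by ring

/-- The case `q = 3`. -/
theorem count_three {p c X Y : ℝ} (hp : 5 ≤ p) (hX : p ^ 3 ≤ X) (hY : 243 ≤ Y)
    (hc : 13 ≤ c ∨ (7 ≤ c ∧ 11 ≤ p))
    (key : 3 * X * c * (p - 1) * (Y - 7) ≤ Y * 2 * (p * 3 * (3 * X + 1) + 6 * p * (p - 1))) :
    False := by
  have hp0 : 0 < p := by linarith
  have hp1 : 0 < p - 1 := by linarith
  have h25 : 25 * p ≤ p ^ 3 := by nlinarith [mul_le_mul hp hp (by norm_num) hp0.le]
  have hX0 : 0 < X := by linarith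
  have hY0 : 0 < Y := by linarith
  have hc0 : 0 < c := by rcases hc with h | ⟨h, -⟩ <;> linarith
  have k1 : 3 * X * c * (p - 1) * (236 / 243) ≤ 2 * p * (9 * X + 6 * p) := by
    refine le_of_mul_le_mul_left ?_ hY0
    have h1 : 3 * X * c * (p - 1) * (236 / 243 * Y) ≤ 3 * X * c * (p - 1) * (Y - 7) :=
      mul_le_mul_of_nonneg_left (by linarith) (by positivity)
    have h2 : Y * 2 * (p * 3 * (3 * X + 1) + 6 * p * (p - 1)) ≤
        Y * (2 * p * (9 * X + 6 * p)) := by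
      rw [mul_assoc]
      exact mul_le_mul_of_nonneg_left (by linarith) hY0.le
    linarith
  rcases hc with hc | ⟨hc, hp11⟩
  · have k2 : 3 * X * 13 * (p - 1) * (236 / 243) ≤ 2 * p * (9 * X + 6 * p) :=
      le_trans (by gcongr) k1
    have h1 : 5 * X ≤ p * X := mul_le_mul_of_nonneg_right hp hX0.le
    have h2 : p * (25 * p) ≤ p * X := mul_le_mul_of_nonneg_left (h25.trans hX) hp0.le
    linarith
  · have k2 : 3 * X * 7 * (p - 1) * (236 / 243) ≤ 2 * p * (9 * X + 6 * p) :=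
      le_trans (by gcongr) k1
    have h121 : 121 * p ≤ p ^ 3 := by nlinarith [mul_le_mul hp11 hp11 (by norm_num) hp0.le]
    have h1 : 11 * X ≤ p * X := mul_le_mul_of_nonneg_right hp11 hX0.le
    have h2 : p * (121 * p) ≤ p * X := mul_le_mul_of_nonneg_left (h121.trans hX) hp0.le
    linarith

/-- The case `5 ≤ q`; `Z` is `3 ^ (q - 1)`. -/
theorem count_five {p q c X Y Z : ℝ} (hp : 3 ≤ p) (hq : 5 ≤ q) (hX : p * Z ≤ X)
    (hZ : q * (q - 1) * (q + 6) < 8 * Z) (hY : q ^ 3 ≤ Y) (hc : 2 * q + 1 ≤ c)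
    (key : 3 * X * c * (p - 1) * (Y * (q - 2) - (q ^ 2 - 2)) ≤
      Y * (q - 1) * (p * q * (3 * X + 1) + 6 * p * (p - 1))) : False := by
  have hp0 : 0 < p := by linarith
  have hp1 : 0 < p - 1 := by linarith
  have hq0 : 0 < q := by linarith
  have hq1 : 0 < q - 1 := by linarith
  have hY0 : 0 < Y := lt_of_lt_of_le (by positivity) hY
  have hX0 : 0 < X := by
    have h1 : 0 < q * (q - 1) * (q + 6) := by positivity
    have h2 : 0 < Z := by linarith
    exact lt_of_lt_of_le (mul_pos hp0 h2) hX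
  have hqq : 0 ≤ q ^ 2 - 2 * q - 1 := by nlinarith
  have k1 : 3 * X * c * (p - 1) * (q ^ 2 - 2 * q - 1) ≤
      q * (q - 1) * (p * q * (3 * X + 1) + 6 * p * (p - 1)) := by
    refine le_of_mul_le_mul_left ?_ hY0
    have hc0 : 0 < c := by linarith
    have h1 : 3 * X * c * (p - 1) * (Y * (q ^ 2 - 2 * q - 1)) ≤
        3 * X * c * (p - 1) * (q * (Y * (q - 2) - (q ^ 2 - 2))) := by
      refine mul_le_mul_of_nonneg_left ?_ (by positivity)
      nlinarith
    have h2 := mul_le_mul_of_nonneg_left key hq0.le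
    linarith
  have k2 : 2 * X * (2 * q + 1) * (q ^ 2 - 2 * q - 1) ≤
      q * (q - 1) * (q * (3 * X + 1) + 6 * (p - 1)) := by
    refine le_of_mul_le_mul_left ?_ hp0
    have h1 : X * (2 * p * (2 * q + 1)) * (q ^ 2 - 2 * q - 1) ≤
        X * (3 * (p - 1) * c) * (q ^ 2 - 2 * q - 1) :=
      mul_le_mul_of_nonneg_right (mul_le_mul_of_nonneg_left
        (mul_le_mul (by linarith) hc (by positivity) (by positivity)) hX0.le) hqq
    linarith
  have hbr : 8 ≤ q ^ 3 - 3 * q ^ 2 - 8 * q - 2 := by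
    nlinarith [mul_nonneg (sub_nonneg.mpr hq) (sub_nonneg.mpr hq), mul_nonneg
      (mul_nonneg (sub_nonneg.mpr hq) (sub_nonneg.mpr hq)) (sub_nonneg.mpr hq)]
  have k3 : 8 * X ≤ q * (q - 1) * (q + 6 * (p - 1)) := by
    have h1 : X * 8 ≤ X * (q ^ 3 - 3 * q ^ 2 - 8 * q - 2) :=
      mul_le_mul_of_nonneg_left hbr hX0.le
    linarith
  have k4 : q * (q - 1) * (q + 6 * (p - 1)) < 8 * (p * Z) := by
    calc q * (q - 1) * (q + 6 * (p - 1)) ≤ q * (q - 1) * (p * (q + 6)) :=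
          mul_le_mul_of_nonneg_left (by nlinarith) (by positivity)
      _ = p * (q * (q - 1) * (q + 6)) := by ring
      _ < p * (8 * Z) := mul_lt_mul_of_pos_left hZ hp0
      _ = _ := by ring
  linarith

/-- The bound on the summand of `T`. -/
theorem count_T {q Y v d : ℝ} (hq : 1 < q) (hY : 0 < Y) (hd : 1 ≤ d) (hv0 : 0 ≤ v)
    (hv : v * (q - 1) ≤ Y - 1) :
    ((((q - 1) ^ 2 + 1) * v + 2 * q) / (d * Y)) ≤
      (((q - 1) ^ 2 + 1) * (Y - 1) + 2 * q * (q - 1)) / (Y * (q - 1)) := by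
  have hq1 : 0 < q - 1 := by linarith
  calc _ ≤ (((q - 1) ^ 2 + 1) * v + 2 * q) / Y := by
        gcongr
        exact le_mul_of_one_le_left hY.le hd
    _ ≤ _ := by
      rw [div_le_div_iff₀ hY (by positivity)]
      have := mul_le_mul_of_nonneg_left hv (show 0 ≤ Y * ((q - 1) ^ 2 + 1) by positivity)
      linarith

/-- The bound on the summand of `S`. -/
theorem count_S {p q X u c : ℝ} (hp : 1 < p) (hq : 0 ≤ q) (hX : 1 < X) (hc : 0 < c)
    (hu : u * (p - 1) ≤ X - 1) :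
    p * q * u * (1 + 4 / (3 * (X - 1))) / (c * X) + 2 * p / (c * X) ≤
      (p * q * (3 * X + 1) + 6 * p * (p - 1)) / (3 * (p - 1) * c * X) := by
  have hp1 : 0 < p - 1 := by linarith
  have hX1 : 0 < X - 1 := by linarith
  have hX0 : 0 < X := by linarith
  have h1 : u ≤ (X - 1) / (p - 1) := (le_div_iff₀ hp1).mpr hu
  have h2 : 0 ≤ 4 / (3 * (X - 1)) := by positivity
  calc p * q * u * (1 + 4 / (3 * (X - 1))) / (c * X) + 2 * p / (c * X)
      ≤ p * q * ((X - 1) / (p - 1)) * (1 + 4 / (3 * (X - 1))) / (c * X) + 2 * p / (c * X) := by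
        gcongr
    _ = _ := by
      field_simp
      ring

/-- The arithmetic. -/
theorem false_of_count {p q u c v d : ℕ} (hp : p.Prime) (hq : q.Prime) (hp3 : 3 ≤ p) (hq3 : 3 ≤ q)
    (hne : p ≠ q) (hu : u * (p - 1) ≤ p ^ q - 1) (hv : v * (q - 1) ≤ q ^ p - 1) (hd : 0 < d)
    (hc : 2 * q + 1 ≤ c) (hc3 : q = 3 → 13 ≤ c ∨ (7 ≤ c ∧ 11 ≤ p))
    (h : (q : ℝ) ≤ ((((q : ℝ) - 1) ^ 2 + 1) * v + 2 * q) / (d * (q : ℝ) ^ p) +
      (p : ℝ) * q * u * (1 + 4 / (3 * ((p : ℝ) ^ q - 1))) / (c * (p : ℝ) ^ q) +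
      2 * (p : ℝ) / (c * (p : ℝ) ^ q)) : False := by
  have hpR : (3 : ℝ) ≤ p := by exact_mod_cast hp3
  have hqR : (3 : ℝ) ≤ q := by exact_mod_cast hq3
  have hX3 : (p : ℝ) ^ 3 ≤ (p : ℝ) ^ q := pow_le_pow_right₀ (by linarith) hq3
  have hY3 : (q : ℝ) ^ 3 ≤ (q : ℝ) ^ p := pow_le_pow_right₀ (by linarith) hp3
  have hX1 : (1 : ℝ) < (p : ℝ) ^ q := one_lt_pow₀ (by linarith) hq.ne_zero
  have hY0 : (0 : ℝ) < (q : ℝ) ^ p := by positivity
  have hc0 : (0 : ℝ) < c := by exact_mod_cast (show 0 < c by omega)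
  have hu' : (u : ℝ) * ((p : ℝ) - 1) ≤ (p : ℝ) ^ q - 1 := by
    have h1 : ((u * (p - 1) : ℕ) : ℝ) ≤ ((p ^ q - 1 : ℕ) : ℝ) := Nat.cast_le.mpr hu
    rwa [Nat.cast_mul, Nat.cast_sub hp.one_lt.le, Nat.cast_one,
      Nat.cast_sub (Nat.one_le_pow _ _ hp.pos), Nat.cast_pow, Nat.cast_one] at h1
  have hv' : (v : ℝ) * ((q : ℝ) - 1) ≤ (q : ℝ) ^ p - 1 := by
    have h1 : ((v * (q - 1) : ℕ) : ℝ) ≤ ((q ^ p - 1 : ℕ) : ℝ) := Nat.cast_le.mpr hv
    rwa [Nat.cast_mul, Nat.cast_sub hq.one_lt.le, Nat.cast_one,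
      Nat.cast_sub (Nat.one_le_pow _ _ hq.pos), Nat.cast_pow, Nat.cast_one] at h1
  have t1 := count_T (show (1 : ℝ) < q by linarith) hY0
    (show (1 : ℝ) ≤ d by exact_mod_cast hd) v.cast_nonneg hv'
  have t2 := count_S (show (1 : ℝ) < p by linarith) (show (0 : ℝ) ≤ q by linarith) hX1 hc0 hu'
  rw [add_assoc] at h
  have h2 := h.trans (add_le_add t1 t2)
  generalize hXdef : (p : ℝ) ^ q = X at hX3 hX1 h2
  generalize hYdef : (q : ℝ) ^ p = Y at hY3 hY0 h2
  have hq1 : (0 : ℝ) < (q : ℝ) - 1 := by linarith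
  have hp1 : (0 : ℝ) < (p : ℝ) - 1 := by linarith
  have hX0 : (0 : ℝ) < X := by linarith
  rw [div_add_div _ _ (by positivity) (by positivity), le_div_iff₀ (by positivity)] at h2
  have key : 3 * X * c * ((p : ℝ) - 1) * (Y * ((q : ℝ) - 2) - ((q : ℝ) ^ 2 - 2)) ≤
      Y * ((q : ℝ) - 1) * ((p : ℝ) * q * (3 * X + 1) + 6 * p * ((p : ℝ) - 1)) := by
    linarith
  rcases Nat.eq_or_lt_of_le hq3 with hq' | hq'
  · subst hq'
    have hp5 : 5 ≤ p := by
      rcases Nat.lt_or_ge p 5 with hlt | hge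
      · interval_cases p
        · exact absurd rfl hne
        · norm_num at hp
      · exact hge
    have hY243 : (243 : ℝ) ≤ Y := by
      have h5 : ((3 : ℕ) : ℝ) ^ 5 ≤ ((3 : ℕ) : ℝ) ^ p := pow_le_pow_right₀ (by norm_num) hp5
      rw [hYdef] at h5
      norm_num at h5 ⊢
      exact h5
    refine count_three (by exact_mod_cast hp5) hX3 hY243 (c := (c : ℝ)) ?_ ?_
    · exact_mod_cast hc3 rfl
    · norm_num at key ⊢
      linarith
  · have hq5 : 5 ≤ q := by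
      rcases Nat.lt_or_ge q 5 with hlt | hge
      · have : q = 4 := by omega
        rw [this] at hq; norm_num at hq
      · exact hge
    refine count_five (Z := (3 : ℝ) ^ (q - 1)) hpR (by exact_mod_cast hq5) ?_ ?_ hY3
      (by exact_mod_cast hc) key
    · rw [← hXdef]
      calc (p : ℝ) * (3 : ℝ) ^ (q - 1) ≤ (p : ℝ) * (p : ℝ) ^ (q - 1) := by gcongr
        _ = (p : ℝ) ^ q := by rw [← pow_succ', Nat.sub_add_cancel (by omega)]
    · have h1 : ((q * (q - 1) * (q + 6) : ℕ) : ℝ) < ((8 * 3 ^ (q - 1) : ℕ) : ℝ) :=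
        Nat.cast_lt.mpr (aux_pow hq5)
      push_cast [Nat.cast_sub (show 1 ≤ q by omega)] at h1
      exact h1

universe u

variable {G : Type u} [Group G] [Fintype G] {S W₁ U W₂ : Subgroup G}

/-- `W₁` acts on a subgroup of `U` that it normalises with all orbits but one of size `|W₁|`. -/
theorem card_modEq_one {X : Subgroup G} (d : Cfsg.IsTypePWith S W₁ U W₂)
    (hq : (Nat.card W₁).Prime) (hX : X ≤ U) (hn : W₁ ≤ Subgroup.normalizer (X : Set G)) :
    Nat.card X ≡ 1 [MOD Nat.card W₁] := by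
  have := Fact.mk hq
  obtain ⟨w, hw, hw1⟩ := (Subgroup.bot_or_exists_ne_one W₁).resolve_left d.W₁_ne
  have h := CfsgLib.Sporadic.NormalizerCriterion.card_modEq_inf_centralizer (P := X) (x := w)
    (p := Nat.card W₁) (orderOf_dvd_iff_pow_eq_one.mp (Subgroup.orderOf_dvd_natCard _ hw))
    fun y hy => (Subgroup.mem_normalizer_iff.mp (hn hw) y).mp hy
  have hbot : Subgroup.centralizer {w} ⊓ X = ⊥ := (Subgroup.eq_bot_iff_forall _).mpr fun z hz =>
    Sec13.U_fpf d hw hw1 (hX hz.2) (Subgroup.mem_centralizer_singleton_iff.mp hz.1).symm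
  rwa [hbot, Subgroup.card_bot] at h

/-- A chief factor is the whole of `M_F` when this has order `p ^ q`; its `C` is `C_U(M_F)`. -/
theorem core_data (hkind : Kind2 S W₁ U W₂ ∨ Kind34 S W₁ U W₂) (hS : IsCoatom S)
    (hp : (Nat.card W₂).Prime)
    (hcard : Nat.card (Cfsg.fittingHallOf S) = Nat.card W₂ ^ Nat.card W₁) :
    CoreFactor S W₁ U W₂ ⊥ (U ⊓ Subgroup.centralizer (Cfsg.fittingHallOf S : Set G))
      (Nat.card W₂) := by
  obtain ⟨H₀, C₀, p, hcf⟩ := propCoreFactor S W₁ U W₂ hS hkind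
  have h1 : p ∣ Nat.card W₂ := hcf.W₂_rel ▸ Subgroup.relIndex_dvd_card H₀ W₂
  have h2 : p = Nat.card W₂ := (Nat.prime_dvd_prime_iff_eq hcf.prime hp).mp h1
  subst h2
  have hH : H₀ = ⊥ := by
    have h3 := card_mul_relIndex_of_le hcf.lt.le
    rw [hcf.card, hcard] at h3
    exact Subgroup.card_eq_one.mp (Nat.mul_right_cancel (pow_pos hp.pos _)
      (h3.trans (one_mul _).symm))
  subst hH
  have hC0 : C₀ = U ⊓ Subgroup.centralizer (Cfsg.fittingHallOf S : Set G) := by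
    ext x
    rw [hcf.mem_C, Subgroup.mem_inf, Subgroup.mem_centralizer_iff]
    refine and_congr_right fun _ => forall_congr' fun y => imp_congr_right fun _ => ?_
    rw [Subgroup.mem_bot, mul_inv_eq_one, mul_inv_eq_iff_eq_mul]
    exact eq_comm
  exact hC0 ▸ hcf

/-- `u (p - 1) ≤ p ^ q - 1`, and `u ∣ 31` when `(p, q) = (5, 3)`. -/
theorem index_bound (hGF : PropGaloisField G) (hNG : PropNonGalois G)
    (hkind : Kind2 S W₁ U W₂ ∨ Kind34 S W₁ U W₂) (hS : IsCoatom S)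
    (hp : (Nat.card W₂).Prime) (hq : (Nat.card W₁).Prime) {C : Subgroup G}
    (hcf : CoreFactor S W₁ U W₂ ⊥ C (Nat.card W₂)) :
    C.relIndex U * (Nat.card W₂ - 1) ≤ Nat.card W₂ ^ Nat.card W₁ - 1 ∧
      (Nat.card W₂ = 5 → Nat.card W₁ = 3 → C.relIndex U ∣ 31) := by
  have hp2 := hp.two_le
  have hq1 := hq.one_lt
  by_cases hgal : Galois S U ⊥
  · obtain ⟨hdvd, -⟩ := hGF S W₁ U W₂ ⊥ _ _ hS hkind hcf hgal
    refine ⟨?_, fun e5 e3 => by rwa [e5, e3] at hdvd⟩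
    have hd : Nat.card W₂ - 1 ∣ Nat.card W₂ ^ Nat.card W₁ - 1 := Nat.sub_one_dvd_pow_sub_one _ _
    obtain ⟨k, hk⟩ := hd
    rw [hk, Nat.mul_div_cancel_left _ (by omega)] at hdvd
    rw [hk, mul_comm]
    refine Nat.mul_le_mul_left _ (Nat.le_of_dvd (Nat.pos_of_ne_zero fun h => ?_) hdvd)
    rw [h, mul_zero] at hk
    have : Nat.card W₂ ^ 1 ≤ Nat.card W₂ ^ Nat.card W₁ := Nat.pow_le_pow_right (by omega) hq1.le
    rw [pow_one] at this
    omega
  · obtain ⟨a, ha1, hap, haodd, hdvd, -⟩ := hNG S W₁ U W₂ ⊥ _ _ hS hkind hcf hgal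
    refine ⟨?_, fun e5 _ => ?_⟩
    · have hale : a ≤ Nat.card W₂ := (Nat.le_of_dvd (by omega) hap).trans (Nat.sub_le _ _)
      have h1 : C.relIndex U ≤ Nat.card W₂ ^ (Nat.card W₁ - 1) :=
        (Nat.le_of_dvd (pow_pos (by omega) _) hdvd).trans (Nat.pow_le_pow_left hale _)
      refine (Nat.mul_le_mul_right _ h1).trans ?_
      rw [Nat.mul_sub_one, ← pow_succ, Nat.sub_add_cancel (by omega)]
      have : 1 ≤ Nat.card W₂ ^ (Nat.card W₁ - 1) := Nat.one_le_pow _ _ (by omega)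
      omega
    · rw [e5] at hap
      have hle := Nat.le_of_dvd (by norm_num) hap
      obtain ⟨b, hb⟩ := haodd
      interval_cases a <;> omega

/-- For Type II the order of `C_U(M_F)` is not coprime to its index in `U`. -/
theorem not_coprime_index (hG : Cfsg.IsMinSimpleOddOrder G) (hS : IsCoatom S)
    (h2 : Kind2 S W₁ U W₂) {C : Subgroup G}
    (hC : C = U ⊓ Subgroup.centralizer (Cfsg.fittingHallOf S : Set G)) (hne : C ≠ ⊥) :
    ¬ Nat.Coprime (Nat.card C) (C.relIndex U) := fun hcop => by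
  have hUc := h2.U_comm
  refine h2.normalizer_not_le fun g hg => ?_
  have hCle : C ≤ U := hC.le.trans inf_le_left
  have hCU : ∀ x, x ∈ C ↔ x ∈ U ∧ x ^ Nat.card C = 1 := by
    refine fun x => ⟨fun hx => ⟨hCle hx,
      orderOf_dvd_iff_pow_eq_one.mp (Subgroup.orderOf_dvd_natCard _ hx)⟩, fun ⟨hx, hxc⟩ => ?_⟩
    haveI : (C.subgroupOf U).Normal :=
      ⟨fun a ha b => by rwa [hUc.1.1 b a, mul_inv_cancel_right]⟩
    have h1 := Subgroup.pow_index_mem (C.subgroupOf U) ⟨x, hx⟩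
    rw [Subgroup.mem_subgroupOf] at h1
    obtain ⟨m, hm⟩ := exists_pow_eq_self_of_coprime (x := x) (n := C.relIndex U)
      (hcop.symm.coprime_dvd_right (orderOf_dvd_of_pow_eq_one hxc))
    rw [← hm]
    exact pow_mem h1 _
  have hgC : g ∈ Subgroup.normalizer (C : Set G) := by
    refine Subgroup.mem_normalizer_iff.mpr fun x => ?_
    rw [hCU, hCU, Subgroup.mem_normalizer_iff.mp hg x, conj_pow, conj_eq_one_iff]
  obtain ⟨x, hx, hx1⟩ := (Subgroup.bot_or_exists_ne_one _).resolve_left hne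
  by_contra hgS
  have hF : ∀ y ∈ C, y ∈ Cfsg.fittingOf S := fun y hy => by
    rw [← h2.data.fitting_eq]
    exact Subgroup.mem_sup_right ⟨Sec13.U_le h2.data (hCle hy), (hC.le hy).2⟩
  exact hx1 (h2.TI g ((Sec13.normalizer_fittingOf hG hS h2.data).symm ▸ hgS) x (hF x hx)
    (hF _ ((Subgroup.mem_normalizer_iff.mp hgC x).mp hx)))

/-- The lower bounds for `|C_U(M_F)|`. -/
theorem c_bounds (hG : Cfsg.IsMinSimpleOddOrder G) (hS : IsCoatom S)
    (hkind : Kind2 S W₁ U W₂ ∨ Kind34 S W₁ U W₂)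
    (hlt : Nat.card W₁ < Nat.card W₂ → Kind2 S W₁ U W₂)
    (hp : (Nat.card W₂).Prime) (hq : (Nat.card W₁).Prime) (hne : Nat.card W₁ ≠ Nat.card W₂)
    (hcard : Nat.card (Cfsg.fittingHallOf S) = Nat.card W₂ ^ Nat.card W₁)
    {C : Subgroup G} (hC : C = U ⊓ Subgroup.centralizer (Cfsg.fittingHallOf S : Set G))
    (hCn : U ⊔ W₁ ≤ Subgroup.normalizer (C : Set G))
    (h31 : Nat.card W₂ = 5 → Nat.card W₁ = 3 → C.relIndex U ∣ 31) (hC1 : C ≠ ⊥) :
    2 * Nat.card W₁ + 1 ≤ Nat.card C ∧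
      (Nat.card W₁ = 3 → 13 ≤ Nat.card C ∨ (7 ≤ Nat.card C ∧ 11 ≤ Nat.card W₂)) := by
  have d := (Kind2.or_basic hkind).1
  have hodd : ∀ H : Subgroup G, Odd (Nat.card H) := fun H =>
    hG.1.of_dvd_nat (Subgroup.card_subgroup_dvd_card _)
  have hm := card_modEq_one d hq (hC.le.trans inf_le_left) ((le_sup_right : W₁ ≤ U ⊔ W₁).trans hCn)
  obtain ⟨a, ha⟩ := hodd W₁
  obtain ⟨b, hb⟩ := hodd C
  have hc1 : Nat.card C ≠ 1 := fun e => hC1 (Subgroup.card_eq_one.mp e)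
  have hge : 2 * Nat.card W₁ + 1 ≤ Nat.card C := by
    obtain ⟨m, hm'⟩ : Nat.card W₁ ∣ Nat.card C - 1 :=
      (Nat.modEq_iff_dvd' Nat.card_pos).mp hm.symm
    rcases m with _ | _ | m
    · omega
    · omega
    · nlinarith [Nat.sub_add_cancel (show 1 ≤ Nat.card C from Nat.card_pos)]
  refine ⟨hge, fun h3 => ?_⟩
  by_contra hcon
  rw [not_or, not_and, not_le, not_le] at hcon
  have h11 := hcon.2 (by omega)
  rw [h3] at hm hge
  change Nat.card C % 3 = 1 % 3 at hm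
  have h7 : Nat.card C = 7 := by omega
  obtain ⟨a', ha'⟩ := hodd W₂
  have hcop := (Sec13.coprime_fittingHall_U d).coprime_dvd_right
    (Subgroup.card_dvd_of_le (hC.le.trans inf_le_left : C ≤ U))
  rw [hcard, h7, h3] at hcop
  have h5 : Nat.card W₂ = 5 := by
    interval_cases h : Nat.card W₂ <;>
      first | omega | (norm_num at hp; done) | norm_num at hcop
  refine not_coprime_index hG hS (hlt (by omega)) hC hC1 ?_
  rw [h7]
  exact Nat.Coprime.coprime_dvd_right (h31 h5 h3) (by norm_num)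

end CfsgLib.PF.Sec13Reg
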