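import Cfsg.Agent.Lib.PF.Sec13RegPair
import Cfsg.Agent.Lib.PF.Sec13RegArith
import Cfsg.Agent.Lib.PF.TIDataExists

/-!
# Peterfalvi (13.12): `U` acts faithfully on `M_F`
-/

set_option autoImplicit false
set_option linter.style.haveILetI false
set_option linter.unusedSectionVars false

namespace CfsgLib.PF

open scoped Classical
open CfsgLib.OddOrder CfsgLib.Characters CfsgLib.OddChar CfsgLib.Clifford

universe u

variable {G : Type u} [Group G] [Fintype G]

namespace Sec13Reg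

variable {S W₁ U W₂ : Subgroup G}

/-- The characters on one side of a pair, the degree being `|U : C_U(M_F)|`. -/
theorem exists_side (hG : Cfsg.IsMinSimpleOddOrder G) (hT : PropTypes G) (hD : PropDade G)
    (hS : PropSubcoherentP G) (hR : PropReducible G) (hmax : IsCoatom S)
    (hkind : Kind2 S W₁ U W₂ ∨ Kind34 S W₁ U W₂) (hp : (Nat.card W₂).Prime)
    (hTI : Cfsg.IsTISubset (suppA0 S)) (hN : Subgroup.normalizer (suppA0 S) = S)
    (hcoh : Cfsg.IsCoherent (calS S (Cfsg.fittingHallOf S) ⊥) ({1}ᶜ : Set ↥S) (tau S))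
    {C : Subgroup G} (hcf : CoreFactor S W₁ U W₂ ⊥ C (Nat.card W₂)) :
    ∃ μ δ η, SideCtx S W₁ U W₂ μ δ η (C.relIndex U) := by
  have d := (Kind2.or_basic hkind).1
  obtain ⟨μ, δ, η, ti⟩ := propTIData hG hT hD S W₁ U W₂ hmax d
  refine ⟨μ, δ, η, ⟨hG, hT, hD, hS, hmax, d, ti, hp, hTI, hN, hcoh, fun ν hν => ?_⟩⟩
  have hW := d.selfNormalizing
  have hq := (three_le_card hW (odd_W hG d)).1
  have hmem : red S μ ν ∈ calS S (Cfsg.fittingHallOf S) ⊥ :=
    mem_calS_of_rel (rel_of_ti ti d hν)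
  have hni : ¬ Cfsg.IsIrrCharacter ↥S (red S μ ν) := fun hi => by
    have h1 := classInner_irr_self hi
    rw [ti.classInner_red_red hW, if_pos (AgreeR.refl ν)] at h1
    have : Nat.card W₁ = 1 := by exact_mod_cast h1
    omega
  have h2 := ((hR S W₁ U W₂ ⊥ C _ hmax hkind hcf).2 _ hmem hni).2.1
  rw [red, CfsgLib.Induction.indFun_one_apply] at h2
  have hidx : ((⁅S, S⁆ : Subgroup G).subgroupOf S).index = Nat.card W₁ := by
    have h3 := Subgroup.card_mul_index ((⁅S, S⁆ : Subgroup G).subgroupOf S)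
    rw [show Nat.card ↥((⁅S, S⁆ : Subgroup G).subgroupOf S) = Nat.card ↥⁅S, S⁆ from
      card_dK (Subgroup.commutator_le_self S), ← Sec13.card_derived_mul d] at h3
    exact Nat.eq_of_mul_eq_mul_left Nat.card_pos h3
  rw [hidx, Nat.cast_mul] at h2
  exact mul_left_cancel₀ (Nat.cast_ne_zero.mpr (by omega)) h2

end Sec13Reg

open Sec13Reg in
/-- **PF (13.12)**. -/
theorem propRegFcore (hG : Cfsg.IsMinSimpleOddOrder G) (hT : PropTypes G) (hD : PropDade G)
    (hP : PropPairFacts G) (hS : PropSubcoherentP G) (hGF : PropGaloisField G)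
    (hNG : PropNonGalois G) (hR : PropReducible G) : PropRegFcore G := by
  intro S T W₁ W₂ U V hpair
  obtain ⟨hq, hp, hne, hkS, hlt, hPel, hPcard, -, hTIS, hNS, hcohS⟩ := hP S T W₁ W₂ U V hpair
  obtain ⟨-, -, -, hkT, -, hQel, hQcard, -, hTIT, hNT, hcohT⟩ :=
    hP T S W₂ W₁ V U (Sec13.TypePPair.symm hpair)
  have hkindS : Kind2 S W₁ U W₂ ∨ Kind34 S W₁ U W₂ := hkS.imp id fun h => h.1
  have hkindT : Kind2 T W₂ V W₁ ∨ Kind34 T W₂ V W₁ := hkT.imp id fun h => h.1
  have dS := (Kind2.or_basic hkindS).1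
  have dT := (Kind2.or_basic hkindT).1
  set C := U ⊓ Subgroup.centralizer (Cfsg.fittingHallOf S : Set G) with hC
  set C' := V ⊓ Subgroup.centralizer (Cfsg.fittingHallOf T : Set G) with hC'
  have hcfS := core_data hkindS hpair.left_max hp hPcard
  have hcfT := core_data hkindT hpair.right_max hq hQcard
  rw [← hC] at hcfS
  rw [← hC'] at hcfT
  obtain ⟨μ, δ, η, cS⟩ := exists_side hG hT hD hS hR hpair.left_max hkindS hp hTIS hNS hcohS hcfS
  obtain ⟨μ', δ', η', cT⟩ :=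
    exists_side hG hT hD hS hR hpair.right_max hkindT hq hTIT hNT hcohT hcfT
  obtain ⟨hubd, h31⟩ := index_bound hGF hNG hkindS hpair.left_max hp hq hcfS
  obtain ⟨hvbd, -⟩ := index_bound hGF hNG hkindT hpair.right_max hq hp hcfT
  by_contra hC1
  obtain ⟨hc, hc3⟩ := c_bounds hG hpair.left_max hkindS hlt hp hq hne hPcard hC hcfS.C_normal
    h31 hC1
  have hodd : ∀ H : Subgroup G, Odd (Nat.card H) := fun H =>
    hG.1.of_dvd_nat (Subgroup.card_subgroup_dvd_card _)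
  have hp3 : 3 ≤ Nat.card W₂ := by
    obtain ⟨k, hk⟩ := hodd W₂; have := hp.two_le; omega
  have hq3 : 3 ≤ Nat.card W₁ := by
    obtain ⟨k, hk⟩ := hodd W₁; have := hq.two_le; omega
  have hCU : C ≤ U := inf_le_left
  have hCV : C' ≤ V := inf_le_left
  have eS1 := card_mul_relIndex_of_le hCU
  have eT1 := card_mul_relIndex_of_le hCV
  have eS2 := Sec13.card_derived_mul dS
  have eT2 := Sec13.card_derived_mul dT
  have eS3 : Nat.card (Cfsg.fittingHallOf S) * Nat.card U = Nat.card ↥⁅S, S⁆ := by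
    rw [← IsComplIn.relIndex_left dS.U_compl, card_mul_relIndex_of_le dS.U_compl.1]
  have eT3 : Nat.card (Cfsg.fittingHallOf T) * Nat.card V = Nat.card ↥⁅T, T⁆ := by
    rw [← IsComplIn.relIndex_left dT.U_compl, card_mul_relIndex_of_le dT.U_compl.1]
  refine false_of_count (u := C.relIndex U) (v := C'.relIndex V) (c := Nat.card C)
    (d := Nat.card C') hp hq hp3 hq3 (Ne.symm hne) hubd hvbd Nat.card_pos hc hc3 ?_
  have hvR : ((Nat.card W₁ : ℝ) - 1) * (C'.relIndex V : ℝ) ≤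
      (Nat.card (Cfsg.fittingHallOf T) : ℝ) - 1 := by
    have h1 : ((C'.relIndex V * (Nat.card W₁ - 1) : ℕ) : ℝ) ≤
        ((Nat.card W₁ ^ Nat.card W₂ - 1 : ℕ) : ℝ) := Nat.cast_le.mpr hvbd
    rw [Nat.cast_mul, Nat.cast_sub hq.one_lt.le, Nat.cast_one,
      Nat.cast_sub (Nat.one_le_pow _ _ hq.pos), Nat.cast_one, ← hQcard] at h1
    linarith
  have main := pair_count cS cT hQel hvR
  have hu0 : C.relIndex U ≠ 0 := fun e => (mul_pos_iff.mp (eS1 ▸ Nat.card_pos)).elim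
    (fun r => r.2.ne' e) (fun r => Nat.not_lt_zero _ r.2)
  have hv0 : C'.relIndex V ≠ 0 := fun e => (mul_pos_iff.mp (eT1 ▸ Nat.card_pos)).elim
    (fun r => r.2.ne' e) (fun r => Nat.not_lt_zero _ r.2)
  rw [← eS2, ← eT2, ← eS3, ← eT3, ← eS1, ← eT1, hPcard, hQcard] at main
  push_cast at main
  generalize hXdef : (Nat.card W₂ : ℝ) ^ Nat.card W₁ = X at main ⊢
  generalize hYdef : (Nat.card W₁ : ℝ) ^ Nat.card W₂ = Y at main ⊢
  have hX1 : (1 : ℝ) < X := hXdef ▸ one_lt_pow₀ (by exact_mod_cast hp.one_lt) hq.ne_zero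
  have hY1 : (1 : ℝ) < Y := hYdef ▸ one_lt_pow₀ (by exact_mod_cast hq.one_lt) hp.ne_zero
  have hq0 : (0 : ℝ) < Nat.card W₁ := by exact_mod_cast hq.pos
  have hp0 : (0 : ℝ) < Nat.card W₂ := by exact_mod_cast hp.pos
  have hu : (0 : ℝ) < (C.relIndex U : ℝ) := by exact_mod_cast Nat.pos_of_ne_zero hu0
  have hv : (0 : ℝ) < (C'.relIndex V : ℝ) := by exact_mod_cast Nat.pos_of_ne_zero hv0
  have hc0 : (0 : ℝ) < (Nat.card C : ℝ) := by exact_mod_cast Nat.card_pos
  have hd0 : (0 : ℝ) < (Nat.card C' : ℝ) := by exact_mod_cast Nat.card_pos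
  generalize (Nat.card W₁ : ℝ) = q at main hq0 ⊢
  generalize (Nat.card W₂ : ℝ) = p at main hp0 ⊢
  generalize (C.relIndex U : ℝ) = u at main hu ⊢
  generalize (C'.relIndex V : ℝ) = v at main hv ⊢
  generalize (Nat.card C : ℝ) = c at main hc0 ⊢
  generalize (Nat.card C' : ℝ) = d at main hd0 ⊢
  have hX0 : 0 < X - 1 := by linarith
  have hX : 0 < X := by linarith
  have hY : 0 < Y := by linarith
  have eA : (X * (c * u) * q ^ 2 - q ^ 2 * u ^ 2 - 4 / 3 * (q * u) ^ 2 / (X - 1) -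
        2 * (q * u)) / (X * (c * u) * q) =
      q - (q * u * (1 + 4 / (3 * (X - 1))) / (c * X) + 2 / (c * X)) := by
    field_simp
    ring
  have eB : (Y * (d * v) * q - ((q - 1) ^ 2 + 1) * v ^ 2 - 2 * q * v) / (Y * (d * v) * p) =
      q / p - (((q - 1) ^ 2 + 1) * v + 2 * q) / (d * Y) / p := by
    field_simp
    ring
  rw [eA, eB] at main
  have h1 : q / p ≤ q * u * (1 + 4 / (3 * (X - 1))) / (c * X) + 2 / (c * X) +
      (((q - 1) ^ 2 + 1) * v + 2 * q) / (d * Y) / p := by linarith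
  calc q = p * (q / p) := by field_simp
    _ ≤ p * (q * u * (1 + 4 / (3 * (X - 1))) / (c * X) + 2 / (c * X) +
      (((q - 1) ^ 2 + 1) * v + 2 * q) / (d * Y) / p) := mul_le_mul_of_nonneg_left h1 hp0.le
    _ = _ := by field_simp; ring

end CfsgLib.PF
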