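import Cfsg.Agent.Lib.PF.Assembly
import Cfsg.Agent.Lib.PF.Sec10Primes
import Cfsg.Agent.Lib.PF.Sec10NoTypeV
import Cfsg.Agent.Lib.PF.Sec13Reg
import Cfsg.Agent.Lib.PF.Sec11Main

/-!
# The Odd Order Theorem from the last open propositions
-/

set_option autoImplicit false

namespace CfsgLib.PF

open scoped Classical

universe u

variable {G : Type u} [Group G] [Fintype G]

/-- (13.2) from (11.6)–(11.9). -/
theorem pairFacts_of_typeIII (hG : Cfsg.IsMinSimpleOddOrder G) (hIII : PropTypeIII G) :
    PropPairFacts G :=
  pairFacts_of_sec10 hG (propNoTypeV hG) (propPrimes hG (propNoTypeV hG))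
    (propTypeII hG (propNoTypeV hG)) hIII

/-- (13.12) from (11.6)–(11.9). -/
theorem regFcore_of_typeIII (hG : Cfsg.IsMinSimpleOddOrder G) (hIII : PropTypeIII G) :
    PropRegFcore G :=
  propRegFcore hG (propTypes hG) (propDade hG) (pairFacts_of_typeIII hG hIII)
    (subcoherentP hG (propTypes hG) (propDade hG)) propGaloisField (propNonGalois hG) propReducible

/-- (13.17) from (11.6)–(11.9). -/
theorem typeIISupport_of_typeIII (hG : Cfsg.IsMinSimpleOddOrder G) (hIII : PropTypeIII G) :
    PropTypeIISupport G :=
  typeIISupport_of_sec10 hG (propNoTypeV hG) (propPrimes hG (propNoTypeV hG))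
    (propTypeII hG (propNoTypeV hG)) hIII (regFcore_of_typeIII hG hIII)

/-- `PropPairFinal` and `PropTypeIII` exclude a minimal simple group of odd order. -/
theorem false_of_open (hG : Cfsg.IsMinSimpleOddOrder G) (hIII : PropTypeIII G)
    (hF : PropPairFinal G) : False :=
  false_of_minSimple hG (propNoTypeV hG) (propPrimes hG (propNoTypeV hG))
    (propTypeII hG (propNoTypeV hG)) hIII hF

/-- (13.2), (13.12), (13.17) for every minimal simple group of odd order. -/
theorem sec13_props (hG : Cfsg.IsMinSimpleOddOrder G) :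
    PropPairFacts G ∧ PropRegFcore G ∧ PropTypeIISupport G :=
  ⟨pairFacts_of_typeIII hG (propTypeIII hG), regFcore_of_typeIII hG (propTypeIII hG),
    typeIISupport_of_typeIII hG (propTypeIII hG)⟩

/-- Only (14.7)–(14.16) is left. -/
theorem false_of_pairFinal (hG : Cfsg.IsMinSimpleOddOrder G) (hF : PropPairFinal G) : False :=
  false_of_open hG (propTypeIII hG) hF

/-- The Odd Order Theorem from the non-existence of a minimal simple group of odd order. -/
theorem oddSolvable_of_false
    (h : ∀ (H : Type u) [Group H] [Finite H], Cfsg.IsMinSimpleOddOrder H → False) :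
    CfsgLib.FTCons.OddSolvable.{u} :=
  fun G _ _ hG => isSolvable_of_odd h G hG

end CfsgLib.PF
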