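import Cfsg.Agent.Lib.PF.Sec10Setup

/-!
# PF (10.4)–(10.6): the bridge `α = μ₀ⱼ - δ μ₀₀ - n ζ` and its Dade image
-/

set_option autoImplicit false
set_option linter.style.haveILetI false
set_option linter.unusedSectionVars false

namespace CfsgLib.PF

open scoped Classical ComplexConjugate
open Finset CfsgLib.Characters CfsgLib.OddChar

universe u

variable {G : Type u} [Group G] [Fintype G]

/-- `μ₀ⱼ - δ μ₀₀ - n ζ`. -/
def bridge10 {M W₁ W₂ : Subgroup G} (μ : (↥(W₁ ⊔ W₂) →* ℂˣ) → (↥M → ℂ)) (ζ : ↥M → ℂ) (e n : ℤ)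
    (ψ : ↥(W₁ ⊔ W₂) →* ℂˣ) : ↥M → ℂ :=
  μ ψ - (e : ℂ) • μ 1 - (n : ℂ) • ζ

namespace NCSetup

variable {M W₁ U W₂ : Subgroup G} {μ : (↥(W₁ ⊔ W₂) →* ℂˣ) → (↥M → ℂ)}
  {δ : (↥(W₁ ⊔ W₂) →* ℂˣ) → ℂ} {η : (↥(W₁ ⊔ W₂) →* ℂˣ) → (G → ℂ)}
  {R : (↥M → ℂ) → Finset (G → ℂ)} {τ₁ : (↥M → ℂ) → (G → ℂ)} {ζ : ↥M → ℂ} {d : ℕ} {e n : ℤ}
  (s : NCSetup M W₁ U W₂ μ δ η R τ₁ ζ d e n)

include s

theorem dadeA0 : Cfsg.DadeHypothesis (suppA0 M) M (Cfsg.supportR M) :=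
  dade (propTypes s.min) (propDade s.min) s.max s.data

theorem dadeA : Cfsg.DadeHypothesis (suppA M) M (Cfsg.supportR M) :=
  (propDade s.min M _ s.max (Or.inr (Or.inl rfl))).2

theorem three_le : 3 ≤ Nat.card W₁ ∧ 3 ≤ Nat.card W₂ :=
  three_le_card s.data.selfNormalizing (odd_W s.min s.data)

theorem one_le_n : 1 ≤ n := by
  have h3 := s.three_le.1
  have h1 := s.one_lt
  have h2 := s.deg_eq
  rcases s.sign with r | r <;> subst r <;>
  · by_contra hn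
    have : n * (Nat.card W₁ : ℤ) ≤ 0 := mul_nonpos_of_nonpos_of_nonneg (by omega) (by positivity)
    omega

theorem d_eq : (d : ℂ) = e + n * (Nat.card W₁ : ℂ) := by exact_mod_cast s.deg_eq

theorem vanish {χ : ↥M → ℂ} (hχ : χ ∈ calS M (Cfsg.typeCore M) ⊥) {x : ↥M}
    (hx : (x : G) ∉ (⁅M, M⁆ : Subgroup G)) : χ x = 0 := by
  obtain ⟨θ, -, -, -, rfl⟩ := hχ.1
  exact CfsgLib.Induction.indFun_normal_eq_zero _ hx

theorem conj_mem : Cfsg.conjFun ζ ∈ calS M (Cfsg.typeCore M) ⊥ :=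
  s.part.sys.conj_mem ζ s.mem

theorem conj_ne : Cfsg.conjFun ζ ≠ ζ := s.part.sys.conj_ne ζ s.mem

theorem conj_deg : Cfsg.conjFun ζ 1 = (Nat.card W₁ : ℂ) := by
  simp [Cfsg.conjFun, s.deg]

theorem ne_μ {χ : ↥M → ℂ} (hχ : χ ∈ calS M (Cfsg.typeCore M) ⊥) (ω : ↥(W₁ ⊔ W₂) →* ℂˣ) :
    χ ≠ μ ω := by
  intro h
  obtain ⟨hW₁M, -, -, -, -⟩ := typeP_le s.data
  obtain ⟨a, ha, ha1⟩ := (Subgroup.bot_or_exists_ne_one W₁).resolve_left s.data.W₁_ne
  have h2 : a ∉ W₂ := fun hh =>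
    ha1 (Subgroup.mem_bot.mp (s.data.selfNormalizing.2.2.1.le ⟨ha, hh⟩))
  have hK : a ∉ (⁅M, M⁆ : Subgroup G) := fun hh =>
    ha1 (Subgroup.mem_bot.mp (s.data.W₁_compl.2.2.1.le ⟨hh, ha⟩))
  have h0 : μ ω ⟨a, hW₁M ha⟩ = 0 := h ▸ s.vanish hχ hK
  rw [s.ti.μ_value ω ⟨a, hW₁M ha⟩ (Subgroup.mem_sup_left ha) h2] at h0
  rcases mul_eq_zero.mp h0 with r | r
  · rcases s.ti.δ_sign ω with r' | r' <;> rw [r'] at r <;> norm_num at r
  · exact Units.ne_zero _ r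

theorem ne_red {χ : ↥M → ℂ} (hχ : Cfsg.IsIrrCharacter ↥M χ) (ω : ↥(W₁ ⊔ W₂) →* ℂˣ) :
    χ ≠ red M μ ω := by
  intro h
  have h1 := s.ti.classInner_red_red s.data.selfNormalizing ω ω
  rw [← h, classInner_irr_self hχ, if_pos (AgreeR.refl ω)] at h1
  have h3 := s.three_le.1
  have : (1 : ℕ) = Nat.card W₁ := by exact_mod_cast h1
  omega

theorem not_agree {ψ : ↥(W₁ ⊔ W₂) →* ℂˣ} (hψ : TrivL ψ) (hψ1 : ψ ≠ 1) : ¬ AgreeR W₁ W₂ ψ 1 :=
  fun h => hψ1 (eq_one_of_trivR_trivL s.data.selfNormalizing.2.2.1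
    s.data.selfNormalizing.2.2.2.1 (fun w hw => h w hw) hψ)

theorem exists_col : ∃ ψ : ↥(W₁ ⊔ W₂) →* ℂˣ, TrivL ψ ∧ ψ ≠ 1 := by
  have hW := s.data.selfNormalizing
  haveI := finite_linChar hW
  haveI : Nontrivial {ψ : ↥(W₁ ⊔ W₂) →* ℂˣ // TrivL ψ} :=
    Finite.one_lt_card_iff_nontrivial.mp (by rw [card_trivL hW]; linarith [s.three_le.2])
  obtain ⟨⟨ψ, hψ⟩, hne⟩ :=
    exists_ne (⟨1, fun _ _ => rfl⟩ : {ψ : ↥(W₁ ⊔ W₂) →* ℂˣ // TrivL ψ})
  exact ⟨ψ, hψ, fun h => hne (Subtype.ext h)⟩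

theorem bridge_class (ψ : ↥(W₁ ⊔ W₂) →* ℂˣ) :
    Cfsg.IsGeneralizedCharacter ↥M (bridge10 μ ζ e n ψ) :=
  isGeneralizedCharacter_sub
    (isGeneralizedCharacter_sub (isGeneralizedCharacter_irr ⟨_, s.ti.μ_irr ψ⟩)
      (isGeneralizedCharacter_intCast_smul (isGeneralizedCharacter_irr ⟨_, s.ti.μ_irr 1⟩) e))
    (isGeneralizedCharacter_intCast_smul (isGeneralizedCharacter_irr ⟨_, s.irr⟩) n)

variable {ψ : ↥(W₁ ⊔ W₂) →* ℂˣ}

theorem bridge_one (hψ : TrivL ψ) (hψ1 : ψ ≠ 1) : bridge10 μ ζ e n ψ 1 = 0 := by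
  simp only [bridge10, Pi.sub_apply, Pi.smul_apply, (s.const ψ (s.not_agree hψ hψ1)).1, s.ti.μ_one,
    s.deg, smul_eq_mul, s.d_eq]
  ring

/-- The value of the bridge outside `M'`. -/
theorem bridge_val (hψ : TrivL ψ) (hψ1 : ψ ≠ 1) {x : ↥M} (hx : (x : G) ∈ W₁ ⊔ W₂)
    (hx2 : (x : G) ∉ W₂) : bridge10 μ ζ e n ψ x = (e : ℂ) * ((ψ ⟨x, hx⟩ : ℂ) - 1) := by
  have hK : (x : G) ∉ (⁅M, M⁆ : Subgroup G) := by
    intro h
    refine hx2 ((typeP_TPL s.data).mem₂_of_mem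
      (show x ∈ W₁.subgroupOf M ⊔ W₂.subgroupOf M by
        rw [← Subgroup.subgroupOf_sup (typeP_le s.data).1
          (le_sup_right.trans (typeP_le s.data).2.2.2.2)]
        exact hx) h)
  simp only [bridge10, Pi.sub_apply, Pi.smul_apply, s.vanish s.mem hK, s.ti.μ_one,
    s.ti.μ_value ψ x hx hx2, (s.const ψ (s.not_agree hψ hψ1)).2, smul_eq_mul]
  ring

theorem bridge_supp (hψ : TrivL ψ) (hψ1 : ψ ≠ 1) (x : ↥M) (hne : bridge10 μ ζ e n ψ x ≠ 0) :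
    (x : G) ∈ suppA M ∨
      ∃ m ∈ M, ∃ z ∈ W₁ ⊔ W₂, z ∉ W₁ ∧ z ∉ W₂ ∧ (x : G) = m * z * m⁻¹ := by
  have hx1 : x ≠ 1 := fun h => hne (h ▸ s.bridge_one hψ hψ1)
  by_cases hK : (x : G) ∈ (⁅M, M⁆ : Subgroup G)
  · left
    rw [s.supp]
    exact ⟨hK, fun h => hx1 (Subtype.ext h)⟩
  right
  obtain ⟨k, y, hy, hy2, rfl⟩ := TILocal.exists_conj_off (typeP_TPL s.data) (g := x)
    (fun h => hK h)
  have hy' : (y : G) ∈ W₁ ⊔ W₂ := by
    rw [← Subgroup.subgroupOf_sup (typeP_le s.data).1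
      (le_sup_right.trans (typeP_le s.data).2.2.2.2)] at hy
    exact hy
  have e1 := isClassFunction_of_isGeneralizedCharacter (s.bridge_class ψ) y k
  rw [e1, s.bridge_val hψ hψ1 hy' hy2] at hne
  refine ⟨k, k.2, y, hy', fun h1 => hne ?_, hy2, by simp⟩
  rw [hψ ⟨y, hy'⟩ h1, Units.val_one, sub_self, mul_zero]

theorem bridge_off (hψ : TrivL ψ) (hψ1 : ψ ≠ 1) (x : ↥M) (hx : (x : G) ∉ suppA0 M) :
    bridge10 μ ζ e n ψ x = 0 := by
  by_contra hne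
  rcases s.bridge_supp hψ hψ1 x hne with h | ⟨m, hm, z, hz, h1, h2, h3⟩
  · exact hx (Or.inl h)
  · exact hx (h3 ▸ hat_mem_suppA0 (propTypes s.min) s.max s.data hz h1 h2 hm)

theorem inner_bridge (ψ : ↥(W₁ ⊔ W₂) →* ℂˣ) (f : ↥M → ℂ) :
    Cfsg.classInner (bridge10 μ ζ e n ψ) f = Cfsg.classInner (μ ψ) f -
      (e : ℂ) * Cfsg.classInner (μ 1) f - (n : ℂ) * Cfsg.classInner ζ f := by
  simp only [bridge10, classInner_sub_left, classInner_smul_left]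

theorem inner_bridge_μ (hψ1 : ψ ≠ 1) :
    Cfsg.classInner (bridge10 μ ζ e n ψ) (μ ψ) = 1 ∧
      Cfsg.classInner (bridge10 μ ζ e n ψ) (μ 1) = -(e : ℂ) ∧
      Cfsg.classInner (bridge10 μ ζ e n ψ) ζ = -(n : ℂ) ∧
      Cfsg.classInner (bridge10 μ ζ e n ψ) (Cfsg.conjFun ζ) = 0 := by
  have h01 : μ 1 ≠ μ ψ := fun h => hψ1 (s.ti.μ_inj h).symm
  have hz := s.ne_μ s.mem
  have hz' := s.ne_μ s.conj_mem
  have hzc : Cfsg.IsIrrCharacter ↥M (Cfsg.conjFun ζ) := conjFun_irr s.irr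
  simp only [s.inner_bridge, classInner_irr_self (s.ti.μ_irr _), classInner_irr_self s.irr,
    classInner_irr_ne (s.ti.μ_irr 1) (s.ti.μ_irr ψ) h01,
    classInner_irr_ne (s.ti.μ_irr ψ) (s.ti.μ_irr 1) h01.symm,
    classInner_irr_ne (s.ti.μ_irr ψ) s.irr (hz ψ).symm,
    classInner_irr_ne (s.ti.μ_irr 1) s.irr (hz 1).symm,
    classInner_irr_ne s.irr (s.ti.μ_irr ψ) (hz ψ),
    classInner_irr_ne s.irr (s.ti.μ_irr 1) (hz 1),
    classInner_irr_ne (s.ti.μ_irr ψ) hzc (hz' ψ).symm,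
    classInner_irr_ne (s.ti.μ_irr 1) hzc (hz' 1).symm,
    classInner_irr_ne s.irr hzc s.conj_ne.symm]
  refine ⟨?_, ?_, ?_, ?_⟩ <;> ring

theorem tau_bridge_norm (hψ : TrivL ψ) (hψ1 : ψ ≠ 1) :
    Cfsg.classInner (tau M (bridge10 μ ζ e n ψ)) (tau M (bridge10 μ ζ e n ψ)) =
      ((2 + n * n : ℤ) : ℂ) := by
  have hc := isClassFunction_of_isGeneralizedCharacter (s.bridge_class ψ)
  have he : (e : ℂ) * e = 1 := by rcases s.sign with r | r <;> simp [r]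
  obtain ⟨h1, h2, h3, -⟩ := s.inner_bridge_μ hψ1
  rw [tau, dade_isometry s.dadeA0 hc (s.bridge_off hψ hψ1) hc]
  conv_lhs => arg 2; unfold bridge10
  rw [classInner_sub_right, classInner_sub_right, classInner_smul_right, classInner_smul_right,
    h1, h2, h3, map_intCast, map_intCast]
  push_cast
  linear_combination he

theorem tau_bridge_one (hψ : TrivL ψ) (hψ1 : ψ ≠ 1) :
    Cfsg.classInner (tau M (bridge10 μ ζ e n ψ)) (η 1) = -(e : ℂ) := by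
  have hc := isClassFunction_of_isGeneralizedCharacter (s.bridge_class ψ)
  have h2 := (s.inner_bridge_μ hψ1).2.1
  rw [s.ti.μ_one] at h2
  rw [s.ti.family.map_one, tau]
  refine (dade_adjoint s.dadeA0 hc (s.bridge_off hψ hψ1) (ψ := fun _ => (1 : ℂ))
    (fun _ _ => rfl) fun a _ => ?_).trans h2
  rw [finsum_mem_eq_finite_toFinset_sum _ (Set.toFinite _), Finset.sum_const,
    ← Nat.card_eq_card_finite_toFinset, nsmul_eq_mul, mul_one]
  simp only [SetLike.coe_sort_coe]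
  rw [inv_mul_cancel₀ (Nat.cast_ne_zero.mpr Nat.card_pos.ne')]

/-- `(τα, τ₁χ)` in terms of `(α, χ)` and `(τα, τ₁ζ̄)`. -/
theorem tau_bridge_member (hψ : TrivL ψ) (hψ1 : ψ ≠ 1) {χ : ↥M → ℂ}
    (hχ : χ ∈ calS M (Cfsg.typeCore M) ⊥) (m : ℕ) (hm : χ 1 = (m : ℂ) * (Nat.card W₁ : ℂ)) :
    Cfsg.classInner (tau M (bridge10 μ ζ e n ψ)) (τ₁ χ) =
      Cfsg.classInner (bridge10 μ ζ e n ψ) χ +
        (m : ℂ) * Cfsg.classInner (tau M (bridge10 μ ζ e n ψ)) (τ₁ (Cfsg.conjFun ζ)) := by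
  have hc := isClassFunction_of_isGeneralizedCharacter (s.bridge_class ψ)
  have hb : (1 : ℤ) • χ - (m : ℤ) • Cfsg.conjFun ζ ∈
      Cfsg.zspanOn (calS M (Cfsg.typeCore M) ⊥) {1}ᶜ :=
    zspanOn_map hχ s.conj_mem _ _ (by rw [hm, s.conj_deg]; push_cast; ring)
  have he := s.part.ext _ hb
  rw [isometry_sub s.part.iso (zspan_zsmul _ (zspan_of_mem hχ))
    (zspan_zsmul _ (zspan_of_mem s.conj_mem)) hb.1, s.part.iso.2.1 _ (zspan_of_mem hχ),
    s.part.iso.2.1 _ (zspan_of_mem s.conj_mem)] at he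
  simp only [CfsgLib.OddChar.zsmul_eq_smul, one_smul, Int.cast_natCast] at he hb
  have hbc : Cfsg.IsClassFunction ↥M (χ - (m : ℂ) • Cfsg.conjFun ζ) :=
    isClassFunction_sub (isClassFunction_of_isCharacter (s.part.sys.isCharacter _ hχ))
      (isClassFunction_smul
        (isClassFunction_of_isCharacter (s.part.sys.isCharacter _ s.conj_mem)) _)
  have key : Cfsg.classInner (tau M (bridge10 μ ζ e n ψ)) (tau M (χ - (m : ℂ) • Cfsg.conjFun ζ)) =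
      Cfsg.classInner (bridge10 μ ζ e n ψ) (χ - (m : ℂ) • Cfsg.conjFun ζ) :=
    dade_isometry s.dadeA0 hc (s.bridge_off hψ hψ1) hbc
  rw [← he, classInner_sub_right, classInner_smul_right, classInner_sub_right, classInner_smul_right,
    map_natCast, (s.inner_bridge_μ hψ1).2.2.2, mul_zero, sub_zero] at key
  linear_combination key

/-- PF (10.6a): `τα = δ (η₀ⱼ - η₀₀) - n τ₁ζ`, and the image of the column. -/
theorem tau_bridge (hψ : TrivL ψ) (hψ1 : ψ ≠ 1) :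
    tau M (bridge10 μ ζ e n ψ) = (e : ℂ) • (η ψ - η 1) - (n : ℂ) • τ₁ ζ ∧
      τ₁ (red M μ ψ) = (e : ℂ) • colSum η ψ := by
  have hW := s.data.selfNormalizing
  have hdisj := hW.2.2.1
  have hcomm := hW.2.2.2.1
  have hc := isClassFunction_of_isGeneralizedCharacter (s.bridge_class ψ)
  haveI := finite_linChar hW
  haveI := Fintype.ofFinite (↥(W₁ ⊔ W₂) →* ℂˣ)
  haveI := Fintype.ofFinite ↥(W₁ ⊔ W₂)
  obtain ⟨hq, hp⟩ := s.three_le
  obtain ⟨hb1, hb2, hb3, hb4⟩ := s.inner_bridge_μ hψ1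
  set f := tau M (bridge10 μ ζ e n ψ) with hf
  have hfg : Cfsg.IsGeneralizedCharacter G f :=
    dade_virtual s.dadeA0 (s.bridge_class ψ) (s.bridge_off hψ hψ1)
  have hint : ∀ ν, ∃ z : ℤ, Cfsg.classInner f (η ν) = z := fun ν =>
    classInner_generalized_int hfg (family_signed s.ti.family ν).generalized
  choose c hcs using hint
  obtain ⟨y, hy⟩ := classInner_generalized_int hfg
    (s.part.iso.2.2.2 _ (zspan_of_mem s.conj_mem))
  have hc1 : c 1 = -e := by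
    have h := s.tau_bridge_one hψ hψ1
    rw [← hf, hcs] at h
    exact_mod_cast h
  have hfζ : Cfsg.classInner f (τ₁ ζ) = ((y - n : ℤ) : ℂ) := by
    rw [hf, s.tau_bridge_member hψ hψ1 s.mem 1 (by rw [s.deg]; simp), hb3, ← hf, hy]
    push_cast
    ring
  have hζη : ∀ χ, χ ∈ calS M (Cfsg.typeCore M) ⊥ → Cfsg.IsIrrCharacter ↥M χ → ∀ ν,
      Cfsg.classInner (τ₁ χ) (η ν) = 0 := fun χ hχ hi ν =>
    s.part.inner_tau1_zero s.ti hχ fun ω _ h => absurd h (s.ne_red hi ω)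
  have hnormS : ∀ χ ∈ calS M (Cfsg.typeCore M) ⊥, ∀ χ' ∈ calS M (Cfsg.typeCore M) ⊥,
      Cfsg.classInner (τ₁ χ) (τ₁ χ') = Cfsg.classInner χ χ' := fun χ h χ' h' =>
    s.part.iso.2.2.1 _ (zspan_of_mem h) _ (zspan_of_mem h')
  set a : ℤ := y - n with ha
  set Δ := f - (a : ℂ) • τ₁ ζ - (y : ℂ) • τ₁ (Cfsg.conjFun ζ) with hΔ
  have hzcirr : Cfsg.IsIrrCharacter ↥M (Cfsg.conjFun ζ) := conjFun_irr s.irr
  have hΔη : ∀ ν, Cfsg.classInner Δ (η ν) = (c ν : ℂ) := fun ν => by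
    simp only [hΔ, classInner_sub_left, classInner_smul_left, hζη _ s.mem s.irr,
      hζη _ s.conj_mem hzcirr, hcs, mul_zero, sub_zero]
  have hΔnorm : Cfsg.classInner Δ Δ = ((2 + n * n - a * a - y * y : ℤ) : ℂ) := by
    have h1 : Cfsg.classInner (τ₁ ζ) f = (a : ℂ) := by
      rw [classInner_conj_symm, hfζ, map_intCast]
    have h2 : Cfsg.classInner (τ₁ (Cfsg.conjFun ζ)) f = (y : ℂ) := by
      rw [classInner_conj_symm, hy, map_intCast]
    simp only [hΔ, classInner_sub_left, classInner_sub_right, classInner_smul_left,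
      classInner_smul_right, h1, h2, hfζ, hy, hf ▸ s.tau_bridge_norm hψ hψ1,
      hnormS _ s.mem _ s.mem, hnormS _ s.conj_mem _ s.conj_mem, hnormS _ s.mem _ s.conj_mem,
      hnormS _ s.conj_mem _ s.mem, classInner_irr_self s.irr, classInner_irr_self hzcirr,
      classInner_irr_ne s.irr hzcirr s.conj_ne.symm, classInner_irr_ne hzcirr s.irr s.conj_ne,
      map_intCast]
    push_cast
    ring
  have hbessel : ∑ ν, c ν * c ν ≤ 2 + n * n - a * a - y * y := by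
    have h := TILocal.family_bessel s.ti.family c hΔη
    rw [hΔnorm, Complex.intCast_re] at h
    exact_mod_cast h
  set cs : (↥(W₁ ⊔ W₂) →* ℂˣ) → ℤ := fun ω => ∑ ν ∈ univ.filter (AgreeR W₁ W₂ ω), c ν with hcsdef
  have hcolinner : ∀ ω, Cfsg.classInner f (colSum η ω) = (cs ω : ℂ) := fun ω => by
    rw [colSum, finsum_mem_eq_toFinset_sum, classInner_sum_right, hcsdef, Int.cast_sum]
    exact Finset.sum_congr (by ext; simp) fun ν _ => hcs ν
  have hee : e * e = 1 := by rcases s.sign with r | r <;> simp [r]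
  have hred : ∀ ω, ¬ AgreeR W₁ W₂ ω 1 →
      ((τ₁ (red M μ ω) = (e : ℂ) • colSum η ω ∧
          cs ω = e * ((if AgreeR W₁ W₂ ω ψ then 1 else 0) + (d : ℤ) * y)) ∨
        (τ₁ (red M μ ω) = -((e : ℂ) • colSum η ω⁻¹) ∧
          cs ω⁻¹ = -(e * ((if AgreeR W₁ W₂ ω ψ then 1 else 0) + (d : ℤ) * y)))) := by
    intro ω hω
    obtain ⟨θ, hθS⟩ : ∃ θ, θ = red M μ ω := ⟨_, rfl⟩
    have hmem : red M μ ω ∈ calS M (Cfsg.typeCore M) ⊥ := by
      rw [s.core]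
      refine ⟨⟨_, s.ti.res_irr ω, fun h => ?_, fun x hx => ?_, rfl⟩, ?_⟩
      · have h1 := congrFun h 1
        change μ ω 1 = 1 at h1
        rw [(s.const ω hω).1, Nat.cast_eq_one] at h1
        exact absurd h1 s.one_lt.ne'
      · rw [Subgroup.bot_subgroupOf, Subgroup.mem_bot] at hx
        rw [show x = 1 from Subtype.ext hx]
      · rintro ⟨θ', hθ', h1, hker, -⟩
        have h0 := classInner_irr_ne hθ' isIrrCharacter_one h1
        rw [show θ' = θ' 1 • (fun _ => (1 : ℂ)) from funext fun x => by simpa using hker x x.2,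
          classInner_smul_left, classInner_irr_self isIrrCharacter_one, mul_one] at h0
        exact irr_one_ne_zero ⟨θ', hθ'⟩ h0
    have hval : red M μ ω 1 = ((d : ℕ) : ℂ) * (Nat.card W₁ : ℂ) := by
      rw [red, CfsgLib.Induction.indFun_one_apply, derived_index s.data]
      change _ * μ ω 1 = _
      rw [(s.const ω hω).1, mul_comm]
    have hin : Cfsg.classInner (bridge10 μ ζ e n ψ) (red M μ ω) =
        ((if AgreeR W₁ W₂ ω ψ then 1 else 0 : ℤ) : ℂ) := by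
      have h1 : Cfsg.classInner (μ ψ) (red M μ ω) = if AgreeR W₁ W₂ ω ψ then 1 else 0 := by
        rw [classInner_conj_symm, s.ti.classInner_red_μ hW ω ψ]
        split_ifs <;> simp
      have h2 : Cfsg.classInner (μ 1) (red M μ ω) = 0 := by
        rw [classInner_conj_symm, s.ti.classInner_red_μ hW ω 1, if_neg hω, map_zero]
      have h3 : Cfsg.classInner ζ (red M μ ω) = 0 :=
        s.part.sys.orthogonal ζ s.mem _ hmem (s.ne_red s.irr ω)
      rw [s.inner_bridge, h1, h2, h3]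
      split_ifs <;> simp
    have hI := s.tau_bridge_member hψ hψ1 hmem d hval
    rw [hin, ← hf, hy] at hI
    have hδ : δ ω = (e : ℂ) := (s.const ω hω).2
    rcases s.part.tau1_red s.ti s.min (propTypes s.min) (propDade s.min) s.max s.data hω hmem
      s.mem (s.ne_red s.irr ω) (s.ne_red s.irr ω⁻¹) with r | r
    · refine Or.inl ⟨by rw [r, hδ], ?_⟩
      rw [r, classInner_smul_right, hδ, map_intCast, hcolinner] at hI
      have h' : e * cs ω = (if AgreeR W₁ W₂ ω ψ then 1 else 0) + (d : ℤ) * y := by exact_mod_cast hI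
      rw [← h', ← mul_assoc, hee, one_mul]
    · refine Or.inr ⟨by rw [r, hδ], ?_⟩
      rw [r, classInner_neg_right, classInner_smul_right, hδ, map_intCast, hcolinner] at hI
      have h' : -(e * cs ω⁻¹) = (if AgreeR W₁ W₂ ω ψ then 1 else 0) + (d : ℤ) * y := by
        exact_mod_cast hI
      rw [← h', mul_neg, neg_neg, ← mul_assoc, hee, one_mul]
  have hψR := s.not_agree hψ hψ1
  have hψinvR : ¬ AgreeR W₁ W₂ ψ⁻¹ 1 := fun h => hψR (by
    have h' := h.inv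
    rwa [linInv, linInv_one] at h')
  have hψψ : ¬ AgreeR W₁ W₂ ψ⁻¹ ψ := fun h =>
    hψR (agreeR_self_inv (odd_W s.min s.data) h.symm)
  have hcard : ∀ ω, ((univ.filter (AgreeR W₁ W₂ ω)).card : ℤ) = Nat.card W₁ := fun ω => by
    rw [← s.ti.card_col hW ω, Nat.card_eq_fintype_card, Fintype.card_subtype]
  have hy0 : y = 0 := by
    by_contra hy0
    obtain ⟨k, hk, hk2⟩ : ∃ k, ¬ AgreeR W₁ W₂ k 1 ∧ cs k * cs k = (d * y) * (d * y) := by
      rcases hred ψ⁻¹ hψinvR with ⟨-, r⟩ | ⟨-, r⟩ <;> rw [if_neg hψψ, zero_add] at r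
      · exact ⟨ψ⁻¹, hψinvR, by rw [r]; linear_combination ((d : ℤ) * y * ((d : ℤ) * y)) * hee⟩
      · rw [linInv] at r
        exact ⟨ψ, hψR, by rw [r]; linear_combination ((d : ℤ) * y * ((d : ℤ) * y)) * hee⟩
    have h1 : (d * y) * (d * y) ≤ (Nat.card W₁ : ℤ) * ∑ ν ∈ univ.filter (AgreeR W₁ W₂ k), c ν * c ν := by
      rw [← hk2, ← hcard k]
      have := sq_sum_le_card_mul_sum_sq (s := univ.filter (AgreeR W₁ W₂ k)) (f := c)
      simpa [sq, hcsdef] using this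
    have h2 : ∑ ν ∈ univ.filter (AgreeR W₁ W₂ k), c ν * c ν + 1 ≤ ∑ ν, c ν * c ν := by
      have hnot : (1 : ↥(W₁ ⊔ W₂) →* ℂˣ) ∉ univ.filter (AgreeR W₁ W₂ k) := by simpa using hk
      have h := Finset.sum_le_sum_of_subset_of_nonneg
        (Finset.subset_univ (insert 1 (univ.filter (AgreeR W₁ W₂ k))))
        (f := fun ν => c ν * c ν) (fun ν _ _ => mul_self_nonneg (c ν))
      rw [Finset.sum_insert hnot, hc1, neg_mul_neg, hee] at h
      linarith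
    have hn1 := s.one_le_n
    have hd := s.one_lt
    have hdeq := s.deg_eq
    have hd2 : (2 : ℤ) ≤ d := by exact_mod_cast hd
    have hq3 : (3 : ℤ) ≤ Nat.card W₁ := by exact_mod_cast hq
    set q : ℤ := (Nat.card W₁ : ℤ)
    have hkey : (d : ℤ) * d * (y * y) + 2 * q * (y * y) ≤ q + 2 * (n * q) * y := by
      have h3 : ∑ ν ∈ univ.filter (AgreeR W₁ W₂ k), c ν * c ν ≤ 1 + 2 * n * y - 2 * (y * y) := by
        rw [ha] at hbessel
        linarith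
      have h4 := mul_le_mul_of_nonneg_left h3 (show (0 : ℤ) ≤ q by omega)
      linarith
    have hnq : n * q ≤ (d : ℤ) + 1 := by rcases s.sign with r | r <;> rw [r] at hdeq <;> omega
    have hy1 : 1 ≤ y * y := by
      rcases lt_or_gt_of_ne hy0 with r | r <;> nlinarith
    rcases lt_or_gt_of_ne hy0 with r | r
    · nlinarith [mul_neg_of_pos_of_neg (show (0 : ℤ) < n * q by positivity) r]
    · nlinarith [mul_le_mul_of_nonneg_left (show 1 ≤ y by omega) r.le,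
        mul_le_mul_of_nonneg_right hnq r.le,
        mul_le_mul_of_nonneg_left (show 2 ≤ (d : ℤ) from hd2) (show (0 : ℤ) ≤ d by positivity)]
  subst hy0
  have hsum2 : ∑ ν, c ν * c ν ≤ 2 := by
    rw [ha] at hbessel
    linarith
  have htR1 : TrivR (1 : ↥(W₁ ⊔ W₂) →* ℂˣ) := fun _ _ => rfl
  have htL1 : TrivL (1 : ↥(W₁ ⊔ W₂) →* ℂˣ) := fun _ _ => rfl
  have hψ_ne_R : ∀ φ, TrivR φ → φ ≠ ψ := fun φ hφ h =>
    hψ1 (eq_one_of_trivR_trivL hdisj hcomm (h ▸ hφ) hψ)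
  have hrel : ∀ φ, TrivR φ → φ ≠ 1 → c (φ * ψ) - c φ - c ψ + e = 0 := by
    intro φ hφ hφ1
    have h := family_coeff η s.ti.family (isClassFunction_of_isGeneralizedCharacter hfg) hφ hψ
    have hres : Cfsg.classInner (fun w : ↥(W₁ ⊔ W₂) => f w) (ctiAlpha φ ψ) =
        Cfsg.classInner ((e : ℂ) • ((fun w : ↥(W₁ ⊔ W₂) => (ψ w : ℂ)) -
          fun w => ((1 : ↥(W₁ ⊔ W₂) →* ℂˣ) w : ℂ))) (ctiAlpha φ ψ) := by
      unfold Cfsg.classInner
      congr 1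
      refine Finset.sum_congr rfl fun w _ => ?_
      by_cases hw : (w : G) ∈ W₁ ∨ (w : G) ∈ W₂
      · rw [ctiAlpha_vanish hφ hψ w hw, map_zero, mul_zero, mul_zero]
      rw [not_or] at hw
      have hwM : (w : G) ∈ M := (typeP_le s.data).2.2.2.2 w.2
      dsimp only
      rw [hf, tau_hat (propTypes s.min) (propDade s.min) s.max s.data hc w hw.1 hw.2 hwM,
        s.bridge_val hψ hψ1 (x := ⟨w, hwM⟩) w.2 hw.2]
      simp
    have h1 : φ * ψ ≠ ψ := fun r => hφ1 (mul_inj_trivR_trivL hdisj hcomm hφ htR1 hψ hψ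
      (r.trans (one_mul ψ).symm)).1
    have h2 : φ * ψ ≠ 1 := fun r => hφ1 (mul_inj_trivR_trivL hdisj hcomm hφ htR1 hψ htL1
      (r.trans (one_mul (1 : ↥(W₁ ⊔ W₂) →* ℂˣ)).symm)).1
    rw [hres, classInner_smul_left, ctiAlpha_eq_sum] at h
    simp only [classInner_sub_left, classInner_sub_right, classInner_add_right, classInner_hom,
      if_pos, if_neg hψ1, if_neg (hψ_ne_R φ hφ).symm, if_neg h1.symm, if_neg h2.symm,
      if_neg (Ne.symm hψ1), if_neg (Ne.symm hφ1), hcs, hc1] at h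
    have h' : ((c (φ * ψ) - c φ - c ψ + e : ℤ) : ℂ) = ((0 : ℤ) : ℂ) := by
      push_cast at h ⊢
      linear_combination h
    exact_mod_cast h'
  have hpair : ∀ a b : ↥(W₁ ⊔ W₂) →* ℂˣ, a ≠ b → a ≠ 1 → b ≠ 1 → c a ≠ 0 → c b = 0 := by
    intro a b hab ha1 hb1 hca
    by_contra hcb
    have h := Finset.sum_le_sum_of_subset_of_nonneg (Finset.subset_univ ({1, a, b} : Finset _))
      (f := fun ν => c ν * c ν) (fun ν _ _ => mul_self_nonneg (c ν))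
    rw [Finset.sum_insert (by simp [ha1.symm, hb1.symm]), Finset.sum_pair hab, hc1, neg_mul_neg,
      hee] at h
    nlinarith [mul_self_pos.mpr hca, mul_self_pos.mpr hcb]
  have he0 : e ≠ 0 := by rcases s.sign with r | r <;> simp [r]
  have hcψ0 : c ψ ≠ 0 := by
    intro h0
    haveI := Fintype.ofFinite {φ : ↥(W₁ ⊔ W₂) →* ℂˣ // TrivR φ}
    have h2c : 1 < (univ.filter fun φ : {φ : ↥(W₁ ⊔ W₂) →* ℂˣ // TrivR φ} =>
        φ ≠ ⟨1, htR1⟩).card := by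
      rw [Finset.filter_ne', Finset.card_erase_of_mem (mem_univ _), Finset.card_univ,
        ← Nat.card_eq_fintype_card, card_trivR hW]
      omega
    obtain ⟨⟨φ, hφ⟩, hφm, ⟨φ', hφ'⟩, hφ'm, hne⟩ := Finset.one_lt_card.mp h2c
    have hφ1 : φ ≠ 1 := fun r => (mem_filter.mp hφm).2 (Subtype.ext r)
    have hφ'1 : φ' ≠ 1 := fun r => (mem_filter.mp hφ'm).2 (Subtype.ext r)
    have hφφ' : φ ≠ φ' := fun r => hne (Subtype.ext r)
    have key : ∀ a b : ↥(W₁ ⊔ W₂) →* ℂˣ, TrivR a → TrivR b → a * ψ ≠ b := fun a b ha hb r =>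
      hψ1 (mul_inj_trivR_trivL hdisj hcomm ha hb hψ htL1 (r.trans (mul_one b).symm)).2
    have hmul : φ * ψ ≠ φ' * ψ := fun r =>
      hφφ' (mul_inj_trivR_trivL hdisj hcomm hφ hφ' hψ hψ r).1
    have hφψ1 : φ * ψ ≠ 1 := key φ 1 hφ htR1
    have hφ'ψ1 : φ' * ψ ≠ 1 := key φ' 1 hφ' htR1
    have r1 := hrel φ hφ hφ1
    have r2 := hrel φ' hφ' hφ'1
    by_cases hA : c φ = 0
    · have hB : c (φ * ψ) ≠ 0 := by omega
      rw [hpair _ _ hmul hφψ1 hφ'ψ1 hB,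
        hpair _ _ (key φ φ' hφ hφ') hφψ1 hφ'1 hB, h0] at r2
      omega
    · rw [hpair _ _ (key φ' φ hφ' hφ).symm hφ1 hφ'ψ1 hA, hpair _ _ hφφ' hφ1 hφ'1 hA, h0] at r2
      omega
  have hother : ∀ ν, ν ≠ 1 → ν ≠ ψ → c ν = 0 := fun ν h1 h2 => hpair ψ ν h2.symm hψ1 h1 hcψ0
  have hcψ : c ψ = e := by
    haveI : Nontrivial {φ : ↥(W₁ ⊔ W₂) →* ℂˣ // TrivR φ} :=
      Finite.one_lt_card_iff_nontrivial.mp (by rw [card_trivR hW]; omega)
    obtain ⟨⟨φ, hφ⟩, hne⟩ := exists_ne (⟨1, htR1⟩ : {φ : ↥(W₁ ⊔ W₂) →* ℂˣ // TrivR φ})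
    have hφ1 : φ ≠ 1 := fun r => hne (Subtype.ext r)
    have r := hrel φ hφ hφ1
    have hne1 : φ * ψ ≠ 1 := fun r' => hφ1 (mul_inj_trivR_trivL hdisj hcomm hφ htR1 hψ htL1
      (r'.trans (one_mul (1 : ↥(W₁ ⊔ W₂) →* ℂˣ)).symm)).1
    have hne2 : φ * ψ ≠ ψ := fun r' => hφ1 (mul_inj_trivR_trivL hdisj hcomm hφ htR1 hψ hψ
      (r'.trans (one_mul ψ).symm)).1
    rw [hother _ hne1 hne2, hother φ hφ1 (hψ_ne_R φ hφ)] at r
    omega
  constructor
  · refine sub_eq_zero.mp (eq_zero_of_classInner_self ?_)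
    have h0 : Cfsg.classInner (η ψ) f = (e : ℂ) := by
      rw [classInner_conj_symm, hcs, hcψ, map_intCast]
    have h0' : Cfsg.classInner (η 1) f = -(e : ℂ) := by
      rw [classInner_conj_symm, hcs, hc1, map_intCast]
      push_cast
      ring
    have h0z : Cfsg.classInner (τ₁ ζ) f = -(n : ℂ) := by
      rw [classInner_conj_symm, hfζ, map_intCast, ha]
      push_cast
      ring
    have hez : ∀ ν, Cfsg.classInner (η ν) (τ₁ ζ) = 0 := fun ν => by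
      rw [classInner_conj_symm, hζη _ s.mem s.irr, map_zero]
    simp only [classInner_sub_left, classInner_sub_right, classInner_smul_left,
      classInner_smul_right, hf ▸ s.tau_bridge_norm hψ hψ1, h0, h0', h0z, hcs, hcψ, hc1, hfζ, hez,
      hζη _ s.mem s.irr, s.ti.family.orthonormal, if_pos, if_neg hψ1, if_neg (Ne.symm hψ1),
      hnormS _ s.mem _ s.mem, classInner_irr_self s.irr, map_intCast, ha]
    have hec : (e : ℂ) * e = 1 := by exact_mod_cast hee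
    push_cast
    linear_combination (-2 : ℂ) * hec
  · rcases hred ψ hψR with ⟨r, -⟩ | ⟨-, r⟩
    · exact r
    exfalso
    have hz : cs ψ⁻¹ = 0 := Finset.sum_eq_zero fun ν hν => by
      have hν' : AgreeR W₁ W₂ ψ⁻¹ ν := (mem_filter.mp hν).2
      exact hother ν (fun h => hψinvR (h ▸ hν')) (fun h => hψψ (h ▸ hν'))
    rw [hz, if_pos (AgreeR.refl ψ), mul_zero, add_zero, mul_one] at r
    omega

end NCSetup

end CfsgLib.PF
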