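import Cfsg.Agent.Lib.PF.Sec10Common
import Cfsg.Agent.Lib.Chars17.PGroupGalois

/-!
# Sums over the characters with a given central character
-/

set_option autoImplicit false
set_option linter.style.haveILetI false
set_option linter.unusedSectionVars false

namespace CfsgLib.PF

open scoped Classical ComplexConjugate
open Finset CfsgLib.Characters CfsgLib.OddChar

universe u

variable {X : Type u} [Group X] [Fintype X] {Z : Subgroup X}

/-- The central character of `θ` on the central subgroup `Z`. -/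
theorem exists_centralHom_sub (hZ : Z ≤ Subgroup.center X) (θ : Cfsg.IrrCharacter X) :
    ∃ l : ↥Z →* ℂˣ, ∀ (z : Z) (g : X), (θ : X → ℂ) ((z : X) * g) = (l z : ℂ) * (θ : X → ℂ) g := by
  obtain ⟨l, hl⟩ := CfsgLib.Chars17.PGalois.exists_central_hom θ
  exact ⟨l.comp (Subgroup.inclusion hZ), fun z g => hl (Subgroup.inclusion hZ z) g⟩

variable (l : Cfsg.IrrCharacter X → (↥Z →* ℂˣ))
  (hl : ∀ (θ : Cfsg.IrrCharacter X) (z : Z) (g : X), (θ : X → ℂ) ((z : X) * g) = (l θ z : ℂ) * (θ : X → ℂ) g)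

include hl

/-- `∑ θ(1) θ` over the characters with central character `λ₀`. -/
theorem sum_over_central (lam : ↥Z →* ℂˣ) (k : X) :
    ∑ θ ∈ univ.filter (fun θ : Cfsg.IrrCharacter X => l θ = lam),
        (θ : X → ℂ) 1 * (θ : X → ℂ) k =
      if hk : k ∈ Z then (Nat.card X : ℂ) / (Nat.card Z : ℂ) * (lam ⟨k, hk⟩ : ℂ) else 0 := by
  haveI := Fintype.ofFinite Z
  have hind : ∀ θ : Cfsg.IrrCharacter X, (if l θ = lam then (1 : ℂ) else 0) =
      (Nat.card Z : ℂ)⁻¹ * ∑ z : Z, (l θ z : ℂ) * conj ((lam z : ℂ)) := fun θ => by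
    rw [← classInner_hom (l θ) lam]
    rfl
  rw [Finset.sum_filter]
  refine (Finset.sum_congr rfl (g := fun θ : Cfsg.IrrCharacter X =>
    (if l θ = lam then (1 : ℂ) else 0) * ((θ : X → ℂ) 1 * (θ : X → ℂ) k)) fun θ _ => ?_).trans ?_
  · by_cases e : l θ = lam <;> simp [e]
  simp only [hind, mul_assoc, ← Finset.mul_sum, Finset.sum_mul]
  rw [Finset.sum_comm]
  have hz : ∀ z : Z, ∑ θ : Cfsg.IrrCharacter X,
      (l θ z : ℂ) * (conj ((lam z : ℂ)) * ((θ : X → ℂ) 1 * (θ : X → ℂ) k)) =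
        conj ((lam z : ℂ)) * (if (z : X) * k = 1 then (Nat.card X : ℂ) else 0) := fun z => by
    rw [← sum_degree_mul_irr ((z : X) * k), Finset.mul_sum]
    refine Finset.sum_congr rfl fun θ _ => ?_
    rw [hl θ z k]
    ring
  rw [Finset.sum_congr rfl fun z _ => hz z]
  split_ifs with hk
  · rw [Finset.sum_eq_single_of_mem (⟨k, hk⟩⁻¹ : Z) (mem_univ _) fun z _ hne => ?_]
    · rw [if_pos (by simp), hom_conj, MonoidHom.inv_apply, map_inv, inv_inv]
      ring
    · rw [if_neg fun e => hne (Subtype.ext (eq_inv_of_mul_eq_one_left e)), mul_zero]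
  · refine mul_eq_zero_of_right _ (Finset.sum_eq_zero fun z _ => ?_)
    rw [if_neg fun e => hk (by rw [eq_inv_of_mul_eq_one_right e]; exact Z.inv_mem z.2), mul_zero]

/-- Sums against a function constant on the non-identity elements of `Z`. -/
theorem inner_over_central {F : X → ℂ} (lam : ↥Z →* ℂˣ) (hlam : lam ≠ 1) {n d : ℂ}
    (hn : ∀ z : Z, z ≠ 1 → F z = n) (h1 : F 1 = d) :
    ∑ θ ∈ univ.filter (fun θ : Cfsg.IrrCharacter X => l θ = lam),
        conj ((θ : X → ℂ) 1) * Cfsg.classInner F (θ : X → ℂ) = (d - n) / (Nat.card Z : ℂ) := by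
  haveI := Fintype.ofFinite Z
  have e : ∀ θ : Cfsg.IrrCharacter X, conj ((θ : X → ℂ) 1) * Cfsg.classInner F (θ : X → ℂ) =
      (Nat.card X : ℂ)⁻¹ * ∑ k : X, F k * conj ((θ : X → ℂ) 1 * (θ : X → ℂ) k) := fun θ => by
    rw [Cfsg.classInner, Finset.mul_sum, Finset.mul_sum, Finset.mul_sum]
    refine Finset.sum_congr rfl fun k _ => ?_
    rw [map_mul]
    ring
  rw [Finset.sum_congr rfl fun θ _ => e θ, ← Finset.mul_sum, Finset.sum_comm]
  simp only [← Finset.mul_sum, ← map_sum, sum_over_central l hl lam]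
  rw [← Finset.sum_filter_add_sum_filter_not univ (· ∈ Z),
    Finset.sum_eq_zero (s := univ.filter (fun k => ¬ k ∈ Z)) fun k hk => by
      rw [dif_neg (mem_filter.mp hk).2, map_zero, mul_zero], add_zero,
    Finset.sum_subtype (p := (· ∈ Z)) _ (fun x => by simp) (fun k => F k * conj
      (if hk : k ∈ Z then (Nat.card X : ℂ) / (Nat.card Z : ℂ) * (lam ⟨k, hk⟩ : ℂ) else 0))]
  have e2 : ∀ z : Z, F z * conj (if hk : (z : X) ∈ Z then
      (Nat.card X : ℂ) / (Nat.card Z : ℂ) * (lam ⟨z, hk⟩ : ℂ) else 0) =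
        (Nat.card X : ℂ) / (Nat.card Z : ℂ) * (F z * conj ((lam z : ℂ))) := fun z => by
    rw [dif_pos z.2, map_mul, map_div₀, map_natCast, map_natCast]
    ring
  rw [Finset.sum_congr rfl fun z _ => e2 z, ← Finset.mul_sum,
    ← Finset.add_sum_erase _ _ (mem_univ (1 : Z)),
    Finset.sum_congr rfl fun z hz => by rw [hn z (Finset.ne_of_mem_erase hz)], ← Finset.mul_sum]
  have hs : ∑ z ∈ (univ : Finset Z).erase 1, conj ((lam z : ℂ)) = -1 := by
    have h0 := classInner_hom (1 : ↥Z →* ℂˣ) lam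
    rw [if_neg (Ne.symm hlam), Cfsg.classInner, mul_eq_zero] at h0
    have h0' := h0.resolve_left (inv_ne_zero (Nat.cast_ne_zero.mpr Nat.card_pos.ne'))
    rw [← Finset.add_sum_erase _ _ (mem_univ (1 : Z))] at h0'
    simp only [MonoidHom.one_apply, Units.val_one, one_mul, map_one] at h0'
    linear_combination h0'
  rw [hs, map_one, Units.val_one, map_one, OneMemClass.coe_one, h1]
  have hX : (Nat.card X : ℂ) ≠ 0 := Nat.cast_ne_zero.mpr Nat.card_pos.ne'
  field_simp
  ring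

end CfsgLib.PF
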