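import Cfsg.Agent.Lib.PF.TIDataExists
import Cfsg.Agent.Lib.OddChar.GreedyIrr
import Cfsg.Agent.Lib.OddChar.CoherenceExtend
import Cfsg.Agent.Lib.OddChar.FeitFrobenius
import Cfsg.Agent.Lib.OddChar.CentralSet
import Cfsg.Agent.Lib.Characters.Galois

/-!
# PF (10.10): common set-up for the character theory of a maximal subgroup of Type V
-/

set_option autoImplicit false
set_option linter.style.haveILetI false
set_option linter.unusedSectionVars false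

namespace CfsgLib.PF

open scoped Classical ComplexConjugate
open Finset CfsgLib.Characters CfsgLib.OddChar CfsgLib.Clifford

universe u

variable {G : Type u} [Group G] [Fintype G]

/-- `M'` as a subgroup of `M`. -/
abbrev derSub (M : Subgroup G) : Subgroup ↥M := (⁅M, M⁆ : Subgroup G).subgroupOf M

/-- The character of `M` induced from the restriction of `μ ω`. -/
noncomputable def colChar (M : Subgroup G) {W₁ W₂ : Subgroup G}
    (μ : (↥(W₁ ⊔ W₂) →* ℂˣ) → (↥M → ℂ)) (ω : ↥(W₁ ⊔ W₂) →* ℂˣ) : ↥M → ℂ :=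
  Cfsg.indFun (derSub M) (resD M (μ ω))

/-- The data used for a maximal subgroup of Type V. -/
structure VCtx (M W₁ U W₂ : Subgroup G) (μ : (↥(W₁ ⊔ W₂) →* ℂˣ) → (↥M → ℂ))
    (δ : (↥(W₁ ⊔ W₂) →* ℂˣ) → ℂ) (η : (↥(W₁ ⊔ W₂) →* ℂˣ) → (G → ℂ))
    (R : (↥M → ℂ) → Finset (G → ℂ)) (d : ℕ) (δ₀ : ℤ) : Prop where
  coatom : IsCoatom M
  data : Cfsg.IsTypePWith M W₁ U W₂
  oddG : Odd (Nat.card G)
  ti : TIData M W₁ W₂ μ δ η
  dadeA0 : Cfsg.DadeHypothesis (suppA0 M) M (Cfsg.supportR M)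
  notI : ¬ OfTypeI M
  core : Cfsg.typeCore M = ⁅M, M⁆
  nilp : Group.IsNilpotent ↥(derSub M)
  W₂_prime : (Nat.card W₂).Prime
  W₂_le : W₂.subgroupOf M ≤ ⁅derSub M, derSub M⁆
  sys : Cfsg.IsCoherenceSystem (Cfsg.inducedIrrAbove (derSub M) ⊥) (tau M) R
  orth : ∀ χ ∈ Cfsg.inducedIrrAbove (derSub M) ⊥, Cfsg.IsIrrCharacter ↥M χ →
    ∀ α ∈ R χ, ∀ ω, Cfsg.classInner α (η ω) = 0
  sgn : δ₀ = 1 ∨ δ₀ = -1
  d_gt : 1 < d
  d_mod : (Nat.card W₁ : ℤ) ∣ (d : ℤ) - δ₀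
  const : ∀ ω, ¬ AgreeR W₁ W₂ ω 1 → μ ω 1 = (d : ℂ) ∧ δ ω = (δ₀ : ℂ)

theorem tau_add' (M : Subgroup G) (a b : ↥M → ℂ) : tau M (a + b) = tau M a + tau M b := by
  funext g
  simp only [tau, Cfsg.dadeIsometry, Pi.add_apply]
  split_ifs <;> simp

theorem tau_zsmul' (M : Subgroup G) (n : ℤ) (a : ↥M → ℂ) : tau M (n • a) = n • tau M a := by
  funext g
  simp only [tau, Cfsg.dadeIsometry, Pi.smul_apply]
  split_ifs <;> simp

theorem tau_sub' (M : Subgroup G) (a b : ↥M → ℂ) : tau M (a - b) = tau M a - tau M b := by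
  rw [eq_sub_iff_add_eq, ← tau_add', sub_add_cancel]

theorem tau_sum' (M : Subgroup G) {ι : Type*} (s : Finset ι) (a : ι → (↥M → ℂ)) :
    tau M (∑ i ∈ s, a i) = ∑ i ∈ s, tau M (a i) := by
  induction s using Finset.induction_on with
  | empty =>
    have e := tau_zsmul' M 0 (0 : ↥M → ℂ)
    simpa using e
  | insert i s hi ih => rw [Finset.sum_insert hi, Finset.sum_insert hi, tau_add', ih]

variable {M W₁ U W₂ : Subgroup G} {μ : (↥(W₁ ⊔ W₂) →* ℂˣ) → (↥M → ℂ)}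
  {δ : (↥(W₁ ⊔ W₂) →* ℂˣ) → ℂ} {η : (↥(W₁ ⊔ W₂) →* ℂˣ) → (G → ℂ)}
  {R : (↥M → ℂ) → Finset (G → ℂ)} {d : ℕ} {δ₀ : ℤ}

namespace VCtx

variable (h : VCtx M W₁ U W₂ μ δ η R d δ₀)
include h

theorem tpl : TPL (derSub M) (W₁.subgroupOf M) (W₂.subgroupOf M) := typeP_TPL h.data

theorem odd_W' : Odd (Nat.card ↥(W₁ ⊔ W₂)) := h.oddG.of_dvd_nat (Subgroup.card_subgroup_dvd_card _)

theorem odd_M : Odd (Nat.card ↥M) := h.oddG.of_dvd_nat (Subgroup.card_subgroup_dvd_card _)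

theorem index_eq : (derSub M).index = Nat.card W₁ := by
  haveI := h.tpl.normal
  obtain ⟨-, e⟩ := h.tpl.quot_cyclic
  rw [e, Nat.card_congr (Subgroup.subgroupOfEquivOfLe (typeP_le h.data).1).toEquiv]

theorem odd_index : Odd (derSub M).index := h.odd_M.of_dvd_nat (Subgroup.index_dvd_card _)

theorem one_lt_index : 1 < (derSub M).index := by
  rw [h.index_eq]
  exact (Subgroup.one_lt_card_iff_ne_bot W₁).mpr h.data.W₁_ne

/-- Class functions vanishing at `1` and on `W₁` are supported on A₀(M). -/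
theorem supp_A0 {f : ↥M → ℂ} (hf : Cfsg.IsClassFunction ↥M f) (h1 : f 1 = 0)
    (hW : ∀ x : ↥M, (x : G) ∈ W₁ → x ≠ 1 → f x = 0) :
    ∀ x : ↥M, (x : G) ∉ suppA0 M → f x = 0 := by
  intro x hx
  by_cases hK : x ∈ derSub M
  · by_contra hne
    have hx1 : x ≠ 1 := fun e => hne (e ▸ h1)
    refine hx (Or.inl ?_)
    rw [suppA, if_neg h.notI, h.core]
    have hx1' : (x : G) ≠ 1 := fun e => hx1 (Subtype.ext e)
    exact ⟨hK, hx1', x, hK, hx1', rfl⟩
  · obtain ⟨k, w, hw, hw2, rfl⟩ := TILocal.exists_conj_off h.tpl hK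
    rw [hf w k]
    have hw' : (w : G) ∈ W₁ ⊔ W₂ := by
      rw [← Subgroup.mem_subgroupOf,
        Subgroup.subgroupOf_sup (typeP_le h.data).1 (le_sup_right.trans (typeP_le h.data).2.2.2.2)]
      exact hw
    by_cases hw1 : (w : G) ∈ W₁
    · refine hW w hw1 fun e => hw2 ?_
      rw [e]
      exact Subgroup.one_mem _
    · exfalso
      exact hx (Or.inr ⟨h.notI, W₁, U, W₂, h.data, k, k.2, w, hw', hw1, fun e => hw2 e, rfl⟩)

theorem tau_isom {a b : ↥M → ℂ} (ha : Cfsg.IsClassFunction ↥M a)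
    (hsa : ∀ x : ↥M, (x : G) ∉ suppA0 M → a x = 0) (hb : Cfsg.IsClassFunction ↥M b) :
    Cfsg.classInner (tau M a) (tau M b) = Cfsg.classInner a b :=
  dade_isometry h.dadeA0 ha hsa hb

theorem tau_gen {a : ↥M → ℂ} (ha : Cfsg.IsGeneralizedCharacter ↥M a)
    (hsa : ∀ x : ↥M, (x : G) ∉ suppA0 M → a x = 0) :
    Cfsg.IsGeneralizedCharacter G (tau M a) :=
  dade_virtual h.dadeA0 ha hsa

theorem tau_at_hat {a : ↥M → ℂ} (ha : Cfsg.IsClassFunction ↥M a) (w : ↥(W₁ ⊔ W₂))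
    (h₁ : (w : G) ∉ W₁) (h₂ : (w : G) ∉ W₂) (hw : (w : G) ∈ M) : tau M a w = a ⟨w, hw⟩ := by
  refine dadeIsometry_apply h.dadeA0 ha (a := ⟨w, hw⟩) (u := 1) (x := 1) ?_
    (Subgroup.one_mem _) (by simp)
  refine Or.inr ⟨h.notI, W₁, U, W₂, h.data, 1, M.one_mem, w, w.2, h₁, h₂, ?_⟩
  simp

theorem agree_one_res {ω : ↥(W₁ ⊔ W₂) →* ℂˣ} (ha : AgreeR W₁ W₂ ω 1) :
    resD M (μ ω) = fun _ => 1 :=
  funext fun x => (h.ti.trivial_col ω ha).2 x x.2

/-- The characters of the derived subgroup: the induced one is irreducible or comes from a column. -/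
theorem classify {θ : ↥(derSub M) → ℂ} (hθ : Cfsg.IsIrrCharacter ↥(derSub M) θ)
    (hne : θ ≠ fun _ => 1) :
    Cfsg.IsIrrCharacter ↥M (Cfsg.indFun (derSub M) θ) ∨
      ∃ ω, ¬ AgreeR W₁ W₂ ω 1 ∧ θ = resD M (μ ω) := by
  by_cases hi : Cfsg.IsIrrCharacter ↥M (Cfsg.indFun (derSub M) θ)
  · exact Or.inl hi
  · obtain ⟨ω, rfl⟩ := h.ti.reducible θ hθ hi
    exact Or.inr ⟨ω, fun ha => hne (h.agree_one_res ha), rfl⟩

theorem colChar_one {ω : ↥(W₁ ⊔ W₂) →* ℂˣ} (hω : ¬ AgreeR W₁ W₂ ω 1) :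
    colChar M μ ω 1 = (((derSub M).index * d : ℕ) : ℂ) := by
  rw [colChar, CfsgLib.Induction.indFun_one_apply]
  have : resD M (μ ω) 1 = (d : ℂ) := (h.const ω hω).1
  rw [this]
  push_cast
  ring

theorem colChar_inner (ω ω' : ↥(W₁ ⊔ W₂) →* ℂˣ) :
    Cfsg.classInner (colChar M μ ω) (μ ω') = if AgreeR W₁ W₂ ω ω' then 1 else 0 := by
  haveI := finite_linChar h.data.selfNormalizing
  haveI := Fintype.ofFinite (↥(W₁ ⊔ W₂) →* ℂˣ)
  rw [colChar, h.ti.ind_res, finsum_mem_eq_toFinset_sum, classInner_sum_left]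
  have e : ∀ a, Cfsg.classInner (μ a) (μ ω') = if a = ω' then 1 else 0 := fun a => by
    split_ifs with e
    · rw [e]; exact classInner_irr_self (h.ti.μ_irr ω')
    · exact classInner_irr_ne (h.ti.μ_irr a) (h.ti.μ_irr ω') fun hh => e (h.ti.μ_inj hh)
  rw [Finset.sum_congr rfl fun a _ => e a, Finset.sum_ite_eq']
  simp

theorem card_agree (ω : ↥(W₁ ⊔ W₂) →* ℂˣ) :
    {ω' | AgreeR W₁ W₂ ω ω'}.ncard = (derSub M).index := by
  haveI := finite_linChar h.data.selfNormalizing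
  haveI := Fintype.ofFinite {φ : ↥(W₁ ⊔ W₂) →* ℂˣ // TrivR φ}
  have hb : {ω' | AgreeR W₁ W₂ ω ω'} =
      (fun φ : {φ : ↥(W₁ ⊔ W₂) →* ℂˣ // TrivR φ} => ω * φ.1) '' Set.univ := by
    ext ω'
    constructor
    · intro hω'
      refine ⟨⟨ω⁻¹ * ω', fun w hw => ?_⟩, trivial, mul_inv_cancel_left ω ω'⟩
      rw [MonoidHom.mul_apply, MonoidHom.inv_apply, hω' w hw, inv_mul_cancel]
    · rintro ⟨φ, -, rfl⟩ w hw
      show ω w = ω w * φ.1 w
      rw [φ.2 w hw, mul_one]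
  rw [hb, Set.ncard_image_of_injective _ fun p q e => Subtype.ext (mul_left_cancel e),
    Set.ncard_univ, h.index_eq, Nat.card_eq_fintype_card, ← Nat.card_eq_fintype_card,
    card_trivR h.data.selfNormalizing]

theorem colChar_norm (ω : ↥(W₁ ⊔ W₂) →* ℂˣ) :
    Cfsg.classInner (colChar M μ ω) (colChar M μ ω) = ((derSub M).index : ℂ) := by
  haveI := finite_linChar h.data.selfNormalizing
  haveI := Fintype.ofFinite (↥(W₁ ⊔ W₂) →* ℂˣ)
  conv_lhs =>
    arg 2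
    rw [colChar, h.ti.ind_res, finsum_mem_eq_toFinset_sum]
  rw [classInner_sum_right, Finset.sum_congr rfl fun a _ => h.colChar_inner ω a,
    Finset.sum_congr rfl fun a ha => if_pos (by simpa using ha), Finset.sum_const, nsmul_one,
    ← h.card_agree ω, Set.ncard_eq_toFinset_card']

theorem colChar_not_irr (ω : ↥(W₁ ⊔ W₂) →* ℂˣ) :
    ¬ Cfsg.IsIrrCharacter ↥M (colChar M μ ω) := by
  intro hi
  have := classInner_irr_self hi
  rw [h.colChar_norm] at this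
  have h1 : (derSub M).index = 1 := by exact_mod_cast this
  exact absurd h1 h.one_lt_index.ne'

/-- The members of degree `[M : M']`. -/
theorem linear_irr {χ : ↥M → ℂ} (hχ : χ ∈ Cfsg.inducedIrrAbove (derSub M) ⊥)
    (hdeg : χ 1 = ((derSub M).index : ℂ)) : Cfsg.IsIrrCharacter ↥M χ := by
  obtain ⟨θ, hθ, hne, -, rfl⟩ := hχ
  rcases h.classify hθ hne with e | ⟨ω, hω, rfl⟩
  · exact e
  · exfalso
    have e2 : (colChar M μ ω) 1 = ((derSub M).index : ℂ) := hdeg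
    rw [h.colChar_one hω] at e2
    have e3 : (derSub M).index * d = (derSub M).index * 1 := by
      rw [mul_one]; exact_mod_cast e2
    have := Nat.eq_of_mul_eq_mul_left (Nat.zero_lt_of_lt h.one_lt_index) e3
    exact absurd this h.d_gt.ne'

omit h in
theorem derSub_normal (M : Subgroup G) : (derSub M).Normal := derived_subgroupOf_normal M

/-- The set of linear-degree members, the coherent extension on it, and its properties. -/
theorem exists_base :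
    ∃ (Y : Finset (↥M → ℂ)) (f : (↥M → ℂ) → (G → ℂ)),
      (↑Y : Set (↥M → ℂ)) = Cfsg.inducedIrrAbove (derSub M) ⁅derSub M, derSub M⁆ ∧
      (∀ ζ ∈ Y, Cfsg.IsIrrCharacter ↥M ζ ∧ ζ 1 = ((derSub M).index : ℂ) ∧
        ζ ∈ Cfsg.inducedIrrAbove (derSub M) ⊥ ∧ IsSigned (f ζ)) ∧
      (∀ ζ ∈ Y, ∀ ζ' ∈ Y, Cfsg.classInner (f ζ) (f ζ') = if ζ = ζ' then 1 else 0) ∧
      (∀ ζ ∈ Y, ∀ ζ' ∈ Y, tau M (ζ - ζ') = f ζ - f ζ') ∧
      (∀ ζ ∈ Y, ∀ ω, Cfsg.classInner (f ζ) (η ω) = 0) ∧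
      2 ≤ Y.card ∧
      Y.card * (derSub M).index + 1 = (⁅derSub M, derSub M⁆).relIndex (derSub M) := by
  haveI := derSub_normal M
  set K := derSub M with hK
  haveI : Fintype K := Fintype.ofFinite K
  set Y := indAboveFinset K ⁅K, K⁆ with hY
  have hYc : (↑Y : Set (↥M → ℂ)) = Cfsg.inducedIrrAbove K ⁅K, K⁆ := coe_indAboveFinset _
  have hsub : ∀ ζ ∈ Y, ζ ∈ Cfsg.inducedIrrAbove K ⊥ := fun ζ hζ =>
    Set.mem_of_subset_of_mem (indAbove_subset_bot K _) (hYc ▸ Finset.mem_coe.mpr hζ :)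
  have hdeg : ∀ ζ ∈ Y, ζ 1 = (K.index : ℂ) := fun ζ hζ => by
    rw [natDeg_spec (h.sys.isCharacter ζ (hsub ζ hζ)), natDeg_indAbove_linear le_rfl hζ]
  have hirr : ∀ ζ ∈ Y, Cfsg.IsIrrCharacter ↥M ζ := fun ζ hζ =>
    h.linear_irr (hsub ζ hζ) (hdeg ζ hζ)
  have hsum := sum_indAbove (K := K) (derSub_normal M) ⁅K, K⁆
  have hterm : ∀ ζ ∈ Y, ((natDeg ζ : ℝ) ^ 2 / (natNorm ζ : ℝ)) = (K.index : ℝ) ^ 2 := by
    intro ζ hζ
    have : natNorm ζ = 1 := by
      have e := natNorm_spec (h.sys.isCharacter ζ (hsub ζ hζ))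
      rw [classInner_irr_self (hirr ζ hζ)] at e
      exact_mod_cast e.symm
    rw [this, natDeg_indAbove_linear le_rfl hζ]
    simp
  rw [← hY, Finset.sum_congr rfl hterm, Finset.sum_const, nsmul_eq_mul] at hsum
  have hcard : Y.card * K.index + 1 = (⁅K, K⁆).relIndex K := by
    have hi : (K.index : ℝ) ≠ 0 := Nat.cast_ne_zero.mpr Subgroup.index_ne_zero_of_finite
    have : (Y.card : ℝ) * K.index = ((⁅K, K⁆).relIndex K : ℝ) - 1 :=
      mul_left_cancel₀ hi (by rw [← hsum]; ring)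
    have : ((Y.card * K.index + 1 : ℕ) : ℝ) = ((⁅K, K⁆).relIndex K : ℝ) := by
      push_cast; linarith
    exact_mod_cast this
  have hY2 : 2 ≤ Y.card := by
    have hne : (⁅K, K⁆).relIndex K ≠ 1 := fun e => by
      have hle := Subgroup.relIndex_eq_one.mp e
      have hKne : K ≠ ⊥ := fun e0 => h.data.H_not_cyclic (by
        have hbot : Cfsg.fittingHallOf M = ⊥ := by
          refine eq_bot_iff.mpr ((typeP_le h.data).2.2.1.trans fun x hx => ?_)
          have hxM : x ∈ M := (typeP_le h.data).2.1 hx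
          have : (⟨x, hxM⟩ : ↥M) ∈ K := hx
          rw [e0, Subgroup.mem_bot] at this
          exact Subgroup.mem_bot.mpr (congrArg Subtype.val this)
        rw [hbot]; infer_instance)
      haveI : Group.IsNilpotent ↥K := h.nilp
      haveI : Group.IsSolvable ↥K := inferInstance
      haveI : Nontrivial ↥K := (Subgroup.nontrivial_iff_ne_bot K).mpr hKne
      have hlt := Group.IsSolvable.commutator_lt_top_of_nontrivial ↥K
      refine hlt.ne (eq_top_iff.mpr fun k _ => ?_)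
      have hk := hle k.2
      rw [← Subgroup.map_subtype_commutator K] at hk
      obtain ⟨k', hk', e'⟩ := hk
      rwa [← Subtype.ext (a1 := k') (a2 := k) e']
    have hoddi : Odd ((⁅K, K⁆).relIndex K) :=
      (h.odd_M.of_dvd_nat (Subgroup.card_subgroup_dvd_card K)).of_dvd_nat
        (Subgroup.relIndex_dvd_card _ K)
    by_contra hlt
    rcases Nat.eq_zero_or_pos Y.card with h0 | h0
    · rw [h0] at hcard; simp at hcard; exact hne hcard.symm
    · have : Y.card = 1 := by omega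
      rw [this, one_mul] at hcard
      obtain ⟨a, ha⟩ := h.odd_index
      obtain ⟨b, hb⟩ := hoddi
      rw [← hK] at ha
      omega
  have hirrsys : IrrSys (↑Y : Set (↥M → ℂ)) (tau M) :=
    ⟨fun ζ hζ => hirr ζ hζ, isometry_mono h.sys.isometry (zspanOn_mono (fun ζ hζ => hsub ζ hζ) _),
      fun α hα => h.sys.map_one α (zspanOn_mono (fun ζ hζ => hsub ζ hζ) _ hα)⟩
  obtain ⟨-, f, hf, hfα⟩ := coherent_equal_irr hirrsys Y subset_rfl hY2
    fun a ha b hb => by rw [hdeg a ha, hdeg b hb]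
  refine ⟨Y, f, hYc, fun ζ hζ => ⟨hirr ζ hζ, hdeg ζ hζ, hsub ζ hζ, ?_⟩, fun ζ hζ ζ' hζ' => ?_,
    fun ζ hζ ζ' hζ' => ?_, fun ζ hζ ω => ?_, hY2, hcard⟩
  · exact isSigned_of_norm_one (hf.2.2.2 ζ (zspan_of_mem hζ))
      (by rw [hf.2.2.1 ζ (zspan_of_mem hζ) ζ (zspan_of_mem hζ), classInner_irr_self (hirr ζ hζ)])
  · rw [hf.2.2.1 ζ (zspan_of_mem hζ) ζ' (zspan_of_mem hζ')]
    split_ifs with e
    · rw [e]; exact classInner_irr_self (hirr ζ' hζ')
    · exact classInner_irr_ne (hirr ζ hζ) (hirr ζ' hζ') e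
  · have hm : ζ - ζ' ∈ Cfsg.zspanOn (↑Y : Set (↥M → ℂ)) {1}ᶜ :=
      zspanOn_compl_one.mpr ⟨zspan_sub (zspan_of_mem hζ) (zspan_of_mem hζ'),
        by rw [Pi.sub_apply, hdeg ζ hζ, hdeg ζ' hζ', sub_self]⟩
    rw [← hfα _ hm, isometry_sub hf (zspan_of_mem hζ) (zspan_of_mem hζ') hm.1]
  · rw [extension_mem_R h.sys (S₁ := (↑Y : Set (↥M → ℂ))) (fun ζ hζ => hsub ζ hζ)
      (fun φ hφ => by rw [hYc] at hφ ⊢; exact indAbove_conj K _ hφ) hf hfα hζ, orthProj,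
      classInner_sum_left]
    refine Finset.sum_eq_zero fun α hα => ?_
    rw [classInner_smul_left, h.orth ζ (hsub ζ hζ) (hirr ζ hζ) α hα ω, mul_zero]

end VCtx

end CfsgLib.PF
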