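import Cfsg.Agent.Lib.PF.Sec10Sibley

/-!
# PF (6.8): constancy of the base images on the central subgroup
-/

set_option autoImplicit false
set_option linter.style.haveILetI false
set_option linter.unusedSectionVars false

namespace CfsgLib.PF

open scoped Classical ComplexConjugate
open Finset CfsgLib.Characters CfsgLib.OddChar CfsgLib.Clifford CfsgLib.CharGalois

universe u

variable {G : Type u} [Group G] [Fintype G]
variable {M W₁ U W₂ : Subgroup G} {μ : (↥(W₁ ⊔ W₂) →* ℂˣ) → (↥M → ℂ)}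
  {δ : (↥(W₁ ⊔ W₂) →* ℂˣ) → ℂ} {η : (↥(W₁ ⊔ W₂) →* ℂˣ) → (G → ℂ)}
  {R : (↥M → ℂ) → Finset (G → ℂ)} {d : ℕ} {δ₀ : ℤ}

/-- Field automorphisms commute with the Dade map. -/
theorem tau_map (σ : ℂ ≃+* ℂ) (a : ↥M → ℂ) :
    tau M (fun x => σ (a x)) = fun g => σ (tau M a g) := by
  funext g
  simp only [tau, Cfsg.dadeIsometry]
  split_ifs <;> simp

/-- Field automorphisms commute with induction. -/
theorem indFun_map {L : Type u} [Group L] [Fintype L] (K : Subgroup L) (σ : ℂ ≃+* ℂ) (θ : K → ℂ)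
    (g : L) : Cfsg.indFun K (fun k => σ (θ k)) g = σ (Cfsg.indFun K θ g) := by
  rw [CfsgLib.Induction.indFun_apply, CfsgLib.Induction.indFun_apply, map_mul, map_inv₀,
    map_natCast, map_sum]
  congr 1
  refine Finset.sum_congr rfl fun x _ => ?_
  by_cases hm : x⁻¹ * g * x ∈ K
  · rw [CfsgLib.Induction.extendByZero_mem _ _ hm, CfsgLib.Induction.extendByZero_mem _ _ hm]
  · rw [CfsgLib.Induction.extendByZero_notMem _ _ hm, CfsgLib.Induction.extendByZero_notMem _ _ hm,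
      map_zero]

namespace VCtx

variable (h : VCtx M W₁ U W₂ μ δ η R d δ₀)
include h

theorem base_eq_on_commutator {Y : Finset (↥M → ℂ)} {f : (↥M → ℂ) → (G → ℂ)} (hb : IsBase M Y f)
    {a b : ↥M → ℂ} (ha : a ∈ Y) (hb' : b ∈ Y) {z : ↥M} (hz : z ∈ ⁅derSub M, derSub M⁆)
    (hz1 : z ≠ 1) : f a (z : G) = f b (z : G) := by
  have hzK : z ∈ derSub M := Subgroup.commutator_le_self _ hz
  have hmem : (z : G) ∈ suppA0 M := Or.inl (by
    rw [suppA, if_neg h.notI, h.core]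
    have hz1' : (z : G) ≠ 1 := fun e => hz1 (Subtype.ext e)
    exact ⟨hzK, hz1', z, hzK, hz1', rfl⟩)
  have hcl : Cfsg.IsClassFunction ↥M (a - b) := isClassFunction_of_isGeneralizedCharacter
    (isGeneralizedCharacter_sub (isGeneralizedCharacter_irr ⟨a, (hb.mem a ha).1⟩)
      (isGeneralizedCharacter_irr ⟨b, (hb.mem b hb').1⟩))
  have e := congrFun (hb.diff a ha b hb') (z : G)
  rw [tau, dadeIsometry_apply h.dadeA0 hcl (a := z) (u := 1) (x := 1) hmem (Subgroup.one_mem _)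
    (by simp)] at e
  have hval : ∀ c ∈ Y, c z = ((derSub M).index : ℂ) := by
    intro c hc
    rw [← (hb.mem c hc).2.1]
    obtain ⟨θ, hθ, -, hker, rfl⟩ := hb.coe_eq ▸ Finset.mem_coe.mpr hc
    haveI := derSub_normal M
    rw [CfsgLib.Induction.indFun_apply, CfsgLib.Induction.indFun_apply]
    congr 1
    refine Finset.sum_congr rfl fun x _ => ?_
    have hm : x⁻¹ * z * x ∈ ⁅derSub M, derSub M⁆ := by
      have := (inferInstance : (⁅derSub M, derSub M⁆).Normal).conj_mem z hz x⁻¹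
      rwa [inv_inv] at this
    rw [show x⁻¹ * 1 * x = 1 by group,
      CfsgLib.Induction.extendByZero_mem _ _ (Subgroup.commutator_le_self _ hm),
      CfsgLib.Induction.extendByZero_mem _ _ (Subgroup.one_mem (derSub M))]
    exact hker _ hm
  rw [Pi.sub_apply, hval a ha, hval b hb', sub_self, Pi.sub_apply] at e
  exact (sub_eq_zero.mp e.symm)

/-- Constancy when `Z` has prime order, by Galois conjugation. -/
theorem const_of_prime {Y : Finset (↥M → ℂ)} {f : (↥M → ℂ) → (G → ℂ)} (hb : IsBase M Y f)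
    (Z : Subgroup ↥M) (hZD : Z ≤ ⁅derSub M, derSub M⁆) (hZp : (Nat.card Z).Prime) :
    ∀ ζ ∈ Y, ∀ z ∈ Z, ∀ z' ∈ Z, z ≠ 1 → z' ≠ 1 → f ζ (z : G) = f ζ (z' : G) := by
  intro ζ hζ z hz z' hz' hz1 hz1'
  haveI := derSub_normal M
  haveI := Fact.mk hZp
  set r := Nat.card Z with hr
  -- a power
  have hgen : (⟨z', hz'⟩ : Z) ∈ Subgroup.zpowers (⟨z, hz⟩ : Z) :=
    mem_zpowers_of_prime_card hr.symm (fun e => hz1 (congrArg Subtype.val e))
  obtain ⟨j, hj, hje⟩ : ∃ j : ℕ, j < r ∧ (⟨z, hz⟩ : Z) ^ j = ⟨z', hz'⟩ := by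
    obtain ⟨j, hj, e⟩ :=
      Finset.mem_image.mp ((isOfFinOrder_of_finite _).mem_zpowers_iff_mem_range_orderOf.mp hgen)
    exact ⟨j, lt_of_lt_of_le (Finset.mem_range.mp hj)
      (Nat.le_of_dvd Nat.card_pos (orderOf_dvd_natCard _)), e⟩
  have hje' : z ^ j = z' := congrArg Subtype.val hje
  have hj0 : j ≠ 0 := fun e => hz1' (by rw [← hje', e, pow_zero])
  have hjcop : j.Coprime r := by
    rw [Nat.coprime_comm, hZp.coprime_iff_not_dvd]
    exact fun hd => absurd (Nat.le_of_dvd (Nat.pos_of_ne_zero hj0) hd) (by omega)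
  have hrG : r ∣ Nat.card G := (Subgroup.card_subgroup_dvd_card Z).trans (Subgroup.card_subgroup_dvd_card M)
  haveI : NeZero (Nat.card G) := ⟨Nat.card_pos.ne'⟩
  obtain ⟨uu, huu⟩ := ZMod.unitsMap_surjective hrG (ZMod.unitOfCoprime j hjcop)
  set m := (uu : ZMod (Nat.card G)).val with hm
  have hmcop : m.Coprime (Nat.card G) := ZMod.val_coe_unit_coprime uu
  have hmj : z ^ m = z' := by
    rw [← hje']
    have h1 : (m : ZMod r) = (j : ZMod r) := by
      have h2 := congrArg (fun v : (ZMod r)ˣ => (v : ZMod r)) huu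
      simp only [ZMod.unitsMap_def, Units.coe_map, MonoidHom.coe_coe, ZMod.castHom_apply,
        ZMod.coe_unitOfCoprime] at h2
      rw [hm, ← h2, ZMod.natCast_val]
    refine pow_eq_pow_iff_modEq.mpr (Nat.ModEq.of_dvd ?_ ((ZMod.natCast_eq_natCast_iff _ _ _).mp h1))
    rw [← Subgroup.orderOf_mk (H := Z) z hz]
    exact orderOf_dvd_natCard _
  obtain ⟨σ, hσ⟩ := exists_autComplex (Nat.card G) hmcop
  -- the action on the base
  let s : (↥M → ℂ) → (↥M → ℂ) := fun c x => σ (c x)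
  have hsY : ∀ c ∈ Y, s c ∈ Y := by
    intro c hc
    rw [← Finset.mem_coe, hb.coe_eq] at hc ⊢
    obtain ⟨θ, hθ, hne, hker, rfl⟩ := hc
    refine ⟨fun k => σ (θ k), isIrrCharacter_map σ hθ, fun e => hne (funext fun k => σ.injective ?_),
      fun a ha => congrArg σ (hker a ha), funext fun x => (indFun_map _ σ θ x).symm⟩
    rw [map_one]
    exact congrFun e k
  obtain ⟨ζ', hζ', hne'⟩ := Finset.exists_mem_ne (show 1 < Y.card by have := hb.two; omega) ζ
  set v₀ : G → ℂ := fun g => σ (f ζ g) with hv₀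
  set v₁ : G → ℂ := fun g => σ (f ζ' g) with hv₁
  have hs₀ := signed_map σ (hb.mem ζ hζ).2.2.2
  have hs₁ := signed_map σ (hb.mem ζ' hζ').2.2.2
  have hfs₀ := (hb.mem _ (hsY ζ hζ)).2.2.2
  have hfs₁ := (hb.mem _ (hsY ζ' hζ')).2.2.2
  have hsne : s ζ ≠ s ζ' := fun e => hne' (funext fun x => (σ.injective (congrFun e x)).symm)
  have hdiffv : v₀ - v₁ = f (s ζ) - f (s ζ') := by
    rw [← hb.diff _ (hsY ζ hζ) _ (hsY ζ' hζ')]
    have e1 : s ζ - s ζ' = fun x => σ ((ζ - ζ') x) := funext fun x => by simp [s]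
    rw [e1, tau_map, hb.diff ζ hζ ζ' hζ']
    funext g
    simp [hv₀, hv₁]
  have horth01 : Cfsg.classInner v₀ v₁ = 0 := by
    have h01 := hb.orth ζ hζ ζ' hζ'
    rw [if_neg hne'.symm] at h01
    have hn := (hb.mem ζ hζ).2.2.2.norm_one
    rcases hs₀.cases hs₁ with e | e | e
    · exfalso
      have : f ζ = f ζ' := funext fun g => σ.injective (congrFun e g)
      rw [← this, hn] at h01
      exact one_ne_zero h01
    · exfalso
      have : f ζ = -f ζ' := funext fun g => σ.injective (by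
        rw [Pi.neg_apply, map_neg]; exact congrFun e g)
      rw [this, classInner_neg_left, (hb.mem ζ' hζ').2.2.2.norm_one] at h01
      norm_num at h01
    · exact e
  have hone : Cfsg.classInner v₀ (f (s ζ)) - Cfsg.classInner v₀ (f (s ζ')) = 1 := by
    rw [← classInner_sub_right, ← hdiffv, classInner_sub_right, horth01,
      hs₀.norm_one, sub_zero]
  have h1eq : f ζ 1 = f ζ' 1 := by
    have := h.sys.map_one (ζ - ζ') (zspanOn_compl_one.mpr ⟨zspan_sub (zspan_of_mem (hb.mem ζ hζ).2.2.1)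
      (zspan_of_mem (hb.mem ζ' hζ').2.2.1), by
      rw [Pi.sub_apply, (hb.mem ζ hζ).2.1, (hb.mem ζ' hζ').2.1, sub_self]⟩)
    rw [hb.diff ζ hζ ζ' hζ', Pi.sub_apply, sub_eq_zero] at this
    exact this
  have hv : v₀ = f (s ζ) := by
    have hone' := hone
    rw [hv₀] at hone'
    rcases hs₀.cases hfs₀ with e | e | e
    · exact e
    · exfalso
      rw [e, classInner_neg_left, classInner_neg_left, hfs₀.norm_one,
        hb.orth _ (hsY ζ hζ) _ (hsY ζ' hζ'), if_neg hsne] at hone'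
      norm_num at hone'
    · exfalso
      rw [e, zero_sub, neg_eq_iff_eq_neg] at hone'
      have hv' : v₀ = -f (s ζ') := hs₀.eq_of_inner_eq_one hfs₁.neg (by
        rw [classInner_neg_right, hone', neg_neg])
      have h1 : v₁ = -f (s ζ) := by
        funext g
        have e1 := congrFun hdiffv g
        have e2 := congrFun hv' g
        simp only [Pi.sub_apply, Pi.neg_apply] at e1 e2 ⊢
        linear_combination e2 - e1
      obtain ⟨ψ, ε, hε, hψ⟩ := (hb.mem ζ hζ).2.2.2.exists_irr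
      obtain ⟨k, -, hk⟩ := irr_exists_degree ψ.2
      have hfix : σ (f ζ 1) = f ζ 1 := by
        rw [hψ, Pi.smul_apply, smul_eq_mul, map_mul, hk, map_natCast]
        rcases hε with rfl | rfl <;> simp
      have h2 : f (s ζ) 1 = f (s ζ') 1 := by
        have := congrFun hdiffv 1
        simp only [hv₀, hv₁, Pi.sub_apply] at this
        rw [← h1eq, sub_self] at this
        exact sub_eq_zero.mp this.symm
      have h3 : f ζ 1 = -f (s ζ) 1 := by
        have := congrFun hv' 1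
        simp only [hv₀, Pi.neg_apply] at this
        rw [hfix, ← h2] at this
        exact this
      -- compare with the generator
      have h5 := congrFun (tau_map σ (ζ - s ζ)) 1
      have hmem5 : ζ - s ζ ∈ Cfsg.zspanOn (Cfsg.inducedIrrAbove (derSub M) ⊥) {1}ᶜ :=
        zspanOn_compl_one.mpr ⟨zspan_sub (zspan_of_mem (hb.mem ζ hζ).2.2.1)
          (zspan_of_mem (hb.mem _ (hsY ζ hζ)).2.2.1), by
          rw [Pi.sub_apply, (hb.mem ζ hζ).2.1, (hb.mem _ (hsY ζ hζ)).2.1, sub_self]⟩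
      have h6 := h.sys.map_one _ hmem5
      rw [hb.diff ζ hζ _ (hsY ζ hζ), Pi.sub_apply, sub_eq_zero] at h6
      rw [← h6] at h3
      exact (hb.mem ζ hζ).2.2.2.apply_one_ne_zero (by linear_combination h3 / 2)
  have e1 : σ (f ζ (z : G)) = f ζ (z : G) := by
    have := congrFun hv (z : G)
    simp only [hv₀] at this
    rw [this]
    exact h.base_eq_on_commutator hb (hsY ζ hζ) hζ (hZD hz) hz1
  obtain ⟨ψ, ε, hε, hψ⟩ := (hb.mem ζ hζ).2.2.2.exists_irr
  have e2 : σ (f ζ (z : G)) = f ζ (z' : G) := by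
    rw [← hmj]
    rw [hψ, Pi.smul_apply, Pi.smul_apply, smul_eq_mul, smul_eq_mul, map_mul,
      map_char_eq_pow (irr_isCharacter ψ) σ hσ, Subgroup.coe_pow]
    rcases hε with rfl | rfl <;> simp
  exact e1.symm.trans e2

/-- Constancy when `W₁` acts without fixed points on `Z`, through the coherence off `Z`. -/
theorem const_of_free (hN : Subgroup.normalizer ((⁅M, M⁆ : Subgroup G) : Set G) = M)
    (hTI : Cfsg.IsTISubset ((⁅M, M⁆ : Subgroup G) : Set G)) {p : ℕ} (hp : p.Prime)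
    (hpK : IsPGroup p ↥(derSub M)) (Z : Subgroup ↥M) [Z.Normal] (hZ1 : Z ≠ ⊥)
    (hZD : Z ≤ ⁅derSub M, derSub M⁆) (hZc : ∀ z ∈ Z, ∀ k ∈ derSub M, z * k = k * z)
    (hfree : ∀ w : ↥M, (w : G) ∈ W₁ → w ≠ 1 → ∀ z ∈ Z, w * z = z * w → z = 1)
    {Y : Finset (↥M → ℂ)} {f : (↥M → ℂ) → (G → ℂ)} (hb : IsBase M Y f) :
    ∀ ζ ∈ Y, ∀ z ∈ Z, ∀ z' ∈ Z, z ≠ 1 → z' ≠ 1 → f ζ (z : G) = f ζ (z' : G) := by
  intro ζ hζ z hz z' hz' hz1 hz1'
  haveI := Fact.mk hp
  haveI hKn : (derSub M).Normal := derSub_normal M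
  set K := derSub M with hKdef
  haveI : Fintype K := Fintype.ofFinite K
  have hZK : Z ≤ K := hZD.trans (Subgroup.commutator_le_self K)
  set Zs := Z.subgroupOf K with hZs
  have hZcen : Zs ≤ Subgroup.center K := fun z hz => Subgroup.mem_center_iff.mpr fun k =>
    Subtype.ext (hZc _ (Subgroup.mem_subgroupOf.mp hz) k k.2).symm
  -- irreducibility off `Z`
  have hirr : ∀ θ ∈ thetaOff K Z, Cfsg.IsIrrCharacter ↥M (Cfsg.indFun K (θ : K → ℂ)) := by
    intro θ hθ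
    rcases h.classify θ.2 (thetaOff_ne_one hθ) with hi | ⟨ω, hω, e⟩
    · exact hi
    exfalso
    obtain ⟨z₀, hz₀, hne⟩ := mem_thetaOff.mp hθ
    obtain ⟨l, hl⟩ := exists_centralHom_sub hZcen θ
    obtain ⟨w, hw⟩ := Subgroup.ne_bot_iff_exists_ne_one.mp h.data.W₁_ne
    set w' : ↥M := ⟨w, (typeP_le h.data).1 w.2⟩ with hw'
    have hw1 : w' ≠ 1 := fun e => hw (Subtype.ext (congrArg Subtype.val e :))
    have hcv : ∀ x : Zs, w' * ((x : K) : ↥M) * w'⁻¹ * ((x : K) : ↥M)⁻¹ ∈ Z := fun x =>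
      Z.mul_mem ((inferInstance : Z.Normal).conj_mem _ (Subgroup.mem_subgroupOf.mp x.2) w')
        (Z.inv_mem (Subgroup.mem_subgroupOf.mp x.2))
    let cm : Zs → Zs := fun x => ⟨⟨_, hZK (hcv x)⟩, Subgroup.mem_subgroupOf.mpr (hcv x)⟩
    have hinj : Function.Injective cm := by
      intro x y e
      have e' : w' * ((x : K) : ↥M) * w'⁻¹ * ((x : K) : ↥M)⁻¹ =
          w' * ((y : K) : ↥M) * w'⁻¹ * ((y : K) : ↥M)⁻¹ :=
        congrArg (fun t : Zs => ((t : K) : ↥M)) e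
      set a : ↥M := ((x : K) : ↥M) with ha
      set b : ↥M := ((y : K) : ↥M) with hb'
      have haZ : a ∈ Z := Subgroup.mem_subgroupOf.mp x.2
      have hbZ : b ∈ Z := Subgroup.mem_subgroupOf.mp y.2
      have hbaw : w' * (b⁻¹ * a) * w'⁻¹ = b⁻¹ * a := by
        have e3 : (w' * b * w'⁻¹)⁻¹ * (w' * a * w'⁻¹) = b⁻¹ * a := by
          calc (w' * b * w'⁻¹)⁻¹ * (w' * a * w'⁻¹)
              = (w' * b * w'⁻¹)⁻¹ * ((w' * a * w'⁻¹ * a⁻¹) * a) := by group
            _ = b⁻¹ * a := by rw [e']; group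
        calc w' * (b⁻¹ * a) * w'⁻¹ = (w' * b * w'⁻¹)⁻¹ * (w' * a * w'⁻¹) := by group
          _ = _ := e3
      have := hfree w' w.2 hw1 (b⁻¹ * a) (Z.mul_mem (Z.inv_mem hbZ) haZ)
        (mul_inv_eq_iff_eq_mul.mp hbaw)
      exact Subtype.ext (Subtype.ext (inv_mul_eq_one.mp this).symm)
    obtain ⟨x, hx⟩ := (Finite.injective_iff_surjective.mp hinj) ⟨z₀, Subgroup.mem_subgroupOf.mpr hz₀⟩
    refine hne ?_
    have hθ1 := irr_one_ne_zero θ
    set xc : K := ⟨w' * ((x : K) : ↥M) * w'⁻¹, hKn.conj_mem _ (x : K).2 w'⟩ with hxc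
    have hxcZ : xc ∈ Zs := Subgroup.mem_subgroupOf.mpr
      ((inferInstance : Z.Normal).conj_mem _ (Subgroup.mem_subgroupOf.mp x.2) w')
    have hinv : (θ : K → ℂ) xc = (θ : K → ℂ) (x : K) := by
      rw [e]
      exact isClassFunction_of_isCharacter (isCharacter_of_irr (h.ti.μ_irr ω)) _ w'
    have h1 := hl ⟨xc, hxcZ⟩ 1
    have h2 := hl x 1
    rw [mul_one] at h1 h2
    have hll : l ⟨xc, hxcZ⟩ = l x := Units.ext (mul_right_cancel₀ hθ1 (by rw [← h1, ← h2]; exact hinv))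
    have hz₀e : (⟨z₀, Subgroup.mem_subgroupOf.mpr hz₀⟩ : Zs) = ⟨xc, hxcZ⟩ * x⁻¹ := by
      rw [← hx]
      rfl
    have h3 := hl ⟨z₀, Subgroup.mem_subgroupOf.mpr hz₀⟩ 1
    rw [mul_one, hz₀e, map_mul, hll, map_inv, mul_inv_cancel, Units.val_one, one_mul] at h3
    rw [← h3]
    exact congrArg (θ : K → ℂ) (congrArg Subtype.val hz₀e)
  -- coherence off `Z`
  set X := offFinset K Z with hXdef
  have hXS : (↑X : Set (↥M → ℂ)) ⊆ Cfsg.inducedIrrAbove K ⊥ := by
    rw [hXdef, coe_offFinset hKn Z]; exact Set.sdiff_subset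
  obtain ⟨j, hj⟩ := hpK.exists_card_eq
  have hj0 : j ≠ 0 := fun e => hz1 (by
    have := hZK hz
    rw [(Subgroup.card_eq_one.mp (by rw [hj, e, pow_zero]) : K = ⊥), Subgroup.mem_bot] at this
    exact this)
  have hpdK : p ∣ Nat.card K := by rw [hj]; exact dvd_pow_self p hj0
  have hp2 : p ≠ 2 := fun e => by
    have := (h.odd_M.of_dvd_nat (Subgroup.card_subgroup_dvd_card K)).of_dvd_nat hpdK
    rw [e] at this
    exact absurd this (by decide)
  have hp3 : 3 ≤ p := by have := hp.two_le; omega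
  have hcop : Nat.Coprime K.index (Nat.card K) := by
    have h1 := h.tpl.index_eq ▸ h.tpl.hall
    rwa [h.index_eq, ← Nat.card_congr (Subgroup.subgroupOfEquivOfLe (typeP_le h.data).1).toEquiv]
  have hpe : ¬ p ∣ K.index := fun hd => hp.one_lt.ne' (Nat.dvd_one.mp (hcop ▸ Nat.dvd_gcd hd hpdK))
  have hirrsys : IrrSys (↑X : Set (↥M → ℂ)) (tau M) := by
    refine ⟨fun χ hχ => ?_, isometry_mono h.sys.isometry (zspanOn_mono hXS _),
      fun a ha => h.sys.map_one a (zspanOn_mono hXS _ ha)⟩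
    obtain ⟨θ, hθ, rfl⟩ := Finset.mem_image.mp hχ
    exact hirr θ hθ
  have hX2 : 2 ≤ X.card := not_lt.mp fun hlt => Nat.not_even_iff_odd.mpr h.odd_index
    (even_iff_two_dvd.mpr (even_of_offFinset_small hKn Z hZK hZ1 hZc hp hp3 hpK hirr hlt))
  obtain ⟨-, g, hg, hgα⟩ := offFinset_coherent hKn Z hZK hZc hp hp3 hpK hpe hirr hirrsys hX2
  -- the images are orthogonal to the base
  obtain ⟨hYc, hY, hforth, hfdiff, hY2⟩ := hb
  obtain ⟨ζ', hζ', hne'⟩ := Finset.exists_mem_ne (show 1 < Y.card by omega) ζ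
  obtain ⟨χ₀, hχ₀⟩ := Finset.card_pos.mp (show 0 < X.card by omega)
  have hirrX : ∀ χ ∈ X, Cfsg.IsIrrCharacter ↥M χ := fun χ hχ => hirrsys.irr χ hχ
  have hsg : ∀ χ ∈ X, IsSigned (g χ) := fun χ hχ =>
    isSigned_of_norm_one (hg.2.2.2 χ (zspan_of_mem hχ))
      (by rw [hg.2.2.1 χ (zspan_of_mem hχ) χ (zspan_of_mem hχ), classInner_irr_self (hirrX χ hχ)])
  have hXnY : ∀ χ ∈ X, ∀ b ∈ Y, χ ≠ b := by
    intro χ hχ b hb' e
    obtain ⟨θ, hθ, rfl⟩ := Finset.mem_image.mp hχ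
    have h1 := (hY b hb').2.1
    rw [← e, CfsgLib.Induction.indFun_one_apply] at h1
    exact h.deg_ne_one_of_off hZD hθ
      (mul_left_cancel₀ (Nat.cast_ne_zero.mpr (Subgroup.index_ne_zero_of_finite (H := K)))
        (h1.trans (mul_one _).symm))
  have hdiff1 : f ζ 1 = f ζ' 1 := by
    have := h.sys.map_one (ζ - ζ') (zspanOn_compl_one.mpr ⟨zspan_sub (zspan_of_mem (hY ζ hζ).2.2.1)
      (zspan_of_mem (hY ζ' hζ').2.2.1), by
      rw [Pi.sub_apply, (hY ζ hζ).2.1, (hY ζ' hζ').2.1, sub_self]⟩)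
    rw [hfdiff ζ hζ ζ' hζ', Pi.sub_apply, sub_eq_zero] at this
    exact this
  have hwmem : ∀ χ ∈ X, (natDeg χ : ℤ) • χ₀ - (natDeg χ₀ : ℤ) • χ ∈
      Cfsg.zspanOn (↑X : Set (↥M → ℂ)) {1}ᶜ := fun χ hχ =>
    zspanOn_compl_one.mpr ⟨zspan_sub (zspan_zsmul _ (zspan_of_mem hχ₀))
      (zspan_zsmul _ (zspan_of_mem hχ)), by
      simp only [Pi.sub_apply, Pi.smul_apply, zsmul_eq_mul, Pi.mul_apply, Pi.intCast_apply,
        Int.cast_natCast, Pi.natCast_apply]
      rw [natDeg_spec (h.sys.isCharacter χ (hXS hχ)), natDeg_spec (h.sys.isCharacter χ₀ (hXS hχ₀))]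
      ring⟩
  have hgw : ∀ χ ∈ X, tau M ((natDeg χ : ℤ) • χ₀ - (natDeg χ₀ : ℤ) • χ) =
      (natDeg χ : ℤ) • g χ₀ - (natDeg χ₀ : ℤ) • g χ := fun χ hχ => by
    refine (hgα _ (hwmem χ hχ)).symm.trans ?_
    rw [isometry_sub hg (zspan_zsmul _ (zspan_of_mem hχ₀)) (zspan_zsmul _ (zspan_of_mem hχ))
      (hwmem χ hχ).1, hg.2.1 _ (zspan_of_mem hχ₀), hg.2.1 _ (zspan_of_mem hχ)]
  obtain ⟨χ₁, hχ₁, hne1⟩ := Finset.exists_mem_ne (show 1 < X.card by omega) χ₀
  have hcross : ∀ χ ∈ X, Cfsg.classInner (f ζ) (g χ) = 0 := by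
    have key : ∀ χ ∈ X, χ ≠ χ₀ → Cfsg.classInner (f ζ) (g χ₀) = 0 ∧
        Cfsg.classInner (f ζ) (g χ) = 0 := by
      intro χ hχ hne
      have hpos : ∀ {a : ↥M → ℂ}, a ∈ X → ((natDeg a : ℤ) : ℂ) ≠ 0 := fun {a} ha => by
        exact_mod_cast (natDeg_pos (hirrX a ha)).ne'
      have h4 := four_signed (hY ζ hζ).2.2.2 (hY ζ' hζ').2.2.2 (hsg χ₀ hχ₀) (hsg χ hχ)
        (u := ((natDeg χ : ℤ) : ℂ)) (v := ((natDeg χ₀ : ℤ) : ℂ)) (hpos hχ) (hpos hχ₀)
        (by rw [hforth ζ hζ ζ' hζ', if_neg hne'.symm])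
        (by rw [hg.2.2.1 χ₀ (zspan_of_mem hχ₀) χ (zspan_of_mem hχ),
          classInner_irr_ne (hirrX χ₀ hχ₀) (hirrX χ hχ) hne.symm])
        (map_intCast _ _) (map_intCast _ _)
        (by
          rw [← CfsgLib.OddChar.zsmul_eq_smul, ← CfsgLib.OddChar.zsmul_eq_smul, ← hgw χ hχ, ← hfdiff ζ hζ ζ' hζ',
            h.sys.isometry.2.2.1 _ (zspanOn_compl_one.mpr ⟨zspan_sub (zspan_of_mem (hY ζ hζ).2.2.1)
              (zspan_of_mem (hY ζ' hζ').2.2.1), by
              rw [Pi.sub_apply, (hY ζ hζ).2.1, (hY ζ' hζ').2.1, sub_self]⟩) _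
              (zspanOn_mono hXS _ (hwmem χ hχ))]
          simp only [classInner_sub_left, classInner_sub_right, classInner_zsmul_right,
            classInner_irr_ne (hY ζ hζ).1 (hirrX χ₀ hχ₀) (hXnY χ₀ hχ₀ ζ hζ).symm,
            classInner_irr_ne (hY ζ hζ).1 (hirrX χ hχ) (hXnY χ hχ ζ hζ).symm,
            classInner_irr_ne (hY ζ' hζ').1 (hirrX χ₀ hχ₀) (hXnY χ₀ hχ₀ ζ' hζ').symm,
            classInner_irr_ne (hY ζ' hζ').1 (hirrX χ hχ) (hXnY χ hχ ζ' hζ').symm]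
          ring)
        hdiff1
        (by
          have := h.sys.map_one _ (zspanOn_mono hXS _ (hwmem χ hχ))
          rw [hgw χ hχ] at this
          simp only [Pi.sub_apply, Pi.smul_apply, zsmul_eq_mul, Pi.mul_apply, Pi.intCast_apply] at this
          linear_combination this)
      exact ⟨h4.1, h4.2.1⟩
    intro χ hχ
    by_cases e : χ = χ₀
    · rw [e]; exact (key χ₁ hχ₁ hne1).1
    · exact (key χ hχ e).2
  -- proportional coefficients
  set F : K → ℂ := fun k => f ζ ((k : ↥M) : G) with hF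
  have hfcl := (hY ζ hζ).2.2.2.classFunction
  have hfres : Cfsg.IsClassFunction ↥M (fun x : ↥M => f ζ x) := fun a b => hfcl a b
  have hprop : ∀ θ ∈ thetaOff K Z,
      (natDeg χ₀ : ℂ) * Cfsg.classInner F (θ : K → ℂ) =
        ((K.index : ℂ) * (θ : K → ℂ) 1) * Cfsg.classInner (fun x : ↥M => f ζ x) χ₀ := by
    intro θ hθ
    set χ := Cfsg.indFun K (θ : K → ℂ) with hχd
    have hχ : χ ∈ X := Finset.mem_image_of_mem _ hθ
    have hw := zspanOn_mono hXS _ (hwmem χ hχ)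
    obtain ⟨hs, h1⟩ := zspanOn_compl_one.mp hw
    have hcl : Cfsg.IsClassFunction ↥M ((natDeg χ : ℤ) • χ₀ - (natDeg χ₀ : ℤ) • χ) :=
      isClassFunction_of_isGeneralizedCharacter (zspan_generalized
        (fun φ hφ => isGeneralizedCharacter_of_isCharacter (h.sys.isCharacter φ hφ)) hs)
    have hsupp := h.supp_A0 hcl h1 fun x hx hx1 =>
      zspan_vanish (fun φ hφ => h.mem_base_zero hφ (h.notMem_derSub hx hx1)) hs
    have e := h.tau_adjoint hN hTI hcl hsupp hfcl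
    rw [hgw χ hχ] at e
    simp only [classInner_sub_left, classInner_zsmul_left] at e
    rw [classInner_conj_symm (f ζ) (g χ₀), classInner_conj_symm (f ζ) (g χ), hcross χ hχ,
      hcross χ₀ hχ₀, map_zero, mul_zero, mul_zero, sub_zero] at e
    have e2 := congrArg conj e
    simp only [map_sub, map_mul, map_zero, map_intCast] at e2
    rw [← classInner_conj_symm, ← classInner_conj_symm, hχd,
      CfsgLib.Induction.classInner_indFun_right K _ hfres, ← hχd] at e2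
    have hdeg : (natDeg χ : ℂ) = (K.index : ℂ) * (θ : K → ℂ) 1 := by
      rw [← natDeg_spec (h.sys.isCharacter χ (hXS hχ)), hχd, CfsgLib.Induction.indFun_one_apply]
    rw [← hdeg]
    push_cast at e2
    linear_combination e2
  -- the values
  have hnd : (natDeg χ₀ : ℂ) ≠ 0 := by exact_mod_cast (natDeg_pos (hirrX χ₀ hχ₀)).ne'
  have hFcl : Cfsg.IsClassFunction K F := fun a b => hfcl _ _
  have hexp := classFunction_eq_sum (G := K) hFcl
  have hdiffv : ∀ θ : Cfsg.IrrCharacter K,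
      (natDeg χ₀ : ℂ) * (Cfsg.classInner F (θ : K → ℂ) *
        ((θ : K → ℂ) ⟨z, hZK hz⟩ - (θ : K → ℂ) ⟨z', hZK hz'⟩)) =
      (K.index : ℂ) * Cfsg.classInner (fun x : ↥M => f ζ x) χ₀ *
        ((θ : K → ℂ) 1 * (θ : K → ℂ) ⟨z, hZK hz⟩ - (θ : K → ℂ) 1 * (θ : K → ℂ) ⟨z', hZK hz'⟩) := by
    intro θ
    by_cases hθ : θ ∈ thetaOff K Z
    · linear_combination ((θ : K → ℂ) ⟨z, hZK hz⟩ - (θ : K → ℂ) ⟨z', hZK hz'⟩) * hprop θ hθ
    · have hk : ∀ a : K, (a : ↥M) ∈ Z → (θ : K → ℂ) a = (θ : K → ℂ) 1 := fun a ha => by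
        by_contra hne
        exact hθ (mem_thetaOff.mpr ⟨a, ha, hne⟩)
      rw [hk ⟨z, hZK hz⟩ hz, hk ⟨z', hZK hz'⟩ hz']
      ring
  have hsum := Finset.sum_congr rfl fun θ (_ : θ ∈ (univ : Finset (Cfsg.IrrCharacter K))) => hdiffv θ
  simp only [← Finset.mul_sum, mul_sub, Finset.sum_sub_distrib] at hsum
  rw [sum_degree_mul_irr, sum_degree_mul_irr,
    if_neg (show (⟨z, hZK hz⟩ : K) ≠ 1 from fun e => hz1 (congrArg Subtype.val e)),
    if_neg (show (⟨z', hZK hz'⟩ : K) ≠ 1 from fun e => hz1' (congrArg Subtype.val e)), sub_self] at hsum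
  have e1 := congrFun hexp ⟨z, hZK hz⟩
  have e2 := congrFun hexp ⟨z', hZK hz'⟩
  simp only [Finset.sum_apply, Pi.smul_apply, smul_eq_mul] at e1 e2
  rw [← e1, ← e2, ← mul_sub, mul_eq_zero] at hsum
  exact sub_eq_zero.mp (hsum.resolve_left hnd)

/-- PF (6.8) in the Type V situation. -/
theorem coherent_ti (hN : Subgroup.normalizer ((⁅M, M⁆ : Subgroup G) : Set G) = M)
    (hTI : Cfsg.IsTISubset ((⁅M, M⁆ : Subgroup G) : Set G)) {p : ℕ} (hp : p.Prime)
    (hpK : IsPGroup p ↥(derSub M)) :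
    Cfsg.IsCoherent (Cfsg.inducedIrrAbove (derSub M) ⊥) {1}ᶜ (tau M) := by
  obtain ⟨Y, f, hb⟩ := h.exists_isBase
  haveI hKn : (derSub M).Normal := derSub_normal M
  set K := derSub M with hKdef
  set B := W₂.subgroupOf M with hB
  have hW₂M : W₂ ≤ M := le_sup_right.trans (typeP_le h.data).2.2.2.2
  have hBc : (Nat.card B).Prime := by
    rw [hB, Nat.card_congr (Subgroup.subgroupOfEquivOfLe hW₂M).toEquiv]
    exact h.W₂_prime
  have hB1 : B ≠ ⊥ := fun e => by rw [e, Subgroup.card_bot] at hBc; exact Nat.not_prime_one hBc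
  by_cases hc : ∀ b ∈ B, ∀ k ∈ K, b * k = k * b
  · have hcent : ∀ b ∈ B, ∀ x : ↥M, x * b = b * x := fun b hb' x => by
      obtain ⟨k, hk, w, hw, rfl⟩ :=
        Subgroup.mem_sup_of_normal_left.mp (h.tpl.top.ge (Subgroup.mem_top x))
      rw [mul_assoc, h.tpl.comm w hw b hb', ← mul_assoc, ← hc b hb' k hk, mul_assoc]
    haveI hBn : B.Normal := ⟨fun b hb' x => by
      rw [hcent b hb' x, mul_inv_cancel_right]; exact hb'⟩
    exact h.coherent_ti_of_const hN hTI hp hpK B hB1 h.W₂_le hc hb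
      (h.const_of_prime hb B h.W₂_le hBc)
  · set Z := ⁅K, K⁆ ⊓ Subgroup.centralizer (K : Set ↥M) with hZdef
    haveI : Z.Normal := Subgroup.normal_inf_normal _ _
    have hNK : ⁅K, K⁆ ≤ K := Subgroup.commutator_le_self K
    have hZc : ∀ z ∈ Z, ∀ k ∈ K, z * k = k * z := fun z hz k hk =>
      (Subgroup.mem_centralizer_iff.mp hz.2 k hk).symm
    have hZ1 : Z ≠ ⊥ := by
      intro hbot
      haveI : Group.IsNilpotent ↥K := h.nilp
      set N' := (⁅K, K⁆ : Subgroup ↥M).subgroupOf K with hN'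
      have hne : N' ≠ ⊥ := fun e => hB1 (eq_bot_iff.mpr fun b hb' => by
        have h1 : (⟨b, hNK (h.W₂_le hb')⟩ : K) ∈ N' := h.W₂_le hb'
        rw [e, Subgroup.mem_bot] at h1
        exact Subgroup.mem_bot.mpr (congrArg Subtype.val h1))
      haveI : N'.Normal := inferInstance
      obtain ⟨⟨z, hzc, hzm⟩, hz1⟩ := Subgroup.ne_bot_iff_exists_ne_one.mp
        (CfsgLib.OddOrder.PuigSeries.inf_center_ne_bot N' hne)
      have : (z : ↥M) ∈ Z := ⟨Subgroup.mem_subgroupOf.mp hzm,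
        Subgroup.mem_centralizer_iff.mpr fun k hk =>
          congrArg Subtype.val (Subgroup.mem_center_iff.mp hzc ⟨k, hk⟩)⟩
      rw [hbot, Subgroup.mem_bot] at this
      exact hz1 (Subtype.ext (Subtype.ext this))
    have hfree : ∀ w : ↥M, (w : G) ∈ W₁ → w ≠ 1 → ∀ z ∈ Z, w * z = z * w → z = 1 := by
      intro w hw hw1 z hz hwz
      have hzB : z ∈ B := h.tpl.mem₂ (Subgroup.mem_subgroupOf.mpr hw) hw1 (hNK hz.1) hwz.symm
      by_contra hz1
      haveI := Fact.mk hBc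
      refine hc fun b hb' k hk => ?_
      obtain ⟨i, hi⟩ : (⟨b, hb'⟩ : B) ∈ Subgroup.zpowers (⟨z, hzB⟩ : B) :=
        mem_zpowers_of_prime_card rfl fun e => hz1 (congrArg Subtype.val e)
      have hbi : z ^ i = b := congrArg Subtype.val hi
      exact hZc b (hbi ▸ Z.zpow_mem hz i) k hk
    exact h.coherent_ti_of_const hN hTI hp hpK Z hZ1 inf_le_left hZc hb
      (h.const_of_free hN hTI hp hpK Z hZ1 inf_le_left hZc hfree hb)

end VCtx

end CfsgLib.PF
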