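import Cfsg.Agent.Lib.PF.Sec10Common
import Cfsg.Agent.Lib.OddChar.Sibley
import Cfsg.Agent.Lib.OddOrder.PuigSeries
import Cfsg.Agent.Lib.Characters.Counting

/-!
# PF (10.10): coherence when `|M'| = p ^ 3` and `|W₁| ∣ p + 1`
-/

set_option autoImplicit false
set_option linter.style.haveILetI false
set_option linter.unusedSectionVars false

namespace CfsgLib.PF

open scoped Classical ComplexConjugate
open Finset CfsgLib.Characters CfsgLib.OddChar CfsgLib.Clifford CfsgLib.PF.TILocal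

universe u

variable {G : Type u} [Group G] [Fintype G]

/-- A class function orthogonal to the family vanishes on `W - (W₁ ∪ W₂)`. -/
theorem vanish_hat_of_orth {W₁ W₂ : Subgroup G} (hW : Cfsg.IsSelfNormalizingCyclic W₁ W₂)
    {η : (↥(W₁ ⊔ W₂) →* ℂˣ) → (G → ℂ)} (hη : Cfsg.IsCyclicTIFamily W₁ W₂ η) {θ : G → ℂ}
    (hθ : Cfsg.IsClassFunction G θ) (h0 : ∀ ω, Cfsg.classInner θ (η ω) = 0)
    (w : ↥(W₁ ⊔ W₂)) (h₁ : (w : G) ∉ W₁) (h₂ : (w : G) ∉ W₂) : θ w = 0 := by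
  obtain ⟨-, -, hdisj, hcomm, -, -⟩ := id hW
  haveI := Fintype.ofFinite ↥(W₁ ⊔ W₂)
  refine vanish_of_orth hdisj hcomm (cti_abelian hW) (fun v => θ v) (fun φ ψ hφ hψ _ _ => ?_) w h₁ h₂
  rw [← family_coeff η hη hθ hφ hψ, h0, h0, h0, h0]
  ring

variable {M W₁ U W₂ : Subgroup G} {μ : (↥(W₁ ⊔ W₂) →* ℂˣ) → (↥M → ℂ)}
  {δ : (↥(W₁ ⊔ W₂) →* ℂˣ) → ℂ} {η : (↥(W₁ ⊔ W₂) →* ℂˣ) → (G → ℂ)}
  {R : (↥M → ℂ) → Finset (G → ℂ)} {d : ℕ} {δ₀ : ℤ}

/-- The `φ ψ`, `φ ∈ Irr (W / W₂)`, are the characters in the column of `ψ`. -/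
theorem agree_iff_mul {ψ ω : ↥(W₁ ⊔ W₂) →* ℂˣ} :
    AgreeR W₁ W₂ ψ ω ↔ ∃ φ : {φ : ↥(W₁ ⊔ W₂) →* ℂˣ // TrivR φ}, ω = φ.1 * ψ := by
  constructor
  · intro ha
    refine ⟨⟨ω * ψ⁻¹, fun w hw => ?_⟩, (inv_mul_cancel_right ω ψ).symm⟩
    rw [MonoidHom.mul_apply, MonoidHom.inv_apply, ← ha w hw, mul_inv_cancel]
  · rintro ⟨φ, rfl⟩ w hw
    rw [MonoidHom.mul_apply, φ.2 w hw, one_mul]

theorem agree_one_trivR {φ : ↥(W₁ ⊔ W₂) →* ℂˣ} : AgreeR W₁ W₂ φ 1 ↔ TrivR φ := Iff.rfl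

namespace VCtx

variable (h : VCtx M W₁ U W₂ μ δ η R d δ₀)
include h

/-- The sum over a column. -/
theorem colChar_sum [Fintype {φ : ↥(W₁ ⊔ W₂) →* ℂˣ // TrivR φ}] (ψ : ↥(W₁ ⊔ W₂) →* ℂˣ) :
    colChar M μ ψ = ∑ φ : {φ : ↥(W₁ ⊔ W₂) →* ℂˣ // TrivR φ}, μ (φ.1 * ψ) := by
  haveI := finite_linChar h.data.selfNormalizing
  haveI := Fintype.ofFinite (↥(W₁ ⊔ W₂) →* ℂˣ)
  rw [colChar, h.ti.ind_res, finsum_mem_eq_toFinset_sum]
  refine (Finset.sum_bij (fun φ _ => φ.1 * ψ) (fun φ _ => ?_) (fun a _ b _ e => ?_) (fun ω hω => ?_)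
    fun _ _ => rfl).symm
  · rw [Set.mem_toFinset]
    exact agree_iff_mul.mpr ⟨φ, rfl⟩
  · exact Subtype.ext (mul_right_cancel e)
  · rw [Set.mem_toFinset] at hω
    obtain ⟨φ, e⟩ := agree_iff_mul.mp hω
    exact ⟨φ, Finset.mem_univ _, e.symm⟩

theorem trivR_delta {φ : ↥(W₁ ⊔ W₂) →* ℂˣ} (hφ : TrivR φ) : δ φ = 1 :=
  (h.ti.trivial_col φ hφ).1

theorem trivR_deg {φ : ↥(W₁ ⊔ W₂) →* ℂˣ} (hφ : TrivR φ) : μ φ 1 = 1 :=
  (h.ti.trivial_col φ hφ).2 1 (Subgroup.one_mem _)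

theorem notMem_derSub {x : ↥M} (hx : (x : G) ∈ W₁) (hx1 : x ≠ 1) : x ∉ derSub M := fun hK => by
  have := h.data.W₁_compl.2.2.1.le
    (show (x : G) ∈ ⁅M, M⁆ ⊓ W₁ from ⟨hK, hx⟩)
  exact hx1 (Subtype.ext (Subgroup.mem_bot.mp this))

theorem mem_base_zero {ζ : ↥M → ℂ} (hζ : ζ ∈ Cfsg.inducedIrrAbove (derSub M) ⊥) {x : ↥M}
    (hx : x ∉ derSub M) : ζ x = 0 := by
  obtain ⟨θ, -, -, -, rfl⟩ := hζ
  exact CfsgLib.Induction.indFun_normal_eq_zero _ hx

theorem inner_mu_zero {ζ : ↥M → ℂ} (hζ : Cfsg.IsIrrCharacter ↥M ζ)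
    (hmem : ζ ∈ Cfsg.inducedIrrAbove (derSub M) ⊥) (ω : ↥(W₁ ⊔ W₂) →* ℂˣ) :
    Cfsg.classInner (μ ω) ζ = 0 := by
  refine classInner_irr_ne (h.ti.μ_irr ω) hζ fun e => ?_
  obtain ⟨x, hx1⟩ := Subgroup.ne_bot_iff_exists_ne_one.mp h.data.W₁_ne
  have hxM : (x : G) ∈ M := (typeP_le h.data).1 x.2
  have hxne : (⟨x, hxM⟩ : ↥M) ≠ 1 := fun e' => hx1 (Subtype.ext (congrArg (Subtype.val) e' :))
  have hx2 : (x : G) ∉ W₂ := fun h2 => hx1 (Subtype.ext
    (Subgroup.mem_bot.mp (h.data.selfNormalizing.2.2.1.le ⟨x.2, h2⟩)))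
  have e0 := h.ti.μ_value ω ⟨x, hxM⟩ (Subgroup.mem_sup_left x.2) hx2
  rw [e, h.mem_base_zero hmem (h.notMem_derSub x.2 hxne)] at e0
  rcases h.ti.δ_sign ω with r | r <;> rw [r] at e0 <;>
    simp only [one_mul, neg_one_mul] at e0
  · exact Units.ne_zero _ e0.symm
  · exact Units.ne_zero _ (neg_eq_zero.mp e0.symm)

/-- A character of `M'` trivial on `M''` induces to a member of the base set. -/
theorem mem_base_of_deg_one {θ : ↥(derSub M) → ℂ} (hθ : Cfsg.IsIrrCharacter ↥(derSub M) θ)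
    (hne : θ ≠ fun _ => 1) (h1 : θ 1 = 1) :
    Cfsg.indFun (derSub M) θ ∈ Cfsg.inducedIrrAbove (derSub M) ⁅derSub M, derSub M⁆ := by
  obtain ⟨f, hf⟩ := exists_linearIrr_eq ⟨θ, hθ⟩ h1
  refine ⟨θ, hθ, hne, fun a ha => ?_, rfl⟩
  have e : θ = fun g => (f g : ℂ) := (congrArg Subtype.val hf).symm
  have hker : a ∈ f.ker := by
    have hle : commutator ↥(derSub M) ≤ f.ker := Abelianization.commutator_subset_ker f
    refine hle ?_
    rw [← Subgroup.map_subtype_commutator] at ha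
    obtain ⟨b, hb, hbe⟩ := ha
    rwa [← Subtype.ext (a1 := b) (a2 := a) hbe]
  rw [e]
  show (f a : ℂ) = (f 1 : ℂ)
  rw [MonoidHom.mem_ker.mp hker, map_one]

theorem coherent_cube {p : ℕ} (hp : p.Prime) (hcard : Nat.card ↥(derSub M) = p ^ 3)
    (hdvd : Nat.card W₁ ∣ p + 1) :
    Cfsg.IsCoherent (Cfsg.inducedIrrAbove (derSub M) ⊥) {1}ᶜ (tau M) := by
  obtain ⟨Y, f, hYc, hY, hforth, hfdiff, hfη, hY2, hYcard⟩ := h.exists_base
  haveI hKn : (derSub M).Normal := derSub_normal M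
  set K := derSub M with hKdef
  haveI : Fintype K := Fintype.ofFinite K
  set q := K.index with hq
  have hqW : q = Nat.card W₁ := h.index_eq
  have hq1 : 1 < q := h.one_lt_index
  have hqodd : Odd q := h.odd_index
  have hpodd : Odd p :=
    (h.odd_M.of_dvd_nat (Subgroup.card_subgroup_dvd_card K)).of_dvd_nat
      (hcard ▸ dvd_pow_self p three_ne_zero)
  obtain ⟨n, hn⟩ : q ∣ p + 1 := hqW ▸ hdvd
  have hn2 : 2 ≤ n := by
    rcases n with _ | _ | n
    · simp at hn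
    · exfalso
      obtain ⟨a, ha⟩ := hqodd
      obtain ⟨b, hb⟩ := hpodd
      omega
    · omega
  have hq3 : 3 ≤ q := by obtain ⟨a, ha⟩ := hqodd; omega
  have hp5 : 5 ≤ p := by
    have h6 : 6 ≤ p + 1 := by rw [hn]; exact le_trans (by norm_num) (Nat.mul_le_mul hq3 hn2)
    omega
  -- the group
  have hW₂M : W₂ ≤ M := le_sup_right.trans (typeP_le h.data).2.2.2.2
  set B := W₂.subgroupOf M with hB
  set N := ⁅K, K⁆ with hN
  have hNK : N ≤ K := Subgroup.commutator_le_self K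
  have hBcard : Nat.card B = p := by
    have hc := Nat.card_congr (Subgroup.subgroupOfEquivOfLe hW₂M).toEquiv
    have hd : Nat.card B ∣ p ^ 3 := hcard ▸ Subgroup.card_dvd_of_le (h.W₂_le.trans hNK)
    rw [hc] at hd ⊢
    exact (Nat.prime_dvd_prime_iff_eq h.W₂_prime hp).mp (h.W₂_prime.dvd_of_dvd_pow hd)
  have hrel : N.relIndex K * Nat.card N = p ^ 3 := by rw [relIndex_mul_card N hNK, hcard]
  have hNcard : N.relIndex K = p ^ 2 ∧ Nat.card N = p := by
    obtain ⟨j, hj, hje⟩ := (Nat.dvd_prime_pow hp).mp (Dvd.intro _ hrel : N.relIndex K ∣ p ^ 3)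
    have hdN : p ∣ Nat.card N := hBcard ▸ Subgroup.card_dvd_of_le h.W₂_le
    rw [hje] at hrel
    interval_cases j
    · exfalso
      rw [pow_zero] at hje
      rw [hje] at hYcard
      have : 0 < Y.card * q := Nat.mul_pos (by omega) (by omega)
      omega
    · exfalso
      rw [pow_one] at hje
      rw [hje] at hYcard
      have h2 : q ∣ 2 := by
        have h3 : q ∣ Y.card * q := dvd_mul_left q _
        have h4 : q ∣ p + 1 := Dvd.intro n hn.symm
        rw [← hYcard] at h4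
        rw [show Y.card * q + 1 + 1 = Y.card * q + 2 by ring] at h4
        exact (Nat.dvd_add_right h3).mp h4
      have := Nat.le_of_dvd two_pos h2
      omega
    · refine ⟨hje, Nat.eq_of_mul_eq_mul_left (pow_pos hp.pos 2) (hrel.trans ?_)⟩
      ring
    · exfalso
      have hN1 : Nat.card N = 1 :=
        Nat.eq_of_mul_eq_mul_left (pow_pos hp.pos 3) (hrel.trans (mul_one _).symm)
      rw [hN1] at hdN
      exact hp.one_lt.ne' (Nat.dvd_one.mp hdN)
  have hBN : B = N := Subgroup.eq_of_le_of_card_ge h.W₂_le (by rw [hBcard, hNcard.2])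
  have hZc : ∀ z ∈ B, ∀ k ∈ K, z * k = k * z := by
    set N' : Subgroup K := N.subgroupOf K with hN'
    haveI : Group.IsNilpotent K := h.nilp
    haveI : N'.Normal := inferInstance
    have hNc : Nat.card N' = p := by
      rw [Nat.card_congr (Subgroup.subgroupOfEquivOfLe hNK).toEquiv, hNcard.2]
    have hne : N' ≠ ⊥ := fun e => by
      rw [e, Subgroup.card_bot] at hNc
      exact hp.one_lt.ne hNc
    have hle : N' ≤ Subgroup.center K := by
      have h1 := CfsgLib.OddOrder.PuigSeries.inf_center_ne_bot N' hne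
      have h2 : Nat.card ↥(Subgroup.center K ⊓ N') = p :=
        ((Nat.dvd_prime hp).mp (hNc ▸ Subgroup.card_dvd_of_le inf_le_right)).resolve_left
          fun e => h1 (Subgroup.card_eq_one.mp e)
      intro x hx
      rw [← Subgroup.eq_of_le_of_card_ge (inf_le_right : Subgroup.center K ⊓ N' ≤ N')
        (by rw [h2, hNc])] at hx
      exact hx.1
    intro z hz k hk
    have hzK : z ∈ K := hNK (hBN ▸ hz)
    exact congrArg Subtype.val
      ((Subgroup.mem_center_iff.mp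
        (hle (show (⟨z, hzK⟩ : K) ∈ N' from Subgroup.mem_subgroupOf.mpr (hBN.le hz))) ⟨k, hk⟩).symm)
  have hBcentral : ∀ z ∈ B, ∀ x : ↥M, z * x = x * z := by
    intro z hz x
    obtain ⟨k, hk, w, hw, rfl⟩ :=
      Subgroup.mem_sup_of_normal_left.mp (h.tpl.top.ge (Subgroup.mem_top x))
    have hwz : w * z = z * w := h.tpl.comm w hw z hz
    rw [← mul_assoc, hZc z hz k hk, mul_assoc, ← hwz, mul_assoc]
  -- the nonlinear characters
  have hnl : ∀ θ : ↥K → ℂ, Cfsg.IsIrrCharacter ↥K θ → θ 1 ≠ 1 →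
      θ 1 = (p : ℂ) ∧ ¬ Cfsg.IsIrrCharacter ↥M (Cfsg.indFun K θ) := by
    intro θ hθ hθ1
    obtain ⟨m, hm0, hm⟩ := irr_exists_degree hθ
    obtain ⟨m', hm', -, hmd⟩ := irr_degree_dvd_card ⟨θ, hθ⟩
    have hmm : m' = m := by
      have : (m' : ℂ) = m := hm'.symm.trans hm
      exact_mod_cast this
    rw [hmm, hcard] at hmd
    obtain ⟨j, hj, hje⟩ := (Nat.dvd_prime_pow hp).mp hmd
    set B' : Subgroup K := B.subgroupOf K with hB'
    have hBK : B ≤ K := hBN ▸ hNK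
    have hsq : natDeg θ ^ 2 ≤ B'.index := sq_natDeg_le hθ B' fun z hz => norm_eq_of_central hθ fun c => by
      refine congrArg θ (Subtype.ext ?_)
      have := hZc z (Subgroup.mem_subgroupOf.mp hz) c c.2
      simp only [Subgroup.coe_mul, Subgroup.coe_inv, OneMemClass.coe_one]
      rw [this]; group
    have hnd : natDeg θ = m := by simp [natDeg, hm]
    have hidx : B'.index = p ^ 2 := by
      show B.relIndex K = p ^ 2
      rw [hBN]; exact hNcard.1
    rw [hnd, hidx, hje, ← pow_mul] at hsq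
    have hj1 : j * 2 ≤ 2 := (Nat.pow_le_pow_iff_right hp.one_lt).mp hsq
    have hj0 : j ≠ 0 := fun e => hθ1 (by rw [hm, hje, e]; simp)
    have hj' : j = 1 := by omega
    rw [hj', pow_one] at hje
    refine ⟨by rw [hm, hje], fun hi => ?_⟩
    -- zero outside `B`
    have hnorm := classInner_irr_self hθ
    rw [Cfsg.classInner, inv_mul_eq_one₀ (Nat.cast_ne_zero.mpr Nat.card_pos.ne')] at hnorm
    have hreal : ∀ k : K, θ k * conj (θ k) = ((‖θ k‖ ^ 2 : ℝ) : ℂ) := fun k => by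
      rw [Complex.mul_conj, Complex.normSq_eq_norm_sq]
    rw [Finset.sum_congr rfl fun k _ => hreal k, ← Complex.ofReal_sum, ← Complex.ofReal_natCast,
      Complex.ofReal_inj] at hnorm
    have hB'norm : ∀ k : K, k ∈ B' → ‖θ k‖ ^ 2 = (p : ℝ) ^ 2 := fun k hk => by
      rw [norm_eq_of_central hθ fun c => by
        refine congrArg θ (Subtype.ext ?_)
        have := hZc k (Subgroup.mem_subgroupOf.mp hk) c c.2
        simp only [Subgroup.coe_mul, Subgroup.coe_inv, OneMemClass.coe_one]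
        rw [this]; group, hm, hje, Complex.norm_natCast]
    rw [← Finset.sum_filter_add_sum_filter_not univ (· ∈ B'),
      Finset.sum_congr rfl fun k hk => hB'norm k (mem_filter.mp hk).2, Finset.sum_const,
      nsmul_eq_mul] at hnorm
    have hc' : (univ.filter (· ∈ B')).card = p := by
      rw [← Fintype.card_subtype, ← Nat.card_eq_fintype_card]
      exact (Nat.card_congr (Subgroup.subgroupOfEquivOfLe hBK).toEquiv).trans hBcard
    rw [hc', hcard] at hnorm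
    push_cast at hnorm
    have hrest : ∑ k ∈ univ.filter (fun k : K => k ∉ B'), ‖θ k‖ ^ 2 = 0 := by linarith
    rw [Finset.sum_eq_zero_iff_of_nonneg fun k _ => sq_nonneg _] at hrest
    have hoff : ∀ k : K, k ∉ B' → θ k = 0 := fun k hk =>
      norm_eq_zero.mp (pow_eq_zero_iff two_ne_zero |>.mp
        (hrest k (mem_filter.mpr ⟨mem_univ _, hk⟩)))
    have hfix : ∀ x : ↥M, conjChar hKn θ x = θ := by
      intro x
      funext k
      show θ (⟨x * k * x⁻¹, _⟩ : K) = θ k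
      by_cases hk : k ∈ B'
      · refine congrArg θ (Subtype.ext ?_)
        show x * (k : ↥M) * x⁻¹ = k
        exact (congrArg (· * x⁻¹) (hBcentral (k : ↥M) (Subgroup.mem_subgroupOf.mp hk) x).symm).trans
          (mul_inv_cancel_right _ _)
      · rw [hoff k hk, hoff]
        intro hk'
        refine hk (Subgroup.mem_subgroupOf.mpr ?_)
        have hm0 : x * (k : ↥M) * x⁻¹ ∈ B := Subgroup.mem_subgroupOf.mp hk'
        have e := hBcentral _ hm0 x
        have e' : x * (k : ↥M) * x⁻¹ = (k : ↥M) := by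
          calc x * (k : ↥M) * x⁻¹ = x⁻¹ * (x * ((x * (k : ↥M) * x⁻¹))) := by group
            _ = x⁻¹ * ((x * (k : ↥M) * x⁻¹) * x) := by rw [← e]
            _ = _ := by group
        rwa [e'] at hm0
    have hii := classInner_irr_self hi
    rw [classInner_indFun_indFun hKn (isClassFunction_of_isCharacter (isCharacter_of_irr hθ)),
      Finset.sum_congr rfl fun x _ => by rw [hfix x, classInner_irr_self hθ], Finset.sum_const,
      nsmul_one, Finset.card_univ, ← Nat.card_eq_fintype_card,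
      inv_mul_eq_one₀ (Nat.cast_ne_zero.mpr Nat.card_pos.ne')] at hii
    have hc2 : Nat.card K = Nat.card ↥M := by exact_mod_cast hii
    have := K.card_mul_index
    rw [← hc2] at this
    exact hq1.ne' (Nat.eq_of_mul_eq_mul_left Nat.card_pos (this.trans (mul_one _).symm))
  -- the constants
  obtain ⟨-, -, hdisj, hcomm, -, -⟩ := id h.data.selfNormalizing
  have hW := h.data.selfNormalizing
  haveI := finite_linChar hW
  haveI := Fintype.ofFinite (↥(W₁ ⊔ W₂) →* ℂˣ)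
  haveI := Fintype.ofFinite {φ : ↥(W₁ ⊔ W₂) →* ℂˣ // TrivR φ}
  have hres_irr := h.ti.res_irr
  have hres_deg : ∀ ω, ¬ AgreeR W₁ W₂ ω 1 → resD M (μ ω) 1 = (d : ℂ) := fun ω hω => (h.const ω hω).1
  obtain ⟨ψ₀, hψ₀, hψ₀1⟩ : ∃ ψ : ↥(W₁ ⊔ W₂) →* ℂˣ, TrivL ψ ∧ ψ ≠ 1 := by
    obtain ⟨b, hb⟩ := Subgroup.ne_bot_iff_exists_ne_one.mp hW.2.1
    letI iB : CommGroup W₂ :=
      { (inferInstance : Group W₂) with
        mul_comm := fun a b => Subtype.ext (congrArg Subtype.val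
          (cti_abelian hW (ctiR W₁ W₂ a) (ctiR W₁ W₂ b)) :) }
    obtain ⟨g, hg⟩ := CommGroup.exists_apply_ne_one_of_hasEnoughRootsOfUnity W₂ ℂ hb
    obtain ⟨ψ, hψ, hψe⟩ := exists_trivL hdisj hcomm g
    exact ⟨ψ, hψ, fun e => hg (by rw [← hψe, e]; rfl)⟩
  have hnag : ∀ {φ ψ : ↥(W₁ ⊔ W₂) →* ℂˣ}, TrivR φ → TrivL ψ → ψ ≠ 1 →
      ¬ AgreeR W₁ W₂ (φ * ψ) 1 := fun {φ ψ} hφ hψ hψ1 ha => hψ1 (by
    refine eq_one_of_trivR_trivL hdisj hcomm (fun w hw => ?_) hψ
    have := ha w hw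
    rwa [MonoidHom.mul_apply, hφ w hw, one_mul] at this)
  have hone : TrivR (1 : ↥(W₁ ⊔ W₂) →* ℂˣ) := fun _ _ => rfl
  have hom1 : ∀ φ : ↥(W₁ ⊔ W₂) →* ℂˣ, φ * 1 = φ := fun φ => mul_one φ
  have hd : d = p := by
    have hω : ¬ AgreeR W₁ W₂ ψ₀ 1 := fun ha => hnag hone hψ₀ hψ₀1 ((congrArg (AgreeR W₁ W₂ · 1) (one_mul ψ₀)).mpr ha)
    have h1 := (hnl _ (hres_irr ψ₀) (by
      rw [hres_deg ψ₀ hω]
      exact_mod_cast h.d_gt.ne')).1
    rw [hres_deg ψ₀ hω] at h1
    exact_mod_cast h1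
  have hδ₀ : δ₀ = -1 := by
    rcases h.sgn with e | e
    · exfalso
      have h1 := h.d_mod
      rw [e, hd, ← hqW] at h1
      have h2 : (q : ℤ) ∣ ((p + 1 : ℕ) : ℤ) := Int.natCast_dvd_natCast.mpr ⟨n, hn⟩
      have h3 : (q : ℤ) ∣ 2 := by
        have := dvd_sub h2 h1
        rwa [show (((p + 1 : ℕ) : ℤ) - ((p : ℤ) - 1)) = 2 by push_cast; ring] at this
      have := Int.le_of_dvd two_pos h3
      omega
    · exact e
  have hcard' : Y.card * q + 1 = p ^ 2 := hYcard.trans hNcard.1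
  have he : (Y.card : ℤ) = (n : ℤ) * ((p : ℤ) - 1) := by
    have h1 : ((Y.card : ℤ) * q + 1) = (p : ℤ) ^ 2 := by exact_mod_cast hcard'
    have h2 : (p : ℤ) + 1 = (q : ℤ) * n := by exact_mod_cast hn
    have hq0 : (q : ℤ) ≠ 0 := by omega
    refine mul_right_cancel₀ hq0 ?_
    linear_combination h1 + ((p : ℤ) - 1) * h2
  obtain ⟨ζ, hζ⟩ := Finset.card_pos.mp (show 0 < Y.card by omega)
  obtain ⟨hζi, hζ1, hζS, hfζ⟩ := hY ζ hζ
  have hζcl := isClassFunction_of_isCharacter (isCharacter_of_irr hζi)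
  have hζζ := classInner_irr_self hζi
  have hζμ : ∀ ω, Cfsg.classInner ζ (μ ω) = 0 := fun ω => by
    rw [classInner_conj_symm, h.inner_mu_zero hζi hζS ω, map_zero]
  -- the elements `α`
  let α : (↥(W₁ ⊔ W₂) →* ℂˣ) → (↥(W₁ ⊔ W₂) →* ℂˣ) → (↥M → ℂ) :=
    fun φ ψ => μ (φ * ψ) + μ φ - (n : ℤ) • ζ
  have hαgen : ∀ φ ψ, Cfsg.IsGeneralizedCharacter ↥M (α φ ψ) := fun φ ψ =>
    isGeneralizedCharacter_sub (isGeneralizedCharacter_add
      (isGeneralizedCharacter_irr ⟨_, h.ti.μ_irr _⟩) (isGeneralizedCharacter_irr ⟨_, h.ti.μ_irr _⟩))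
      (isGeneralizedCharacter_zsmul (isGeneralizedCharacter_irr ⟨ζ, hζi⟩) _)
  have hαcl : ∀ φ ψ, Cfsg.IsClassFunction ↥M (α φ ψ) := fun φ ψ =>
    isClassFunction_of_isGeneralizedCharacter (hαgen φ ψ)
  have hαsupp : ∀ φ ψ, TrivR φ → TrivL ψ → ψ ≠ 1 →
      ∀ x : ↥M, (x : G) ∉ suppA0 M → α φ ψ x = 0 := by
    intro φ ψ hφ hψ hψ1
    have hd1 := (h.const _ (hnag hφ hψ hψ1)).1
    have hδ1 := (h.const _ (hnag hφ hψ hψ1)).2
    refine h.supp_A0 (hαcl φ ψ) ?_ fun x hx hx1 => ?_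
    · simp only [α, Pi.add_apply, Pi.sub_apply, Pi.smul_apply, hd1, h.trivR_deg hφ, hζ1, hd,
        zsmul_eq_mul]
      have : ((p : ℂ) + 1) = (q : ℂ) * n := by exact_mod_cast hn
      simp only [Pi.mul_apply, Pi.intCast_apply, Pi.natCast_apply, hζ1, hd] at *
      push_cast
      linear_combination this
    · have hx2 : (x : G) ∉ W₂ := fun h2 => hx1 (Subtype.ext
        (Subgroup.mem_bot.mp (hdisj.le ⟨hx, h2⟩)))
      have hxW : (x : G) ∈ W₁ ⊔ W₂ := Subgroup.mem_sup_left hx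
      simp only [α, Pi.add_apply, Pi.sub_apply, Pi.smul_apply]
      rw [h.ti.μ_value _ x hxW hx2, h.ti.μ_value _ x hxW hx2,
        h.mem_base_zero hζS (h.notMem_derSub hx hx1), hδ1, hδ₀, h.trivR_delta hφ,
        MonoidHom.mul_apply, hψ ⟨x, hxW⟩ hx]
      simp
  have hsubgen : ∀ ζ' ∈ Y, ∀ ζ'' ∈ Y, ∀ x : ↥M, (x : G) ∉ suppA0 M → (ζ' - ζ'') x = 0 := by
    intro a ha b hb
    refine h.supp_A0 (isClassFunction_of_isGeneralizedCharacter (isGeneralizedCharacter_sub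
      (isGeneralizedCharacter_irr ⟨a, (hY a ha).1⟩) (isGeneralizedCharacter_irr ⟨b, (hY b hb).1⟩)))
      (by rw [Pi.sub_apply, (hY a ha).2.1, (hY b hb).2.1, sub_self]) fun x hx hx1 => ?_
    rw [Pi.sub_apply, h.mem_base_zero (hY a ha).2.2.1 (h.notMem_derSub hx hx1),
      h.mem_base_zero (hY b hb).2.2.1 (h.notMem_derSub hx hx1), sub_self]
  -- coefficients on the base
  have hbessel : ∀ (a : ↥M → ℂ), Cfsg.IsClassFunction ↥M a → Cfsg.IsGeneralizedCharacter ↥M a →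
      (∀ x : ↥M, (x : G) ∉ suppA0 M → a x = 0) → ∀ (N₀ t : ℤ),
      Cfsg.classInner a a = (N₀ : ℂ) → (∀ b ∈ Y, b ≠ ζ → Cfsg.classInner a (b - ζ) = (t : ℂ)) →
      ∃ m : ℤ, Cfsg.classInner (tau M a) (f ζ) = ((m - t : ℤ) : ℂ) ∧
        (m - t) ^ 2 + ((Y.card : ℤ) - 1) * m ^ 2 ≤ N₀ := by
    intro a hac hag hsa N₀ t hN₀ ht
    have hg := h.tau_gen hag hsa
    obtain ⟨c, hc⟩ := classInner_generalized_int hg hfζ.generalized
    refine ⟨c + t, by rw [hc]; simp, ?_⟩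
    have hco : ∀ b ∈ Y, Cfsg.classInner (tau M a) (f b) =
        (((if b = ζ then c else c + t : ℤ)) : ℂ) := by
      intro b hb
      split_ifs with e
      · rw [e, hc]
      · have h2 := h.tau_isom hac hsa (b := b - ζ)
          (isClassFunction_of_isGeneralizedCharacter (isGeneralizedCharacter_sub
            (isGeneralizedCharacter_irr ⟨b, (hY b hb).1⟩) (isGeneralizedCharacter_irr ⟨ζ, hζi⟩)))
        rw [hfdiff b hb ζ hζ, classInner_sub_right, hc, ht b hb e] at h2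
        push_cast
        linear_combination h2
    have hn' := norm_sub_orth Y f _ (tau M a) hforth hco
    have hre := classInner_self_re_nonneg
      (tau M a - ∑ b ∈ Y, (if b = ζ then c else c + t) • f b)
    rw [hn', h.tau_isom hac hsa hac, hN₀, ← Int.cast_sub, Complex.intCast_re] at hre
    have hre' : (0 : ℤ) ≤ N₀ - ∑ b ∈ Y, (if b = ζ then c else c + t) ^ 2 := by exact_mod_cast hre
    rw [← Finset.add_sum_erase _ _ hζ, if_pos rfl, Finset.sum_congr rfl fun b hb => by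
      rw [if_neg (Finset.ne_of_mem_erase hb)], Finset.sum_const, Finset.card_erase_of_mem hζ,
      nsmul_eq_mul, Nat.cast_sub (by omega), Nat.cast_one] at hre'
    rw [add_sub_cancel_right]
    linarith
  have hμμ : ∀ a b, Cfsg.classInner (μ a) (μ b) = if a = b then 1 else 0 := fun a b => by
    split_ifs with e
    · rw [e]; exact classInner_irr_self (h.ti.μ_irr b)
    · exact classInner_irr_ne (h.ti.μ_irr a) (h.ti.μ_irr b) fun hh => e (h.ti.μ_inj hh)
  have hηη := h.ti.family.orthonormal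
  have hfηr : ∀ ω, Cfsg.classInner (η ω) (f ζ) = 0 := fun ω => by
    rw [classInner_conj_symm, hfη ζ hζ ω, map_zero]
  have hζb : ∀ b ∈ Y, b ≠ ζ → Cfsg.classInner ζ b = 0 := fun b hb hne =>
    classInner_irr_ne hζi (hY b hb).1 hne.symm
  -- images of the `α`
  have hτα : ∀ φ ψ, TrivR φ → TrivL ψ → ψ ≠ 1 →
      tau M (α φ ψ) = η φ - η (φ * ψ) - (n : ℤ) • f ζ := by
    intro φ ψ hφ hψ hψ1
    have hne : φ * ψ ≠ φ := fun e => hψ1 (mul_left_cancel (e.trans (mul_one φ).symm))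
    have hnorm : Cfsg.classInner (α φ ψ) (α φ ψ) = (((n : ℤ) ^ 2 + 2 : ℤ) : ℂ) := by
      simp only [α, classInner_sub_left, classInner_sub_right, classInner_add_left,
        classInner_add_right, classInner_zsmul_left, classInner_zsmul_right, hμμ, hζμ,
        h.inner_mu_zero hζi hζS, hζζ, if_true, if_neg hne, if_neg hne.symm]
      push_cast
      ring
    obtain ⟨m, hm, hm2⟩ := hbessel (α φ ψ) (hαcl φ ψ) (hαgen φ ψ) (hαsupp φ ψ hφ hψ hψ1) _ (n : ℤ)
      hnorm (fun b hb hbne => by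
        simp only [α, classInner_sub_left, classInner_sub_right, classInner_add_left,
          classInner_zsmul_left, hζζ, hζb b hb hbne, h.inner_mu_zero (hY b hb).1 (hY b hb).2.2.1,
          h.inner_mu_zero hζi hζS]
        push_cast
        ring)
    have hm0 : m = 0 := by
      by_contra hm0
      have h1 : (n : ℤ) * (m * ((((p : ℤ) - 1) * m) - 2)) ≤ 2 := by rw [he] at hm2; nlinarith
      have hp4 : (4 : ℤ) ≤ (p : ℤ) - 1 := by omega
      have h2 : (2 : ℤ) ≤ m * ((((p : ℤ) - 1) * m) - 2) := by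
        rcases lt_or_gt_of_ne hm0 with hl | hl
        · nlinarith
        · nlinarith
      have : (2 : ℤ) * 2 ≤ (n : ℤ) * (m * ((((p : ℤ) - 1) * m) - 2)) :=
        mul_le_mul (by exact_mod_cast hn2) h2 (by norm_num) (by positivity)
      linarith
    rw [hm0, zero_sub] at hm
    have hgen := isGeneralizedCharacter_add (h.tau_gen (hαgen φ ψ) (hαsupp φ ψ hφ hψ hψ1))
      (isGeneralizedCharacter_zsmul hfζ.generalized (n : ℤ))
    have hn2' : Cfsg.classInner (tau M (α φ ψ) + (n : ℤ) • f ζ) (tau M (α φ ψ) + (n : ℤ) • f ζ) = 2 := by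
      simp only [classInner_add_left, classInner_add_right, classInner_zsmul_left,
        classInner_zsmul_right, hm, hfζ.norm_one, h.tau_isom (hαcl φ ψ) (hαsupp φ ψ hφ hψ hψ1)
          (hαcl φ ψ), hnorm]
      rw [classInner_conj_symm (tau M (α φ ψ)) (f ζ), hm, map_intCast]
      push_cast
      ring
    have hX := eq_pair_of_eqOn hW h.odd_W' (coprime_W h.data) h.ti.family hgen hn2' hne
      (δ := -1) (Or.inr rfl) (fun w h₁ h₂ => by
        have hwM : (w : G) ∈ M := (typeP_le h.data).2.2.2.2 w.2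
        rw [Pi.add_apply, Pi.smul_apply, h.tau_at_hat (hαcl φ ψ) w h₁ h₂ hwM,
          vanish_hat_of_orth hW h.ti.family hfζ.classFunction (hfη ζ hζ) w h₁ h₂]
        have hnd : (⟨w, hwM⟩ : ↥M) ∉ derSub M := fun hK => h₂ (by
          have hwK : (⟨w, hwM⟩ : ↥M) ∈ (W₁.subgroupOf M ⊔ W₂.subgroupOf M : Subgroup ↥M) := by
            rw [← Subgroup.subgroupOf_sup (typeP_le h.data).1 hW₂M]
            exact w.2
          exact h.tpl.mem₂_of_mem hwK hK)
        simp only [α, Pi.add_apply, Pi.sub_apply, Pi.smul_apply]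
        rw [h.ti.μ_value _ ⟨w, hwM⟩ w.2 h₂, h.ti.μ_value _ ⟨w, hwM⟩ w.2 h₂,
          h.mem_base_zero hζS hnd, (h.const _ (hnag hφ hψ hψ1)).2, hδ₀, h.trivR_delta hφ]
        simp
        ring)
    rw [← eq_sub_iff_add_eq] at hX
    rw [hX]
    push_cast
    module
  -- the bridge
  set β := colChar M μ 1 - ζ with hβdef
  have hcol1 : colChar M μ 1 1 = (q : ℂ) := by
    rw [h.colChar_sum 1, Finset.sum_apply,
      Finset.sum_congr rfl (g := fun _ => (1 : ℂ)) fun φ _ =>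
        (congrArg (fun ω => μ ω 1) (mul_one φ.1)).trans (h.trivR_deg φ.2),
      Finset.sum_const, nsmul_one, Finset.card_univ,
      ← Nat.card_eq_fintype_card, card_trivR hW, hqW]
  have hcolgen : ∀ ψ, Cfsg.IsGeneralizedCharacter ↥M (colChar M μ ψ) := fun ψ =>
    isGeneralizedCharacter_of_isCharacter
      (CfsgLib.Induction.isCharacter_indFun K (isCharacter_of_irr (hres_irr ψ)))
  have hcolcl : ∀ ψ, Cfsg.IsClassFunction ↥M (colChar M μ ψ) := fun ψ =>
    isClassFunction_of_isGeneralizedCharacter (hcolgen ψ)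
  have hcolzero : ∀ ψ {x : ↥M}, x ∉ K → colChar M μ ψ x = 0 := fun ψ x hx =>
    CfsgLib.Induction.indFun_normal_eq_zero _ hx
  have hcolζ : ∀ ψ, ∀ b ∈ Y, Cfsg.classInner (colChar M μ ψ) b = 0 := fun ψ b hb => by
    rw [h.colChar_sum ψ, classInner_sum_left]
    exact Finset.sum_eq_zero fun φ _ => h.inner_mu_zero (hY b hb).1 (hY b hb).2.2.1 _
  have hcolζ' : ∀ ψ, ∀ b ∈ Y, Cfsg.classInner b (colChar M μ ψ) = 0 := fun ψ b hb => by
    rw [classInner_conj_symm, hcolζ ψ b hb, map_zero]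
  have hβgen : Cfsg.IsGeneralizedCharacter ↥M β :=
    isGeneralizedCharacter_sub (hcolgen 1) (isGeneralizedCharacter_irr ⟨ζ, hζi⟩)
  have hβcl := isClassFunction_of_isGeneralizedCharacter hβgen
  have hβsupp : ∀ x : ↥M, (x : G) ∉ suppA0 M → β x = 0 := h.supp_A0 hβcl
    (by rw [hβdef, Pi.sub_apply, hcol1, hζ1, sub_self]) fun x hx hx1 => by
      rw [hβdef, Pi.sub_apply, hcolzero 1 (h.notMem_derSub hx hx1),
        h.mem_base_zero hζS (h.notMem_derSub hx hx1), sub_self]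
  have hβnorm : Cfsg.classInner β β = (((q : ℤ) + 1 : ℤ) : ℂ) := by
    rw [hβdef, classInner_sub_left, classInner_sub_right, classInner_sub_right, h.colChar_norm,
      hcolζ 1 ζ hζ, hcolζ' 1 ζ hζ, hζζ]
    push_cast
    ring
  obtain ⟨m', hm', hm2'⟩ := hbessel β hβcl hβgen hβsupp _ 1 hβnorm (fun b hb hbne => by
    rw [hβdef, classInner_sub_left, classInner_sub_right, classInner_sub_right, hcolζ 1 b hb,
      hcolζ 1 ζ hζ, hζb b hb hbne, hζζ]
    push_cast
    ring)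
  have hm'0 : m' = 0 := by
    by_contra hne
    have hnq : (p : ℤ) + 1 = (q : ℤ) * n := by exact_mod_cast hn
    have hq3' : (3 : ℤ) ≤ q := by exact_mod_cast hq3
    have hn2'' : (2 : ℤ) ≤ n := by exact_mod_cast hn2
    have hbig : (q : ℤ) + 2 < (Y.card : ℤ) := by
      have h0 : (q : ℤ) * 2 ≤ (q : ℤ) * n := mul_le_mul_of_nonneg_left hn2'' (by linarith)
      have hp1 : (0 : ℤ) ≤ (p : ℤ) - 1 := by linarith
      have h1 := mul_le_mul_of_nonneg_right hn2'' hp1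
      rw [he]
      linarith
    have hsq : 1 ≤ m' ^ 2 := by
      have := sq_pos_of_ne_zero hne
      linarith
    have hA := mul_le_mul_of_nonneg_left hsq (show (0 : ℤ) ≤ (Y.card : ℤ) - 2 by linarith)
    have hB : m' ≤ m' ^ 2 := Int.le_self_sq m'
    nlinarith
  rw [hm'0] at hm'
  set Bt := tau M β + f ζ with hBt
  have hfβ : Cfsg.classInner (f ζ) (tau M β) = -1 := by
    rw [classInner_conj_symm, hm']; simp
  have hBf : Cfsg.classInner Bt (f ζ) = 0 := by
    rw [hBt, classInner_add_left, hm', hfζ.norm_one]; simp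
  have hBn : Cfsg.classInner Bt Bt = (q : ℂ) := by
    rw [hBt, classInner_add_left, classInner_add_right, classInner_add_right,
      h.tau_isom hβcl hβsupp hβcl, hβnorm, hm', hfβ, hfζ.norm_one]
    push_cast
    ring
  have hBgen : Cfsg.IsGeneralizedCharacter G Bt :=
    isGeneralizedCharacter_add (h.tau_gen hβgen hβsupp) hfζ.generalized
  have hint : ∀ ω, ∃ c : ℤ, Cfsg.classInner Bt (η ω) = c := fun ω =>
    classInner_generalized_int hBgen (family_signed h.ti.family ω).generalized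
  choose c hc using hint
  have hkey : ∀ φ ψ, TrivR φ → TrivL ψ → ψ ≠ 1 → c φ - c (φ * ψ) = 1 := by
    intro φ ψ hφ hψ hψ1
    have hcolμ : ∀ ω, Cfsg.classInner (colChar M μ 1) (μ ω) =
        if AgreeR W₁ W₂ 1 ω then 1 else 0 := h.colChar_inner 1
    have hagφ : AgreeR W₁ W₂ 1 φ := fun w hw => (hφ w hw).symm
    have hagn : ¬ AgreeR W₁ W₂ 1 (φ * ψ) := fun e => hnag hφ hψ hψ1 fun w hw => (e w hw).symm
    have h1 : Cfsg.classInner (tau M β) (tau M (α φ ψ)) = 1 + (n : ℂ) := by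
      rw [h.tau_isom hβcl hβsupp (hαcl φ ψ), hβdef]
      simp only [α, classInner_sub_left, classInner_sub_right, classInner_add_right,
        classInner_zsmul_right, hcolμ, hζμ, hcolζ 1 ζ hζ, hζζ, if_pos hagφ, if_neg hagn]
      push_cast
      ring
    have h2 : Cfsg.classInner (f ζ) (tau M (α φ ψ)) = -(n : ℂ) := by
      rw [hτα φ ψ hφ hψ hψ1, classInner_sub_right, classInner_sub_right, classInner_zsmul_right,
        hfη ζ hζ, hfη ζ hζ, hfζ.norm_one]
      simp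
    have h3 : Cfsg.classInner Bt (tau M (α φ ψ)) = 1 := by
      rw [hBt, classInner_add_left, h1, h2]; ring
    rw [hτα φ ψ hφ hψ hψ1, classInner_sub_right, classInner_sub_right, classInner_zsmul_right,
      hc, hc, hBf, mul_zero, sub_zero] at h3
    exact_mod_cast h3
  have hψinv : ψ₀⁻¹ ≠ ψ₀ := by
    intro e
    apply hψ₀1
    refine MonoidHom.ext fun w => ?_
    have h2 : ψ₀ (w ^ 2) = 1 := by
      rw [map_pow, sq]
      exact inv_eq_iff_mul_eq_one.mp (by rw [← MonoidHom.inv_apply, e])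
    obtain ⟨a, ha⟩ := h.odd_W'
    have hw : (w ^ 2) ^ (a + 1) = w := by
      rw [← pow_mul, show 2 * (a + 1) = (2 * a + 1) + 1 by ring, pow_succ, ← ha, pow_card_eq_one',
        one_mul]
    rw [← hw, map_pow, h2, one_pow, MonoidHom.one_apply]
  have hψi : TrivL ψ₀⁻¹ := fun w hw => by rw [MonoidHom.inv_apply, hψ₀ w hw, inv_one]
  have hψi1 : ψ₀⁻¹ ≠ 1 := fun e => hψ₀1 (MonoidHom.ext fun w => by
    have e' := DFunLike.congr_fun e w
    rw [MonoidHom.inv_apply, MonoidHom.one_apply, inv_eq_one] at e'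
    exact e')
  have hBeq : Bt = ∑ φ : {φ : ↥(W₁ ⊔ W₂) →* ℂˣ // TrivR φ}, η φ.1 := by
    let χ₃ : Fin 3 → (↥(W₁ ⊔ W₂) →* ℂˣ) := ![1, ψ₀, ψ₀⁻¹]
    have hχ₃L : ∀ i, TrivL (χ₃ i) := fun i => by
      fin_cases i
      · exact fun _ _ => rfl
      · exact hψ₀
      · exact hψi
    have hχ₃inj : Function.Injective χ₃ := fun i j e => by
      fin_cases i <;> fin_cases j <;> simp [χ₃] at e ⊢ <;>
        first | exact hψ₀1 e | exact hψ₀1 e.symm | exact hψinv e | exact hψinv e.symm | exact hψi1 e | exact hψi1 e.symm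
    let ι := {φ : ↥(W₁ ⊔ W₂) →* ℂˣ // TrivR φ} × Fin 3
    let v : ι → (G → ℂ) := fun x => η (x.1.1 * χ₃ x.2)
    have hvinj : ∀ x y : ι, x.1.1 * χ₃ x.2 = y.1.1 * χ₃ y.2 → x = y := fun x y e => by
      obtain ⟨e1, e2⟩ := mul_inj_trivR_trivL hdisj hcomm x.1.2 y.1.2 (hχ₃L x.2) (hχ₃L y.2) e
      exact Prod.ext (Subtype.ext e1) (hχ₃inj e2)
    have hn3 := norm_sub_orth (Finset.univ : Finset ι) v (fun x => c (x.1.1 * χ₃ x.2)) Bt
      (fun x _ y _ => by
        rw [hηη]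
        by_cases e : x = y
        · rw [if_pos e, if_pos (e ▸ rfl)]
        · rw [if_neg e, if_neg fun e' => e (hvinj x y e')])
      fun x _ => hc _
    have hre := classInner_self_re_nonneg
      (Bt - ∑ x : ι, c (x.1.1 * χ₃ x.2) • v x)
    rw [hn3, hBn, show ((q : ℂ)) = ((q : ℤ) : ℂ) by norm_num, ← Int.cast_sub,
      Complex.intCast_re] at hre
    have hre' : (0 : ℤ) ≤ (q : ℤ) - ∑ x : ι, c (x.1.1 * χ₃ x.2) ^ 2 := by exact_mod_cast hre
    rw [Fintype.sum_prod_type] at hre'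
    have hrow : ∀ φ : {φ : ↥(W₁ ⊔ W₂) →* ℂˣ // TrivR φ},
        ∑ i : Fin 3, c (φ.1 * χ₃ i) ^ 2 = c φ.1 ^ 2 + 2 * (c φ.1 - 1) ^ 2 := fun φ => by
      have e1 := hkey φ.1 ψ₀ φ.2 hψ₀ hψ₀1
      have e2 := hkey φ.1 ψ₀⁻¹ φ.2 hψi hψi1
      rw [Fin.sum_univ_three]
      simp only [χ₃, Matrix.cons_val_zero, Matrix.cons_val_one, Matrix.cons_val_two,
        Matrix.tail_cons, Matrix.head_cons, hom1]
      rw [show c (φ.1 * ψ₀) = c φ.1 - 1 by linarith, show c (φ.1 * ψ₀⁻¹) = c φ.1 - 1 by linarith]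
      ring
    rw [Finset.sum_congr rfl fun φ _ => hrow φ] at hre'
    have hge : ∀ φ : {φ : ↥(W₁ ⊔ W₂) →* ℂˣ // TrivR φ}, 1 ≤ c φ.1 ^ 2 + 2 * (c φ.1 - 1) ^ 2 ∧
        (c φ.1 ^ 2 + 2 * (c φ.1 - 1) ^ 2 = 1 → c φ.1 = 1) := fun φ => by
      rcases lt_trichotomy (c φ.1) 1 with hl | hl | hl
      · exact ⟨by nlinarith, fun e => absurd e (by nlinarith)⟩
      · exact ⟨by rw [hl]; norm_num, fun _ => hl⟩
      · exact ⟨by nlinarith, fun e => absurd e (by nlinarith)⟩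
    have hcardR : ∑ _φ : {φ : ↥(W₁ ⊔ W₂) →* ℂˣ // TrivR φ}, (1 : ℤ) = q := by
      rw [Finset.sum_const, nsmul_one, Finset.card_univ, ← Nat.card_eq_fintype_card, card_trivR hW,
        hqW]
    have heq := (Finset.sum_eq_sum_iff_of_le fun φ _ => (hge φ).1).mp
      (le_antisymm (Finset.sum_le_sum fun φ _ => (hge φ).1) (by linarith))
    have hc1 : ∀ φ : {φ : ↥(W₁ ⊔ W₂) →* ℂˣ // TrivR φ}, c φ.1 = 1 := fun φ =>
      (hge φ).2 (heq φ (Finset.mem_univ _)).symm
    have hn4 := norm_sub_orth (Finset.univ : Finset {φ : ↥(W₁ ⊔ W₂) →* ℂˣ // TrivR φ})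
      (fun φ => η φ.1) (fun _ => 1) Bt
      (fun x _ y _ => by
        rw [hηη]
        by_cases e : x = y
        · rw [if_pos e, if_pos (e ▸ rfl)]
        · rw [if_neg e, if_neg fun e' => e (Subtype.ext e')])
      fun x _ => by rw [hc, hc1 x]
    simp only [one_pow, one_zsmul] at hn4
    rw [hBn, hcardR] at hn4
    push_cast at hn4
    rw [sub_self] at hn4
    exact sub_eq_zero.mp (eq_zero_of_classInner_self hn4)
  -- the images of the reducible members
  have hτcol : ∀ ψ, TrivL ψ → ψ ≠ 1 → tau M (colChar M μ ψ - (p : ℤ) • ζ) =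
      -(∑ φ : {φ : ↥(W₁ ⊔ W₂) →* ℂˣ // TrivR φ}, η (φ.1 * ψ)) - (p : ℤ) • f ζ := by
    intro ψ hψ hψ1
    have e : colChar M μ ψ - (p : ℤ) • ζ =
        (∑ φ : {φ : ↥(W₁ ⊔ W₂) →* ℂˣ // TrivR φ}, α φ.1 ψ) - β := by
      rw [hβdef, h.colChar_sum ψ, h.colChar_sum 1]
      simp only [α, Finset.sum_sub_distrib, Finset.sum_add_distrib, Finset.sum_const,
        Finset.card_univ, hom1]
      rw [← Nat.card_eq_fintype_card, card_trivR hW, ← hqW]
      have hqn : ((q : ℤ) * n) = (p : ℤ) + 1 := by exact_mod_cast hn.symm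
      rw [← natCast_zsmul ((n : ℤ) • ζ), ← mul_zsmul, hqn]
      module
    rw [e, tau_sub', tau_sum', Finset.sum_congr rfl fun φ _ => hτα φ.1 ψ φ.2 hψ hψ1,
      show tau M β = Bt - f ζ by rw [hBt, add_sub_cancel_right], hBeq]
    simp only [Finset.sum_sub_distrib, Finset.sum_const, Finset.card_univ]
    rw [← Nat.card_eq_fintype_card, card_trivR hW, ← hqW]
    have hqn : ((q : ℤ) * n) = (p : ℤ) + 1 := by exact_mod_cast hn.symm
    rw [← natCast_zsmul ((n : ℤ) • f ζ), ← mul_zsmul, hqn]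
    module
  -- the members of the set
  set T := indAboveFinset K ⊥ with hT
  have hTc : (↑T : Set (↥M → ℂ)) = Cfsg.inducedIrrAbove K ⊥ := coe_indAboveFinset _
  have hYT : ∀ b ∈ Y, b ∈ T := fun b hb => by
    rw [← Finset.mem_coe, hTc]; exact (hY b hb).2.2.1
  have hclass : ∀ b ∈ T, b ∈ Y ∨ ∃ ψ, TrivL ψ ∧ ψ ≠ 1 ∧ b = colChar M μ ψ := by
    intro b hb
    obtain ⟨θ, hθ, rfl⟩ := Finset.mem_image.mp hb
    have hne := (mem_thetaAbove.mp hθ).1
    by_cases h1 : (θ : K → ℂ) 1 = 1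
    · left
      rw [← Finset.mem_coe, hYc]
      exact h.mem_base_of_deg_one θ.2 hne h1
    · right
      rcases h.classify θ.2 hne with hi | ⟨ω, hω, e⟩
      · exact absurd hi (hnl _ θ.2 h1).2
      · obtain ⟨φ, ψ, hφ, hψ, rfl⟩ := exists_trivR_mul_trivL hdisj hcomm ω
        refine ⟨ψ, hψ, fun e1 => hω ?_, ?_⟩
        · rw [e1, hom1]; exact hφ
        · rw [e]
          exact congrArg (Cfsg.indFun K) (h.ti.res_eq _ _ fun w hw => by
            rw [MonoidHom.mul_apply, hφ w hw, one_mul])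
  let v : (↥M → ℂ) → (G → ℂ) := fun b => if b ∈ Y then f b else
    -∑ ω ∈ univ.filter (fun ω => Cfsg.classInner b (μ ω) ≠ 0), η ω
  have hcolY : ∀ ψ, colChar M μ ψ ∉ Y := fun ψ hm => h.colChar_not_irr ψ (hY _ hm).1
  have hfilt : ∀ ψ, univ.filter (fun ω => Cfsg.classInner (colChar M μ ψ) (μ ω) ≠ 0) =
      univ.filter (fun ω => AgreeR W₁ W₂ ψ ω) := fun ψ => by
    refine Finset.filter_congr fun ω _ => ?_
    rw [h.colChar_inner]
    split_ifs with e <;> simp [e]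
  have hfsum : ∀ ψ (g : (↥(W₁ ⊔ W₂) →* ℂˣ) → (G → ℂ)),
      ∑ ω ∈ univ.filter (fun ω => AgreeR W₁ W₂ ψ ω), g ω =
        ∑ φ : {φ : ↥(W₁ ⊔ W₂) →* ℂˣ // TrivR φ}, g (φ.1 * ψ) := fun ψ g =>
    (Finset.sum_bij (fun φ _ => φ.1 * ψ) (fun φ _ => mem_filter.mpr ⟨mem_univ _, agree_iff_mul.mpr ⟨φ, rfl⟩⟩)
      (fun a _ b _ e => Subtype.ext (mul_right_cancel e))
      (fun ω hω => by
        obtain ⟨φ, e⟩ := agree_iff_mul.mp (mem_filter.mp hω).2
        exact ⟨φ, mem_univ _, e.symm⟩) fun _ _ => rfl).symm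
  rw [← hTc]
  refine coherent_of_images T v ?_ ?_ ?_ ?_ (fun b => (natDeg b : ℤ)) ?_ ζ (hYT ζ hζ) ?_ ?_ ?_ ?_
  · intro a ha b hb hne
    exact h.sys.orthogonal a (hTc ▸ ha) b (hTc ▸ hb) hne
  · intro a ha
    rcases hclass a ha with hm | ⟨ψ, -, -, rfl⟩
    · rw [classInner_irr_self (hY a hm).1]; exact one_ne_zero
    · rw [h.colChar_norm]; exact_mod_cast (by omega : q ≠ 0)
  · intro a ha
    rcases hclass a ha with hm | ⟨ψ, -, -, rfl⟩
    · simp only [v, if_pos hm]; exact (hY a hm).2.2.2.generalized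
    · simp only [v, if_neg (hcolY ψ)]
      exact isGeneralizedCharacter_neg (isGeneralizedCharacter_sum _ fun ω _ =>
        (family_signed h.ti.family ω).generalized)
  · intro a ha b hb
    rcases hclass a ha with hma | ⟨ψa, -, -, rfl⟩ <;> rcases hclass b hb with hmb | ⟨ψb, -, -, rfl⟩
    · simp only [v, if_pos hma, if_pos hmb, hforth a hma b hmb]
      split_ifs with e
      · rw [e, classInner_irr_self (hY b hmb).1]
      · rw [classInner_irr_ne (hY a hma).1 (hY b hmb).1 e]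
    · simp only [v, if_pos hma, if_neg (hcolY ψb), classInner_neg_right, classInner_sum_right]
      rw [Finset.sum_eq_zero (fun ω _ => hfη a hma ω), neg_zero, hcolζ' ψb a hma]
    · simp only [v, if_pos hmb, if_neg (hcolY ψa), classInner_neg_left, classInner_sum_left]
      rw [Finset.sum_eq_zero (fun ω _ => by rw [classInner_conj_symm, hfη b hmb ω, map_zero]),
        neg_zero, hcolζ ψa b hmb]
    · simp only [v, if_neg (hcolY ψa), if_neg (hcolY ψb), hfilt, classInner_neg_left,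
        classInner_neg_right, neg_neg, classInner_sum_left, classInner_sum_right, hηη,
        Finset.sum_ite_eq]
      have e2 : colChar M μ ψb = ∑ ω ∈ univ.filter (fun ω => AgreeR W₁ W₂ ψb ω), μ ω := by
        rw [h.colChar_sum ψb]
        refine Finset.sum_bij (fun φ _ => φ.1 * ψb)
          (fun φ _ => mem_filter.mpr ⟨mem_univ _, agree_iff_mul.mpr ⟨φ, rfl⟩⟩)
          (fun a _ b _ e => Subtype.ext (mul_right_cancel e))
          (fun ω hω => by
            obtain ⟨φ, e⟩ := agree_iff_mul.mp (mem_filter.mp hω).2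
            exact ⟨φ, mem_univ _, e.symm⟩) fun _ _ => rfl
      rw [e2, classInner_sum_right, Finset.sum_congr rfl fun ω _ => h.colChar_inner ψa ω]
      simp only [Finset.sum_neg_distrib, neg_neg]
      refine Finset.sum_congr rfl fun ω _ => ?_
      by_cases e : AgreeR W₁ W₂ ψa ω
      · rw [if_pos e]
        exact (Finset.sum_eq_single_of_mem ω (by simpa using e) fun x _ hx => if_neg hx).trans
          (if_pos rfl)
      · rw [if_neg e]
        exact Finset.sum_eq_zero fun x hx => if_neg fun hh : x = ω => e (hh ▸ (mem_filter.mp hx).2)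
  · intro a ha
    rw [natDeg_spec (h.sys.isCharacter a (hTc ▸ ha))]
    norm_num
  · simp [natDeg, hζ1]
    exact_mod_cast (by omega : q ≠ 0)
  · rw [hTc]; exact h.sys.isometry
  · intro a ha
    have hiso := h.sys.isometry.2.1
    have hdζ : natDeg ζ = q := by simp [natDeg, hζ1]
    rcases hclass a ha with hm | ⟨ψ, hψ, hψ1, rfl⟩
    · have hda : natDeg a = q := by simp [natDeg, (hY a hm).2.1]
      simp only [v, if_pos hm, if_pos hζ, hdζ, hda]
      rw [← zsmul_sub, hiso _ (zspanOn_compl_one.mpr ⟨zspan_sub (zspan_of_mem (hY a hm).2.2.1) (zspan_of_mem hζS), by rw [Pi.sub_apply, (hY a hm).2.1, hζ1, sub_self]⟩) _, hfdiff a hm ζ hζ, zsmul_sub]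
    · have hω : ¬ AgreeR W₁ W₂ ψ 1 := fun ha => hnag hone hψ hψ1 ((congrArg (AgreeR W₁ W₂ · 1) (one_mul ψ)).mpr ha)
      have hda : natDeg (colChar M μ ψ) = q * p := by
        rw [natDeg, h.colChar_one hω, hd, Complex.natCast_re, Nat.floor_natCast, hq, hKdef]
      simp only [v, if_neg (hcolY ψ), if_pos hζ, hdζ, hda, hfilt, hfsum]
      have hmem : colChar M μ ψ - (p : ℤ) • ζ ∈
          Cfsg.zspanOn (Cfsg.inducedIrrAbove K ⊥) {1}ᶜ :=
        zspanOn_compl_one.mpr ⟨zspan_sub (zspan_of_mem (hTc ▸ ha)) (zspan_zsmul _ (zspan_of_mem hζS)),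
          by rw [Pi.sub_apply, Pi.smul_apply, h.colChar_one hω, hζ1, hd, hq, zsmul_eq_mul]; push_cast; ring⟩
      rw [show ((q * p : ℕ) : ℤ) • ζ = (q : ℤ) • ((p : ℤ) • ζ) by rw [← mul_zsmul]; push_cast; rfl,
        ← zsmul_sub, hiso _ hmem, hτcol ψ hψ hψ1, zsmul_sub, ← mul_zsmul]
      push_cast
      rfl
  · obtain ⟨b, hb, hne⟩ := Finset.exists_mem_ne (show 1 < Y.card by omega) ζ
    exact ⟨b - ζ, zspanOn_compl_one.mpr ⟨zspan_sub (zspan_of_mem (hYT b hb))
      (zspan_of_mem (hYT ζ hζ)), by rw [Pi.sub_apply, (hY b hb).2.1, hζ1, sub_self]⟩,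
      sub_ne_zero.mpr hne⟩

end VCtx

end CfsgLib.PF
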