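import Cfsg.Agent.Lib.PF.Sec10Bridge
import Cfsg.Agent.S1508

/-!
# PF (10.6b): the values of `τ₁ζ` off `Ã(M)` and the conjugates of `W - (W₁ ∪ W₂)`
-/

set_option autoImplicit false
set_option linter.style.haveILetI false
set_option linter.unusedSectionVars false

namespace CfsgLib.PF

open scoped Classical ComplexConjugate
open Finset CfsgLib.Characters CfsgLib.OddChar

universe u

variable {G : Type u} [Group G] [Fintype G]

/-- The conjugates of `W - (W₁ ∪ W₂)`. -/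
def hatConj (W₁ W₂ : Subgroup G) : Set G :=
  {g | ∃ y : G, ∃ z ∈ W₁ ⊔ W₂, z ∉ W₁ ∧ z ∉ W₂ ∧ g = y * z * y⁻¹}

/-- A function on `M` supported in `A(M)` and the conjugates of `W - (W₁ ∪ W₂)` has Dade image zero off
`Ã(M)` and those conjugates. -/
theorem tau_off_suppA {M W₁ U W₂ : Subgroup G} (hT : PropTypes G) (hD : PropDade G)
    (hM : IsCoatom M) (hP : Cfsg.IsTypePWith M W₁ U W₂) {α : ↥M → ℂ}
    (hα : Cfsg.IsClassFunction ↥M α)
    (hsupp : ∀ x : ↥M, α x ≠ 0 → (x : G) ∈ suppA M ∨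
      ∃ m ∈ M, ∃ z ∈ W₁ ⊔ W₂, z ∉ W₁ ∧ z ∉ W₂ ∧ (x : G) = m * z * m⁻¹)
    {g : G} (hA : g ∉ dadeSupp (suppA M) (Cfsg.supportR M)) (hg : g ∉ hatConj W₁ W₂) :
    tau M α g = 0 := by
  have hDd := dade hT hD hM hP
  by_cases hs : g ∈ dadeSupp (suppA0 M) (Cfsg.supportR M)
  swap
  · exact dadeIsometry_of_not_mem hs
  obtain ⟨a, ha, u, hu, x, e⟩ := hs
  rw [tau, dadeIsometry_apply hDd hα (a := ⟨a, hDd.subset ha⟩) (x := x) ha hu e]
  by_contra hne
  rcases hsupp _ hne with h | ⟨m, hm, z, hz, hz₁, hz₂, hzm⟩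
  · exact hA ⟨a, h, u, hu, x, e⟩
  change a = m * z * m⁻¹ at hzm
  have hcM : Subgroup.centralizer ({a} : Set G) ≤ M := by
    intro c hc
    rw [Subgroup.mem_centralizer_singleton_iff, hzm] at hc
    have h1 : m⁻¹ * c * m ∈ W₁ ⊔ W₂ := by
      rw [cti_centralizer hP.selfNormalizing hz hz₁ hz₂]
      calc m⁻¹ * c * m * z * (m⁻¹ * c * m)⁻¹ = m⁻¹ * (c * (m * z * m⁻¹)) * c⁻¹ * m := by group
        _ = z := by rw [hc]; group
    have h2 := M.mul_mem (M.mul_mem hm ((typeP_le hP).2.2.2.2 h1)) (M.inv_mem hm)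
    rwa [show m * (m⁻¹ * c * m) * m⁻¹ = c by group] at h2
  have hu1 : u = 1 := by
    have hb := hDd.inf_eq_bot a ha
    rw [inf_eq_right.mpr hcM, inf_eq_left.mpr (hDd.le_centralizer a ha)] at hb
    rwa [hb, Subgroup.mem_bot] at hu
  refine hg ⟨x⁻¹ * m, z, hz, hz₁, hz₂, ?_⟩
  rw [hu1, mul_one, hzm] at e
  calc g = x⁻¹ * (x * g * x⁻¹) * x := by group
    _ = _ := by rw [e]; group

/-- A sum of integers over a group of odd order of linear characters, invariant under inversion, is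
congruent to its value at `1` modulo `2`. -/
theorem inv_sum_parity {X : Type*} [Group X] [Fintype X] (hodd : Odd (Nat.card X)) (f : X → ℤ)
    (hf : ∀ x, f x⁻¹ = f x) : 2 ∣ (∑ x, f x) - f 1 := by
  rw [← Finset.sum_erase_add univ f (mem_univ (1 : X)), add_sub_cancel_right]
  refine (ZMod.intCast_zmod_eq_zero_iff_dvd _ 2).mp ?_
  rw [Int.cast_sum]
  refine Finset.sum_involution (fun x _ => x⁻¹) (fun x _ => ?_) (fun x hx _ => ?_)
    (fun x hx => ?_) (fun x _ => inv_inv x)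
  · rw [hf x]
    exact CharTwo.add_self_eq_zero _
  · intro h
    have hx2 : x ^ 2 = 1 := by
      rw [sq]
      nth_rewrite 1 [← h]
      exact inv_mul_cancel x
    have h1 : orderOf x ∣ 2 := orderOf_dvd_of_pow_eq_one hx2
    have h2 := (Nat.coprime_comm.mp hodd.coprime_two_right)
    exact (mem_erase.mp hx).1 (orderOf_eq_one_iff.mp
      (Nat.eq_one_of_dvd_coprimes h2 h1 (orderOf_dvd_natCard x)))
  · simpa using hx

namespace NCSetup

variable {M W₁ U W₂ : Subgroup G} {μ : (↥(W₁ ⊔ W₂) →* ℂˣ) → (↥M → ℂ)}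
  {δ : (↥(W₁ ⊔ W₂) →* ℂˣ) → ℂ} {η : (↥(W₁ ⊔ W₂) →* ℂˣ) → (G → ℂ)}
  {R : (↥M → ℂ) → Finset (G → ℂ)} {τ₁ : (↥M → ℂ) → (G → ℂ)} {ζ : ↥M → ℂ} {d : ℕ} {e n : ℤ}
  (s : NCSetup M W₁ U W₂ μ δ η R τ₁ ζ d e n)

include s

theorem red_mem {ψ : ↥(W₁ ⊔ W₂) →* ℂˣ} (hψ : TrivL ψ) (hψ1 : ψ ≠ 1) :
    red M μ ψ ∈ calS M (Cfsg.typeCore M) ⊥ := by
  have hω := s.not_agree hψ hψ1
  rw [s.core]
  refine ⟨⟨_, s.ti.res_irr ψ, fun h => ?_, fun x hx => ?_, rfl⟩, ?_⟩
  · have h1 := congrFun h 1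
    change μ ψ 1 = 1 at h1
    rw [(s.const ψ hω).1, Nat.cast_eq_one] at h1
    exact absurd h1 s.one_lt.ne'
  · rw [Subgroup.bot_subgroupOf, Subgroup.mem_bot] at hx
    rw [show x = 1 from Subtype.ext hx]
  · rintro ⟨θ', hθ', h1, hker, -⟩
    have h0 := classInner_irr_ne hθ' isIrrCharacter_one h1
    rw [show θ' = θ' 1 • (fun _ => (1 : ℂ)) from funext fun x => by simpa using hker x x.2,
      classInner_smul_left, classInner_irr_self isIrrCharacter_one, mul_one] at h0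
    exact irr_one_ne_zero ⟨θ', hθ'⟩ h0

/-- Off `Ã(M)` and the conjugates of `W - (W₁ ∪ W₂)`, `τ₁ζ` is the sum of the `ηᵢ₀`. -/
theorem tau1_ζ_off {g : G} (hA : g ∉ dadeSupp (suppA M) (Cfsg.supportR M))
    (hg : g ∉ hatConj W₁ W₂) :
    τ₁ ζ g = ∑ᶠ φ ∈ {φ : ↥(W₁ ⊔ W₂) →* ℂˣ | TrivR φ}, η φ g := by
  have hW := s.data.selfNormalizing
  have hdisj := hW.2.2.1
  have hcomm := hW.2.2.2.1
  haveI := finite_linChar hW
  haveI := Fintype.ofFinite (↥(W₁ ⊔ W₂) →* ℂˣ)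
  obtain ⟨ψ, hψ, hψ1⟩ := s.exists_col
  obtain ⟨hτ, hcol⟩ := s.tau_bridge hψ hψ1
  set q : ℕ := Nat.card W₁ with hq
  have hc := isClassFunction_of_isGeneralizedCharacter (s.bridge_class ψ)
  have h1 := tau_off_suppA (propTypes s.min) (propDade s.min) s.max s.data hc
    (s.bridge_supp hψ hψ1) hA hg
  rw [hτ] at h1
  simp only [Pi.sub_apply, Pi.smul_apply, smul_eq_mul] at h1
  -- the column against `ζ`
  have hmem := s.red_mem hψ hψ1
  have hval : red M μ ψ 1 = (d : ℂ) * (q : ℂ) := by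
    rw [red, CfsgLib.Induction.indFun_one_apply, derived_index s.data]
    change _ * μ ψ 1 = _
    rw [(s.const ψ (s.not_agree hψ hψ1)).1, mul_comm]
  have hb : (1 : ℤ) • red M μ ψ - (d : ℤ) • ζ ∈ Cfsg.zspanOn (calS M (Cfsg.typeCore M) ⊥) {1}ᶜ :=
    zspanOn_map hmem s.mem _ _ (by rw [hval, s.deg]; push_cast; ring)
  have h2 := s.part.ext _ hb
  rw [isometry_sub s.part.iso (zspan_zsmul _ (zspan_of_mem hmem))
    (zspan_zsmul _ (zspan_of_mem s.mem)) hb.1, s.part.iso.2.1 _ (zspan_of_mem hmem),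
    s.part.iso.2.1 _ (zspan_of_mem s.mem), hcol] at h2
  simp only [CfsgLib.OddChar.zsmul_eq_smul, one_smul, Int.cast_natCast] at h2 hb
  have h3 := congrFun h2 g
  rw [tau_off_suppA (propTypes s.min) (propDade s.min) s.max s.data
    (isClassFunction_sub (isClassFunction_of_isCharacter (s.part.sys.isCharacter _ hmem))
      (isClassFunction_smul (isClassFunction_of_isCharacter (s.part.sys.isCharacter _ s.mem)) _))
    (fun x hx => Or.inl (by
      rw [s.supp]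
      refine ⟨by
        by_contra hK
        exact hx (by simp [s.vanish hmem hK, s.vanish s.mem hK]), fun h => hx ?_⟩
      exact hb.2 x (by simpa using Subtype.ext h)))
    hA hg, Pi.sub_apply, Pi.smul_apply, Pi.smul_apply, smul_eq_mul, smul_eq_mul] at h3
  -- the family off the conjugates of `W - (W₁ ∪ W₂)`
  have hrel : ∀ φ, TrivR φ → η (φ * ψ) g = η φ g + η ψ g - 1 := by
    intro φ hφ
    by_cases hφ1 : φ = 1
    · subst hφ1
      rw [show (1 : ↥(W₁ ⊔ W₂) →* ℂˣ) * ψ = ψ from one_mul ψ, s.ti.family.map_one]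
      ring
    have h := congrFun (s.ti.family.induced_eq φ ψ hφ1 hψ1 hφ hψ) g
    rw [CfsgLib.Induction.indFun_apply, Finset.sum_eq_zero, mul_zero] at h
    · linear_combination -h
    intro x _
    by_cases hm : x⁻¹ * g * x ∈ W₁ ⊔ W₂
    swap
    · exact CfsgLib.Induction.extendByZero_notMem _ _ hm
    rw [CfsgLib.Induction.extendByZero_mem _ _ hm]
    refine ctiAlpha_vanish hφ hψ ⟨_, hm⟩ ?_
    by_contra hw
    rw [not_or] at hw
    exact hg ⟨x, x⁻¹ * g * x, hm, hw.1, hw.2, by group⟩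
  set S := univ.filter fun φ : ↥(W₁ ⊔ W₂) →* ℂˣ => TrivR φ with hS
  have hSc : (S.card : ℂ) = (q : ℂ) := by
    rw [hS, hq, ← card_trivR hW, Nat.card_eq_fintype_card, Fintype.card_subtype]
  have hsum : colSum η ψ g = (∑ φ ∈ S, η φ g) + (q : ℂ) * (η ψ g - 1) := by
    rw [colSum, finsum_mem_eq_toFinset_sum, Finset.sum_apply]
    rw [Finset.sum_bij' (t := S) (g := fun φ => η (φ * ψ) g) (fun ν _ => ν * ψ⁻¹) (fun φ _ => φ * ψ)]
    · rw [Finset.sum_congr rfl fun φ hφ => hrel φ (mem_filter.mp hφ).2]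
      rw [Finset.sum_sub_distrib, Finset.sum_add_distrib, Finset.sum_const, Finset.sum_const,
        nsmul_eq_mul, nsmul_eq_mul, hSc, mul_one]
      ring
    · intro ν hν
      refine mem_filter.mpr ⟨mem_univ _, fun w hw => ?_⟩
      rw [MonoidHom.mul_apply, MonoidHom.inv_apply, (Set.mem_toFinset.mp hν) w hw, mul_inv_cancel]
    · intro φ hφ
      refine Set.mem_toFinset.mpr fun w hw => ?_
      rw [MonoidHom.mul_apply, (mem_filter.mp hφ).2 w hw, one_mul]
    · intro ν _; exact inv_mul_cancel_right ν ψ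
    · intro φ _; exact mul_inv_cancel_right φ ψ
    · intro ν _; exact congrArg (fun χ => η χ g) (inv_mul_cancel_right ν ψ).symm
  have hfin : ∑ᶠ φ ∈ {φ : ↥(W₁ ⊔ W₂) →* ℂˣ | TrivR φ}, η φ g = ∑ φ ∈ S, η φ g := by
    rw [finsum_mem_eq_toFinset_sum]
    exact Finset.sum_congr (by ext; simp [hS]) fun _ _ => rfl
  rw [hfin]
  rw [hsum] at h3
  rw [s.ti.family.map_one] at h1
  have he : (e : ℂ) * e = 1 := by rcases s.sign with r | r <;> simp [r]
  linear_combination -(e : ℂ) * h3 + (q : ℂ) * (e : ℂ) * h1 -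
    (τ₁ ζ g - ∑ φ ∈ S, η φ g) * he - (e : ℂ) * τ₁ ζ g * s.d_eq

/-- PF (10.6b): `|τ₁ζ(g)| ≥ 1` for the remaining `g` of order prime to `|W₁|`. -/
theorem one_le_norm_tau1 {g : G} (hA : g ∉ dadeSupp (suppA M) (Cfsg.supportR M))
    (hg : g ∉ hatConj W₁ W₂) (hcop : (orderOf g).Coprime (Nat.card W₁)) : 1 ≤ ‖τ₁ ζ g‖ := by
  have hW := s.data.selfNormalizing
  have hcomm := hW.2.2.2.1
  have hodd := odd_W s.min s.data
  haveI := finite_linChar hW
  haveI := Fintype.ofFinite (↥(W₁ ⊔ W₂) →* ℂˣ)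
  have hint : ∀ φ, TrivR φ → ∃ z : ℤ, η φ g = z := by
    intro φ hφ
    refine Cfsg.Agent.S1508.result W₁ W₂ hW hodd η s.ti.family φ g
      (hcop.coprime_dvd_right (orderOf_dvd_of_pow_eq_one (MonoidHom.ext fun w => ?_)))
    obtain ⟨p, rfl⟩ := (ctiMul_bijective hW.2.2.1 hcomm).2 w
    rw [MonoidHom.pow_apply, hφ.apply_mul hcomm, MonoidHom.one_apply, ← map_pow, ← map_pow,
      pow_card_eq_one', map_one, map_one]
  let S : Subgroup (↥(W₁ ⊔ W₂) →* ℂˣ) :=
    { carrier := {φ | TrivR φ}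
      one_mem' := fun _ _ => rfl
      mul_mem' := fun {a b} ha hb w hw => by rw [MonoidHom.mul_apply, ha w hw, hb w hw, one_mul]
      inv_mem' := fun {a} ha w hw => by rw [MonoidHom.inv_apply, ha w hw, inv_one] }
  haveI : Fintype S := Fintype.ofFinite S
  choose f hf using fun φ : S => hint φ φ.2
  have hoddS : Odd (Nat.card S) := by
    rw [show Nat.card S = Nat.card W₁ from card_trivR hW]
    exact hodd.of_dvd_nat (Subgroup.card_dvd_of_le le_sup_left)
  have hinv : ∀ φ : S, f φ⁻¹ = f φ := fun φ => by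
    have h := hf φ⁻¹
    rw [Subgroup.coe_inv, s.ti.η_conj] at h
    simp only [Cfsg.conjFun, hf φ, map_intCast] at h
    exact_mod_cast h.symm
  have h2 := inv_sum_parity hoddS f hinv
  have hf1 : f 1 = 1 := by
    have h := hf 1
    rw [Subgroup.coe_one, s.ti.family.map_one] at h
    dsimp only at h
    exact_mod_cast h.symm
  have hval : τ₁ ζ g = ((∑ φ : S, f φ : ℤ) : ℂ) := by
    rw [s.tau1_ζ_off hA hg, Int.cast_sum, finsum_mem_eq_toFinset_sum,
      Finset.sum_subtype (F := inferInstanceAs (Fintype S)) _ (fun x => Set.mem_toFinset)]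
    exact Finset.sum_congr rfl fun φ _ => hf φ
  rw [hval, Complex.norm_intCast, ← Int.cast_abs]
  have : (1 : ℤ) ≤ |∑ φ : S, f φ| := Int.one_le_abs fun h => by
    rw [h, hf1] at h2
    norm_num at h2
  exact_mod_cast this

end NCSetup

end CfsgLib.PF
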