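import Cfsg.Agent.Lib.PF.CoherentMu
import Cfsg.Agent.Lib.PF.SubcoherentP
import Cfsg.Agent.Lib.PF.Constants
import Cfsg.Agent.Lib.PF.Sec8Tame

/-!
# PF (10.1)–(10.2): Types III–V, the reference character of degree `|W₁|`
-/

set_option autoImplicit false
set_option linter.style.haveILetI false
set_option linter.unusedSectionVars false

namespace CfsgLib.PF

open scoped Classical ComplexConjugate
open Finset CfsgLib.Characters CfsgLib.OddChar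

universe u

variable {G : Type u} [Group G] [Fintype G]

/-- In Types III–V the core is `M'`. -/
theorem typeCore_eq_of_345 (hG : Cfsg.IsMinSimpleOddOrder G) {M W₁ U W₂ : Subgroup G}
    (hM : IsCoatom M) (h : Kind34 M W₁ U W₂ ∨ Kind5 M W₁ U W₂) :
    Cfsg.typeCore M = ⁅M, M⁆ := by
  rcases h with h | h
  · rw [Cfsg.typeCore, if_pos ((propKinds hG M W₁ U W₂ hM h.data).2.2.1.mpr h)]
  · have hH : Cfsg.fittingHallOf M = ⁅M, M⁆ := by
      refine le_antisymm h.data.U_compl.1 fun x hx => ?_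
      obtain ⟨a, ha, b, hb, rfl⟩ := h.data.U_compl.2.2.2 x hx
      rw [h.U_eq, Subgroup.mem_bot] at hb
      rwa [hb, mul_one]
    unfold Cfsg.typeCore
    split_ifs
    · rfl
    · exact hH

/-- In Types III–V `A(M) = M'#`. -/
theorem suppA_eq_of_345 (hG : Cfsg.IsMinSimpleOddOrder G) {M W₁ U W₂ : Subgroup G}
    (hM : IsCoatom M) (h : Kind34 M W₁ U W₂ ∨ Kind5 M W₁ U W₂) :
    suppA M = {x | x ∈ ⁅M, M⁆ ∧ x ≠ 1} := by
  rw [suppA, if_neg ((propTypes hG M hM).2 W₁ U W₂ (data_of_345 h)),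
    typeCore_eq_of_345 hG hM h]
  ext x
  exact ⟨fun hx => ⟨hx.1, hx.2.1⟩, fun hx => ⟨hx.1, hx.2, x, hx.1, hx.2, rfl⟩⟩

/-- The setting of PF (10.8): a coherent extension `τ₁` of the whole of `calS M M' ⊥`. -/
structure NCSetup (M W₁ U W₂ : Subgroup G) (μ : (↥(W₁ ⊔ W₂) →* ℂˣ) → (↥M → ℂ))
    (δ : (↥(W₁ ⊔ W₂) →* ℂˣ) → ℂ) (η : (↥(W₁ ⊔ W₂) →* ℂˣ) → (G → ℂ))
    (R : (↥M → ℂ) → Finset (G → ℂ)) (τ₁ : (↥M → ℂ) → (G → ℂ)) (ζ : ↥M → ℂ) (d : ℕ) (e n : ℤ) :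
    Prop where
  min : Cfsg.IsMinSimpleOddOrder G
  max : IsCoatom M
  data : Cfsg.IsTypePWith M W₁ U W₂
  prime₂ : (Nat.card W₂).Prime
  core : Cfsg.typeCore M = ⁅M, M⁆
  supp : suppA M = {x | x ∈ ⁅M, M⁆ ∧ x ≠ 1}
  ti : TIData M W₁ W₂ μ δ η
  part : CoherentPart M W₁ W₂ μ δ η R (calS M (Cfsg.typeCore M) ⊥) τ₁
  mem : ζ ∈ calS M (Cfsg.typeCore M) ⊥
  irr : Cfsg.IsIrrCharacter ↥M ζ
  deg : ζ 1 = (Nat.card W₁ : ℂ)
  one_lt : 1 < d
  sign : e = 1 ∨ e = -1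
  deg_eq : (d : ℤ) = e + n * (Nat.card W₁ : ℤ)
  const : ∀ ω, ¬ AgreeR W₁ W₂ ω 1 → μ ω 1 = (d : ℂ) ∧ δ ω = (e : ℂ)

theorem derived_index {M W₁ U W₂ : Subgroup G} (hP : Cfsg.IsTypePWith M W₁ U W₂) :
    ((⁅M, M⁆ : Subgroup G).subgroupOf M).index = Nat.card W₁ := by
  have h := typeP_TPL hP
  have e := Subgroup.IsComplement'.index_eq_card
    (Subgroup.isComplement'_of_disjoint_and_mul_eq_univ (H := W₁.subgroupOf M)
      (K := (⁅M, M⁆ : Subgroup G).subgroupOf M) ?_ ?_)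
  · rw [e, Nat.card_congr (Subgroup.subgroupOfEquivOfLe (typeP_le hP).1).toEquiv]
  · rw [disjoint_iff, inf_comm]
    exact h.disj
  · have h2 := Subgroup.mul_normal (W₁.subgroupOf M) ((⁅M, M⁆ : Subgroup G).subgroupOf M)
    rw [sup_comm, h.top, Subgroup.coe_top] at h2
    exact h2.symm

/-- PF (10.1): the setting exists as soon as `calS M M' ⊥` is coherent. -/
theorem exists_ncSetup (hG : Cfsg.IsMinSimpleOddOrder G) {M W₁ U W₂ : Subgroup G}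
    (hM : IsCoatom M) (h : Kind34 M W₁ U W₂ ∨ Kind5 M W₁ U W₂)
    (hcoh : Cfsg.IsCoherent (calS M ⁅M, M⁆ ⊥) ({1}ᶜ : Set ↥M) (tau M)) :
    ∃ (μ : (↥(W₁ ⊔ W₂) →* ℂˣ) → (↥M → ℂ)) (δ : (↥(W₁ ⊔ W₂) →* ℂˣ) → ℂ)
      (η : (↥(W₁ ⊔ W₂) →* ℂˣ) → (G → ℂ)) (R : (↥M → ℂ) → Finset (G → ℂ))
      (τ₁ : (↥M → ℂ) → (G → ℂ)) (ζ : ↥M → ℂ) (d : ℕ) (e n : ℤ),
      NCSetup M W₁ U W₂ μ δ η R τ₁ ζ d e n := by
  have hP := data_of_345 h
  have hT := propTypes hG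
  have hD := propDade hG
  have hp := prime_W₂_of_345 (propKinds hG) (propPartner hG) hM h
  have hcore := typeCore_eq_of_345 hG hM h
  obtain ⟨μ, δ, η, hti⟩ := propTIData hG hT hD M W₁ U W₂ hM hP
  obtain ⟨d, e, he, hd, ⟨n, hn⟩, hconst⟩ :=
    propConstants hG (propKinds hG) (propPartner hG) M W₁ U W₂ hM h μ δ η hti
  obtain ⟨R, hsys, horth, hred⟩ := subcoherentP hG hT hD M W₁ U W₂ hM hP μ δ η hti
  obtain ⟨-, τ₁, hiso, hext⟩ := hcoh
  rw [← hcore] at hiso hext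
  set K := (⁅M, M⁆ : Subgroup G).subgroupOf M with hK
  haveI : Fintype K := Fintype.ofFinite K
  obtain ⟨-, hdM, hHd, hW₂H, hWM⟩ := typeP_le hP
  have hsolv : Group.IsSolvable K := by
    haveI := hG.2.2.2 M hM.1
    infer_instance
  have hbot : (⊥ : Subgroup ↥M) < K := by
    refine bot_lt_iff_ne_bot.mpr fun e0 => ?_
    obtain ⟨w, hw, hw1⟩ := (Subgroup.bot_or_exists_ne_one W₂).resolve_left hP.selfNormalizing.2.1
    have hm : (⟨w, hdM (hHd (hW₂H hw))⟩ : M) ∈ K := hHd (hW₂H hw)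
    rw [e0, Subgroup.mem_bot] at hm
    exact hw1 (congrArg Subtype.val hm)
  obtain ⟨ζ, hζ, hdeg⟩ := exists_linear_above (K := K) hsolv ⊥ hbot
  have hidx := derived_index hP
  have hmem : ζ ∈ calS M (Cfsg.typeCore M) ⊥ := by
    rw [hcore]
    constructor
    · obtain ⟨θ, hθ, h1, hker, rfl⟩ := hζ
      refine ⟨θ, hθ, h1, fun a ha => hker a ?_, rfl⟩
      rw [Subgroup.bot_subgroupOf] at ha
      exact ha
    · rintro ⟨θ, hθ, h1, hker, -⟩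
      have h0 := classInner_irr_ne hθ isIrrCharacter_one h1
      rw [show θ = θ 1 • (fun _ => (1 : ℂ)) from funext fun a => by simpa using hker a a.2,
        classInner_smul_left, classInner_irr_self isIrrCharacter_one, mul_one] at h0
      exact irr_one_ne_zero ⟨θ, hθ⟩ h0
  have hζ1 : ζ 1 = (Nat.card W₁ : ℂ) := by
    obtain ⟨θ, hθ, -, -, rfl⟩ := hζ
    have hd1 := natDeg_spec (CfsgLib.Induction.isCharacter_indFun K (isCharacter_of_irr hθ))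
    rw [hdeg, hidx] at hd1
    exact hd1
  have hirr : Cfsg.IsIrrCharacter ↥M ζ := by
    rcases mem_calS_cases hti hmem with r | ⟨ω, hω, r⟩
    · exact r
    exfalso
    rw [r, red, CfsgLib.Induction.indFun_one_apply, hidx] at hζ1
    change (Nat.card W₁ : ℂ) * μ ω 1 = _ at hζ1
    rw [(hconst ω hω).1, mul_eq_left₀ (Nat.cast_ne_zero.mpr Nat.card_pos.ne'), Nat.cast_eq_one]
      at hζ1
    omega
  refine ⟨μ, δ, η, R, τ₁, ζ, d, e, n, hG, hM, hP, hp, hcore, suppA_eq_of_345 hG hM h, hti, ?_,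
    hmem, hirr, hζ1, hd, he, by rw [mul_comm n]; omega, hconst⟩
  exact ⟨hsys, horth, hred, subset_rfl, fun φ hφ => hsys.conj_mem φ hφ, hiso, hext⟩

end CfsgLib.PF
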