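import Cfsg.Agent.Lib.PF.Sec10TypeV
import Cfsg.Agent.Lib.PF.Sec10Central
import Cfsg.Agent.Lib.PF.Sec10Cube

/-!
# PF (6.8) for a maximal subgroup of Type V with `M'` a trivial intersection set
-/

set_option autoImplicit false
set_option linter.style.haveILetI false
set_option linter.unusedSectionVars false

namespace CfsgLib.PF

open scoped Classical ComplexConjugate
open Finset CfsgLib.Characters CfsgLib.OddChar CfsgLib.Clifford

universe u

variable {G : Type u} [Group G] [Fintype G]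
variable {M W₁ U W₂ : Subgroup G} {μ : (↥(W₁ ⊔ W₂) →* ℂˣ) → (↥M → ℂ)}
  {δ : (↥(W₁ ⊔ W₂) →* ℂˣ) → ℂ} {η : (↥(W₁ ⊔ W₂) →* ℂˣ) → (G → ℂ)}
  {R : (↥M → ℂ) → Finset (G → ℂ)} {d : ℕ} {δ₀ : ℤ}

/-- A base set: the members of degree `[M : M']` and the images under a coherent extension. -/
structure IsBase (M : Subgroup G) (Y : Finset (↥M → ℂ)) (f : (↥M → ℂ) → (G → ℂ)) : Prop where
  coe_eq : (↑Y : Set (↥M → ℂ)) = Cfsg.inducedIrrAbove (derSub M) ⁅derSub M, derSub M⁆
  mem : ∀ ζ ∈ Y, Cfsg.IsIrrCharacter ↥M ζ ∧ ζ 1 = ((derSub M).index : ℂ) ∧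
    ζ ∈ Cfsg.inducedIrrAbove (derSub M) ⊥ ∧ IsSigned (f ζ)
  orth : ∀ ζ ∈ Y, ∀ ζ' ∈ Y, Cfsg.classInner (f ζ) (f ζ') = if ζ = ζ' then 1 else 0
  diff : ∀ ζ ∈ Y, ∀ ζ' ∈ Y, tau M (ζ - ζ') = f ζ - f ζ'
  two : 2 ≤ Y.card

namespace VCtx

variable (h : VCtx M W₁ U W₂ μ δ η R d δ₀)
include h

theorem exists_isBase : ∃ Y f, IsBase M Y f := by
  obtain ⟨Y, f, h1, h2, h3, h4, -, h5, -⟩ := h.exists_base
  exact ⟨Y, f, h1, h2, h3, h4, h5⟩

/-- In the trivial intersection case the centralisers of the elements of A₀(M) lie in `M`. -/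
theorem cent_le (hN : Subgroup.normalizer ((⁅M, M⁆ : Subgroup G) : Set G) = M)
    (hTI : Cfsg.IsTISubset ((⁅M, M⁆ : Subgroup G) : Set G)) {a : G} (ha : a ∈ suppA0 M) :
    Subgroup.centralizer ({a} : Set G) ≤ M := by
  intro c hc
  rw [Subgroup.mem_centralizer_singleton_iff] at hc
  rcases ha with ha | ha
  · rw [suppA, if_neg h.notI, h.core] at ha
    obtain ⟨ha, ha1, -⟩ := ha
    by_contra hcM
    refine ha1 (hTI c (by rw [hN]; exact hcM) a ha ?_)
    rw [hc, mul_inv_cancel_right]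
    exact ha
  · obtain ⟨-, A, V, B, hP, m, hm, z, hz, hz₁, hz₂, rfl⟩ := ha
    have h1 : m⁻¹ * c * m ∈ A ⊔ B := by
      rw [cti_centralizer hP.selfNormalizing hz hz₁ hz₂]
      calc m⁻¹ * c * m * z * (m⁻¹ * c * m)⁻¹ = m⁻¹ * (c * (m * z * m⁻¹)) * c⁻¹ * m := by group
        _ = z := by rw [hc]; group
    have h2 := M.mul_mem (M.mul_mem hm ((typeP_le hP).2.2.2.2 h1)) (M.inv_mem hm)
    rwa [show m * (m⁻¹ * c * m) * m⁻¹ = c by group] at h2

/-- Reciprocity for the Dade map in the trivial intersection case. -/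
theorem tau_adjoint (hN : Subgroup.normalizer ((⁅M, M⁆ : Subgroup G) : Set G) = M)
    (hTI : Cfsg.IsTISubset ((⁅M, M⁆ : Subgroup G) : Set G)) {a : ↥M → ℂ}
    (ha : Cfsg.IsClassFunction ↥M a) (hsa : ∀ x : ↥M, (x : G) ∉ suppA0 M → a x = 0) {χ : G → ℂ}
    (hχ : Cfsg.IsClassFunction G χ) :
    Cfsg.classInner (tau M a) χ = Cfsg.classInner a (fun x : ↥M => χ x) := by
  refine dade_adjoint h.dadeA0 ha hsa hχ fun x hx => ?_
  have hbot : Cfsg.supportR M (x : G) = ⊥ := by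
    rw [Cfsg.supportR, dif_neg]
    exact fun hh => hh.1 (h.cent_le hN hTI hx)
  rw [hbot]
  simp

/-- The derived subgroup is a Sylow subgroup of `G`. -/
theorem exists_sylow (hN : Subgroup.normalizer ((⁅M, M⁆ : Subgroup G) : Set G) = M) {p : ℕ} [Fact p.Prime]
    (hpK : IsPGroup p ↥(derSub M)) : ∃ P : Sylow p G, (P : Subgroup G) = ⁅M, M⁆ := by
  have hdM : ⁅M, M⁆ ≤ M := (typeP_le h.data).2.1
  have hpH : IsPGroup p ↥(⁅M, M⁆ : Subgroup G) :=
    hpK.of_equiv (Subgroup.subgroupOfEquivOfLe hdM)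
  obtain ⟨P, hP⟩ := hpH.exists_le_sylow
  refine ⟨P, le_antisymm ?_ hP⟩
  set H' := (⁅M, M⁆ : Subgroup G).subgroupOf (P : Subgroup G) with hH'
  by_contra hle
  have hne : H' < ⊤ := lt_top_iff_ne_top.mpr fun e => hle (Subgroup.subgroupOf_eq_top.mp e)
  haveI : Group.IsNilpotent ↥(P : Subgroup G) := P.isPGroup'.isNilpotent
  have hlt := Group.normalizerCondition_of_isNilpotent H' hne
  obtain ⟨x, hx, hxH⟩ := SetLike.exists_of_lt hlt
  have hxM : (x : G) ∈ M := by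
    rw [← hN, Subgroup.mem_normalizer_iff]
    intro y
    by_cases hy : y ∈ (P : Subgroup G)
    · have := Subgroup.mem_normalizer_iff.mp hx ⟨y, hy⟩
      simpa [hH', Subgroup.mem_subgroupOf] using this
    · refine ⟨fun h1 => absurd (hP h1) hy, fun h1 => absurd ?_ hy⟩
      have := P.mul_mem (P.mul_mem (P.inv_mem x.2) (hP h1)) x.2
      rwa [show (x : G)⁻¹ * ((x : G) * y * (x : G)⁻¹) * x = y by group] at this
  refine hxH (Subgroup.mem_subgroupOf.mpr ?_)
  by_contra hxK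
  obtain ⟨k, hk⟩ := P.isPGroup' x
  have hxo : orderOf (⟨x, hxM⟩ : ↥M) ∣ p ^ k := orderOf_dvd_of_pow_eq_one (Subtype.ext (by
    simpa using congrArg Subtype.val hk))
  haveI := derSub_normal M
  have hord : orderOf (QuotientGroup.mk' (derSub M) ⟨x, hxM⟩) ∣ p ^ k :=
    (orderOf_map_dvd _ _).trans hxo
  have hord2 : orderOf (QuotientGroup.mk' (derSub M) ⟨x, hxM⟩) ∣ (derSub M).index := by
    rw [Subgroup.index_eq_card]; exact orderOf_dvd_natCard _
  obtain ⟨j, hj⟩ := hpK.exists_card_eq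
  have hcop : Nat.Coprime (p ^ k) (derSub M).index := by
    have h0 : Nat.Coprime (derSub M).index (p ^ j) := by
      rw [← hj]
      have h1 := h.tpl.index_eq ▸ h.tpl.hall
      rwa [h.index_eq, ← Nat.card_congr (Subgroup.subgroupOfEquivOfLe (typeP_le h.data).1).toEquiv]
    rcases Nat.eq_zero_or_pos j with rfl | hj0
    · exfalso
      rw [pow_zero] at hj
      have hb : derSub M = ⊥ := Subgroup.card_eq_one.mp hj
      refine h.data.H_not_cyclic ?_
      have hbot : Cfsg.fittingHallOf M = ⊥ := eq_bot_iff.mpr fun y hy => by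
        have hyd := (typeP_le h.data).2.2.1 hy
        have : (⟨y, hdM hyd⟩ : ↥M) ∈ derSub M := hyd
        rw [hb, Subgroup.mem_bot] at this
        exact Subgroup.mem_bot.mpr (congrArg Subtype.val this)
      rw [hbot]; infer_instance
    · exact Nat.Coprime.pow_left k
        ((Nat.Coprime.coprime_dvd_right (dvd_pow_self p hj0.ne') h0).symm)
  refine hxK (show (⟨x, hxM⟩ : ↥M) ∈ derSub M from ?_)
  exact (QuotientGroup.eq_one_iff _).mp (orderOf_eq_one_iff.mp
    (Nat.Coprime.eq_one_of_dvd (hcop.coprime_dvd_left hord) hord2))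

theorem two_index_le : 2 * (derSub M).index ≤ d + 1 := by
  haveI := finite_linChar h.data.selfNormalizing
  have hW := h.data.selfNormalizing
  obtain ⟨-, -, hdisj, hcomm, -, -⟩ := id hW
  obtain ⟨b, hb⟩ := Subgroup.ne_bot_iff_exists_ne_one.mp hW.2.1
  letI iB : CommGroup W₂ :=
    { (inferInstance : Group W₂) with
      mul_comm := fun a b => Subtype.ext (congrArg Subtype.val
        (cti_abelian hW (ctiR W₁ W₂ a) (ctiR W₁ W₂ b)) :) }
  obtain ⟨g, hg⟩ := CommGroup.exists_apply_ne_one_of_hasEnoughRootsOfUnity W₂ ℂ hb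
  obtain ⟨ψ, hψ, hψe⟩ := exists_trivL hdisj hcomm g
  have hω : ¬ AgreeR W₁ W₂ ψ 1 := fun ha => hg (by
    rw [← hψe]
    exact ha (ctiR W₁ W₂ b) b.2)
  have hdeg : resD M (μ ψ) 1 = (d : ℂ) := (h.const ψ hω).1
  obtain ⟨m, hm, -, hmd⟩ := irr_degree_dvd_card ⟨resD M (μ ψ), h.ti.res_irr ψ⟩
  have hmd' : m = d := by
    have : (m : ℂ) = d := hm.symm.trans hdeg
    exact_mod_cast this
  rw [hmd'] at hmd
  have hdodd : Odd d :=
    (h.odd_M.of_dvd_nat (Subgroup.card_subgroup_dvd_card _)).of_dvd_nat hmd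
  obtain ⟨a, ha⟩ := hdodd
  obtain ⟨c, hc⟩ := h.odd_index
  obtain ⟨k, hk⟩ := h.d_mod
  rw [← h.index_eq] at hk
  have hd1 := h.d_gt
  by_contra hlt
  rw [not_le] at hlt
  have hkb : k < 2 := by
    rcases h.sgn with e | e <;> rw [e] at hk <;> push_cast at hk <;> nlinarith
  have hkp : 0 < k := by
    rcases h.sgn with e | e <;> rw [e] at hk <;> push_cast at hk <;> nlinarith
  have hk1 : k = 1 := by omega
  rw [hk1, mul_one] at hk
  rcases h.sgn with e | e <;> rw [e] at hk <;> omega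

/-- A character of `M'` trivial on `M''` (linear), contrapositive form. -/
theorem deg_ne_one_of_off {Z : Subgroup ↥M} (hZD : Z ≤ ⁅derSub M, derSub M⁆)
    {θ : Cfsg.IrrCharacter ↥(derSub M)} [Fintype ↥(derSub M)] (hθ : θ ∈ thetaOff (derSub M) Z) :
    (θ : ↥(derSub M) → ℂ) 1 ≠ 1 := by
  intro h1
  obtain ⟨z, hz, hne⟩ := mem_thetaOff.mp hθ
  obtain ⟨g, hg⟩ := exists_linearIrr_eq θ h1
  refine hne ?_
  rw [← hg]
  have hz' := hZD hz
  rw [← Subgroup.map_subtype_commutator] at hz'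
  obtain ⟨b, hb, hbe⟩ := hz'
  have : (g z : ℂˣ) = 1 := by
    rw [← Subtype.ext (a1 := b) (a2 := z) hbe]
    exact MonoidHom.mem_ker.mp (Abelianization.commutator_subset_ker g hb)
  show (g z : ℂ) = (g 1 : ℂ)
  rw [this, map_one]

/-- PF (6.8): coherence, given that the base images are constant on `Z - 1`. -/
theorem coherent_ti_of_const (hN : Subgroup.normalizer ((⁅M, M⁆ : Subgroup G) : Set G) = M)
    (hTI : Cfsg.IsTISubset ((⁅M, M⁆ : Subgroup G) : Set G)) {p : ℕ} (hp : p.Prime)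
    (hpK : IsPGroup p ↥(derSub M)) (Z : Subgroup ↥M) [Z.Normal] (hZ1 : Z ≠ ⊥)
    (hZD : Z ≤ ⁅derSub M, derSub M⁆) (hZc : ∀ z ∈ Z, ∀ k ∈ derSub M, z * k = k * z)
    {Y : Finset (↥M → ℂ)} {f : (↥M → ℂ) → (G → ℂ)} (hb : IsBase M Y f)
    (hconst : ∀ ζ ∈ Y, ∀ z ∈ Z, ∀ z' ∈ Z, z ≠ 1 → z' ≠ 1 → f ζ (z : G) = f ζ (z' : G)) :
    Cfsg.IsCoherent (Cfsg.inducedIrrAbove (derSub M) ⊥) {1}ᶜ (tau M) := by
  haveI := Fact.mk hp
  obtain ⟨hYc, hY, hforth, hfdiff, hY2⟩ := hb
  haveI hKn : (derSub M).Normal := derSub_normal M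
  set K := derSub M with hKdef
  haveI : Fintype K := Fintype.ofFinite K
  set q := K.index with hq
  have hq1 : 1 < q := h.one_lt_index
  have hdq := h.two_index_le
  rw [← hKdef, ← hq] at hdq
  have hZK : Z ≤ K := hZD.trans (Subgroup.commutator_le_self K)
  obtain ⟨ζ₀, hζ₀⟩ := Finset.card_pos.mp (show 0 < Y.card by omega)
  obtain ⟨ζ₁, hζ₁, hne10⟩ := Finset.exists_mem_ne (show 1 < Y.card by omega) ζ₀
  obtain ⟨hζ₀i, hζ₀1, hζ₀S, hfζ₀⟩ := hY ζ₀ hζ₀
  obtain ⟨hζ₁i, hζ₁1, hζ₁S, hfζ₁⟩ := hY ζ₁ hζ₁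
  set T := indAboveFinset K ⊥ with hT
  have hTc : (↑T : Set (↥M → ℂ)) = Cfsg.inducedIrrAbove K ⊥ := coe_indAboveFinset _
  set X := offFinset K Z with hXdef
  have hXT : ∀ χ ∈ X, χ ∈ T := fun χ hχ => by
    rw [← Finset.mem_coe, hTc]
    have := Finset.mem_coe.mpr hχ
    rw [hXdef, coe_offFinset hKn Z] at this
    exact this.1
  have hclX : ∀ χ ∈ X, ∃ (θ : Cfsg.IrrCharacter K) (c N : ℕ), θ ∈ thetaOff K Z ∧
      χ = Cfsg.indFun K (θ : K → ℂ) ∧ (θ : K → ℂ) 1 = (c : ℂ) ∧ 2 ≤ c ∧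
      Cfsg.classInner χ χ = (N : ℂ) ∧ (N = 1 ∨ (N = q ∧ c = d)) := by
    intro χ hχ
    obtain ⟨θ, hθ, rfl⟩ := Finset.mem_image.mp hχ
    obtain ⟨c, hc0, hc⟩ := irr_exists_degree θ.2
    have hc2 : 2 ≤ c := by
      by_contra hlt
      exact h.deg_ne_one_of_off hZD hθ (by rw [hc, show c = 1 by omega, Nat.cast_one])
    rcases h.classify θ.2 (thetaOff_ne_one hθ) with hi | ⟨ω, hω, e⟩
    · exact ⟨θ, c, 1, hθ, rfl, hc, hc2, by rw [classInner_irr_self hi, Nat.cast_one], Or.inl rfl⟩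
    · refine ⟨θ, c, q, hθ, rfl, hc, hc2, by rw [e]; exact h.colChar_norm ω, Or.inr ⟨rfl, ?_⟩⟩
      rw [e] at hc
      have : (c : ℂ) = d := hc.symm.trans (h.const ω hω).1
      exact_mod_cast this
  have hXY : ∀ χ ∈ X, χ ∉ Y := by
    intro χ hχ hχY
    obtain ⟨θ, c, N, -, e, hc, hc2, -, -⟩ := hclX χ hχ
    have h1 := (hY χ hχY).2.1
    rw [e, CfsgLib.Induction.indFun_one_apply, hc] at h1
    have h2 : q * c = q * 1 := by rw [mul_one]; exact_mod_cast h1
    have := Nat.eq_of_mul_eq_mul_left (by omega) h2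
    omega
  let cd : (↥M → ℂ) → ℕ := fun χ => natDeg χ / q
  have hcd : ∀ {θ : Cfsg.IrrCharacter K} {c : ℕ}, (θ : K → ℂ) 1 = (c : ℂ) →
      cd (Cfsg.indFun K (θ : K → ℂ)) = c ∧
      Cfsg.indFun K (θ : K → ℂ) 1 = ((q * c : ℕ) : ℂ) := fun {θ c} hc => by
    have e : Cfsg.indFun K (θ : K → ℂ) 1 = ((q * c : ℕ) : ℂ) := by
      rw [CfsgLib.Induction.indFun_one_apply, hc]; push_cast; ring
    refine ⟨?_, e⟩
    simp only [cd, natDeg, e, Complex.natCast_re, Nat.floor_natCast]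
    exact Nat.mul_div_cancel_left c (by omega)
  let γ : (↥M → ℂ) → (↥M → ℂ) := fun χ => χ - (cd χ : ℤ) • ζ₀
  have hγmem : ∀ χ ∈ X, γ χ ∈ Cfsg.zspanOn (Cfsg.inducedIrrAbove K ⊥) {1}ᶜ := fun χ hχ => by
    obtain ⟨θ, c, N, -, rfl, hc, -, -, -⟩ := hclX χ hχ
    refine zspanOn_compl_one.mpr ⟨zspan_sub (zspan_of_mem (hTc ▸ hXT _ hχ))
      (zspan_zsmul _ (zspan_of_mem hζ₀S)), ?_⟩
    simp only [γ, (hcd hc).1, Pi.sub_apply, (hcd hc).2, Pi.smul_apply, zsmul_eq_mul, Pi.mul_apply,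
      Pi.intCast_apply, Pi.natCast_apply, hζ₀1]
    push_cast
    ring
  have hdmem : ∀ b ∈ Y, b - ζ₀ ∈ Cfsg.zspanOn (Cfsg.inducedIrrAbove K ⊥) {1}ᶜ := fun b hb' =>
    zspanOn_compl_one.mpr ⟨zspan_sub (zspan_of_mem (hY b hb').2.2.1) (zspan_of_mem hζ₀S), by
      rw [Pi.sub_apply, (hY b hb').2.1, hζ₀1, sub_self]⟩
  have horthY : ∀ χ ∈ X, ∀ b ∈ Y, Cfsg.classInner χ b = 0 := fun χ hχ b hb' =>
    h.sys.orthogonal χ (hTc ▸ hXT χ hχ) b (hY b hb').2.2.1 fun e => hXY χ hχ (e ▸ hb')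
  have horthY' : ∀ χ ∈ X, ∀ b ∈ Y, Cfsg.classInner b χ = 0 := fun χ hχ b hb' => by
    rw [classInner_conj_symm, horthY χ hχ b hb', map_zero]
  have hYY : ∀ a ∈ Y, ∀ b ∈ Y, Cfsg.classInner a b = if a = b then 1 else 0 := fun a ha b hb' => by
    split_ifs with e
    · rw [e]; exact classInner_irr_self (hY b hb').1
    · exact classInner_irr_ne (hY a ha).1 (hY b hb').1 e
  -- the coefficients
  have hcoef : ∀ χ ∈ X, ∃ m : ℤ, (∀ b ∈ Y, Cfsg.classInner (tau M (γ χ)) (f b) =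
        ((m - (if b = ζ₀ then (cd χ : ℤ) else 0) : ℤ) : ℂ)) ∧
      0 ≤ m ∧ m ≤ (cd χ : ℤ) ∧ (3 ≤ Y.card → m < (cd χ : ℤ)) := by
    intro χ hχ
    obtain ⟨θ, c, N, -, e, hc, hc2, hN', hcase⟩ := hclX χ hχ
    have hcdχ : cd χ = c := by rw [e]; exact (hcd hc).1
    obtain ⟨m, hm⟩ := classInner_generalized_int (h.sys.isometry.2.2.2 _ (hγmem χ hχ))
      hfζ₁.generalized
    have hcoB : ∀ b ∈ Y, Cfsg.classInner (tau M (γ χ)) (f b) =
        ((m - (if b = ζ₀ then (cd χ : ℤ) else 0) : ℤ) : ℂ) := by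
      intro b hb'
      have key : ∀ b' ∈ Y, Cfsg.classInner (tau M (γ χ)) (f b') -
          Cfsg.classInner (tau M (γ χ)) (f ζ₀) =
            -(cd χ : ℂ) * ((if ζ₀ = b' then 1 else 0) - 1) := fun b' hb'' => by
        rw [← classInner_sub_right, ← hfdiff b' hb'' ζ₀ hζ₀,
          h.sys.isometry.2.2.1 _ (hγmem χ hχ) _ (hdmem b' hb''), classInner_sub_right]
        simp only [γ, classInner_sub_left, classInner_zsmul_left, horthY χ hχ b' hb'',
          horthY χ hχ ζ₀ hζ₀, hYY ζ₀ hζ₀ b' hb'', hYY ζ₀ hζ₀ ζ₀ hζ₀, if_true]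
        push_cast
        ring
      have k1 := key ζ₁ hζ₁
      rw [hm, if_neg hne10.symm] at k1
      have k2 := key b hb'
      by_cases e' : b = ζ₀
      · subst e'
        rw [if_pos rfl]
        push_cast
        linear_combination -k1
      · rw [if_neg (Ne.symm e')] at k2
        rw [if_neg e', sub_zero]
        linear_combination k2 - k1
    refine ⟨m, hcoB, ?_⟩
    have hn' := norm_sub_orth Y f _ (tau M (γ χ)) hforth hcoB
    have hre := classInner_self_re_nonneg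
      (tau M (γ χ) - ∑ b ∈ Y, (m - if b = ζ₀ then (cd χ : ℤ) else 0) • f b)
    have hnγ : Cfsg.classInner (tau M (γ χ)) (tau M (γ χ)) = (((N : ℤ) + (c : ℤ) ^ 2 : ℤ) : ℂ) := by
      rw [h.sys.isometry.2.2.1 _ (hγmem χ hχ) _ (hγmem χ hχ)]
      simp only [γ, classInner_sub_left, classInner_sub_right, classInner_zsmul_left,
        classInner_zsmul_right, horthY χ hχ ζ₀ hζ₀, horthY' χ hχ ζ₀ hζ₀, hYY ζ₀ hζ₀ ζ₀ hζ₀,
        if_true, hN', hcdχ]
      push_cast
      ring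
    rw [hn', hnγ, ← Int.cast_sub, Complex.intCast_re] at hre
    have hre' : (0 : ℤ) ≤ (N : ℤ) + (c : ℤ) ^ 2 -
        ∑ b ∈ Y, (m - if b = ζ₀ then (cd χ : ℤ) else 0) ^ 2 := by exact_mod_cast hre
    rw [← Finset.add_sum_erase _ _ hζ₀, if_pos rfl, Finset.sum_congr rfl fun b hb' => by
      rw [if_neg (Finset.ne_of_mem_erase hb'), sub_zero], Finset.sum_const,
      Finset.card_erase_of_mem hζ₀, nsmul_eq_mul, Nat.cast_sub (by omega), Nat.cast_one,
      hcdχ] at hre'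
    rw [hcdχ]
    have hN2c : (N : ℤ) < 2 * (c : ℤ) := by
      rcases hcase with e1 | ⟨e1, e2⟩
      · rw [e1]; omega
      · rw [e1, e2]; omega
    have hY2' : (2 : ℤ) ≤ Y.card := by exact_mod_cast hY2
    have hm0 : 0 ≤ m := by
      by_contra hlt
      have h1 : 1 ≤ m ^ 2 := by nlinarith
      have h2 := mul_le_mul_of_nonneg_left h1 (by linarith : (0 : ℤ) ≤ (Y.card : ℤ))
      nlinarith
    refine ⟨hm0, ?_, fun h3 => ?_⟩
    · by_contra hlt
      have h1 : (c : ℤ) + 1 ≤ m := by omega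
      have h2 : 0 ≤ ((Y.card : ℤ) - 2) * m ^ 2 := mul_nonneg (by linarith) (sq_nonneg m)
      have h4 : ((c : ℤ) + 1) * 1 ≤ m * (m - c) := mul_le_mul h1 (by linarith) zero_le_one hm0
      nlinarith
    · by_contra hlt
      rw [not_lt] at hlt
      have h3' : (3 : ℤ) ≤ Y.card := by exact_mod_cast h3
      have h2 : 0 ≤ ((Y.card : ℤ) - 3) * m ^ 2 := mul_nonneg (by linarith) (sq_nonneg m)
      have h4 : (c : ℤ) * c ≤ m * (3 * m - 2 * c) :=
        mul_le_mul hlt (by linarith) (by positivity) hm0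
      have hc2' : (2 : ℤ) ≤ c := by exact_mod_cast hc2
      have h5 : 2 * (c : ℤ) ≤ (c : ℤ) * c := mul_le_mul_of_nonneg_right hc2' (by positivity)
      nlinarith
  choose! mc hmc using hcoef
  -- the central characters
  set Zs := Z.subgroupOf K with hZs
  have hZcen : Zs ≤ Subgroup.center K := fun z hz => Subgroup.mem_center_iff.mpr fun k =>
    Subtype.ext (hZc _ (Subgroup.mem_subgroupOf.mp hz) k k.2).symm
  choose l hl using fun θ : Cfsg.IrrCharacter K => exists_centralHom_sub hZcen θ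
  have hval : ∀ (θ : Cfsg.IrrCharacter K) (z : Zs),
      (θ : K → ℂ) (z : K) = (l θ z : ℂ) * (θ : K → ℂ) 1 := fun θ z => by
    have := hl θ z 1
    rwa [mul_one] at this
  have hoff : ∀ θ, θ ∈ thetaOff K Z ↔ l θ ≠ 1 := by
    intro θ
    rw [mem_thetaOff]
    constructor
    · rintro ⟨z, hz, hne⟩ e
      refine hne ?_
      rw [hval θ ⟨z, Subgroup.mem_subgroupOf.mpr hz⟩, e]
      simp
    · intro hne
      by_contra hall
      push Not at hall
      refine hne (MonoidHom.ext fun z => Units.ext ?_)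
      have h1 := hall (z : K) (Subgroup.mem_subgroupOf.mp z.2)
      rw [hval θ z] at h1
      exact (mul_eq_right₀ (irr_one_ne_zero θ)).mp h1
  -- the congruence
  obtain ⟨P, hP⟩ := h.exists_sylow hN hpK
  have hf1cl := hfζ₁.classFunction
  have hoddN : Odd (Nat.card (Subgroup.normalizer ((P : Subgroup G) : Set G))) :=
    h.oddG.of_dvd_nat (Subgroup.card_subgroup_dvd_card _)
  have hcong : ∃ n dd t : ℤ, (∀ z ∈ Z, z ≠ 1 → f ζ₁ (z : G) = (n : ℂ)) ∧ f ζ₁ 1 = (dd : ℂ) ∧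
      dd - n = (Nat.card K : ℤ) * t := by
    obtain ⟨ψ, ε, hε, hψ⟩ := hfζ₁.exists_irr
    obtain ⟨ε', hε', hεε⟩ : ∃ ε' : ℤ, ε = (ε' : ℂ) ∧ ε' * ε' = 1 := by
      rcases hε with rfl | rfl
      exacts [⟨1, by simp, rfl⟩, ⟨-1, by simp, rfl⟩]
    have hψeq : ∀ g : G, (ψ : G → ℂ) g = (ε' : ℂ) * f ζ₁ g := fun g => by
      rw [hψ, Pi.smul_apply, smul_eq_mul, hε', ← mul_assoc, ← Int.cast_mul, hεε, Int.cast_one,
        one_mul]
    obtain ⟨z₀, hz₀⟩ := Subgroup.ne_bot_iff_exists_ne_one.mp hZ1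
    have hz₀' : (z₀ : ↥M) ≠ 1 := fun e => hz₀ (Subtype.ext e)
    obtain ⟨n, dd, hn, hdd, t, ht⟩ := ti_congruence (P := P) (by rw [hP]; exact hTI) hoddN
      (Z.map M.subtype)
      (by
        rintro _ ⟨w, hw, rfl⟩
        rw [hP]
        exact Subgroup.mem_subgroupOf.mp (hZK hw))
      (by
        rintro x hx _ ⟨w, hw, rfl⟩
        rw [hP, hN] at hx
        exact ⟨⟨x, hx⟩ * w * ⟨x, hx⟩⁻¹, (inferInstance : Z.Normal).conj_mem w hw ⟨x, hx⟩, rfl⟩)
      (by
        rintro _ ⟨w, hw, rfl⟩ y hy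
        rw [hP] at hy
        exact congrArg Subtype.val (hZc w hw ⟨y, (typeP_le h.data).2.1 hy⟩ hy))
      ψ.2
      (by
        rintro _ ⟨w, hw, rfl⟩ _ ⟨w', hw', rfl⟩ h1 h1'
        rw [hψeq, hψeq]
        exact congrArg _ (hconst ζ₁ hζ₁ w hw w' hw' (fun e => h1 (by rw [e]; rfl))
          (fun e => h1' (by rw [e]; rfl))))
      (z := ((z₀ : ↥M) : G)) ⟨z₀, z₀.2, rfl⟩ (fun e => hz₀' (Subtype.ext e))
    refine ⟨ε' * n, ε' * dd, ε' * t, fun z hz hz1 => ?_, ?_, ?_⟩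
    · rw [hconst ζ₁ hζ₁ z hz z₀ z₀.2 hz1 hz₀', Int.cast_mul, ← hn, hψeq, ← mul_assoc,
        ← Int.cast_mul, hεε, Int.cast_one, one_mul]
    · rw [Int.cast_mul, ← hdd, hψeq, ← mul_assoc, ← Int.cast_mul, hεε, Int.cast_one, one_mul]
    · have hcK : Nat.card K = Nat.card (P : Subgroup G) := by
        rw [hP]
        exact Nat.card_congr (Subgroup.subgroupOfEquivOfLe (typeP_le h.data).2.1).toEquiv
      rw [hcK, ← mul_sub, ht]
      ring
  obtain ⟨n, dd, t, hn, hdd, hddn⟩ := hcong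
  set F : K → ℂ := fun k => f ζ₁ ((k : ↥M) : G) with hF
  have hfres : Cfsg.IsClassFunction ↥M (fun x : ↥M => f ζ₁ x) := fun a b => hf1cl a b
  obtain ⟨A, hA⟩ : ∃ A : ℤ, Cfsg.classInner ζ₀ (fun x : ↥M => f ζ₁ x) = (A : ℂ) := by
    refine classInner_generalized_int (isGeneralizedCharacter_irr ⟨ζ₀, hζ₀i⟩) ?_
    obtain ⟨χ₁, χ₂, h1, h2, e⟩ := hfζ₁.generalized
    exact ⟨_, _, isCharacter_subtype h1 M, isCharacter_subtype h2 M,
      funext fun k => congrFun e k⟩
  have hsupS : ∀ a ∈ Cfsg.zspanOn (Cfsg.inducedIrrAbove K ⊥) {1}ᶜ,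
      Cfsg.IsClassFunction ↥M a ∧ ∀ x : ↥M, (x : G) ∉ suppA0 M → a x = 0 := by
    intro a ha
    obtain ⟨hs, h1⟩ := zspanOn_compl_one.mp ha
    have hcl : Cfsg.IsClassFunction ↥M a := isClassFunction_of_isGeneralizedCharacter
      (zspan_generalized (fun χ hχ => isGeneralizedCharacter_of_isCharacter (h.sys.isCharacter χ hχ)) hs)
    exact ⟨hcl, h.supp_A0 hcl h1 fun x hx hx1 =>
      zspan_vanish (fun χ hχ => h.mem_base_zero hχ (h.notMem_derSub hx hx1)) hs⟩
  -- the weight of each member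
  have hweight : ∀ θ ∈ thetaOff K Z, conj ((θ : K → ℂ) 1) * Cfsg.classInner F (θ : K → ℂ) =
      ((cd (Cfsg.indFun K (θ : K → ℂ)) : ℤ) * mc (Cfsg.indFun K (θ : K → ℂ)) : ℤ) +
        (θ : K → ℂ) 1 * (θ : K → ℂ) 1 * (A : ℂ) := by
    intro θ hθ
    set χ := Cfsg.indFun K (θ : K → ℂ) with hχd
    have hχ : χ ∈ X := Finset.mem_image_of_mem _ hθ
    obtain ⟨c, hc0, hc⟩ := irr_exists_degree θ.2
    have hcχ : cd χ = c := (hcd hc).1
    have e1 := (hmc χ hχ).1 ζ₁ hζ₁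
    rw [if_neg hne10, sub_zero, h.tau_adjoint hN hTI (hsupS _ (hγmem χ hχ)).1
      (hsupS _ (hγmem χ hχ)).2 hf1cl] at e1
    simp only [γ, classInner_sub_left, classInner_zsmul_left, hA] at e1
    rw [hχd, CfsgLib.Induction.classInner_indFun K _ hfres, ← hχd] at e1
    have e2 : Cfsg.classInner F (θ : K → ℂ) = ((mc χ + (cd χ : ℤ) * A : ℤ) : ℂ) := by
      rw [classInner_conj_symm, show Cfsg.classInner (θ : K → ℂ) F =
        ((mc χ + (cd χ : ℤ) * A : ℤ) : ℂ) by push_cast at e1 ⊢; linear_combination e1, map_intCast]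
    rw [e2, hc, map_natCast, hcχ]
    push_cast
    ring
  have hsumlam : ∀ lam : ↥Zs →* ℂˣ, lam ≠ 1 →
      ∑ θ ∈ univ.filter (fun θ : Cfsg.IrrCharacter K => l θ = lam),
        ((cd (Cfsg.indFun K (θ : K → ℂ)) : ℤ) * mc (Cfsg.indFun K (θ : K → ℂ))) =
      (Zs.index : ℤ) * (t - A) ∧
      ∑ θ ∈ univ.filter (fun θ : Cfsg.IrrCharacter K => l θ = lam),
        ((cd (Cfsg.indFun K (θ : K → ℂ)) : ℤ) * (cd (Cfsg.indFun K (θ : K → ℂ)) : ℤ)) =
      (Zs.index : ℤ) := by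
    intro lam hlam
    have hmemoff : ∀ θ ∈ univ.filter (fun θ : Cfsg.IrrCharacter K => l θ = lam),
        θ ∈ thetaOff K Z := fun θ hθ => (hoff θ).mpr ((mem_filter.mp hθ).2 ▸ hlam)
    have e0 := sum_over_central l hl lam (1 : K)
    rw [dif_pos (one_mem _), show (⟨1, one_mem Zs⟩ : Zs) = 1 from rfl, map_one, Units.val_one,
      mul_one] at e0
    have hdiv : (Nat.card K : ℂ) / (Nat.card Zs : ℂ) = (Zs.index : ℂ) := by
      rw [div_eq_iff (Nat.cast_ne_zero.mpr Nat.card_pos.ne')]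
      exact_mod_cast (Zs.index_mul_card).symm
    rw [hdiv] at e0
    have e1 := inner_over_central (F := F) l hl lam hlam (n := (n : ℂ)) (d := (dd : ℂ))
      (fun z hz => hn _ (Subgroup.mem_subgroupOf.mp z.2) fun e => hz (Subtype.ext (Subtype.ext e)))
      hdd
    have hR : ((dd : ℂ) - n) / (Nat.card Zs : ℂ) = (Zs.index : ℂ) * (t : ℂ) := by
      rw [← Int.cast_sub, hddn, Int.cast_mul, Int.cast_natCast, mul_div_right_comm, hdiv]
    rw [hR, Finset.sum_congr rfl fun θ hθ => hweight θ (hmemoff θ hθ), Finset.sum_add_distrib,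
      ← Finset.sum_mul, e0] at e1
    refine ⟨?_, ?_⟩
    · apply Int.cast_injective (α := ℂ)
      push_cast at e1 ⊢
      linear_combination e1
    · apply Int.cast_injective (α := ℂ)
      push_cast
      rw [← e0]
      refine Finset.sum_congr rfl fun θ hθ => ?_
      obtain ⟨c, -, hc⟩ := irr_exists_degree θ.2
      rw [hc, (hcd hc).1]
  have hIpos : 0 < Zs.index := Nat.pos_of_ne_zero Subgroup.index_ne_zero_of_finite
  have hIpos' : (0 : ℤ) < Zs.index := by exact_mod_cast hIpos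
  have huniform : (∀ χ ∈ X, mc χ = 0) ∨ (Y.card = 2 ∧ ∀ χ ∈ X, mc χ = (cd χ : ℤ)) := by
    have hone : ∀ θ₀ ∈ thetaOff K Z, (0 ≤ t - A ∧ t - A ≤ 1 ∧ (3 ≤ Y.card → t - A = 0)) ∧
        (t - A = 0 → mc (Cfsg.indFun K (θ₀ : K → ℂ)) = 0) ∧
        (t - A = 1 → mc (Cfsg.indFun K (θ₀ : K → ℂ)) = (cd (Cfsg.indFun K (θ₀ : K → ℂ)) : ℤ)) := by
      intro θ₀ hθ₀
      obtain ⟨hA1, hA2⟩ := hsumlam (l θ₀) ((hoff θ₀).mp hθ₀)
      set S := univ.filter (fun θ : Cfsg.IrrCharacter K => l θ = l θ₀) with hS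
      have hθ₀S : θ₀ ∈ S := mem_filter.mpr ⟨mem_univ _, rfl⟩
      have hb' : ∀ θ ∈ S, Cfsg.indFun K (θ : K → ℂ) ∈ X := fun θ hθ =>
        Finset.mem_image_of_mem _ ((hoff θ).mpr ((mem_filter.mp hθ).2 ▸ (hoff θ₀).mp hθ₀))
      have hle1 : ∀ θ ∈ S, 0 ≤ (cd (Cfsg.indFun K (θ : K → ℂ)) : ℤ) *
          mc (Cfsg.indFun K (θ : K → ℂ)) := fun θ hθ =>
        mul_nonneg (Int.natCast_nonneg _) (hmc _ (hb' θ hθ)).2.1
      have hle2 : ∀ θ ∈ S, (cd (Cfsg.indFun K (θ : K → ℂ)) : ℤ) *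
          mc (Cfsg.indFun K (θ : K → ℂ)) ≤
          (cd (Cfsg.indFun K (θ : K → ℂ)) : ℤ) * (cd (Cfsg.indFun K (θ : K → ℂ)) : ℤ) := fun θ hθ =>
        mul_le_mul_of_nonneg_left (hmc _ (hb' θ hθ)).2.2.1 (Int.natCast_nonneg _)
      have h1 := Finset.sum_nonneg hle1
      have h2 := Finset.sum_le_sum hle2
      rw [hA1] at h1 h2
      rw [hA2] at h2
      have hu0 : 0 ≤ t - A := nonneg_of_mul_nonneg_right h1 hIpos'
      have hu1 : t - A ≤ 1 := le_of_mul_le_mul_left (h2.trans (mul_one _).ge) hIpos'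
      obtain ⟨c, hc0, hc⟩ := irr_exists_degree θ₀.2
      have hcpos : (0 : ℤ) < cd (Cfsg.indFun K (θ₀ : K → ℂ)) := by
        rw [(hcd hc).1]; exact_mod_cast hc0
      have hz : t - A = 0 → mc (Cfsg.indFun K (θ₀ : K → ℂ)) = 0 := fun e => by
        have := (Finset.sum_eq_zero_iff_of_nonneg hle1).mp (by rw [hA1, e, mul_zero]) θ₀ hθ₀S
        exact (mul_eq_zero.mp this).resolve_left hcpos.ne'
      have hw : t - A = 1 →
          mc (Cfsg.indFun K (θ₀ : K → ℂ)) = (cd (Cfsg.indFun K (θ₀ : K → ℂ)) : ℤ) := fun e => by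
        have := (Finset.sum_eq_sum_iff_of_le hle2).mp (by rw [hA1, hA2, e, mul_one]) θ₀ hθ₀S
        exact mul_left_cancel₀ hcpos.ne' this
      refine ⟨⟨hu0, hu1, fun h3 => ?_⟩, hz, hw⟩
      by_contra hne
      have := hw (by omega)
      exact absurd this ((hmc _ (hb' θ₀ hθ₀S)).2.2.2 h3).ne
    by_cases hu : t - A = 0
    · left
      intro χ hχ
      obtain ⟨θ, hθ, rfl⟩ := Finset.mem_image.mp hχ
      exact (hone θ hθ).2.1 hu
    · by_cases hX0 : X = ∅
      · left; intro χ hχ; simp [hX0] at hχ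
      · right
        obtain ⟨χ₀, hχ₀⟩ := Finset.nonempty_iff_ne_empty.mpr hX0
        obtain ⟨θ₀, hθ₀, -⟩ := Finset.mem_image.mp hχ₀
        obtain ⟨⟨hu0, hu1, hu3⟩, -, -⟩ := hone θ₀ hθ₀
        refine ⟨by by_contra hne; exact hu (hu3 (by omega)), fun χ hχ => ?_⟩
        obtain ⟨θ, hθ, rfl⟩ := Finset.mem_image.mp hχ
        exact (hone θ hθ).2.2 (by omega)
  -- the adjusted extension
  obtain ⟨f', hf'g, hf'orth, hf'diff, hf'X⟩ : ∃ f' : (↥M → ℂ) → (G → ℂ),
      (∀ b ∈ Y, Cfsg.IsGeneralizedCharacter G (f' b)) ∧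
      (∀ a ∈ Y, ∀ b ∈ Y, Cfsg.classInner (f' a) (f' b) = if a = b then 1 else 0) ∧
      (∀ b ∈ Y, tau M (b - ζ₀) = f' b - f' ζ₀) ∧
      ∀ χ ∈ X, ∀ b ∈ Y, Cfsg.classInner (tau M (γ χ)) (f' b) =
        if b = ζ₀ then -(cd χ : ℂ) else 0 := by
    rcases huniform with hu | ⟨hY2e, hu⟩
    · refine ⟨f, fun b hb' => (hY b hb').2.2.2.generalized, hforth,
        fun b hb' => hfdiff b hb' ζ₀ hζ₀, fun χ hχ b hb' => ?_⟩
      rw [(hmc χ hχ).1 b hb', hu χ hχ]
      split_ifs <;> simp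
    · have hYeq : ∀ b ∈ Y, b = ζ₀ ∨ b = ζ₁ := by
        have hsub : ({ζ₀, ζ₁} : Finset (↥M → ℂ)) = Y := Finset.eq_of_subset_of_card_le
          (by simp [Finset.insert_subset_iff, hζ₀, hζ₁]) (by rw [Finset.card_pair hne10.symm, hY2e])
        intro b hb'
        rw [← hsub] at hb'
        simpa using hb'
      let f' : (↥M → ℂ) → (G → ℂ) := fun b => if b = ζ₀ then -f ζ₁ else -f ζ₀
      refine ⟨f', fun b hb' => ?_, fun a ha b hb' => ?_, fun b hb' => ?_, fun χ hχ b hb' => ?_⟩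
      · simp only [f']
        split_ifs
        · exact isGeneralizedCharacter_neg hfζ₁.generalized
        · exact isGeneralizedCharacter_neg hfζ₀.generalized
      · rcases hYeq a ha with rfl | rfl <;> rcases hYeq b hb' with rfl | rfl <;>
          simp [f', hne10, hne10.symm, classInner_neg_left, classInner_neg_right, hforth _ hζ₁ _ hζ₁,
            hforth _ hζ₀ _ hζ₀, hforth _ hζ₁ _ hζ₀, hforth _ hζ₀ _ hζ₁]
      · rcases hYeq b hb' with rfl | rfl
        · rw [hfdiff _ hζ₀ _ hζ₀]; simp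
        · rw [hfdiff _ hζ₁ _ hζ₀]; simp [f', hne10]; abel
      · rcases hYeq b hb' with rfl | rfl
        · simp [f', classInner_neg_right, (hmc χ hχ).1 _ hζ₁, hu χ hχ, hne10]
        · simp [f', classInner_neg_right, (hmc χ hχ).1 _ hζ₀, hu χ hχ, hne10]
  -- the union is coherent
  set S₁ := X ∪ Y with hS₁
  have hS₁T : (↑S₁ : Set (↥M → ℂ)) ⊆ Cfsg.inducedIrrAbove K ⊥ := by
    intro b hb'
    rcases Finset.mem_union.mp hb' with hh | hh
    · exact hTc ▸ hXT b hh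
    · exact (hY b hh).2.2.1
  let v : (↥M → ℂ) → (G → ℂ) := fun b => if b ∈ Y then f' b else
    tau M (γ b) + (cd b : ℤ) • f' ζ₀
  have hcoh : Cfsg.IsCoherent (↑S₁ : Set (↥M → ℂ)) {1}ᶜ (tau M) := by
    refine coherent_of_images S₁ v ?_ ?_ ?_ ?_ (fun b => (natDeg b : ℤ)) ?_ ζ₀
      (Finset.mem_union_right _ hζ₀) ?_ ?_ ?_ ?_
    · intro a ha b hb' hne
      exact h.sys.orthogonal a (hS₁T ha) b (hS₁T hb') hne
    · intro a ha e
      have hc := h.sys.isCharacter a (hS₁T ha)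
      have h0 := congrFun (eq_zero_of_classInner_self e) 1
      obtain ⟨θ, hθ, -, -, rfl⟩ := hS₁T ha
      obtain ⟨c, hc0, hc'⟩ := irr_exists_degree hθ
      rw [CfsgLib.Induction.indFun_one_apply, hc', Pi.zero_apply, ← Nat.cast_mul,
        Nat.cast_eq_zero] at h0
      exact (Nat.mul_pos (by omega) hc0).ne' h0
    · intro a ha
      by_cases haY : a ∈ Y
      · simp only [v, if_pos haY]; exact hf'g a haY
      · have haX : a ∈ X := (Finset.mem_union.mp ha).resolve_right haY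
        simp only [v, if_neg haY]
        exact isGeneralizedCharacter_add (h.sys.isometry.2.2.2 _ (hγmem a haX))
          (isGeneralizedCharacter_zsmul (hf'g ζ₀ hζ₀) _)
    · intro a ha b hb'
      have mixed : ∀ x ∈ X, ∀ y ∈ Y,
          Cfsg.classInner (tau M (γ x) + (cd x : ℤ) • f' ζ₀) (f' y) = 0 := fun x hx y hy => by
        rw [classInner_add_left, classInner_zsmul_left, hf'X x hx y hy, hf'orth ζ₀ hζ₀ y hy]
        by_cases e : y = ζ₀
        · subst e; simp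
        · simp [e, Ne.symm e]
      by_cases haY : a ∈ Y <;> by_cases hbY : b ∈ Y
      · simp only [v, if_pos haY, if_pos hbY, hf'orth a haY b hbY, hYY a haY b hbY]
      · have hbX : b ∈ X := (Finset.mem_union.mp hb').resolve_right hbY
        simp only [v, if_pos haY, if_neg hbY]
        rw [classInner_conj_symm, mixed b hbX a haY, map_zero, horthY' b hbX a haY]
      · have haX : a ∈ X := (Finset.mem_union.mp ha).resolve_right haY
        simp only [v, if_neg haY, if_pos hbY]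
        rw [mixed a haX b hbY, horthY a haX b hbY]
      · have haX : a ∈ X := (Finset.mem_union.mp ha).resolve_right haY
        have hbX : b ∈ X := (Finset.mem_union.mp hb').resolve_right hbY
        simp only [v, if_neg haY, if_neg hbY]
        rw [classInner_add_left, classInner_zsmul_left, classInner_add_right, classInner_add_right,
          classInner_zsmul_right, classInner_zsmul_right, hf'X a haX ζ₀ hζ₀, if_pos rfl,
          classInner_conj_symm (tau M (γ b)) (f' ζ₀), hf'X b hbX ζ₀ hζ₀, if_pos rfl, map_neg,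
          map_natCast, hf'orth ζ₀ hζ₀ ζ₀ hζ₀, if_pos rfl,
          h.sys.isometry.2.2.1 _ (hγmem a haX) _ (hγmem b hbX)]
        simp only [γ, classInner_sub_left, classInner_sub_right, classInner_zsmul_left,
          classInner_zsmul_right, horthY a haX ζ₀ hζ₀, horthY' b hbX ζ₀ hζ₀, hYY ζ₀ hζ₀ ζ₀ hζ₀,
          if_true]
        push_cast
        ring
    · intro a ha
      rw [natDeg_spec (h.sys.isCharacter a (hS₁T ha))]
      norm_num
    · have : natDeg ζ₀ = q := by simp [natDeg, hζ₀1, hq]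
      rw [this]
      exact_mod_cast (by omega : q ≠ 0)
    · exact isometry_mono h.sys.isometry (zspanOn_mono hS₁T _)
    · intro a ha
      have hiso := h.sys.isometry.2.1
      have hdζ : natDeg ζ₀ = q := by simp [natDeg, hζ₀1, hq]
      by_cases haY : a ∈ Y
      · have hda : natDeg a = q := by simp [natDeg, (hY a haY).2.1, hq]
        simp only [v, if_pos haY, if_pos hζ₀, hdζ, hda]
        rw [← zsmul_sub, hiso _ (hdmem a haY) _, hf'diff a haY, zsmul_sub]
      · have haX : a ∈ X := (Finset.mem_union.mp ha).resolve_right haY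
        obtain ⟨θ, c, N, -, e, hc, -, -, -⟩ := hclX a haX
        have hda : natDeg a = q * cd a := by
          rw [e, (hcd hc).1, natDeg, (hcd hc).2, Complex.natCast_re, Nat.floor_natCast]
        simp only [v, if_neg haY, if_pos hζ₀, hdζ, hda]
        have e2 : (q : ℤ) • a - ((q * cd a : ℕ) : ℤ) • ζ₀ = (q : ℤ) • γ a := by
          simp only [γ]
          push_cast
          module
        rw [e2, hiso _ (hγmem a haX) _]
        push_cast
        module
    · exact ⟨ζ₁ - ζ₀, zspanOn_compl_one.mpr ⟨zspan_sub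
        (zspan_of_mem (Finset.mem_union_right _ hζ₁)) (zspan_of_mem (Finset.mem_union_right _ hζ₀)),
        by rw [Pi.sub_apply, hζ₁1, hζ₀1, sub_self]⟩, sub_ne_zero.mpr hne10⟩
  -- the rest
  have hconjS₁ : ∀ φ ∈ S₁, Cfsg.conjFun φ ∈ S₁ := by
    intro φ hφ
    rcases Finset.mem_union.mp hφ with hh | hh
    · refine Finset.mem_union_left _ ?_
      have h1 := Finset.mem_coe.mpr hh
      rw [hXdef, coe_offFinset hKn Z] at h1
      rw [← Finset.mem_coe, hXdef, coe_offFinset hKn Z]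
      refine ⟨indAbove_conj K ⊥ h1.1, fun h2 => h1.2 ?_⟩
      rw [← conjFun_conjFun φ]
      exact indAbove_conj K Z h2
    · refine Finset.mem_union_right _ ?_
      rw [← Finset.mem_coe, hYc] at hh ⊢
      exact indAbove_conj K _ hh
  set T' := indAboveFinset K Z with hT'
  have hT'c : (↑T' : Set (↥M → ℂ)) = Cfsg.inducedIrrAbove K Z := coe_indAboveFinset _
  have hres := coherent_add_all h.sys ζ₀ S₁ hS₁T hconjS₁ hcoh (Finset.mem_union_right _ hζ₀) T'
    (hT'c ▸ indAbove_subset_bot K Z) (fun φ hφ => by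
      rw [← Finset.mem_coe, hT'c] at hφ ⊢
      exact indAbove_conj K _ hφ) fun χ hχ => ?_
  · have hall : S₁ ∪ T' = T := by
      refine Finset.Subset.antisymm (fun b hb' => ?_) fun b hb' => ?_
      · rw [← Finset.mem_coe, hTc]
        rcases Finset.mem_union.mp hb' with hh | hh
        · exact hS₁T hh
        · exact Set.mem_of_subset_of_mem (indAbove_subset_bot K Z) (hT'c ▸ Finset.mem_coe.mpr hh :)
      · obtain ⟨θ, hθ, rfl⟩ := Finset.mem_image.mp hb'
        by_cases hh : θ ∈ thetaOff K Z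
        · exact Finset.mem_union_left _ (Finset.mem_union_left _ (Finset.mem_image_of_mem _ hh))
        · refine Finset.mem_union_right _ (Finset.mem_image_of_mem _ (mem_thetaAbove.mpr
            ⟨(mem_thetaAbove.mp hθ).1, fun z hz => ?_⟩))
          by_contra hne
          exact hh (mem_thetaOff.mpr ⟨z, hz, hne⟩)
    rw [hall, hTc] at hres
    exact hres
  · obtain ⟨θ, hθ, hχe⟩ := Finset.mem_image.mp hχ
    have hθ' := mem_thetaAbove.mp hθ
    obtain ⟨c, hc0, hc⟩ := irr_exists_degree θ.2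
    have hdeg : natDeg χ = q * c := by
      rw [← hχe, natDeg, (hcd hc).2, Complex.natCast_re, Nat.floor_natCast]
    have hdζ : natDeg ζ₀ = q := by simp [natDeg, hζ₀1, hq]
    rw [hdeg, hdζ]
    refine ⟨dvd_mul_right q c, ?_⟩
    -- a single member bound
    have hsumT := sum_indAbove (K := K) hKn Z
    rw [← hT'] at hsumT
    have hone := Finset.single_le_sum (f := fun φ : ↥M → ℂ => (natDeg φ : ℝ) ^ 2 / (natNorm φ : ℝ))
      (fun φ _ => div_nonneg (sq_nonneg _) (Nat.cast_nonneg _)) hχ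
    rw [hsumT] at hone
    simp only [hdeg] at hone
    have hZK' : Z.relIndex K * Nat.card Z = Nat.card K := relIndex_mul_card Z hZK
    set I := Z.relIndex K with hI
    have hqR : (1 : ℝ) < q := by exact_mod_cast hq1
    have hcR : (1 : ℝ) ≤ c := by exact_mod_cast hc0
    have hkey : (q : ℝ) * c ≤ (I : ℝ) - 1 := by
      rcases h.classify θ.2 hθ'.1 with hi | ⟨ω, hω, e⟩
      · have hN1 : natNorm χ = 1 := by
          rw [← hχe, natNorm, classInner_irr_self hi]; simp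
        rw [hN1] at hone
        push_cast at hone
        have h1 : ((q : ℝ) * c) ^ 2 ≤ q * ((I : ℝ) - 1) := by simpa using hone
        have h2 : (q : ℝ) * ((q : ℝ) * c) ≤ q * ((I : ℝ) - 1) := by
          refine le_trans ?_ h1
          have h0 : (0 : ℝ) ≤ (q : ℝ) * c * ((q : ℝ) * (c - 1)) :=
            mul_nonneg (by positivity) (mul_nonneg (by positivity) (by linarith))
          nlinarith
        exact le_of_mul_le_mul_left h2 (by linarith)
      · have hcd' : c = d := by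
          rw [e] at hc
          have : (c : ℂ) = d := hc.symm.trans (h.const ω hω).1
          exact_mod_cast this
        have hNq : natNorm χ = q := by
          rw [← hχe, e, natNorm]
          show ⌊(Cfsg.classInner (colChar M μ ω) (colChar M μ ω)).re⌋₊ = q
          rw [h.colChar_norm]
          simp [hq, hKdef]
        rw [hNq] at hone
        push_cast at hone
        have hq0 : (q : ℝ) ≠ 0 := by linarith
        rw [show ((q : ℝ) * c) ^ 2 / q = q * (c : ℝ) ^ 2 by field_simp] at hone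
        have h1 : (c : ℝ) ^ 2 ≤ (I : ℝ) - 1 := le_of_mul_le_mul_left hone (by linarith)
        have h2 : (q : ℝ) ≤ c := by
          rw [hcd']
          exact_mod_cast (by omega : q ≤ d)
        exact le_trans (by nlinarith) h1
    have hbig : (q : ℝ) * ((Nat.card K : ℝ) - I) ≤
        ∑ φ ∈ S₁, ((natDeg φ : ℝ) ^ 2 / (natNorm φ : ℝ)) := by
      have e := sum_sq_div_norm hKn (thetaOff K Z) (thetaOff_closed hKn Z)
      rw [sum_sq_thetaOff hKn Z] at e
      rw [← e]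
      exact Finset.sum_le_sum_of_subset_of_nonneg Finset.subset_union_left
        fun φ _ _ => div_nonneg (sq_nonneg _) (Nat.cast_nonneg _)
    have hZ3 : (3 : ℝ) ≤ Nat.card Z := by
      have h1 := (Subgroup.one_lt_card_iff_ne_bot Z).mpr hZ1
      obtain ⟨a, ha⟩ := h.odd_M.of_dvd_nat (Subgroup.card_subgroup_dvd_card Z)
      exact_mod_cast (by omega : 3 ≤ Nat.card Z)
    have hK' : (I : ℝ) * (Nat.card Z : ℝ) = (Nat.card K : ℝ) := by exact_mod_cast hZK'
    refine lt_of_lt_of_le ?_ hbig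
    push_cast
    have h3 : (q : ℝ) * c < I := by linarith
    have h4 : (q : ℝ) * (2 * ((q : ℝ) * c)) < q * (2 * (I : ℝ)) :=
      mul_lt_mul_of_pos_left (by linarith) (by linarith)
    have h5 : (I : ℝ) * 3 ≤ (I : ℝ) * (Nat.card Z : ℝ) :=
      mul_le_mul_of_nonneg_left hZ3 (Nat.cast_nonneg _)
    have h6 : (q : ℝ) * (2 * (I : ℝ)) ≤ q * ((Nat.card K : ℝ) - I) :=
      mul_le_mul_of_nonneg_left (by linarith) (by linarith)
    linarith

end VCtx

end CfsgLib.PF
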