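import Cfsg.Agent.Lib.PF.Sec9Setup
import Cfsg.Agent.Lib.PF.Props9
import Cfsg.Agent.Lib.OddOrder.MinSimple

/-!
# Peterfalvi §11: elementary facts on `M_F C` in Type III/IV
-/

set_option autoImplicit false
set_option linter.unusedSectionVars false

namespace CfsgLib.PF.Sec11

open Subgroup CfsgLib.OddOrder
open scoped commutatorElement

universe u

variable {G : Type u} [Group G]

/-- Hypothesis (11.1) with a chief factor `M_F / H₀`. -/
structure Setup (M W₁ U W₂ H₀ C : Subgroup G) (p : ℕ) : Prop where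
  max : IsCoatom M
  kind : Kind34 M W₁ U W₂
  fac : CoreFactor M W₁ U W₂ H₀ C p

theorem map_commutator_self_le {X : Subgroup G} {g : G}
    (hg : g ∈ Subgroup.normalizer (X : Set G)) : ∀ x ∈ ⁅X, X⁆, g * x * g⁻¹ ∈ ⁅X, X⁆ := by
  intro x hx
  have hle : X.map (MulAut.conj g).toMonoidHom ≤ X := by
    rintro _ ⟨y, hy, rfl⟩
    exact (Subgroup.mem_normalizer_iff.mp hg y).mp hy
  refine Subgroup.commutator_mono hle hle ?_
  rw [← Subgroup.map_commutator]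
  exact ⟨x, hx, rfl⟩

theorem le_normalizer_commutator_self {X A : Subgroup G}
    (hA : A ≤ Subgroup.normalizer (X : Set G)) : A ≤ Subgroup.normalizer ((⁅X, X⁆ : Subgroup G) : Set G) :=
  Subgroup.le_normalizer_iff.2 fun _ hg => map_commutator_self_le (hA hg)

namespace Setup

variable {M W₁ U W₂ H₀ C : Subgroup G} {p : ℕ} (s : Setup M W₁ U W₂ H₀ C p)

local notation "H" => Cfsg.fittingHallOf M

include s

theorem data : Cfsg.IsTypePWith M W₁ U W₂ := s.kind.data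

theorem H₀_le : H₀ ≤ H := s.fac.lt.le

theorem C_le : C ≤ U := s.fac.C_lt.le

theorem C_le_M : C ≤ M := s.C_le.trans (TypeP.U_le s.data)

theorem H_le_M : H ≤ M := fittingHallOf_le M

theorem derived_C_le : ⁅C, C⁆ ≤ C := Subgroup.commutator_le_self C

/-- `M_F` normalizes `H₀ ⊔ X` for `X ≤ C`. -/
theorem H_normalizes {X : Subgroup G} (hX : X ≤ C) :
    H ≤ Subgroup.normalizer ((H₀ ⊔ X : Subgroup G) : Set G) := by
  refine Subgroup.le_normalizer_iff.2 fun h hh x hx => ?_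
  suffices hm : H₀ ⊔ X ≤ (H₀ ⊔ X).comap (MulAut.conj h).toMonoidHom from hm hx
  refine sup_le (fun y hy => Subgroup.mem_sup_left ?_) (fun y hy => ?_)
  · exact (Subgroup.mem_normalizer_iff.mp (s.fac.normal (s.H_le_M hh)) y).mp hy
  · show h * y * h⁻¹ ∈ H₀ ⊔ X
    have e : h * y * h⁻¹ = (y * h * y⁻¹ * h⁻¹)⁻¹ * y := by group
    rw [e]
    exact mul_mem (Subgroup.mem_sup_left (H₀.inv_mem (((s.fac.mem_C y).mp (hX hy)).2 h hh)))
      (Subgroup.mem_sup_right hy)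

theorem UW₁_normalizes_sup {A X : Subgroup G} (hA : U ⊔ W₁ ≤ Subgroup.normalizer (A : Set G))
    (hX : U ⊔ W₁ ≤ Subgroup.normalizer (X : Set G)) :
    U ⊔ W₁ ≤ Subgroup.normalizer ((A ⊔ X : Subgroup G) : Set G) := by
  refine Subgroup.le_normalizer_iff.2 fun g hg x hx => ?_
  suffices hm : A ⊔ X ≤ (A ⊔ X).comap (MulAut.conj g).toMonoidHom from hm hx
  exact sup_le (fun y hy => Subgroup.mem_sup_left ((Subgroup.mem_normalizer_iff.mp (hA hg) y).mp hy))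
    fun y hy => Subgroup.mem_sup_right ((Subgroup.mem_normalizer_iff.mp (hX hg) y).mp hy)

theorem UW₁_le_M : U ⊔ W₁ ≤ M := sup_le (TypeP.U_le s.data) (TypeP.W₁_le s.data)

theorem UW₁_C' : U ⊔ W₁ ≤ Subgroup.normalizer ((⁅C, C⁆ : Subgroup G) : Set G) :=
  le_normalizer_commutator_self s.fac.C_normal

/-- `H₀ C'` is normal in `M`. -/
theorem H₀C'_normal : M ≤ Subgroup.normalizer ((H₀ ⊔ ⁅C, C⁆ : Subgroup G) : Set G) := by
  have hn := s.UW₁_normalizes_sup (s.UW₁_le_M.trans s.fac.normal) s.UW₁_C'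
  exact TypeP.le_normalizer_of s.data (s.H_normalizes s.derived_C_le) (le_sup_left.trans hn)
    (le_sup_right.trans hn)

/-- `H₀ C` is normal in `M`. -/
theorem H₀C_normal : M ≤ Subgroup.normalizer ((H₀ ⊔ C : Subgroup G) : Set G) := by
  have hn := s.UW₁_normalizes_sup (s.UW₁_le_M.trans s.fac.normal) s.fac.C_normal
  exact TypeP.le_normalizer_of s.data (s.H_normalizes le_rfl) (le_sup_left.trans hn)
    (le_sup_right.trans hn)

theorem core_sup_normal {X : Subgroup G} (hX : U ⊔ W₁ ≤ Subgroup.normalizer (X : Set G)) :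
    M ≤ Subgroup.normalizer ((H ⊔ X : Subgroup G) : Set G) := by
  have hn := s.UW₁_normalizes_sup (s.UW₁_le_M.trans (fittingHallOf_normal M)) hX
  exact TypeP.le_normalizer_of s.data (le_sup_left.trans Subgroup.le_normalizer)
    (le_sup_left.trans hn) (le_sup_right.trans hn)

theorem HC_normal : M ≤ Subgroup.normalizer ((H ⊔ C : Subgroup G) : Set G) :=
  s.core_sup_normal s.fac.C_normal

theorem HC'_normal : M ≤ Subgroup.normalizer ((H ⊔ ⁅C, C⁆ : Subgroup G) : Set G) :=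
  s.core_sup_normal s.UW₁_C'

/-- Dedekind: `M_F A ⊓ U = A` for `A ≤ U`. -/
theorem mem_of_mem_sup {A : Subgroup G} (hA : A ≤ U) {x : G} (hx : x ∈ H ⊔ A) (hxU : x ∈ U) :
    x ∈ A := by
  have hn : A ≤ Subgroup.normalizer (H : Set G) := hA.trans (TypeP.U_normalizes_core s.data)
  have hx' : x ∈ ((H ⊔ A : Subgroup G) : Set G) := hx
  rw [Subgroup.coe_mul_of_right_le_normalizer_left H A hn] at hx'
  obtain ⟨h, hh, a, ha, rfl⟩ := hx'
  have h1 : h ∈ U ⊓ H := ⟨by simpa using U.mul_mem hxU (U.inv_mem (hA ha)), hh⟩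
  rw [TypeP.U_inf_core s.data, Subgroup.mem_bot] at h1
  simpa [h1] using ha

theorem sup_U : H ⊔ U = ⁅M, M⁆ := by
  refine le_antisymm (sup_le s.data.U_compl.1 s.data.U_compl.2.1) fun m hm => ?_
  obtain ⟨h, hh, u, hu, rfl⟩ := s.data.U_compl.2.2.2 m hm
  exact Subgroup.mul_mem_sup hh hu

theorem HC_le : H ⊔ C ≤ ⁅M, M⁆ := s.sup_U ▸ sup_le_sup_left s.C_le _

theorem HC_lt : H ⊔ C < ⁅M, M⁆ := by
  refine lt_of_le_of_ne s.HC_le fun e => s.fac.C_lt.not_ge fun u hu => ?_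
  exact s.mem_of_mem_sup s.C_le (e.symm.le (s.data.U_compl.2.1 hu)) hu

theorem mem_H₀ {x : G} {X : Subgroup G} (hX : X ≤ C) (hx : x ∈ H₀ ⊔ X) (hxH : x ∈ H) : x ∈ H₀ := by
  have hn : X ≤ Subgroup.normalizer (H₀ : Set G) := (hX.trans s.C_le_M).trans s.fac.normal
  have hx' : x ∈ ((H₀ ⊔ X : Subgroup G) : Set G) := hx
  rw [Subgroup.coe_mul_of_right_le_normalizer_left H₀ X hn] at hx'
  obtain ⟨h, hh, a, ha, rfl⟩ := hx'
  have h1 : a ∈ U ⊓ H := ⟨s.C_le (hX ha), by simpa using (H).mul_mem ((H).inv_mem (s.H₀_le hh)) hxH⟩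
  rw [TypeP.U_inf_core s.data, Subgroup.mem_bot] at h1
  simpa [h1] using hh

theorem HC_relIndex [Finite G] : (H ⊔ C).relIndex ⁅M, M⁆ = C.relIndex U := by
  have hn : C ≤ Subgroup.normalizer (H : Set G) := s.C_le.trans (TypeP.U_normalizes_core s.data)
  have hc : Cfsg.IsComplIn H C (H ⊔ C) := by
    refine ⟨le_sup_left, le_sup_right, ?_, fun x hx => ?_⟩
    · rw [eq_bot_iff, ← TypeP.U_inf_core s.data]
      exact fun x hx => ⟨s.C_le hx.2, hx.1⟩
    · have hx' : x ∈ ((H ⊔ C : Subgroup G) : Set G) := hx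
      rw [Subgroup.coe_mul_of_right_le_normalizer_left H C hn] at hx'
      obtain ⟨h, hh, c, hc, e⟩ := hx'
      exact ⟨h, hh, c, hc, e.symm⟩
  have h1 := card_mul_relIndex_of_le s.HC_le
  rw [← card_mul_relIndex_of_le (le_sup_left : H ≤ H ⊔ C), IsComplIn.relIndex_left hc,
    TypeP.card_derived s.data, ← card_mul_relIndex_of_le s.C_le, ← mul_assoc] at h1
  exact Nat.eq_of_mul_eq_mul_left (Nat.mul_pos Nat.card_pos Nat.card_pos) h1

/-- `[M_F C, M_F C] ≤ H₀ C'`. -/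
theorem HC_comm_le : ⁅H ⊔ C, H ⊔ C⁆ ≤ H₀ ⊔ ⁅C, C⁆ := by
  rw [Subgroup.commutator_le]
  intro a ha b hb
  have hn : C ≤ Subgroup.normalizer (H : Set G) := s.C_le.trans (TypeP.U_normalizes_core s.data)
  have key : ∀ x ∈ H ⊔ C, ∃ h ∈ H, ∃ c ∈ C, x = h * c := by
    intro x hx
    have hx' : x ∈ ((H ⊔ C : Subgroup G) : Set G) := hx
    rw [Subgroup.coe_mul_of_right_le_normalizer_left H C hn] at hx'
    obtain ⟨h, hh, c, hc, e⟩ := hx'
    exact ⟨h, hh, c, hc, e.symm⟩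
  set N := H₀ ⊔ ⁅C, C⁆ with hN
  have hNn : ∀ g ∈ M, ∀ x ∈ N, g * x * g⁻¹ ∈ N := fun g hg x hx =>
    (Subgroup.mem_normalizer_iff.mp (s.H₀C'_normal hg) x).mp hx
  have hHC : ∀ h ∈ H, ∀ c ∈ C, ⁅h, c⁆ ∈ N := fun h hh c hc => by
    rw [← commutatorElement_inv]
    exact N.inv_mem (Subgroup.mem_sup_left (by
      simpa [commutatorElement_def] using ((s.fac.mem_C c).mp hc).2 h hh))
  have hHH : ∀ h ∈ H, ∀ h' ∈ H, ⁅h, h'⁆ ∈ N := fun h hh h' hh' =>
    Subgroup.mem_sup_left (by simpa [commutatorElement_def] using s.fac.comm_mem h hh h' hh')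
  obtain ⟨h, hh, c, hc, rfl⟩ := key a ha
  obtain ⟨h', hh', c', hc', rfl⟩ := key b hb
  have hM : h ∈ M ∧ h' ∈ M ∧ c ∈ M ∧ c' ∈ M := ⟨s.H_le_M hh, s.H_le_M hh', s.C_le_M hc, s.C_le_M hc'⟩
  have e : ⁅h * c, h' * c'⁆ =
      h * (⁅h', c⁆⁻¹ * (h' * ⁅c, c'⁆ * h'⁻¹)) * h⁻¹ * (⁅h, h'⁆ * (h' * ⁅h, c'⁆ * h'⁻¹)) := by
    simp only [commutatorElement_def]
    group
  rw [e]
  refine mul_mem (hNn _ hM.1 _ (mul_mem (N.inv_mem (hHC h' hh' c hc)) (hNn _ hM.2.1 _ ?_)))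
    (mul_mem (hHH h hh h' hh') (hNn _ hM.2.1 _ (hHC h hh c' hc')))
  exact Subgroup.mem_sup_right (Subgroup.commutator_mem_commutator hc hc')

/-- `H₀.relIndex W₂ = p`, and the card of `M_F/H₀`. -/
theorem card_factor : H₀.relIndex H = p ^ Nat.card W₁ := s.fac.card

end Setup

end CfsgLib.PF.Sec11
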