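import Cfsg.Agent.Lib.PF.Sec11Basic
import Cfsg.Agent.Lib.PF.Props10
import Cfsg.Agent.Lib.PF.Constants
import Cfsg.Agent.S1517
import Cfsg.Agent.S1519
import Cfsg.Agent.S1520

/-!
# Peterfalvi (11.3)–(11.4): non-coherence above `H₀ C'` and the index bound
-/

set_option autoImplicit false
set_option linter.unusedSectionVars false
set_option linter.style.haveILetI false

namespace CfsgLib.PF.Sec11

open Subgroup CfsgLib.OddOrder CfsgLib.OddChar
open scoped commutatorElement Classical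

universe u

variable {G : Type u} [Group G] [Fintype G]

/-- The inputs used in §11. -/
structure Inputs (G : Type u) [Group G] [Fintype G] : Prop where
  simple : Cfsg.IsMinSimpleOddOrder G
  kinds : PropKinds G
  partner : PropPartner G
  subcoherent : PropSubcoherentP G
  tiData : PropTIData G
  noncoherent : PropNoncoherence G

theorem sq_bound {p q : ℕ} (hp : 3 ≤ p) (hq : 3 ≤ q) (hne : p ≠ q) : 4 * q ^ 2 + 1 < p ^ q := by
  rcases Nat.lt_or_ge q 5 with h | h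
  · rcases (show q = 3 ∨ q = 4 by omega) with rfl | rfl
    · have : 4 ^ 3 ≤ p ^ 3 := Nat.pow_le_pow_left (by omega) 3
      omega
    · have : 3 ^ 4 ≤ p ^ 4 := Nat.pow_le_pow_left hp 4
      omega
  · refine lt_of_lt_of_le ?_ (Nat.pow_le_pow_left hp q)
    clear hq hne
    induction q, h using Nat.le_induction with
    | base => norm_num
    | succ n hn ih =>
      rw [pow_succ 3 n]
      nlinarith

theorem three_le_of_odd {n : ℕ} (hn : n.Prime) (ho : Odd n) : 3 ≤ n := by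
  rcases Nat.lt_or_ge n 3 with h | h
  · have := hn.two_le
    rw [show n = 2 by omega] at ho
    exact absurd ho (by decide)
  · exact h

theorem subgroupOf_normal {M X : Subgroup G} (h : M ≤ Subgroup.normalizer (X : Set G)) :
    (X.subgroupOf M).Normal :=
  Subgroup.normal_subgroupOf_of_le_normalizer h

/-- An irreducible character trivial on the commutator subgroup has degree one. -/
theorem natDeg_eq_one {X : Type*} [Group X] [Finite X] {θ : X → ℂ} (hθ : Cfsg.IsIrrCharacter X θ)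
    (h : ∀ a b : X, θ (a * b * a⁻¹ * b⁻¹) = θ 1) : natDeg θ = 1 := by
  have hb := sq_natDeg_le_section hθ ⊤ ⊤ fun d _ c _ => h d c
  rw [Subgroup.index_top, Subgroup.relIndex_self] at hb
  have h0 := natDeg_pos hθ
  nlinarith

namespace Setup

variable {M W₁ U W₂ H₀ C : Subgroup G} {p : ℕ} (s : Setup M W₁ U W₂ H₀ C p) (I : Inputs G)

local notation "H" => Cfsg.fittingHallOf M

include s

theorem typeCore_eq (hK : PropKinds G) : Cfsg.typeCore M = ⁅M, M⁆ := by
  rw [Cfsg.typeCore, if_pos]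
  exact (hK M W₁ U W₂ s.max s.data).2.2.1.mpr s.kind

theorem derived_ne_M : ⁅M, M⁆ ≠ M := fun e => s.data.W₁_ne (by
  rw [eq_bot_iff, ← s.data.W₁_compl.2.2.1, e]
  exact le_inf (TypeP.W₁_le s.data) le_rfl)

theorem index_K : (((⁅M, M⁆ : Subgroup G).subgroupOf M)).index = Nat.card W₁ :=
  IsComplIn.relIndex_left s.data.W₁_compl

include I in
theorem prime_eq : p = Nat.card W₂ ∧ (Nat.card W₂).Prime ∧ H₀ ⊓ W₂ = ⊥ := by
  have hp := prime_W₂_of_345 I.kinds I.partner s.max (Or.inl s.kind)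
  have h := s.fac.W₂_rel
  have hd : H₀.relIndex W₂ ∣ Nat.card W₂ := Subgroup.relIndex_dvd_card _ _
  rw [h] at hd
  have e : p = Nat.card W₂ := (Nat.prime_dvd_prime_iff_eq s.fac.prime hp).mp hd
  refine ⟨e, hp, ?_⟩
  rw [← Subgroup.inf_relIndex_right] at h
  have h2 := card_mul_relIndex_of_le (inf_le_right : H₀ ⊓ W₂ ≤ W₂)
  rw [h, e] at h2
  exact Subgroup.card_eq_one.mp (Nat.eq_of_mul_eq_mul_right Nat.card_pos (by rw [h2, one_mul]))

include I in
theorem p_ge : 3 ≤ p := by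
  obtain ⟨e, hp, -⟩ := s.prime_eq I
  rw [e]
  exact three_le_of_odd hp (minSimple_odd I.simple W₂)

include I in
theorem q_ge : 3 ≤ Nat.card W₁ := three_le_of_odd s.kind.W₁_prime (minSimple_odd I.simple W₁)

include I in
theorem p_ne_q : p ≠ Nat.card W₁ := by
  obtain ⟨e, hp, -⟩ := s.prime_eq I
  intro hq
  exact hp.ne_one (Nat.eq_one_of_dvd_coprimes (TypeP.coprime_core_W₁ s.data)
    (Subgroup.card_dvd_of_le (TypeP.W₂_le_core s.data)) (by rw [← hq, e]))

include I in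
theorem big : 4 * Nat.card W₁ ^ 2 + 1 < H₀.relIndex H := by
  rw [s.card_factor]
  exact sq_bound (s.p_ge I) (s.q_ge I) (s.p_ne_q I)

include I in
theorem solvable_K : Group.IsSolvable ↥(((⁅M, M⁆ : Subgroup G).subgroupOf M)) := by
  haveI := minSimple_solvable I.simple s.max.1
  infer_instance

theorem calS_derived : calS M ⁅M, M⁆ ⊥ = Cfsg.inducedIrrAbove ((⁅M, M⁆ : Subgroup G).subgroupOf M) (⊥ : Subgroup ↥M) := by
  have e : (⊥ : Subgroup G).subgroupOf M = ⊥ := Subgroup.bot_subgroupOf M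
  rw [calS, seqInd, e, sdiff_eq_left, Set.disjoint_left]
  rintro φ - hφ
  obtain ⟨θ, hθ, h1, h2, -⟩ := hφ
  refine h1 (funext fun a => ?_)
  have hd : natDeg θ = 1 := natDeg_eq_one hθ fun a b => h2 _ (a * b * a⁻¹ * b⁻¹).2
  rw [h2 a a.2, natDeg_spec (CfsgLib.Characters.isCharacter_of_irr hθ), hd, Nat.cast_one]

include I in
theorem exists_sys : ∃ R : (↥M → ℂ) → Finset (G → ℂ),
    Cfsg.IsCoherenceSystem (Cfsg.inducedIrrAbove ((⁅M, M⁆ : Subgroup G).subgroupOf M) (⊥ : Subgroup ↥M)) (tau M) R := by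
  obtain ⟨μ, δ, η, hd⟩ := I.tiData M W₁ U W₂ s.max s.data
  obtain ⟨R, hR, -, -⟩ := I.subcoherent M W₁ U W₂ s.max s.data μ δ η hd
  rw [s.typeCore_eq I.kinds, s.calS_derived] at hR
  exact ⟨R, hR⟩

include I in
theorem not_coherent_bot :
    ¬ Cfsg.IsCoherent (Cfsg.inducedIrrAbove ((⁅M, M⁆ : Subgroup G).subgroupOf M) (⊥ : Subgroup ↥M)) {1}ᶜ (tau M) := by
  rw [← s.calS_derived]
  exact I.noncoherent M W₁ U W₂ s.max (Or.inl s.kind)

theorem HC_nilpotent_quot (hn : (H₀.subgroupOf M).subgroupOf ((H ⊔ C).subgroupOf M) |>.Normal) :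
    Group.IsNilpotent (↥((H ⊔ C).subgroupOf M) ⧸
      (H₀.subgroupOf M).subgroupOf ((H ⊔ C).subgroupOf M)) := by
  haveI := hn
  haveI : Group.IsNilpotent H := fittingHallOf_isNilpotent M
  haveI : Group.IsNilpotent C :=
    haveI := s.data.U_nilpotent
    Group.nilpotent_of_mulEquiv (Subgroup.subgroupOfEquivOfLe s.C_le)
  set X := (H ⊔ C).subgroupOf M
  set N := (H₀.subgroupOf M).subgroupOf X
  let iH : H →* X := (Subgroup.subgroupOfEquivOfLe (sup_le s.H_le_M s.C_le_M)).symm.toMonoidHom.comp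
    (Subgroup.inclusion le_sup_left)
  let iC : C →* X := (Subgroup.subgroupOfEquivOfLe (sup_le s.H_le_M s.C_le_M)).symm.toMonoidHom.comp
    (Subgroup.inclusion le_sup_right)
  have hc : ∀ (h : H) (c : C),
      Commute (((QuotientGroup.mk' N).comp iH) h) (((QuotientGroup.mk' N).comp iC) c) := by
    intro h c
    have h1 : ((c : G) * h * (c : G)⁻¹ * (h : G)⁻¹) ∈ H₀ :=
      ((s.fac.mem_C c).mp c.2).2 h h.2
    have h2 : iC c * iH h * (iC c)⁻¹ * (iH h)⁻¹ ∈ N := h1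
    show (iH h : X ⧸ N) * (iC c : X ⧸ N) = (iC c : X ⧸ N) * (iH h : X ⧸ N)
    have h3 := (QuotientGroup.eq_one_iff _).mpr h2
    simp only [QuotientGroup.mk_mul, QuotientGroup.mk_inv] at h3
    calc _ = ((iC c : X ⧸ N) * (iH h : X ⧸ N) * (iC c : X ⧸ N)⁻¹ * (iH h : X ⧸ N)⁻¹) *
          ((iH h : X ⧸ N) * (iC c : X ⧸ N)) := by rw [h3, one_mul]
      _ = _ := by group
  let f : H × C →* X ⧸ N :=
    ((QuotientGroup.mk' N).comp iH).noncommCoprod ((QuotientGroup.mk' N).comp iC) hc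
  refine Group.nilpotent_of_surjective f fun x => ?_
  obtain ⟨⟨⟨x, hxM⟩, hx⟩, rfl⟩ := QuotientGroup.mk_surjective x
  have hx' : x ∈ ((H ⊔ C : Subgroup G) : Set G) := hx
  rw [Subgroup.coe_mul_of_right_le_normalizer_left H C
    (s.C_le.trans (TypeP.U_normalizes_core s.data))] at hx'
  obtain ⟨h, hh, c, hc', e⟩ := hx'
  refine ⟨(⟨h, hh⟩, ⟨c, hc'⟩), ?_⟩
  show (iH ⟨h, hh⟩ : X ⧸ N) * (iC ⟨c, hc'⟩ : X ⧸ N) = _
  rw [← QuotientGroup.mk_mul]
  congr 1
  exact Subtype.ext (Subtype.ext e)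

include I in
/-- PF (11.3). -/
theorem not_coherent_H₀C' :
    ¬ Cfsg.IsCoherent (Cfsg.inducedIrrAbove ((⁅M, M⁆ : Subgroup G).subgroupOf M) ((H₀ ⊔ ⁅C, C⁆).subgroupOf M)) {1}ᶜ (tau M) := by
  intro hcoh
  obtain ⟨R, hR⟩ := s.exists_sys I
  haveI : (H₀.subgroupOf M).Normal := subgroupOf_normal s.fac.normal
  haveI : ((H₀ ⊔ ⁅C, C⁆).subgroupOf M).Normal := subgroupOf_normal s.H₀C'_normal
  haveI : ((H ⊔ C).subgroupOf M).Normal := subgroupOf_normal s.HC_normal
  haveI : (H).subgroupOf M |>.Normal := subgroupOf_normal (fittingHallOf_normal M)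
  have hle : H₀ ⊔ ⁅C, C⁆ ≤ H ⊔ C := sup_le_sup s.H₀_le s.derived_C_le
  have hsub : ∀ {A B : Subgroup G}, A ≤ B → A.subgroupOf M ≤ B.subgroupOf M := fun h _ hx => h hx
  have hrel : ∀ {A B : Subgroup G}, B ≤ M → (A.subgroupOf M).relIndex (B.subgroupOf M) = A.relIndex B :=
    fun h => Subgroup.relIndex_subgroupOf h
  have hbig : ∀ {A B : Subgroup G}, B ≤ M → H₀.relIndex H ≤ A.relIndex B →
      4 * (((⁅M, M⁆ : Subgroup G).subgroupOf M)).index ^ 2 + 1 < (A.subgroupOf M).relIndex (B.subgroupOf M) := fun h h' => by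
    rw [hrel h, s.index_K]
    exact lt_of_lt_of_le (s.big I) h'
  haveI : ((H₀.subgroupOf M).subgroupOf ((H ⊔ C).subgroupOf M)).Normal := inferInstance
  have h1 := Cfsg.Agent.S1520.result ((⁅M, M⁆ : Subgroup G).subgroupOf M) (s.solvable_K I) (tau M) R hR (H₀.subgroupOf M)
    ((H₀ ⊔ ⁅C, C⁆).subgroupOf M) ((H ⊔ C).subgroupOf M) (hsub le_sup_left) (hsub hle) (hsub s.HC_le)
    (s.HC_nilpotent_quot inferInstance) hcoh (hbig (sup_le s.H_le_M s.C_le_M) (by
      have e : (H₀ ⊔ ⁅C, C⁆).relIndex H = H₀.relIndex H := by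
        rw [← Subgroup.inf_relIndex_right, ← Subgroup.inf_relIndex_right H₀]
        congr 1
        exact le_antisymm (le_inf (fun x hx => s.mem_H₀ s.derived_C_le hx.1 hx.2) inf_le_right)
          (inf_le_inf_right _ le_sup_left)
      rw [← e]
      exact Subgroup.relIndex_le_of_le_right le_sup_left Subgroup.index_ne_zero_of_finite))
  haveI : Group.IsNilpotent ↥((H).subgroupOf M) := by
    haveI := fittingHallOf_isNilpotent M
    exact Group.nilpotent_of_mulEquiv (Subgroup.subgroupOfEquivOfLe s.H_le_M).symm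
  exact s.not_coherent_bot I (Cfsg.Agent.S1520.result ((⁅M, M⁆ : Subgroup G).subgroupOf M) (s.solvable_K I) (tau M) R hR ⊥
    (H₀.subgroupOf M) ((H).subgroupOf M) bot_le (hsub s.H₀_le) (hsub (TypeP.core_le_derived s.data))
    inferInstance h1 (hbig s.H_le_M le_rfl))

include I in
/-- PF (11.4). -/
theorem bound {A : Subgroup G} (hAn : M ≤ Subgroup.normalizer (A : Set G)) (hA : A < ⁅M, M⁆)
    (hcoh : Cfsg.IsCoherent (Cfsg.inducedIrrAbove ((⁅M, M⁆ : Subgroup G).subgroupOf M) (A.subgroupOf M)) {1}ᶜ (tau M)) :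
    A.relIndex ⁅M, M⁆ - 1 ≤ 2 * Nat.card W₁ * C.relIndex U := by
  obtain ⟨R, hR⟩ := s.exists_sys I
  haveI : (A.subgroupOf M).Normal := subgroupOf_normal hAn
  haveI : ((H₀ ⊔ ⁅C, C⁆).subgroupOf M).Normal := subgroupOf_normal s.H₀C'_normal
  haveI : ((H ⊔ C).subgroupOf M).Normal := subgroupOf_normal s.HC_normal
  have hdM : ⁅M, M⁆ ≤ M := Subgroup.commutator_le_self M
  have hlt : ∀ {B : Subgroup G}, B < ⁅M, M⁆ → B.subgroupOf M < ((⁅M, M⁆ : Subgroup G).subgroupOf M) := fun {B} hB =>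
    lt_of_le_of_ne (fun _ hx => hB.le hx) fun e =>
      hB.ne (by rw [← Subgroup.map_subgroupOf_eq_of_le (hB.le.trans hdM), e,
        Subgroup.map_subgroupOf_eq_of_le hdM])
  by_contra hcon
  refine s.not_coherent_H₀C' I (Cfsg.Agent.S1519.result ((⁅M, M⁆ : Subgroup G).subgroupOf M) (s.solvable_K I) (tau M) R hR
    (A.subgroupOf M) ((H₀ ⊔ ⁅C, C⁆).subgroupOf M) ((H ⊔ C).subgroupOf M) ((H ⊔ C).subgroupOf M)
    (hlt hA) (hlt (lt_of_le_of_lt (sup_le_sup s.H₀_le s.derived_C_le) s.HC_lt))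
    (fun _ hx => (sup_le_sup s.H₀_le s.derived_C_le) hx) le_rfl (fun _ hx => s.HC_le hx)
    (fun x hx y hy => ?_) hcoh ?_)
  · show ((x : G) * y * (x : G)⁻¹ * (y : G)⁻¹) ∈ H₀ ⊔ ⁅C, C⁆
    exact s.HC_comm_le (Subgroup.commutator_mem_commutator hx hy)
  · have e : ((H ⊔ C).subgroupOf M).index = Nat.card W₁ * C.relIndex U := by
      have := Subgroup.relIndex_mul_relIndex (H ⊔ C) ⁅M, M⁆ M s.HC_le hdM
      rw [s.HC_relIndex] at this
      rw [← s.index_K, mul_comm]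
      exact this.symm
    rw [e, Subgroup.relIndex_self, mul_one, Subgroup.relIndex_subgroupOf hdM,
      show 4 * (Nat.card W₁ * C.relIndex U) ^ 2 = (2 * Nat.card W₁ * C.relIndex U) ^ 2 by ring]
    exact Nat.pow_lt_pow_left (not_le.mp hcon) two_ne_zero

end Setup

end CfsgLib.PF.Sec11
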