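import Cfsg.Agent.Lib.PF.Sec11Extend
import Cfsg.Agent.Lib.PF.Props9

/-!
# Peterfalvi (11.8): the first case makes `S(C')` coherent, hence does not occur
-/

set_option autoImplicit false
set_option linter.unusedSectionVars false
set_option linter.style.haveILetI false

namespace CfsgLib.PF.Sec11

open Finset CfsgLib.Characters CfsgLib.OddChar CfsgLib.OddOrder CfsgLib.Clifford
open scoped Classical ComplexConjugate

universe u

variable {G : Type u} [Group G] [Fintype G]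

/-- The characters nontrivial on `M_F` and trivial on `C'`. -/
noncomputable abbrev coreSet (M C : Subgroup G) : Set (↥M → ℂ) :=
  calS M (Cfsg.fittingHallOf M) ⁅C, C⁆

/-- The kernel of an irreducible character as a subgroup. -/
theorem exists_kernel {X : Type*} [Group X] [Finite X] {θ : X → ℂ} (hθ : Cfsg.IsIrrCharacter X θ) :
    ∃ N : Subgroup X, ∀ x, x ∈ N ↔ θ x = θ 1 := by
  obtain ⟨n, ρ, -, rfl⟩ := hθ
  refine ⟨ρ.toHomUnits.ker, fun x => ?_⟩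
  rw [MonoidHom.mem_ker, Units.ext_iff, Representation.char_one, char_eq_degree_iff]
  rfl

namespace Ctx

variable {M W₁ U W₂ C : Subgroup G} {p : ℕ} {μ : (↥(W₁ ⊔ W₂) →* ℂˣ) → (↥M → ℂ)}
  {δ : (↥(W₁ ⊔ W₂) →* ℂˣ) → ℂ} {η : (↥(W₁ ⊔ W₂) →* ℂˣ) → (G → ℂ)}
  (c : Ctx M W₁ U W₂ C p μ δ η)

include c

theorem coreSet_sub {χ : ↥M → ℂ} (hχ : χ ∈ coreSet M C) : χ ∈ calS M (Cfsg.typeCore M) ⊥ := by
  rw [c.s.typeCore_eq c.I.kinds, c.s.calS_derived]
  exact indAbove_subset_bot _ _ hχ.1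

theorem coreSet_conj {χ : ↥M → ℂ} (hχ : χ ∈ coreSet M C) : Cfsg.conjFun χ ∈ coreSet M C :=
  ⟨indAbove_conj _ _ hχ.1, fun h => hχ.2 (by
    have := indAbove_conj _ _ h
    rwa [CfsgLib.OddChar.conjFun_conjFun] at this)⟩

theorem coreSet_ne {χ ζ : ↥M → ℂ} (hχ : χ ∈ coreSet M C) (hζ : ζ ∈ degQ M C) : χ ≠ ζ := fun e =>
  hχ.2 (e ▸ indAbove_mono ((⁅M, M⁆ : Subgroup G).subgroupOf M)
    (fun _ hx => (Subgroup.mem_sup_left hx : _ ∈ Cfsg.fittingHallOf M ⊔ C)) hζ)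

theorem red_mem_coreSet {ω : ↥(W₁ ⊔ W₂) →* ℂˣ} (hω : ¬ AgreeR W₁ W₂ ω 1) :
    red M μ ω ∈ coreSet M C := by
  have h := ((c.redP M W₁ U W₂ ⊥ C p c.s.max (Or.inr c.s.kind) c.s.fac).2 _ (c.red_mem hω)
    (c.red_not_irr ω)).1
  exact ⟨indAbove_mono _ (Subgroup.comap_mono
    ((Subgroup.commutator_le_self C).trans le_sup_right)) h.1, h.2⟩

theorem coreSet_cases {χ : ↥M → ℂ} (hχ : χ ∈ coreSet M C) :
    Cfsg.IsIrrCharacter ↥M χ ∨ ∃ ω, ¬ AgreeR W₁ W₂ ω 1 ∧ χ = red M μ ω :=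
  mem_calS_cases c.ti hχ

theorem red_inj {ω ω' : ↥(W₁ ⊔ W₂) →* ℂˣ} (e : red M μ ω = red M μ ω') : AgreeR W₁ W₂ ω ω' := by
  by_contra hne
  have h := congrArg (fun f => Cfsg.classInner f (μ ω')) e
  simp only [c.ti.classInner_red_μ c.hW, if_neg hne, if_pos (AgreeR.refl ω')] at h
  exact zero_ne_one h

theorem exists_column : ∃ ω : ↥(W₁ ⊔ W₂) →* ℂˣ, ¬ AgreeR W₁ W₂ ω 1 := by
  obtain ⟨-, hp, -⟩ := c.s.prime_eq c.I
  haveI := finite_linChar c.hW
  haveI : Nontrivial {ψ : ↥(W₁ ⊔ W₂) →* ℂˣ // TrivL ψ} :=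
    Finite.one_lt_card_iff_nontrivial.mp (by rw [card_trivL c.hW]; exact hp.one_lt)
  obtain ⟨⟨ψ, hψ⟩, hne⟩ := exists_ne (⟨1, fun _ _ => rfl⟩ : {ψ : ↥(W₁ ⊔ W₂) →* ℂˣ // TrivL ψ})
  exact ⟨ψ, c.not_one_of_trivL hψ fun e => hne (Subtype.ext e)⟩

/-- In the first case `S(M'') ∪ S(H, C')` is coherent. -/
theorem union_coherent (hA : FirstCase M W₁ W₂ C μ η)
    (hS₂ : Cfsg.IsCoherent (coreSet M C) ({1}ᶜ : Set ↥M) (tau M)) :
    Cfsg.IsCoherent (degQ M C ∪ coreSet M C) ({1}ᶜ : Set ↥M) (tau M) := by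
  have hW := c.hW
  set q := Nat.card W₁ with hq
  set u := C.relIndex U with hu
  have hu0 : (u : ℂ) ≠ 0 := Nat.cast_ne_zero.mpr (by have := c.s.one_lt_u; omega)
  have hq0 : (q : ℂ) ≠ 0 := Nat.cast_ne_zero.mpr Nat.card_pos.ne'
  obtain ⟨R, hR, hirr, hred⟩ := c.I.subcoherent M W₁ U W₂ c.s.max c.data μ δ η c.ti
  obtain ⟨-, τ₂, hτ₂, hext⟩ := hS₂
  have hc : CoherentPart M W₁ W₂ μ δ η R (coreSet M C) τ₂ :=
    ⟨hR, hirr, hred, fun χ h => c.coreSet_sub h, fun χ h => c.coreSet_conj h, hτ₂, hext⟩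
  obtain ⟨ζ₀, hζ₀⟩ := c.exists_ζ
  have horth : ∀ χ ∈ coreSet M C, ∀ ζ ∈ degQ M C,
      Cfsg.classInner (τ₂ χ) (img M μ η ζ) = 0 := by
    intro χ hχ ζ hζ
    rw [extension_mem_R hR (fun χ h => c.coreSet_sub h) (fun χ h => c.coreSet_conj h) hτ₂ hext hχ]
    refine classInner_orthProj_zero fun α hα => ?_
    exact hR.disjoint ζ (c.ζ_mem_S hζ) χ (c.coreSet_sub hχ)
      (hR.orthogonal χ (c.coreSet_sub hχ) ζ (c.ζ_mem_S hζ) (c.coreSet_ne hχ hζ))
      (hR.orthogonal χ (c.coreSet_sub hχ) _ (c.ζ_mem_S (c.ζ_conj hζ))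
        (c.coreSet_ne hχ (c.ζ_conj hζ))) α hα _ (c.img_mem_R hA hR hζ)
  let v₂ : (↥M → ℂ) → (G → ℂ) := fun χ =>
    if h : ∃ ω, ¬ AgreeR W₁ W₂ ω 1 ∧ χ = red M μ ω then colSum η h.choose else τ₂ χ
  have hv₂red : ∀ ω, ¬ AgreeR W₁ W₂ ω 1 → v₂ (red M μ ω) = colSum η ω := by
    intro ω hω
    have h : ∃ ω', ¬ AgreeR W₁ W₂ ω' 1 ∧ red M μ ω = red M μ ω' := ⟨ω, hω, rfl⟩
    show dite _ _ _ = _
    rw [dif_pos h]
    exact colSum_congr (c.red_inj h.choose_spec.2).symm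
  have hv₂irr : ∀ χ, Cfsg.IsIrrCharacter ↥M χ → v₂ χ = τ₂ χ := fun χ hi => by
    show dite _ _ _ = _
    rw [dif_neg]
    rintro ⟨ω, -, rfl⟩
    exact c.red_not_irr ω hi
  -- the images of the columns under the given extension
  have hτred : ∀ ω, ¬ AgreeR W₁ W₂ ω 1 →
      (∃ χ ∈ coreSet M C, χ ≠ red M μ ω ∧ χ ≠ red M μ ω⁻¹) → τ₂ (red M μ ω) = colSum η ω := by
    rintro ω hω ⟨χ, hχ, hne1, hne2⟩
    have hr := c.red_mem_coreSet hω
    obtain ⟨b, hb⟩ := exists_degree (hR.isCharacter _ (c.coreSet_sub hχ))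
    have hb0 : (b : ℂ) ≠ 0 := by
      intro e
      refine sys_ne_zero hR (c.coreSet_sub hχ) (CfsgLib.NormalAvg.eq_zero_of_degree_zero
        (hR.isCharacter _ (c.coreSet_sub hχ)) (by rw [hb, e]))
    set α := (b : ℤ) • red M μ ω - ((q * u : ℕ) : ℤ) • χ with hα
    have hαT : α ∈ Cfsg.zspanOn (coreSet M C) {1}ᶜ := zspanOn_map hr hχ _ _ (by
      rw [c.red_one_apply hω, hb, ← hq, ← hu]; push_cast; ring)
    set β := (1 : ℤ) • red M μ ω - (u : ℤ) • ζ₀ with hβ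
    have hβS : β ∈ Cfsg.zspanOn (calS M (Cfsg.typeCore M) ⊥) {1}ᶜ :=
      zspanOn_map (c.coreSet_sub hr) (c.ζ_mem_S hζ₀) _ _ (by
        rw [c.red_one_apply hω, c.ζ_one hζ₀, ← hq, ← hu]; push_cast; ring)
    have hαS : α ∈ Cfsg.zspanOn (calS M (Cfsg.typeCore M) ⊥) {1}ᶜ :=
      zspanOn_mono (fun χ h => c.coreSet_sub h) _ hαT
    have e := hR.isometry.2.2.1 α hαS β hβS
    have hτα : tau M α = (b : ℂ) • τ₂ (red M μ ω) - ((q * u : ℕ) : ℂ) • τ₂ χ := by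
      rw [← hext α hαT, hα,
        isometry_sub hτ₂ (zspan_zsmul _ (zspan_of_mem hr)) (zspan_zsmul _ (zspan_of_mem hχ)) hαT.1,
        hτ₂.2.1 _ (zspan_of_mem hr), hτ₂.2.1 _ (zspan_of_mem hχ), CfsgLib.OddChar.zsmul_eq_smul,
        CfsgLib.OddChar.zsmul_eq_smul, Int.cast_natCast, Int.cast_natCast]
    have hτβ : tau M β = colSum η ω - (u : ℂ) • img M μ η ζ₀ := by
      rw [hβ, one_zsmul, CfsgLib.OddChar.zsmul_eq_smul, Int.cast_natCast]
      exact c.tau_column hA hζ₀ hω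
    have hχcol : Cfsg.classInner (τ₂ χ) (colSum η ω) = 0 := by
      rw [c.inner_colSum _ ω (z := 0) fun ν hν => hc.inner_tau1_zero c.ti hχ fun ω' _ e' =>
        ⟨fun h => hne1 (by rw [e', red, red, c.ti.res_eq _ _ (h.trans hν.symm)]), fun h => hne2 (by
          have h2 := (h.trans hν.symm).inv
          rw [linInv] at h2
          rw [e', red, red, c.ti.res_eq _ _ h2])⟩, mul_zero]
    rw [hτα, hτβ] at e
    simp only [classInner_sub_left, classInner_sub_right, classInner_smul_left, classInner_smul_right,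
      map_natCast, horth _ hr ζ₀ hζ₀, horth _ hχ ζ₀ hζ₀, hχcol, mul_zero, sub_zero] at e
    have hrhs : Cfsg.classInner α β = (b : ℂ) * q := by
      simp only [hα, hβ, one_zsmul, CfsgLib.OddChar.zsmul_eq_smul, Int.cast_natCast,
        classInner_sub_left, classInner_sub_right, classInner_smul_left, classInner_smul_right,
        map_natCast, c.ti.classInner_red_red hW, if_pos (AgreeR.refl ω), (c.ζ_red hζ₀ ω).2,
        hR.orthogonal χ (c.coreSet_sub hχ) _ (c.coreSet_sub hr) hne1,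
        hR.orthogonal χ (c.coreSet_sub hχ) ζ₀ (c.ζ_mem_S hζ₀) (c.coreSet_ne hχ hζ₀),
        mul_zero, sub_zero, ← hq]
    rw [hrhs] at e
    have hfc : Cfsg.classInner (τ₂ (red M μ ω)) (colSum η ω) = (q : ℂ) := mul_left_cancel₀ hb0 e
    refine sub_eq_zero.mp (eq_zero_of_classInner_self ?_)
    rw [classInner_sub_left, classInner_sub_right, classInner_sub_right, hfc,
      classInner_conj_symm (τ₂ (red M μ ω)) (colSum η ω), hfc,
      hτ₂.2.2.1 _ (zspan_of_mem hr) _ (zspan_of_mem hr), c.ti.classInner_red_red hW,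
      c.ti.classInner_colSum_colSum hW, if_pos (AgreeR.refl ω), map_natCast, ← hq]
    ring
  -- properties of `v₂`
  have hv₂gen : ∀ χ ∈ coreSet M C, Cfsg.IsGeneralizedCharacter G (v₂ χ) := by
    intro χ hχ
    rcases c.coreSet_cases hχ with hi | ⟨ω, hω, rfl⟩
    · rw [hv₂irr χ hi]; exact hτ₂.2.2.2 χ (zspan_of_mem hχ)
    · rw [hv₂red ω hω]; exact c.gen_colSum ω
  have hv₂img : ∀ χ ∈ coreSet M C, ∀ ζ ∈ degQ M C,
      Cfsg.classInner (v₂ χ) (img M μ η ζ) = 0 := by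
    intro χ hχ ζ hζ
    rcases c.coreSet_cases hχ with hi | ⟨ω, hω, rfl⟩
    · rw [hv₂irr χ hi]; exact horth χ hχ ζ hζ
    · rw [hv₂red ω hω, classInner_conj_symm (img M μ η ζ) (colSum η ω),
        c.inner_colSum _ ω (z := 0) fun ν _ => c.img_η hA hζ ν, mul_zero, map_zero]
  have hother : ∀ χ ∈ coreSet M C, Cfsg.IsIrrCharacter ↥M χ → ∀ ω, ¬ AgreeR W₁ W₂ ω 1 →
      τ₂ (red M μ ω) = colSum η ω := fun χ hχ hi ω hω =>
    hτred ω hω ⟨χ, hχ, fun e => c.red_not_irr ω (e ▸ hi), fun e => c.red_not_irr ω⁻¹ (e ▸ hi)⟩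
  have hv₂gram : ∀ χ ∈ coreSet M C, ∀ χ' ∈ coreSet M C,
      Cfsg.classInner (v₂ χ) (v₂ χ') = Cfsg.classInner χ χ' := by
    intro χ hχ χ' hχ'
    by_cases hex : ∃ φ ∈ coreSet M C, Cfsg.IsIrrCharacter ↥M φ
    · obtain ⟨φ, hφ, hφi⟩ := hex
      have key : ∀ ψ ∈ coreSet M C, v₂ ψ = τ₂ ψ := fun ψ hψ => by
        rcases c.coreSet_cases hψ with hi | ⟨ω, hω, rfl⟩
        · exact hv₂irr ψ hi
        · rw [hv₂red ω hω, hother φ hφ hφi ω hω]
      rw [key χ hχ, key χ' hχ']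
      exact hτ₂.2.2.1 _ (zspan_of_mem hχ) _ (zspan_of_mem hχ')
    · push Not at hex
      obtain ⟨ω, hω, rfl⟩ := (c.coreSet_cases hχ).resolve_left (hex χ hχ)
      obtain ⟨ω', hω', rfl⟩ := (c.coreSet_cases hχ').resolve_left (hex χ' hχ')
      rw [hv₂red ω hω, hv₂red ω' hω', c.ti.classInner_colSum_colSum hW, c.ti.classInner_red_red hW]
  -- coherence from the images
  set K := (⁅M, M⁆ : Subgroup G).subgroupOf M with hK
  set S₁ := indAboveFinset K ((Cfsg.fittingHallOf M ⊔ C).subgroupOf M) with hS₁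
  set S₂ := (indAboveFinset K ((⁅C, C⁆ : Subgroup G).subgroupOf M)).filter
    fun χ => χ ∉ Cfsg.inducedIrrAbove K ((Cfsg.fittingHallOf M).subgroupOf M) with hS₂
  have e₁ : ∀ χ, χ ∈ S₁ ↔ χ ∈ degQ M C := fun χ => by
    rw [hS₁, ← Finset.mem_coe, coe_indAboveFinset]
  have e₂ : ∀ χ, χ ∈ S₂ ↔ χ ∈ coreSet M C := fun χ => by
    rw [hS₂, Finset.mem_filter, ← Finset.mem_coe, coe_indAboveFinset]
    rfl
  have eU : (↑(S₁ ∪ S₂) : Set (↥M → ℂ)) = degQ M C ∪ coreSet M C := by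
    ext χ
    simp only [Finset.coe_union, Set.mem_union, Finset.mem_coe, e₁, e₂]
  have hsub : (↑(S₁ ∪ S₂) : Set (↥M → ℂ)) ⊆ calS M (Cfsg.typeCore M) ⊥ := by
    rw [eU]
    rintro χ (h | h)
    exacts [c.ζ_mem_S h, c.coreSet_sub h]
  let v : (↥M → ℂ) → (G → ℂ) := fun χ => if χ ∈ degQ M C then img M μ η χ else v₂ χ
  have hv1 : ∀ χ ∈ degQ M C, v χ = img M μ η χ := fun χ h => if_pos h
  have hv2 : ∀ χ ∈ coreSet M C, v χ = v₂ χ := fun χ h => if_neg fun h' => c.coreSet_ne h h' rfl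
  have hmem : ∀ χ ∈ S₁ ∪ S₂, χ ∈ degQ M C ∨ χ ∈ coreSet M C := fun χ h =>
    (Finset.mem_union.mp h).imp (e₁ χ).mp (e₂ χ).mp
  rw [← eU]
  refine coherent_of_images (S₁ ∪ S₂) v
    (fun φ h ψ h' => hR.orthogonal φ (hsub h) ψ (hsub h'))
    (fun φ h => sys_norm_ne_zero hR (hsub h)) (fun φ h => ?_) (fun φ h ψ h' => ?_)
    (fun φ => (natDeg φ : ℤ)) (fun φ h => ?_) ζ₀ (Finset.mem_union_left _ ((e₁ ζ₀).mpr hζ₀)) ?_
    (isometry_mono hR.isometry (zspanOn_mono hsub _)) (fun φ h => ?_) ?_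
  · rcases hmem φ h with h | h
    · rw [hv1 φ h]; exact c.img_gen hζ₀ |> fun _ => c.img_gen h
    · rw [hv2 φ h]; exact hv₂gen φ h
  · rcases hmem φ h with h | h <;> rcases hmem ψ h' with h' | h'
    · rw [hv1 φ h, hv1 ψ h', c.img_inner hA h h']
      by_cases e : φ = ψ
      · rw [if_pos e, e, classInner_irr_self (c.ζ_irr h')]
      · rw [if_neg e, classInner_irr_ne (c.ζ_irr h) (c.ζ_irr h') e]
    · rw [hv1 φ h, hv2 ψ h', classInner_conj_symm (v₂ ψ) (img M μ η φ), hv₂img ψ h' φ h, map_zero,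
        hR.orthogonal φ (c.ζ_mem_S h) ψ (c.coreSet_sub h') (c.coreSet_ne h' h).symm]
    · rw [hv2 φ h, hv1 ψ h', hv₂img φ h ψ h',
        hR.orthogonal φ (c.coreSet_sub h) ψ (c.ζ_mem_S h') (c.coreSet_ne h h')]
    · rw [hv2 φ h, hv2 ψ h', hv₂gram φ h ψ h']
  · rw [natDeg_spec (hR.isCharacter φ (hsub h))]
    push_cast
    rfl
  · have := natDeg_spec (hR.isCharacter ζ₀ (c.ζ_mem_S hζ₀))
    rw [c.ζ_one hζ₀] at this
    intro h0
    have h0' : natDeg ζ₀ = 0 := by exact_mod_cast h0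
    rw [h0', Nat.cast_zero] at this
    exact hq0 this
  · have hd₀ : (natDeg ζ₀ : ℂ) = (q : ℂ) :=
      (natDeg_spec (hR.isCharacter ζ₀ (c.ζ_mem_S hζ₀))).symm.trans (c.ζ_one hζ₀)
    simp only [CfsgLib.OddChar.zsmul_eq_smul, Int.cast_natCast, c.tau_sub, c.tau_smul, hd₀,
      hv1 ζ₀ hζ₀]
    rcases hmem φ h with h | h
    · have hdφ : (natDeg φ : ℂ) = (q : ℂ) :=
        (natDeg_spec (hR.isCharacter φ (c.ζ_mem_S h))).symm.trans (c.ζ_one h)
      rw [hdφ, hv1 φ h, ← smul_sub, ← smul_sub, ← c.tau_sub, c.img_sub hA]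
    · rw [hv2 φ h]
      rcases c.coreSet_cases h with hi | ⟨ω, hω, rfl⟩
      · obtain ⟨ω, hω⟩ := c.exists_column
        have hr := c.red_mem_coreSet hω
        have hcol := hother φ h hi ω hω
        obtain ⟨b, hb⟩ := exists_degree (hR.isCharacter _ (c.coreSet_sub h))
        have hdφ : (natDeg φ : ℂ) = (b : ℂ) :=
          (natDeg_spec (hR.isCharacter φ (c.coreSet_sub h))).symm.trans hb
        have hαT : ((q * u : ℕ) : ℤ) • φ - (b : ℤ) • red M μ ω ∈ Cfsg.zspanOn (coreSet M C) {1}ᶜ :=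
          zspanOn_map h hr _ _ (by rw [hb, c.red_one_apply hω, ← hq, ← hu]; push_cast; ring)
        have e := hext _ hαT
        rw [isometry_sub hτ₂ (zspan_zsmul _ (zspan_of_mem h)) (zspan_zsmul _ (zspan_of_mem hr)) hαT.1,
          hτ₂.2.1 _ (zspan_of_mem h), hτ₂.2.1 _ (zspan_of_mem hr), hcol] at e
        simp only [CfsgLib.OddChar.zsmul_eq_smul, Int.cast_natCast, Int.cast_mul, c.tau_sub, c.tau_smul,
          Nat.cast_mul] at e
        have e' := c.tau_column hA hζ₀ hω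
        rw [c.tau_sub, c.tau_smul, ← hu] at e'
        rw [hdφ, hv₂irr φ hi]
        funext x
        have ex := congrFun e x
        have ex' := congrFun e' x
        simp only [Pi.sub_apply, Pi.smul_apply, smul_eq_mul] at ex ex' ⊢
        refine mul_left_cancel₀ hu0 ?_
        linear_combination (b : ℂ) * ex' - ex
      · have hdφ : (natDeg (red M μ ω) : ℂ) = (q : ℂ) * (u : ℂ) :=
          (natDeg_spec (hR.isCharacter _ (c.coreSet_sub h))).symm.trans (c.red_one_apply hω)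
        have e' := c.tau_column hA hζ₀ hω
        rw [c.tau_sub, c.tau_smul, ← hu] at e'
        rw [hdφ, hv₂red ω hω]
        funext x
        have ex' := congrFun e' x
        simp only [Pi.sub_apply, Pi.smul_apply, smul_eq_mul] at ex' ⊢
        linear_combination (q : ℂ) * ex'
  · exact sys_nonzero_zspanOn hR (c.ζ_mem_S hζ₀) (Finset.mem_coe.mpr
      (Finset.mem_union_left _ ((e₁ ζ₀).mpr hζ₀))) (Finset.mem_coe.mpr
      (Finset.mem_union_left _ ((e₁ _).mpr (c.ζ_conj hζ₀))))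

/-- (11.8): the first case does not occur. -/
theorem first_case_false (hA : FirstCase M W₁ W₂ C μ η) (hCC : PropCoreCoherence G) : False := by
  have hS₂ := hCC M W₁ U W₂ ⊥ C p c.s.max (Or.inr c.s.kind) c.s.fac
  rw [bot_sup_eq] at hS₂
  have hU := c.union_coherent hA hS₂
  obtain ⟨R, hR⟩ := c.s.exists_sys c.I
  obtain ⟨ζ₀, hζ₀⟩ := c.exists_ζ
  set H := Cfsg.fittingHallOf M with hH
  set K := (⁅M, M⁆ : Subgroup G).subgroupOf M with hK
  set A := (⁅C, C⁆ : Subgroup G).subgroupOf M with hA₁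
  set B := (H ⊔ ⁅C, C⁆).subgroupOf M with hB₁
  set S₁ := indAboveFinset K ((H ⊔ C).subgroupOf M) with hS₁
  set T := indAboveFinset K A with hT
  set S₂ := T.filter fun χ => χ ∉ Cfsg.inducedIrrAbove K (H.subgroupOf M) with hS₂'
  set X := indAboveFinset K B with hX
  have hdM : ⁅M, M⁆ ≤ M := Subgroup.commutator_le_self M
  haveI hAn : A.Normal := by
    have := c.s.H₀C'_normal
    rw [bot_sup_eq] at this
    exact subgroupOf_normal this
  haveI hBn : B.Normal := subgroupOf_normal c.s.HC'_normal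
  haveI hHn : (H.subgroupOf M).Normal := subgroupOf_normal (fittingHallOf_normal M)
  have eU : (↑(S₁ ∪ S₂) : Set (↥M → ℂ)) = degQ M C ∪ coreSet M C := by
    ext χ
    simp only [Finset.coe_union, Set.mem_union, Finset.mem_coe, hS₂', Finset.mem_filter]
    rw [hS₁, hT, ← Finset.mem_coe, ← Finset.mem_coe, coe_indAboveFinset, coe_indAboveFinset]
    rfl
  have hsub : (↑(S₁ ∪ S₂) : Set (↥M → ℂ)) ⊆ Cfsg.inducedIrrAbove K ⊥ := by
    rw [eU]
    rintro χ (h | h)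
    exacts [indAbove_subset_bot _ _ h, indAbove_subset_bot _ _ h.1]
  have hUc : ∀ φ ∈ S₁ ∪ S₂, Cfsg.conjFun φ ∈ S₁ ∪ S₂ := by
    intro φ hφ
    rw [← Finset.mem_coe, eU] at hφ ⊢
    rcases hφ with h | h
    exacts [Or.inl (c.ζ_conj h), Or.inr (c.coreSet_conj h)]
  -- numerical facts
  set N := (H ⊔ ⁅C, C⁆).relIndex ⁅M, M⁆ with hN
  have hC'U : ⁅C, C⁆ ≤ U := (Subgroup.commutator_le_self C).trans c.s.C_le
  have hHC' : H ⊔ ⁅C, C⁆ ≤ ⁅M, M⁆ := sup_le c.data.U_compl.1 (hC'U.trans c.data.U_compl.2.1)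
  have hidx : (⁅C, C⁆ : Subgroup G).relIndex ⁅M, M⁆ = Nat.card H * N := by
    rw [← Subgroup.relIndex_mul_relIndex _ _ _ (le_sup_right : ⁅C, C⁆ ≤ H ⊔ ⁅C, C⁆) hHC']
    congr 1
    have hn : ⁅C, C⁆ ≤ Subgroup.normalizer (H : Set G) :=
      hC'U.trans (TypeP.U_normalizes_core c.data)
    have hcm : Cfsg.IsComplIn H ⁅C, C⁆ (H ⊔ ⁅C, C⁆) := by
      refine ⟨le_sup_left, le_sup_right, ?_, fun x hx => ?_⟩
      · rw [eq_bot_iff, ← TypeP.U_inf_core c.data]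
        exact fun x hx => ⟨hC'U hx.2, hx.1⟩
      · have hx' : x ∈ ((H ⊔ ⁅C, C⁆ : Subgroup G) : Set G) := hx
        rw [Subgroup.coe_mul_of_right_le_normalizer_left H ⁅C, C⁆ hn] at hx'
        obtain ⟨h, hh, d, hd, e⟩ := hx'
        exact ⟨h, hh, d, hd, e.symm⟩
    have h1 := card_mul_relIndex_of_le (le_sup_right : ⁅C, C⁆ ≤ H ⊔ ⁅C, C⁆)
    rw [← card_mul_relIndex_of_le (le_sup_left : H ≤ H ⊔ ⁅C, C⁆), IsComplIn.relIndex_left hcm,
      mul_comm (Nat.card H)] at h1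
    exact Nat.eq_of_mul_eq_mul_left Nat.card_pos h1
  have hN0 : 1 ≤ N := Nat.one_le_iff_ne_zero.mpr Subgroup.index_ne_zero_of_finite
  have hP : 4 * Nat.card W₁ ^ 2 + 1 < Nat.card H := by
    have := c.s.big c.I
    rwa [Subgroup.relIndex_bot_left] at this
  have hAK : A.relIndex K = Nat.card H * N := by
    rw [hA₁, hK, Subgroup.relIndex_subgroupOf hdM, hidx]
  have hBK : B.relIndex K = N := by
    rw [hB₁, hK, Subgroup.relIndex_subgroupOf hdM]
  have hsum : (Nat.card W₁ : ℝ) * ((Nat.card H : ℝ) * N - N) ≤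
      ∑ φ ∈ S₁ ∪ S₂, ((natDeg φ : ℝ) ^ 2 / (natNorm φ : ℝ)) := by
    have h1 := sum_indAbove (K := K) (derived_subgroupOf_normal M) A
    have h2 := sum_indAbove (K := K) (derived_subgroupOf_normal M) B
    rw [← hT, hAK, hK, c.s.index_K] at h1
    rw [← hX, hBK, hK, c.s.index_K] at h2
    push_cast at h1
    have hnn : ∀ φ : ↥M → ℂ, 0 ≤ (natDeg φ : ℝ) ^ 2 / (natNorm φ : ℝ) := fun φ =>
      div_nonneg (sq_nonneg _) (Nat.cast_nonneg _)
    have hTsub : T ⊆ S₂ ∪ X := by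
      intro φ hφ
      by_cases hmem : φ ∈ Cfsg.inducedIrrAbove K (H.subgroupOf M)
      swap
      · exact Finset.mem_union_left _ (Finset.mem_filter.mpr ⟨hφ, hmem⟩)
      refine Finset.mem_union_right _ ?_
      obtain ⟨θ, hθT, rfl⟩ := Finset.mem_image.mp hφ
      obtain ⟨h1θ, hker⟩ := mem_thetaAbove.mp hθT
      obtain ⟨θ', hθ', hθ'1, hker', e⟩ := hmem
      obtain ⟨-, hkerH⟩ := mem_thetaAbove.mp (thetaAbove_closed (derived_subgroupOf_normal M)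
        (H.subgroupOf M) ⟨θ', hθ'⟩ (mem_thetaAbove.mpr ⟨hθ'1, hker'⟩) θ e)
      rw [hX, ← Finset.mem_coe, coe_indAboveFinset]
      refine ⟨_, θ.2, h1θ, fun a ha => ?_, rfl⟩
      obtain ⟨Nk, hNk⟩ := exists_kernel θ.2
      refine (hNk a).mp ?_
      have hHK : H.subgroupOf M ≤ K := fun x hx => TypeP.core_le_derived c.data hx
      have hAK' : A ≤ K := fun x hx => c.data.U_compl.2.1 (hC'U hx)
      have hle : B.subgroupOf K ≤ Nk := by
        rw [hB₁, Subgroup.subgroupOf_sup (c.s.H_le_M) ((hC'U).trans (TypeP.U_le c.data)), ← hA₁,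
          Subgroup.subgroupOf_sup hHK hAK']
        exact sup_le (fun x hx => (hNk x).mpr (hkerH x hx)) (fun x hx => (hNk x).mpr (hker x hx))
      exact hle (Subgroup.mem_subgroupOf.mpr ha)
    have h3 : ∑ φ ∈ T, ((natDeg φ : ℝ) ^ 2 / (natNorm φ : ℝ)) ≤
        (∑ φ ∈ S₁ ∪ S₂, ((natDeg φ : ℝ) ^ 2 / (natNorm φ : ℝ))) +
          ∑ φ ∈ X, ((natDeg φ : ℝ) ^ 2 / (natNorm φ : ℝ)) := by
      refine le_trans (Finset.sum_le_sum_of_subset_of_nonneg
        (t := (S₁ ∪ S₂) ∪ X)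
        (hTsub.trans (Finset.union_subset_union Finset.subset_union_right le_rfl)) fun φ _ _ => hnn φ) ?_
      rw [← Finset.sum_union_inter]
      exact le_add_of_nonneg_right (Finset.sum_nonneg fun φ _ => hnn φ)
    rw [h1, h2] at h3
    linarith
  have hbound : ∀ χ ∈ T, natDeg ζ₀ ∣ natDeg χ ∧ (2 * natDeg χ * natDeg ζ₀ : ℝ) <
      ∑ φ ∈ S₁ ∪ S₂, ((natDeg φ : ℝ) ^ 2 / (natNorm φ : ℝ)) := by
    intro χ hχ
    have hd₀ : natDeg ζ₀ = Nat.card W₁ := by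
      have := natDeg_spec (isCharacter_of_irr (c.ζ_irr hζ₀))
      rw [c.ζ_one hζ₀] at this
      exact_mod_cast this.symm
    obtain ⟨θ, hθT, rfl⟩ := Finset.mem_image.mp hχ
    have hidx2 : K.index = Nat.card W₁ := c.s.index_K
    rw [natDeg_indFun (isCharacter_of_irr θ.2), hidx2, hd₀]
    refine ⟨dvd_mul_right _ _, lt_of_lt_of_le ?_ hsum⟩
    have hθ2 : (natDeg ((θ : ↥K → ℂ)) : ℝ) ^ 2 ≤ (Nat.card H : ℝ) * N := by
      have h1 := sum_sq_thetaAbove (K := K) (derived_subgroupOf_normal M) A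
      have h2 := Finset.single_le_sum (f := fun θ : Cfsg.IrrCharacter K =>
        (natDeg (θ : ↥K → ℂ) : ℝ) ^ 2) (fun _ _ => sq_nonneg _) hθT
      rw [h1, hAK] at h2
      push_cast at h2
      linarith
    have hPr : (4 : ℝ) * (Nat.card W₁ : ℝ) ^ 2 + 2 ≤ (Nat.card H : ℝ) := by exact_mod_cast hP
    have hNr : (1 : ℝ) ≤ (N : ℝ) := by exact_mod_cast hN0
    have hqr : (0 : ℝ) < (Nat.card W₁ : ℝ) := Nat.cast_pos.mpr Nat.card_pos
    set P := (Nat.card H : ℝ)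
    set Q := (Nat.card W₁ : ℝ)
    set t := (natDeg ((θ : ↥K → ℂ)) : ℝ) with ht
    have key : (2 * Q * t) ^ 2 < (P * N - N) ^ 2 := by
      have h1 : (2 * Q * t) ^ 2 ≤ 4 * Q ^ 2 * (P * N) := by nlinarith [sq_nonneg Q]
      have h2 : 4 * Q ^ 2 * (P * N) ≤ (P - 2) * (P * N) :=
        mul_le_mul_of_nonneg_right (by linarith) (by nlinarith [sq_nonneg Q])
      have h3 : (P - 2) * (P * N) < (P * N - N) ^ 2 := by
        have : (P - 2) * (P * N) ≤ (P - 2) * (P * N) * N :=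
          le_mul_of_one_le_right (mul_nonneg (by nlinarith [sq_nonneg Q]) (by nlinarith [sq_nonneg Q])) hNr
        nlinarith
      linarith
    have h4 : 2 * Q * t < P * N - N := lt_of_pow_lt_pow_left₀ 2 (by nlinarith [sq_nonneg Q]) key
    have h5 := mul_lt_mul_of_pos_left h4 hqr
    push_cast
    linarith
  have hTsub : (↑T : Set (↥M → ℂ)) ⊆ Cfsg.inducedIrrAbove K ⊥ := by
    rw [hT, coe_indAboveFinset]; exact indAbove_subset_bot _ _
  have hTc : ∀ φ ∈ T, Cfsg.conjFun φ ∈ T := fun φ h => by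
    rw [hT, ← Finset.mem_coe, coe_indAboveFinset] at h ⊢
    exact indAbove_conj _ _ h
  have hcoh := coherent_add_all hR ζ₀ (S₁ ∪ S₂) hsub hUc (eU ▸ hU) (by
    rw [← Finset.mem_coe, eU]; exact Or.inl hζ₀) T hTsub hTc hbound
  refine c.s.not_coherent_H₀C' c.I ?_
  rw [bot_sup_eq]
  have hlt : A < K := lt_of_le_of_ne (fun _ hx => c.data.U_compl.2.1 (hC'U hx)) fun e => by
    have h := hAK
    rw [e, Subgroup.relIndex_self] at h
    have : 1 < Nat.card H := by omega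
    nlinarith
  obtain ⟨φ, hφ, -⟩ := exists_linear_above K (c.s.solvable_K c.I) A hlt
  refine coherent_subset hcoh (fun χ hχ => ?_)
    (sys_nonzero_zspanOn hR (indAbove_subset_bot _ _ hφ) hφ (indAbove_conj _ _ hφ))
  rw [Finset.coe_union]
  exact Or.inr (by rw [hT, coe_indAboveFinset]; exact hχ)

end Ctx

end CfsgLib.PF.Sec11
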