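import Cfsg.Agent.Lib.PF.Sec11Tau

/-!
# Peterfalvi (11.8)–(11.9): the two possible forms of `τ(μ₀ - ζ)`
-/

set_option autoImplicit false
set_option linter.unusedSectionVars false
set_option linter.style.haveILetI false

namespace CfsgLib.PF.Sec11

open Finset CfsgLib.Characters CfsgLib.OddChar CfsgLib.OddOrder CfsgLib.Clifford
open scoped Classical ComplexConjugate

universe u

variable {G : Type u} [Group G] [Fintype G]

/-- The characters of `M` of degree `q`, induced from `M' / M_F C`. -/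
noncomputable abbrev degQ (M C : Subgroup G) : Set (↥M → ℂ) :=
  Cfsg.inducedIrrAbove ((⁅M, M⁆ : Subgroup G).subgroupOf M)
    ((Cfsg.fittingHallOf M ⊔ C).subgroupOf M)

theorem lin_inv_eq_self {W₁ W₂ : Subgroup G} (hodd : Odd (Nat.card ↥(W₁ ⊔ W₂)))
    {φ : ↥(W₁ ⊔ W₂) →* ℂˣ} (h : φ⁻¹ = φ) : φ = 1 := by
  refine MonoidHom.ext fun w => ?_
  have h1 : (φ w) ^ 2 = 1 := by
    rw [sq]
    nth_rewrite 1 [← h]
    rw [MonoidHom.inv_apply, inv_mul_cancel]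
  have h3 : orderOf (φ w) ∣ Nat.card ↥(W₁ ⊔ W₂) :=
    (orderOf_map_dvd φ w).trans (orderOf_dvd_natCard w)
  rw [MonoidHom.one_apply]
  exact orderOf_eq_one_iff.mp (Nat.eq_one_of_dvd_coprimes (Nat.coprime_comm.mp hodd.coprime_two_right)
    (orderOf_dvd_of_pow_eq_one h1) h3)

namespace Ctx

variable {M W₁ U W₂ C : Subgroup G} {p : ℕ} {μ : (↥(W₁ ⊔ W₂) →* ℂˣ) → (↥M → ℂ)}
  {δ : (↥(W₁ ⊔ W₂) →* ℂˣ) → ℂ} {η : (↥(W₁ ⊔ W₂) →* ℂˣ) → (G → ℂ)}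
  (c : Ctx M W₁ U W₂ C p μ δ η)

include c

theorem colSum_eq {ω : ↥(W₁ ⊔ W₂) →* ℂˣ} {ψ : ↥(W₁ ⊔ W₂) →* ℂˣ} (h : AgreeR W₁ W₂ ω ψ)
    [Fintype {φ : ↥(W₁ ⊔ W₂) →* ℂˣ // TrivR φ}] {A : Type*} [AddCommMonoid A]
    (f : (↥(W₁ ⊔ W₂) →* ℂˣ) → A) :
    ∑ᶠ ν ∈ {ν | AgreeR W₁ W₂ ω ν}, f ν = ∑ φ : {φ : ↥(W₁ ⊔ W₂) →* ℂˣ // TrivR φ}, f (φ.1 * ψ) := by
  haveI := finite_linChar c.hW
  rw [finsum_mem_eq_finite_toFinset_sum _ (Set.toFinite _)]
  refine (Finset.sum_bij (fun φ _ => φ.1 * ψ) (fun φ _ => ?_) (fun φ _ φ' _ e => ?_)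
    (fun ν hν => ?_) (fun _ _ => rfl)).symm
  · rw [Set.Finite.mem_toFinset]
    exact h.trans (c.agreeR_mul φ.2).symm
  · exact Subtype.ext (MonoidHom.ext fun w => mul_right_cancel (DFunLike.congr_fun e w))
  · rw [Set.Finite.mem_toFinset] at hν
    refine ⟨⟨ν * ψ⁻¹, fun w hw => ?_⟩, Finset.mem_univ _, MonoidHom.ext fun w => ?_⟩
    · rw [MonoidHom.mul_apply, MonoidHom.inv_apply, ← hν w hw, h w hw, mul_inv_cancel]
    · simp only [MonoidHom.mul_apply, MonoidHom.inv_apply, inv_mul_cancel_right]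

/-! ### The members of degree `q` -/

theorem ζ_irr {ζ : ↥M → ℂ} (hζ : ζ ∈ degQ M C) : Cfsg.IsIrrCharacter ↥M ζ := by
  obtain ⟨θ, hθ, h1, hker, rfl⟩ := hζ
  by_contra hi
  obtain ⟨ω, rfl⟩ := c.ti.reducible θ hθ hi
  by_cases hω : AgreeR W₁ W₂ ω 1
  · exact h1 (funext fun x => (c.ti.trivial_col ω hω).2 x x.2)
  · obtain ⟨w, hw, hne⟩ := c.exists_W₂ hω
    have hwH := TypeP.W₂_le_core c.data hw
    exact hne (hker ⟨w, TypeP.core_le_derived c.data hwH⟩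
      (Subgroup.mem_sup_left hwH : (w : G) ∈ Cfsg.fittingHallOf M ⊔ C))

theorem ζ_one {ζ : ↥M → ℂ} (hζ : ζ ∈ degQ M C) : ζ 1 = (Nat.card W₁ : ℂ) := by
  obtain ⟨θ, hθ, -, hker, rfl⟩ := hζ
  rw [CfsgLib.Induction.indFun_one_apply, c.s.index_K, natDeg_spec (isCharacter_of_irr hθ),
    natDeg_eq_one hθ fun a b => hker _ ?_, Nat.cast_one, mul_one]
  show _ ∈ Cfsg.fittingHallOf M ⊔ C
  rw [← c.s.derived_two_eq c.I]
  exact Subgroup.commutator_mem_commutator (H₁ := ⁅M, M⁆) (H₂ := ⁅M, M⁆) a.2 b.2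

theorem ζ_vanish {ζ : ↥M → ℂ} (hζ : ζ ∈ degQ M C) {x : ↥M}
    (hx : (x : G) ∉ (⁅M, M⁆ : Subgroup G)) : ζ x = 0 := by
  obtain ⟨θ, -, -, -, rfl⟩ := hζ
  exact CfsgLib.Induction.indFun_normal_eq_zero _ hx

theorem ζ_ne_μ {ζ : ↥M → ℂ} (hζ : ζ ∈ degQ M C) (ν : ↥(W₁ ⊔ W₂) →* ℂˣ) : ζ ≠ μ ν := by
  intro e
  obtain ⟨a, ha, ha1⟩ := (Subgroup.bot_or_exists_ne_one W₁).resolve_left c.hW.1
  have ha0 : a ∈ W₁ ⊔ W₂ := Subgroup.mem_sup_left ha
  have ha2 : a ∉ W₂ := fun hh => ha1 (Subgroup.mem_bot.mp (c.hW.2.2.1.le ⟨ha, hh⟩))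
  have h1 := congrFun e ⟨a, c.WM ha0⟩
  rw [c.ζ_vanish hζ fun hD => ha1 (Subgroup.mem_bot.mp (c.data.W₁_compl.2.2.1.le ⟨hD, ha⟩)),
    c.ti.μ_value ν _ ha0 ha2] at h1
  rcases mul_eq_zero.mp h1.symm with r | r
  · rcases c.ti.δ_sign ν with r' | r' <;> rw [r'] at r <;> norm_num at r
  · exact Units.ne_zero _ r

theorem ζ_inner_μ {ζ : ↥M → ℂ} (hζ : ζ ∈ degQ M C) (ν : ↥(W₁ ⊔ W₂) →* ℂˣ) :
    Cfsg.classInner ζ (μ ν) = 0 :=
  classInner_irr_ne (c.ζ_irr hζ) (c.ti.μ_irr ν) (c.ζ_ne_μ hζ ν)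

theorem ζ_mem_S {ζ : ↥M → ℂ} (hζ : ζ ∈ degQ M C) :
    ζ ∈ calS M (Cfsg.typeCore M) ⊥ := by
  rw [c.s.typeCore_eq c.I.kinds, c.s.calS_derived]
  exact indAbove_subset_bot _ _ hζ

theorem ζ_conj {ζ : ↥M → ℂ} (hζ : ζ ∈ degQ M C) : Cfsg.conjFun ζ ∈ degQ M C :=
  indAbove_conj _ _ hζ

theorem exists_ζ : ∃ ζ, ζ ∈ degQ M C := by
  haveI : ((Cfsg.fittingHallOf M ⊔ C).subgroupOf M).Normal := subgroupOf_normal c.s.HC_normal
  have hdM : ⁅M, M⁆ ≤ M := Subgroup.commutator_le_self M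
  obtain ⟨φ, hφ, -⟩ := exists_linear_above ((⁅M, M⁆ : Subgroup G).subgroupOf M) (c.s.solvable_K c.I)
    ((Cfsg.fittingHallOf M ⊔ C).subgroupOf M)
    (lt_of_le_of_ne (fun _ hx => c.s.HC_le hx) fun e => c.s.HC_lt.ne (by
      rw [← Subgroup.map_subgroupOf_eq_of_le (c.s.HC_le.trans hdM), e,
        Subgroup.map_subgroupOf_eq_of_le hdM]))
  exact ⟨φ, hφ⟩

/-! ### `μ₀ - ζ` -/

theorem red_trivial_apply : red M μ 1 1 = (Nat.card W₁ : ℂ) := by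
  rw [red, CfsgLib.Induction.indFun_one_apply, c.s.index_K]
  show (Nat.card W₁ : ℂ) * μ 1 1 = _
  rw [c.ti.μ_one, mul_one]

theorem red_vanish (ω : ↥(W₁ ⊔ W₂) →* ℂˣ) {x : ↥M} (hx : (x : G) ∉ (⁅M, M⁆ : Subgroup G)) :
    red M μ ω x = 0 :=
  CfsgLib.Induction.indFun_normal_eq_zero _ hx

theorem cls_red (ω : ↥(W₁ ⊔ W₂) →* ℂˣ) : Cfsg.IsClassFunction ↥M (red M μ ω) :=
  CfsgLib.Induction.isClassFunction_indFun _ _

theorem gen_red (ω : ↥(W₁ ⊔ W₂) →* ℂˣ) : Cfsg.IsGeneralizedCharacter ↥M (red M μ ω) :=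
  isGeneralizedCharacter_of_isCharacter
    (CfsgLib.Induction.isCharacter_indFun _ (isCharacter_of_irr (c.ti.res_irr ω)))

theorem supp_g {ζ : ↥M → ℂ} (hζ : ζ ∈ degQ M C) : Supp M W₁ (red M μ 1 - ζ) := by
  refine ⟨fun x y => ?_, ?_, fun x hx => ?_⟩
  · simp only [Pi.sub_apply, c.cls_red 1 x y,
      isClassFunction_of_isCharacter (isCharacter_of_irr (c.ζ_irr hζ)) x y]
  · rw [Pi.sub_apply, c.red_trivial_apply, c.ζ_one hζ, sub_self]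
  · by_cases hK : (x : G) ∈ (⁅M, M⁆ : Subgroup G)
    · have hx1 : x = 1 := Subtype.ext (Subgroup.mem_bot.mp (c.data.W₁_compl.2.2.1.le ⟨hK, hx⟩))
      rw [hx1, Pi.sub_apply, c.red_trivial_apply, c.ζ_one hζ, sub_self]
    · rw [Pi.sub_apply, c.red_vanish 1 hK, c.ζ_vanish hζ hK, sub_self]

theorem g_μ {ζ : ↥M → ℂ} (hζ : ζ ∈ degQ M C) (ν : ↥(W₁ ⊔ W₂) →* ℂˣ) :
    Cfsg.classInner (red M μ 1 - ζ) (μ ν) = if AgreeR W₁ W₂ 1 ν then 1 else 0 := by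
  rw [classInner_sub_left, c.ti.classInner_red_μ c.hW, c.ζ_inner_μ hζ, sub_zero]

theorem ζ_red {ζ : ↥M → ℂ} (hζ : ζ ∈ degQ M C) (ω : ↥(W₁ ⊔ W₂) →* ℂˣ) :
    Cfsg.classInner ζ (red M μ ω) = 0 ∧ Cfsg.classInner (red M μ ω) ζ = 0 := by
  haveI := finite_linChar c.hW
  have h : Cfsg.classInner ζ (red M μ ω) = 0 := by
    rw [c.ti.red_eq c.hW, finsum_mem_eq_finite_toFinset_sum _ (Set.toFinite _), classInner_sum_right]
    exact Finset.sum_eq_zero fun ν _ => c.ζ_inner_μ hζ ν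
  exact ⟨h, by rw [classInner_conj_symm ζ (red M μ ω), h, map_zero]⟩

theorem g_g {ζ ζ' : ↥M → ℂ} (hζ : ζ ∈ degQ M C) (hζ' : ζ' ∈ degQ M C) :
    Cfsg.classInner (red M μ 1 - ζ) (red M μ 1 - ζ') =
      (Nat.card W₁ : ℂ) + if ζ = ζ' then 1 else 0 := by
  rw [classInner_sub_left, classInner_sub_right, classInner_sub_right,
    c.ti.classInner_red_red c.hW, if_pos (AgreeR.refl _), (c.ζ_red hζ' 1).2, (c.ζ_red hζ 1).1]
  by_cases e : ζ = ζ'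
  · rw [if_pos e, e, classInner_irr_self (c.ζ_irr hζ')]; ring
  · rw [if_neg e, classInner_irr_ne (c.ζ_irr hζ) (c.ζ_irr hζ') e]; ring

theorem gen_g {ζ : ↥M → ℂ} (hζ : ζ ∈ degQ M C) :
    Cfsg.IsGeneralizedCharacter ↥M (red M μ 1 - ζ) :=
  isGeneralizedCharacter_sub (c.gen_red 1)
    (isGeneralizedCharacter_of_isCharacter (isCharacter_of_irr (c.ζ_irr hζ)))

/-- The coefficients of `τ(μ₀ - ζ)` along the trivial column are invariant under inversion. -/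
theorem coeff_inv {ζ : ↥M → ℂ} (hζ : ζ ∈ degQ M C) (ν : ↥(W₁ ⊔ W₂) →* ℂˣ) :
    Cfsg.classInner (tau M (red M μ 1 - ζ)) (η ν⁻¹) =
      conj (Cfsg.classInner (tau M (red M μ 1 - ζ)) (η ν)) := by
  obtain ⟨R, hR, hirr, -⟩ := c.I.subcoherent M W₁ U W₂ c.s.max c.data μ δ η c.ti
  have hz := c.ζ_mem_S hζ
  have e : Cfsg.conjFun (red M μ 1 - ζ) = (red M μ 1 - ζ) + (ζ - Cfsg.conjFun ζ) := by
    rw [Sec12.conjFun_sub, c.ti.conj_red c.hW, linInv_one]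
    abel
  have h0 : Cfsg.classInner (tau M (ζ - Cfsg.conjFun ζ)) (η ν⁻¹) = 0 := by
    rw [hR.sum_eq ζ hz, classInner_sum_left]
    exact Finset.sum_eq_zero fun α hα => hirr ζ hz (c.ζ_irr hζ) α hα ν⁻¹
  have h1 : Cfsg.conjFun (tau M (red M μ 1 - ζ)) = tau M (Cfsg.conjFun (red M μ 1 - ζ)) :=
    (Sec12.dade_conjFun _).symm
  rw [← classInner_conjFun, h1, e, c.tau_add, ← c.ti.η_conj, classInner_add_left, h0, add_zero]

/-- (11.8): the two cases. -/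
theorem dichotomy :
    (∀ ζ ∈ degQ M C, ∀ ν, Cfsg.classInner (tau M (red M μ 1 - ζ)) (η ν) =
      if AgreeR W₁ W₂ 1 ν then 1 else 0) ∨
    (p < Nat.card W₁ ∧ ∃ ζ ∈ degQ M C, ∃ s : ℤ, s ≠ 0 ∧ (p : ℤ) * |s| ≤ Nat.card W₁ + 1 ∧
      ∀ ω, ¬ AgreeR W₁ W₂ ω 1 → Cfsg.classInner (tau M (red M μ 1 - ζ)) (colSum η ω) = (s : ℂ)) := by
  have hW := c.hW
  have hdisj := hW.2.2.1
  have hcomm := hW.2.2.2.1
  haveI := finite_linChar hW
  haveI := Fintype.ofFinite (↥(W₁ ⊔ W₂) →* ℂˣ)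
  haveI : Fintype {φ : ↥(W₁ ⊔ W₂) →* ℂˣ // TrivR φ} := Fintype.ofFinite _
  haveI : Fintype {ψ : ↥(W₁ ⊔ W₂) →* ℂˣ // TrivL ψ} := Fintype.ofFinite _
  obtain ⟨hpW, hp, -⟩ := c.s.prime_eq c.I
  have hp3 := c.s.p_ge c.I
  have hq3 := c.s.q_ge c.I
  have hpq := c.s.p_ne_q c.I
  have hpo : Odd p := hpW ▸ minSimple_odd c.I.simple W₂
  have hqo : Odd (Nat.card W₁) := minSimple_odd c.I.simple W₁
  set q := Nat.card W₁ with hq
  have hL1 : TrivL (1 : ↥(W₁ ⊔ W₂) →* ℂˣ) := fun _ _ => rfl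
  have hR1 : TrivR (1 : ↥(W₁ ⊔ W₂) →* ℂˣ) := fun _ _ => rfl
  have hcard : Fintype.card {φ : ↥(W₁ ⊔ W₂) →* ℂˣ // TrivR φ} = q := by
    rw [← Nat.card_eq_fintype_card, card_trivR hW]
  have hcardL : Fintype.card {ψ : ↥(W₁ ⊔ W₂) →* ℂˣ // TrivL ψ} = p := by
    rw [← Nat.card_eq_fintype_card, card_trivL hW, hpW]
  by_contra hcon
  rw [not_or] at hcon
  obtain ⟨hA, hB⟩ := hcon
  push Not at hA
  obtain ⟨ζ, hζ, ν₁, hν₁⟩ := hA
  set a := tau M (red M μ 1 - ζ) with ha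
  have hS := c.supp_g hζ
  choose k hk using fun ν => classInner_generalized_int (c.tau_gen hS (c.gen_g hζ)) (c.η_gen ν)
  have hk1 : k 1 = 1 := by
    have h := c.tau_one hS
    rw [hk, c.g_μ hζ, if_pos (AgreeR.refl 1)] at h
    exact_mod_cast h
  obtain ⟨⟨ψ₀, hψ₀⟩, hψ₀ne⟩ := Fintype.exists_ne_of_one_lt_card (hcardL ▸ hp.one_lt.trans_le
    (le_of_eq hpW.symm) : 1 < Fintype.card {ψ : ↥(W₁ ⊔ W₂) →* ℂˣ // TrivL ψ}) ⟨1, hL1⟩
  have hψ₁ : ψ₀ ≠ 1 := fun e => hψ₀ne (Subtype.ext e)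
  set y := k ψ₀ with hy
  have hrow : ∀ ψ, TrivL ψ → ψ ≠ 1 → k ψ = y := fun ψ hψ h1 => by
    have hn : ∀ {ψ : ↥(W₁ ⊔ W₂) →* ℂˣ}, TrivL ψ → ψ ≠ 1 → ¬ AgreeR W₁ W₂ 1 ψ := fun hψ h1 h =>
      c.not_one_of_trivL hψ h1 h.symm
    have h := c.coeff_row hS hψ hψ₀ h1 hψ₁
    rw [hk, hk, c.g_μ hζ, c.g_μ hζ, if_neg (hn hψ h1), if_neg (hn hψ₀ hψ₁), sub_self,
      sub_eq_zero] at h
    exact_mod_cast h
  have htab : ∀ φ ψ, TrivR φ → TrivL ψ → ψ ≠ 1 → k (φ * ψ) = k φ + y - 1 := fun φ ψ hφ hψ h1 => by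
    have h := c.coeff_square hS hφ hψ h1
    have g1 : Cfsg.classInner (red M μ 1 - ζ) (μ 1) = 1 := by
      rw [c.g_μ hζ, if_pos (AgreeR.refl 1)]
    have g2 : Cfsg.classInner (red M μ 1 - ζ) (μ φ) = 1 := by
      rw [c.g_μ hζ, if_pos (c.agreeR_one hφ).symm]
    have g3 : Cfsg.classInner (red M μ 1 - ζ) (μ ψ) = 0 := by
      rw [c.g_μ hζ, if_neg fun e => c.not_one_of_trivL hψ h1 e.symm]
    have g4 : Cfsg.classInner (red M μ 1 - ζ) (μ (φ * ψ)) = 0 := by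
      rw [c.g_μ hζ, if_neg fun e => c.not_one_of_trivL hψ h1 ((c.agreeR_mul hφ).symm.trans e.symm)]
    rw [hk, hk, hk, g1, g2, g3, g4, hrow ψ hψ h1] at h
    have h' : ((k (φ * ψ) : ℤ) : ℂ) = ((k φ + y - 1 : ℤ) : ℂ) := by push_cast; linear_combination h
    exact_mod_cast h'
  have hinv : ∀ ν, k ν⁻¹ = k ν := fun ν => by
    have h := c.coeff_inv hζ ν
    rw [hk, hk, map_intCast] at h
    exact_mod_cast h
  set t : {φ : ↥(W₁ ⊔ W₂) →* ℂˣ // TrivR φ} → ℤ :=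
    fun φ => k φ.1 ^ 2 + ((p : ℤ) - 1) * (k φ.1 + y - 1) ^ 2 with ht
  have hsum : ∑ φ, t φ ≤ (q : ℤ) + 1 := by
    have hb := TILocal.family_bessel c.ti.family k hk
    rw [c.tau_isometry hS hS.cls, c.g_g hζ hζ, if_pos rfl] at hb
    have hb' : ∑ ν, k ν * k ν ≤ (q : ℤ) + 1 := by
      have : ((∑ ν, k ν * k ν : ℤ) : ℝ) ≤ (((q : ℤ) + 1 : ℤ) : ℝ) :=
        hb.trans (le_of_eq (by rw [Complex.add_re, Complex.natCast_re, Complex.one_re, ← hq]; push_cast; rfl))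
      exact_mod_cast this
    refine le_of_eq_of_le ?_ hb'
    rw [← (pairEquiv hW).sum_comp, Fintype.sum_prod_type]
    refine Finset.sum_congr rfl fun φ _ => ?_
    rw [← Finset.add_sum_erase _ _ (Finset.mem_univ (⟨1, hL1⟩ : {ψ : ↥(W₁ ⊔ W₂) →* ℂˣ // TrivL ψ})),
      Finset.sum_congr rfl fun ψ (hψ : ψ ∈ _) => by
        show k (φ.1 * ψ.1) * k (φ.1 * ψ.1) = (k φ.1 + y - 1) * (k φ.1 + y - 1)
        rw [htab φ.1 ψ.1 φ.2 ψ.2 fun e => (Finset.mem_erase.mp hψ).1 (Subtype.ext e)],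
      Finset.sum_const, Finset.card_erase_of_mem (Finset.mem_univ _), Finset.card_univ, hcardL,
      nsmul_eq_mul]
    show _ = k (φ.1 * 1) * k (φ.1 * 1) + _
    rw [show φ.1 * 1 = φ.1 from MonoidHom.ext fun w => mul_one _, ht]
    push_cast [Nat.cast_sub (show 1 ≤ p by omega)]
    ring
  set e₁ : {φ : ↥(W₁ ⊔ W₂) →* ℂˣ // TrivR φ} := ⟨1, hR1⟩ with he₁
  have htone : t e₁ = 1 + ((p : ℤ) - 1) * y ^ 2 := by
    simp only [ht, he₁, hk1]; ring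
  have hpZ : (2 : ℤ) ≤ (p : ℤ) - 1 := by omega
  have htpos : ∀ φ, y ≠ 1 → 1 ≤ t φ := fun φ hy1 => by
    simp only [ht]
    by_cases h0 : k φ.1 = 0
    · rw [h0]
      have : 1 ≤ (0 + y - 1) ^ 2 := by
        have : (0 + y - 1) ≠ 0 := by omega
        nlinarith [sq_abs (0 + y - 1), Int.one_le_abs this]
      nlinarith
    · nlinarith [sq_abs (k φ.1), Int.one_le_abs h0, mul_nonneg (show (0 : ℤ) ≤ (p : ℤ) - 1 by omega)
        (sq_nonneg (k φ.1 + y - 1))]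
  by_cases hy1 : y = 1
  · -- the second case
    set invR : {φ : ↥(W₁ ⊔ W₂) →* ℂˣ // TrivR φ} → {φ : ↥(W₁ ⊔ W₂) →* ℂˣ // TrivR φ} :=
      fun φ => ⟨φ.1⁻¹, fun w hw => by rw [MonoidHom.inv_apply, φ.2 w hw, inv_one]⟩ with hinvR
    set s : ℤ := ∑ φ : {φ : ↥(W₁ ⊔ W₂) →* ℂˣ // TrivR φ}, k φ.1 with hs
    have hps : (p : ℤ) * |s| ≤ (q : ℤ) + 1 := by
      refine le_trans ?_ hsum
      rw [hs]
      refine le_trans (mul_le_mul_of_nonneg_left (Finset.abs_sum_le_sum_abs _ _) (by positivity)) ?_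
      rw [Finset.mul_sum]
      refine Finset.sum_le_sum fun φ _ => ?_
      simp only [ht, hy1]
      have : |k φ.1| ≤ k φ.1 ^ 2 := by rw [← sq_abs]; exact Int.le_self_sq _
      nlinarith
    have hs0 : s ≠ 0 := by
      intro h0
      have hz : ∑ φ ∈ Finset.univ.erase e₁, ((k φ.1 : ℤ) : ZMod 2) = 0 := by
        refine Finset.sum_involution (fun φ _ => invR φ) (fun φ hφ => ?_) (fun φ hφ _ e => ?_)
          (fun φ hφ => ?_) (fun φ _ => Subtype.ext (linInv _))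
        · show ((k φ.1 : ℤ) : ZMod 2) + ((k φ.1⁻¹ : ℤ) : ZMod 2) = 0
          rw [hinv, ← two_mul, show (2 : ZMod 2) = 0 from by decide, zero_mul]
        · exact (Finset.mem_erase.mp hφ).1
            (Subtype.ext (lin_inv_eq_self c.odd (congrArg Subtype.val e)))
        · refine Finset.mem_erase.mpr ⟨fun e => (Finset.mem_erase.mp hφ).1 (Subtype.ext ?_),
            Finset.mem_univ _⟩
          have e' := congrArg Subtype.val e
          simp only [hinvR, he₁] at e'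
          show φ.1 = 1
          rw [← linInv φ.1, e', linInv_one]
      have := congrArg (fun z : ℤ => (z : ZMod 2)) h0
      simp only [hs, Int.cast_sum, Int.cast_zero] at this
      rw [← Finset.add_sum_erase _ _ (Finset.mem_univ e₁), hz, add_zero, he₁, hk1, Int.cast_one] at this
      exact one_ne_zero this
    refine hB ⟨?_, ζ, hζ, s, hs0, hps, fun ω hω => ?_⟩
    · have : (p : ℤ) ≤ (q : ℤ) + 1 := by nlinarith [Int.one_le_abs hs0]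
      obtain ⟨i, hi⟩ := hpo
      obtain ⟨j, hj⟩ := hqo
      omega
    · obtain ⟨φ, ψ, hφ, hψ, rfl⟩ := exists_trivR_mul_trivL hdisj hcomm ω
      have h1 : ψ ≠ 1 := fun e => hω (by
        rw [e, show φ * 1 = φ from MonoidHom.ext fun w => mul_one _]; exact c.agreeR_one hφ)
      rw [colSum, c.colSum_eq (c.agreeR_mul hφ) η, classInner_sum_right,
        Finset.sum_congr rfl fun φ' _ => by
          rw [← ha, hk, htab φ'.1 ψ φ'.2 hψ h1, hy1, add_sub_cancel_right], hs]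
      push_cast
      rfl
  · -- the first case
    have hy0 : y = 0 := by
      by_contra h
      have h1 : (2 : ℤ) * 1 ≤ ((p : ℤ) - 1) * y ^ 2 :=
        mul_le_mul hpZ (by nlinarith [sq_abs y, Int.one_le_abs h]) (by norm_num) (by omega)
      have h2 : (q : ℤ) - 1 ≤ ∑ φ ∈ Finset.univ.erase e₁, t φ := by
        refine le_trans ?_ (Finset.card_nsmul_le_sum _ t 1 fun φ _ => htpos φ hy1)
        rw [Finset.card_erase_of_mem (Finset.mem_univ _), Finset.card_univ, hcard, nsmul_eq_mul,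
          mul_one, Nat.cast_sub (by omega), Nat.cast_one]
      rw [← Finset.add_sum_erase _ _ (Finset.mem_univ e₁), htone] at hsum
      omega
    have hall : ∀ φ : {φ : ↥(W₁ ⊔ W₂) →* ℂˣ // TrivR φ}, k φ.1 = 1 := by
      intro φ
      by_contra hne
      have hφ1 : φ ≠ e₁ := fun e => hne (by rw [e, he₁, hk1])
      set φ' : {φ : ↥(W₁ ⊔ W₂) →* ℂˣ // TrivR φ} :=
        ⟨φ.1⁻¹, fun w hw => by rw [MonoidHom.inv_apply, φ.2 w hw, inv_one]⟩ with hφ'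
      have hne' : φ' ≠ φ := fun e => hφ1 (Subtype.ext (lin_inv_eq_self c.odd (congrArg Subtype.val e)))
      have hφ'1 : φ' ≠ e₁ := fun e => hφ1 (Subtype.ext (by
        have e' := congrArg Subtype.val e
        simp only [hφ', he₁] at e'
        show φ.1 = 1
        rw [← linInv φ.1, e', linInv_one]))
      have htwo : ∀ ψ : {φ : ↥(W₁ ⊔ W₂) →* ℂˣ // TrivR φ}, k ψ.1 ≠ 1 → 2 ≤ t ψ := fun ψ h => by
        simp only [ht, hy0]
        have : 1 ≤ (k ψ.1 + 0 - 1) ^ 2 := by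
          nlinarith [sq_abs (k ψ.1 + 0 - 1), Int.one_le_abs (show k ψ.1 + 0 - 1 ≠ 0 by omega)]
        nlinarith [sq_nonneg (k ψ.1)]
      have h3 : ∀ ψ : {φ : ↥(W₁ ⊔ W₂) →* ℂˣ // TrivR φ},
          (1 : ℤ) + (if ψ ∈ ({φ, φ'} : Finset _) then 1 else 0) ≤ t ψ := fun ψ => by
        split_ifs with h
        · simp only [Finset.mem_insert, Finset.mem_singleton] at h
          have hkψ : k ψ.1 ≠ 1 := by
            rcases h with rfl | rfl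
            · exact hne
            · rw [hφ', hinv]; exact hne
          linarith [htwo ψ hkψ]
        · linarith [htpos ψ hy1]
      have h4 := (Finset.sum_le_sum fun ψ (_ : ψ ∈ Finset.univ) => h3 ψ).trans hsum
      rw [Finset.sum_add_distrib, Finset.sum_const, Finset.card_univ, hcard, Finset.sum_ite_mem,
        Finset.univ_inter, Finset.sum_const, Finset.card_pair hne'.symm] at h4
      simp only [nsmul_eq_mul, mul_one, Nat.cast_ofNat] at h4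
      omega
    refine hν₁ ?_
    obtain ⟨φ, ψ, hφ, hψ, rfl⟩ := exists_trivR_mul_trivL hdisj hcomm ν₁
    rw [hk]
    by_cases h1 : ψ = 1
    · rw [h1, show φ * 1 = φ from MonoidHom.ext fun w => mul_one _, hall ⟨φ, hφ⟩,
        if_pos (c.agreeR_one hφ).symm, Int.cast_one]
    · rw [htab φ ψ hφ hψ h1, hy0, hall ⟨φ, hφ⟩,
        if_neg fun e => c.not_one_of_trivL hψ h1 ((c.agreeR_mul hφ).symm.trans e.symm)]
      norm_num

end Ctx

end CfsgLib.PF.Sec11
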