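import Cfsg.Agent.Lib.PF.Sec11Cases

/-!
# Peterfalvi (11.8): the first case gives explicit images on the columns

If `τ(μ₀ - ζ) = Σ η_{i0} - ζ₁` then `τ(μ_j - u ζ) = Σ η_{ij} - u ζ₁`.
-/

set_option autoImplicit false
set_option linter.unusedSectionVars false
set_option linter.style.haveILetI false

namespace CfsgLib.PF.Sec11

open Finset CfsgLib.Characters CfsgLib.OddChar CfsgLib.OddOrder CfsgLib.Clifford
open scoped Classical ComplexConjugate

universe u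

variable {G : Type u} [Group G] [Fintype G]

/-- The first case of (11.8). -/
def FirstCase (M W₁ W₂ C : Subgroup G) (μ : (↥(W₁ ⊔ W₂) →* ℂˣ) → (↥M → ℂ))
    (η : (↥(W₁ ⊔ W₂) →* ℂˣ) → (G → ℂ)) : Prop :=
  ∀ ζ ∈ degQ M C, ∀ ν, Cfsg.classInner (tau M (red M μ 1 - ζ)) (η ν) =
    if AgreeR W₁ W₂ 1 ν then 1 else 0

/-- The image `ζ₁`. -/
noncomputable def img {W₁ W₂ : Subgroup G} (M : Subgroup G)
    (μ : (↥(W₁ ⊔ W₂) →* ℂˣ) → (↥M → ℂ)) (η : (↥(W₁ ⊔ W₂) →* ℂˣ) → (G → ℂ)) (ζ : ↥M → ℂ) : G → ℂ :=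
  colSum η 1 - tau M (red M μ 1 - ζ)

theorem isGeneralizedCharacter_colSum {W₁ W₂ : Subgroup G}
    {η : (↥(W₁ ⊔ W₂) →* ℂˣ) → (G → ℂ)} [Finite (↥(W₁ ⊔ W₂) →* ℂˣ)]
    (hη : ∀ ω, Cfsg.IsGeneralizedCharacter G (η ω)) (ω : ↥(W₁ ⊔ W₂) →* ℂˣ) :
    Cfsg.IsGeneralizedCharacter G (colSum η ω) := by
  rw [colSum, finsum_mem_eq_finite_toFinset_sum _ (Set.toFinite _)]
  exact isGeneralizedCharacter_sum _ fun ν _ => hη ν

theorem colSum_congr {W₁ W₂ : Subgroup G} {η : (↥(W₁ ⊔ W₂) →* ℂˣ) → (G → ℂ)}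
    {ω ω' : ↥(W₁ ⊔ W₂) →* ℂˣ} (h : AgreeR W₁ W₂ ω ω') : colSum η ω = colSum η ω' := by
  rw [colSum, colSum, show {ν | AgreeR W₁ W₂ ω ν} = {ν | AgreeR W₁ W₂ ω' ν} from
    Set.ext fun ν => ⟨fun e => h.symm.trans e, fun e => h.trans e⟩]

namespace Ctx

variable {M W₁ U W₂ C : Subgroup G} {p : ℕ} {μ : (↥(W₁ ⊔ W₂) →* ℂˣ) → (↥M → ℂ)}
  {δ : (↥(W₁ ⊔ W₂) →* ℂˣ) → ℂ} {η : (↥(W₁ ⊔ W₂) →* ℂˣ) → (G → ℂ)}
  (c : Ctx M W₁ U W₂ C p μ δ η) (hA : FirstCase M W₁ W₂ C μ η)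

include c

theorem gen_colSum (ω : ↥(W₁ ⊔ W₂) →* ℂˣ) : Cfsg.IsGeneralizedCharacter G (colSum η ω) :=
  haveI := finite_linChar c.hW
  isGeneralizedCharacter_colSum c.η_gen ω

theorem img_gen {ζ : ↥M → ℂ} (hζ : ζ ∈ degQ M C) :
    Cfsg.IsGeneralizedCharacter G (img M μ η ζ) :=
  isGeneralizedCharacter_sub (c.gen_colSum 1) (c.tau_gen (c.supp_g hζ) (c.gen_g hζ))

/-- Inner products with `colSum η ω` as sums over the column. -/
theorem inner_colSum (f : G → ℂ) (ω : ↥(W₁ ⊔ W₂) →* ℂˣ) {z : ℂ}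
    (h : ∀ ν, AgreeR W₁ W₂ ω ν → Cfsg.classInner f (η ν) = z) :
    Cfsg.classInner f (colSum η ω) = (Nat.card W₁ : ℂ) * z := by
  haveI := finite_linChar c.hW
  haveI := Fintype.ofFinite (↥(W₁ ⊔ W₂) →* ℂˣ)
  haveI : Fintype {φ : ↥(W₁ ⊔ W₂) →* ℂˣ // TrivR φ} := Fintype.ofFinite _
  rw [colSum, c.colSum_eq (AgreeR.refl ω) η, classInner_sum_right,
    Finset.sum_congr rfl fun φ _ => h _ (c.agreeR_mul φ.2).symm, Finset.sum_const, Finset.card_univ,
    ← Nat.card_eq_fintype_card, card_trivR c.hW, nsmul_eq_mul]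

include hA

theorem img_η {ζ : ↥M → ℂ} (hζ : ζ ∈ degQ M C) (ν : ↥(W₁ ⊔ W₂) →* ℂˣ) :
    Cfsg.classInner (img M μ η ζ) (η ν) = 0 := by
  rw [img, classInner_sub_left, hA ζ hζ, c.ti.classInner_colSum_η c.hW, sub_self]

theorem tau_g_colSum {ζ : ↥M → ℂ} (hζ : ζ ∈ degQ M C) :
    Cfsg.classInner (tau M (red M μ 1 - ζ)) (colSum η 1) = (Nat.card W₁ : ℂ) := by
  rw [c.inner_colSum _ 1 (z := 1) fun ν hν => by rw [hA ζ hζ, if_pos hν], mul_one]

theorem img_inner {ζ ζ' : ↥M → ℂ} (hζ : ζ ∈ degQ M C) (hζ' : ζ' ∈ degQ M C) :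
    Cfsg.classInner (img M μ η ζ) (img M μ η ζ') = if ζ = ζ' then 1 else 0 := by
  rw [img, img, classInner_sub_left, classInner_sub_right, classInner_sub_right,
    c.ti.classInner_colSum_colSum c.hW, if_pos (AgreeR.refl _),
    c.tau_isometry (c.supp_g hζ) (c.supp_g hζ').cls, c.g_g hζ hζ', c.tau_g_colSum hA hζ,
    classInner_conj_symm (tau M (red M μ 1 - ζ')) (colSum η 1), c.tau_g_colSum hA hζ', map_natCast]
  ring

theorem img_sub {ζ ζ' : ↥M → ℂ} :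
    img M μ η ζ - img M μ η ζ' = tau M (ζ - ζ') := by
  rw [img, img, sub_sub_sub_cancel_left, ← c.tau_sub]
  congr 1
  abel

theorem img_signed {ζ : ↥M → ℂ} (hζ : ζ ∈ degQ M C) : IsSigned (img M μ η ζ) :=
  isSigned_of_norm_one (c.img_gen hζ) (by rw [c.img_inner hA hζ hζ, if_pos rfl])

/-- The image lies in `R ζ`. -/
theorem img_mem_R {R : (↥M → ℂ) → Finset (G → ℂ)}
    (hR : Cfsg.IsCoherenceSystem (calS M (Cfsg.typeCore M) ⊥) (tau M) R)
    {ζ : ↥M → ℂ} (hζ : ζ ∈ degQ M C) : img M μ η ζ ∈ R ζ := by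
  have hz := c.ζ_mem_S hζ
  have hne : ζ ≠ Cfsg.conjFun ζ := (hR.conj_ne ζ hz).symm
  have h1 : Cfsg.classInner (∑ α ∈ R ζ, α) (img M μ η ζ) = 1 := by
    rw [← hR.sum_eq ζ hz, ← c.img_sub hA, classInner_sub_left, c.img_inner hA hζ hζ,
      c.img_inner hA (c.ζ_conj hζ) hζ, if_pos rfl, if_neg hne.symm, sub_zero]
  rw [classInner_sum_left] at h1
  have hsig : ∀ α ∈ R ζ, IsSigned α := fun α hα =>
    isSigned_of_norm_one (hR.virtual ζ hz α hα) (R_norm hR hz α hα)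
  by_contra hnot
  have h0 : ∀ α ∈ R ζ, α ≠ -img M μ η ζ → Cfsg.classInner α (img M μ η ζ) = 0 := by
    intro α hα hne'
    rcases (hsig α hα).cases (c.img_signed hA hζ) with e | e | e
    · exact absurd (e ▸ hα) hnot
    · exact absurd e hne'
    · exact e
  by_cases hm : -img M μ η ζ ∈ R ζ
  · rw [Finset.sum_eq_single_of_mem _ hm fun α hα h => h0 α hα h, classInner_neg_left,
      c.img_inner hA hζ hζ, if_pos rfl] at h1
    norm_num at h1
  · rw [Finset.sum_eq_zero fun α hα => h0 α hα fun e => hm (e ▸ hα)] at h1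
    exact zero_ne_one h1

/-! ### `τ(μ_{0j} - 1 - m ζ)` -/

/-- The count `#S(M''): q · n = u - 1`. -/
theorem degQ_sum : (((indAboveFinset ((⁅M, M⁆ : Subgroup G).subgroupOf M)
    ((Cfsg.fittingHallOf M ⊔ C).subgroupOf M)).card : ℕ) : ℝ) * (Nat.card W₁ : ℝ) =
      (C.relIndex U : ℝ) - 1 := by
  haveI : ((Cfsg.fittingHallOf M ⊔ C).subgroupOf M).Normal := subgroupOf_normal c.s.HC_normal
  set K := (⁅M, M⁆ : Subgroup G).subgroupOf M with hK
  set A := (Cfsg.fittingHallOf M ⊔ C).subgroupOf M with hA'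
  have h := sum_indAbove (K := K) (derived_subgroupOf_normal M) A
  have he : ∀ φ ∈ indAboveFinset K A,
      ((natDeg φ : ℝ) ^ 2 / (natNorm φ : ℝ)) = (Nat.card W₁ : ℝ) ^ 2 := by
    intro φ hφ
    rw [← Finset.mem_coe, coe_indAboveFinset] at hφ
    have hch := isCharacter_of_irr (c.ζ_irr hφ)
    have h1 : natDeg φ = Nat.card W₁ := by
      have := natDeg_spec hch
      rw [c.ζ_one hφ] at this
      exact_mod_cast this.symm
    have h2 : natNorm φ = 1 := by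
      have := natNorm_spec hch
      rw [classInner_irr_self (c.ζ_irr hφ)] at this
      exact_mod_cast this.symm
    rw [h1, h2, Nat.cast_one, div_one]
  rw [Finset.sum_congr rfl he, Finset.sum_const, nsmul_eq_mul] at h
  have e2 : A.relIndex K = C.relIndex U := by
    rw [hA', hK, Subgroup.relIndex_subgroupOf (Subgroup.commutator_le_self M), c.s.HC_relIndex]
  rw [e2, hK, c.s.index_K] at h
  have hq : (Nat.card W₁ : ℝ) ≠ 0 := Nat.cast_ne_zero.mpr Nat.card_pos.ne'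
  refine mul_left_cancel₀ hq ?_
  rw [← h]
  ring

set_option maxHeartbeats 1000000 in
theorem tau_beta {ζ : ↥M → ℂ} (hζ : ζ ∈ degQ M C) {ψ : ↥(W₁ ⊔ W₂) →* ℂˣ} (hψ : TrivL ψ)
    (hψ1 : ψ ≠ 1) {m : ℕ} (hm : Nat.card W₁ * m + 1 = C.relIndex U) :
    tau M (μ ψ - μ 1 - (m : ℂ) • ζ) = η ψ - η 1 - (m : ℂ) • img M μ η ζ := by
  have hW := c.hW
  have hdisj := hW.2.2.1
  have hcomm := hW.2.2.2.1
  haveI := finite_linChar hW
  haveI := Fintype.ofFinite (↥(W₁ ⊔ W₂) →* ℂˣ)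
  haveI : Fintype {φ : ↥(W₁ ⊔ W₂) →* ℂˣ // TrivR φ} := Fintype.ofFinite _
  haveI : Fintype {ψ : ↥(W₁ ⊔ W₂) →* ℂˣ // TrivL ψ} := Fintype.ofFinite _
  obtain ⟨hpW, hp, -⟩ := c.s.prime_eq c.I
  have hp3 := c.s.p_ge c.I
  have hq3 := c.s.q_ge c.I
  set q := Nat.card W₁ with hq
  have hL1 : TrivL (1 : ↥(W₁ ⊔ W₂) →* ℂˣ) := fun _ _ => rfl
  have hR1 : TrivR (1 : ↥(W₁ ⊔ W₂) →* ℂˣ) := fun _ _ => rfl
  have hcard : Fintype.card {φ : ↥(W₁ ⊔ W₂) →* ℂˣ // TrivR φ} = q := by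
    rw [← Nat.card_eq_fintype_card, card_trivR hW]
  have hcardL : Fintype.card {ψ : ↥(W₁ ⊔ W₂) →* ℂˣ // TrivL ψ} = p := by
    rw [← Nat.card_eq_fintype_card, card_trivL hW, hpW]
  have hnψ := c.not_one_of_trivL hψ hψ1
  set f := μ ψ - μ 1 - (m : ℂ) • ζ with hf
  have hζcls := isClassFunction_of_isCharacter (isCharacter_of_irr (c.ζ_irr hζ))
  have hS : Supp M W₁ f := by
    refine ⟨fun x y => ?_, ?_, fun x hx => ?_⟩
    · simp only [hf, Pi.sub_apply, Pi.smul_apply, c.cls_μ _ x y, hζcls x y]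
    · simp only [hf, Pi.sub_apply, Pi.smul_apply, (c.column_value hnψ).1, c.ti.μ_one, c.ζ_one hζ,
        smul_eq_mul]
      rw [← hq, ← hm]
      push_cast
      ring
    · by_cases hK : (x : G) ∈ (⁅M, M⁆ : Subgroup G)
      · have hx1 : x = 1 := Subtype.ext (Subgroup.mem_bot.mp (c.data.W₁_compl.2.2.1.le ⟨hK, hx⟩))
        simp only [hx1, hf, Pi.sub_apply, Pi.smul_apply, (c.column_value hnψ).1, c.ti.μ_one,
          c.ζ_one hζ, smul_eq_mul]
        rw [← hq, ← hm]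
        push_cast
        ring
      · have hxW : (x : G) ∈ W₁ ⊔ W₂ := Subgroup.mem_sup_left hx
        have hx2 : (x : G) ∉ W₂ := fun h2 => hK (TypeP.core_le_derived c.data
          (TypeP.W₂_le_core c.data h2))
        simp only [hf, Pi.sub_apply, Pi.smul_apply, c.ti.μ_value _ x hxW hx2,
          (c.column_value hnψ).2, hψ ⟨x, hxW⟩ hx, c.ti.μ_one, c.ζ_vanish hζ hK, Units.val_one,
          mul_one, smul_zero, sub_self]
  have hgen : Cfsg.IsGeneralizedCharacter ↥M f :=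
    isGeneralizedCharacter_sub (isGeneralizedCharacter_sub (c.gen_μ ψ) (c.gen_μ 1))
      (isGeneralizedCharacter_natCast_smul
        (isGeneralizedCharacter_of_isCharacter (isCharacter_of_irr (c.ζ_irr hζ))) m)
  have hfμ : ∀ ν, Cfsg.classInner f (μ ν) =
      (if ψ = ν then 1 else 0) - (if (1 : ↥(W₁ ⊔ W₂) →* ℂˣ) = ν then 1 else 0) := fun ν => by
    rw [hf, classInner_sub_left, classInner_sub_left, classInner_smul_left, c.inner_μ, c.inner_μ,
      c.ζ_inner_μ hζ, mul_zero, sub_zero]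
  choose k hk using fun ν => classInner_generalized_int (c.tau_gen hS hgen) (c.η_gen ν)
  have hne1 : ∀ {φ ψ' : ↥(W₁ ⊔ W₂) →* ℂˣ}, TrivR φ → TrivL ψ' → ψ' ≠ 1 →
      (1 : ↥(W₁ ⊔ W₂) →* ℂˣ) ≠ φ * ψ' := fun {φ ψ'} hφ hψ' h1 e =>
    c.not_one_of_trivL hψ' h1 ((c.agreeR_mul hφ).symm.trans (by rw [← e]; exact AgreeR.refl 1))
  have hψφ : ∀ {φ : ↥(W₁ ⊔ W₂) →* ℂˣ}, TrivR φ → ψ ≠ φ := fun hφ e => hnψ (e ▸ c.agreeR_one hφ)
  have hk1 : k 1 = -1 := by
    have h := c.tau_one hS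
    rw [hk, hfμ, if_neg hψ1, if_pos rfl, zero_sub] at h
    exact_mod_cast h
  set Y : ℤ := k ψ - 1 with hY
  have hrow : ∀ ψ', TrivL ψ' → ψ' ≠ 1 → k ψ' = Y + if ψ = ψ' then 1 else 0 := fun ψ' hψ' h1 => by
    have h := c.coeff_row hS hψ' hψ h1 hψ1
    rw [hk, hk, hfμ, hfμ, if_pos rfl, if_neg (Ne.symm h1), if_neg hψ1.symm] at h
    have h' : ((k ψ' : ℤ) : ℂ) = ((Y + if ψ = ψ' then 1 else 0 : ℤ) : ℂ) := by
      split_ifs with e
      · rw [if_pos e] at h; rw [hY]; push_cast; linear_combination h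
      · rw [if_neg e] at h; rw [hY]; push_cast; linear_combination h
    exact_mod_cast h'
  have htab : ∀ φ ψ', TrivR φ → TrivL ψ' → φ ≠ 1 → ψ' ≠ 1 → k (φ * ψ') = k φ + Y := by
    intro φ ψ' hφ hψ' hφ1 h1
    have h := c.coeff_square hS hφ hψ' h1
    have hne : ψ ≠ φ * ψ' := fun e => hφ1 ((mul_inj_trivR_trivL hdisj hcomm hR1 hφ hψ hψ'
      ((show (1 : ↥(W₁ ⊔ W₂) →* ℂˣ) * ψ = ψ from MonoidHom.ext fun w => one_mul _).trans e)).1).symm
    rw [hk, hk, hk, hfμ, hfμ, hfμ, hfμ, if_neg hne, if_neg (hne1 hφ hψ' h1),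
      if_neg (hψφ hφ), if_neg (Ne.symm hφ1), if_neg hψ1, if_pos rfl, if_neg (Ne.symm h1),
      hrow ψ' hψ' h1] at h
    have h' : ((k (φ * ψ') : ℤ) : ℂ) = ((k φ + Y : ℤ) : ℂ) := by
      split_ifs at h <;> push_cast at h ⊢ <;> linear_combination h
    exact_mod_cast h'
  have hinv : ∀ φ, TrivR φ → k φ⁻¹ = k φ := by
    intro φ hφ
    obtain ⟨R, hR, hirr, -⟩ := c.I.subcoherent M W₁ U W₂ c.s.max c.data μ δ η c.ti
    have hψi : TrivL ψ⁻¹ := fun w hw => by rw [MonoidHom.inv_apply, hψ w hw, inv_one]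
    have hψi1 : ψ⁻¹ ≠ 1 := fun e => hψ1 (by rw [← linInv ψ, e, linInv_one])
    have hag : AgreeL W₁ W₂ ψ⁻¹ ψ := fun w hw => (hψi w hw).trans (hψ w hw).symm
    have hconj : Cfsg.conjFun f = f + ((μ ψ⁻¹ - μ ψ) + (m : ℂ) • (ζ - Cfsg.conjFun ζ)) := by
      funext x
      simp only [hf, Cfsg.conjFun, Pi.add_apply, Pi.sub_apply, Pi.smul_apply, smul_eq_mul, map_sub,
        map_mul, map_natCast, c.ti.μ_conj ψ, c.ti.μ_one, map_one]
      ring
    have hφi : AgreeR W₁ W₂ φ⁻¹ 1 := fun w hw => by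
      rw [MonoidHom.inv_apply, hφ w hw, inv_one, MonoidHom.one_apply]
    have h0 : Cfsg.classInner (tau M (ζ - Cfsg.conjFun ζ)) (η φ⁻¹) = 0 := by
      rw [hR.sum_eq ζ (c.ζ_mem_S hζ), classInner_sum_left]
      exact Finset.sum_eq_zero fun α hα => hirr ζ (c.ζ_mem_S hζ) (c.ζ_irr hζ) α hα _
    have h1 : Cfsg.classInner (tau M (μ ψ⁻¹ - μ ψ)) (η φ⁻¹) = 0 := by
      rw [c.tau_rows hag (c.not_one_of_trivL hψi hψi1) hnψ, classInner_sub_left,
        c.ti.family.orthonormal, c.ti.family.orthonormal,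
        if_neg fun e : ψ⁻¹ = φ⁻¹ => c.not_one_of_trivL hψi hψi1 (e.symm ▸ hφi),
        if_neg fun e : ψ = φ⁻¹ => hnψ (e.symm ▸ hφi),
        sub_zero]
    have hk' : Cfsg.classInner (tau M f) (η φ⁻¹) = conj (Cfsg.classInner (tau M f) (η φ)) := by
      rw [← classInner_conjFun, ← c.ti.η_conj,
        show Cfsg.conjFun (tau M f) = tau M (Cfsg.conjFun f) from (Sec12.dade_conjFun _).symm,
        hconj, c.tau_add, c.tau_add, c.tau_smul, classInner_add_left, classInner_add_left,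
        classInner_smul_left, h0, h1, mul_zero, add_zero, add_zero]
    rw [hk, hk, map_intCast] at hk'
    exact_mod_cast hk'
  set e₁ : {φ : ↥(W₁ ⊔ W₂) →* ℂˣ // TrivR φ} := ⟨1, hR1⟩ with he₁
  set rest := (Finset.univ : Finset {φ : ↥(W₁ ⊔ W₂) →* ℂˣ // TrivR φ}).erase e₁ with hrest
  set X : ℤ := ∑ φ ∈ rest, k φ.1 with hX
  have hXeven : (2 : ℤ) ∣ X := by
    have hz : ∑ φ ∈ rest, ((k φ.1 : ℤ) : ZMod 2) = 0 := by
      refine Finset.sum_involution (fun φ _ => ⟨φ.1⁻¹, fun w hw => by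
        rw [MonoidHom.inv_apply, φ.2 w hw, inv_one]⟩) (fun φ hφ => ?_) (fun φ hφ _ e => ?_)
        (fun φ hφ => ?_) (fun φ _ => Subtype.ext (linInv _))
      · show ((k φ.1 : ℤ) : ZMod 2) + ((k φ.1⁻¹ : ℤ) : ZMod 2) = 0
        rw [hinv _ φ.2, ← two_mul, show (2 : ZMod 2) = 0 from by decide, zero_mul]
      · exact (Finset.mem_erase.mp hφ).1
          (Subtype.ext (lin_inv_eq_self c.odd (congrArg Subtype.val e)))
      · refine Finset.mem_erase.mpr ⟨fun e => (Finset.mem_erase.mp hφ).1 (Subtype.ext ?_),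
          Finset.mem_univ _⟩
        have e' : φ.1⁻¹ = 1 := congrArg Subtype.val e
        show φ.1 = 1
        rw [← linInv φ.1, e', linInv_one]
    rw [← Int.cast_sum, ← hX] at hz
    exact_mod_cast (ZMod.intCast_zmod_eq_zero_iff_dvd X 2).mp hz
  set S₁ := indAboveFinset ((⁅M, M⁆ : Subgroup G).subgroupOf M)
    ((Cfsg.fittingHallOf M ⊔ C).subgroupOf M) with hS₁
  have hS₁m : ∀ {z}, z ∈ S₁ → z ∈ degQ M C := fun {z} hz => by
    rwa [hS₁, ← Finset.mem_coe, coe_indAboveFinset] at hz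
  have hζS₁ : ζ ∈ S₁ := by rw [hS₁, ← Finset.mem_coe, coe_indAboveFinset]; exact hζ
  have hN : S₁.card = m := by
    have h := c.degQ_sum hA
    rw [← hS₁, ← hm, ← hq] at h
    push_cast at h
    have hq0 : (q : ℝ) ≠ 0 := Nat.cast_ne_zero.mpr (by omega)
    have : (S₁.card : ℝ) = (m : ℝ) := mul_right_cancel₀ hq0 (by linarith)
    exact_mod_cast this
  have hcol : Cfsg.classInner (tau M f) (colSum η 1) = ((-1 + X : ℤ) : ℂ) := by
    rw [colSum, c.colSum_eq (AgreeR.refl 1) η, classInner_sum_right,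
      ← Finset.add_sum_erase _ _ (Finset.mem_univ e₁), ← hrest]
    push_cast
    rw [hX, Int.cast_sum]
    refine congrArg₂ (· + ·) ?_ (Finset.sum_congr rfl fun φ _ => ?_)
    · rw [he₁, show (1 : ↥(W₁ ⊔ W₂) →* ℂˣ) * 1 = 1 from MonoidHom.ext fun w => one_mul _, hk, hk1]
      norm_num
    · rw [show φ.1 * 1 = φ.1 from MonoidHom.ext fun w => mul_one _, hk]
  have himg : ∀ z ∈ S₁, Cfsg.classInner (tau M f) (img M μ η z) =
      ((X - if ζ = z then (m : ℤ) else 0 : ℤ) : ℂ) := by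
    intro z hz
    have hz' := hS₁m hz
    rw [img, classInner_sub_right, hcol, c.tau_isometry hS (c.supp_g hz').cls, classInner_sub_right,
      hf, classInner_sub_left, classInner_sub_left, classInner_sub_left, classInner_sub_left,
      classInner_smul_left, classInner_smul_left, (c.ζ_red hζ 1).1,
      classInner_conj_symm (red M μ 1) (μ ψ), classInner_conj_symm (red M μ 1) (μ 1),
      c.ti.classInner_red_μ hW, c.ti.classInner_red_μ hW,
      if_neg (fun e : AgreeR W₁ W₂ 1 ψ => hnψ e.symm), if_pos (AgreeR.refl _),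
      classInner_conj_symm z (μ ψ), classInner_conj_symm z (μ 1), c.ζ_inner_μ hz', c.ζ_inner_μ hz']
    by_cases e : ζ = z
    · subst e
      rw [classInner_irr_self (c.ζ_irr hζ), if_pos rfl]
      simp only [map_zero, map_one]
      push_cast
      ring
    · rw [classInner_irr_ne (c.ζ_irr hζ) (c.ζ_irr hz') e, if_neg e]
      simp only [map_zero, map_one]
      push_cast
      ring
  have hff : Cfsg.classInner f f = ((2 + (m : ℤ) ^ 2 : ℤ) : ℂ) := by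
    conv_lhs => arg 2; rw [hf]
    rw [classInner_sub_right, classInner_sub_right, classInner_smul_right, map_natCast, hfμ, hfμ,
      if_pos rfl, if_pos rfl, if_neg hψ1, if_neg hψ1.symm]
    rw [hf, classInner_sub_left, classInner_sub_left, classInner_smul_left,
      classInner_conj_symm ζ (μ ψ), classInner_conj_symm ζ (μ 1), c.ζ_inner_μ hζ, c.ζ_inner_μ hζ,
      classInner_irr_self (c.ζ_irr hζ)]
    simp only [map_zero]
    push_cast
    ring
  have hbessel : ∑ ν, k ν * k ν + ∑ z ∈ S₁, (X - if ζ = z then (m : ℤ) else 0) ^ 2 ≤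
      2 + (m : ℤ) ^ 2 := by
    let v : (↥(W₁ ⊔ W₂) →* ℂˣ) ⊕ {z // z ∈ S₁} → G → ℂ := Sum.elim η fun z => img M μ η z.1
    have hv : ∀ i j, Cfsg.classInner (v i) (v j) = if i = j then 1 else 0 := by
      rintro (a | a) (b | b)
      · show Cfsg.classInner (η a) (η b) = _
        rw [c.ti.family.orthonormal]
        simp
      · show Cfsg.classInner (η a) (img M μ η b.1) = _
        rw [classInner_conj_symm (img M μ η b.1) (η a), c.img_η hA (hS₁m b.2), map_zero,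
          if_neg (by simp)]
      · show Cfsg.classInner (img M μ η a.1) (η b) = _
        rw [c.img_η hA (hS₁m a.2), if_neg (by simp)]
      · show Cfsg.classInner (img M μ η a.1) (img M μ η b.1) = _
        rw [c.img_inner hA (hS₁m a.2) (hS₁m b.2)]
        by_cases e : a = b
        · rw [if_pos (congrArg Subtype.val e), if_pos (congrArg Sum.inr e)]
        · rw [if_neg fun h => e (Subtype.ext h), if_neg fun h => e (Sum.inr.inj h)]
    have hb := Sec12.bessel v (fun i j => by convert hv i j) (tau M f)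
    rw [c.tau_isometry hS hS.cls, hff, Complex.intCast_re, Fintype.sum_sum_type] at hb
    simp only [v, Sum.elim_inl, Sum.elim_inr] at hb
    have e1 : ∑ ν, Complex.normSq (Cfsg.classInner (tau M f) (η ν)) =
        ((∑ ν, k ν * k ν : ℤ) : ℝ) := by
      push_cast
      exact Finset.sum_congr rfl fun ν _ => by
        rw [hk, ← Complex.ofReal_intCast, Complex.normSq_ofReal]
    have e2 : ∑ z : {z // z ∈ S₁}, Complex.normSq (Cfsg.classInner (tau M f) (img M μ η z.1)) =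
        ((∑ z ∈ S₁, (X - if ζ = z then (m : ℤ) else 0) ^ 2 : ℤ) : ℝ) := by
      rw [Finset.sum_coe_sort S₁ fun z => Complex.normSq (Cfsg.classInner (tau M f) (img M μ η z))]
      push_cast
      exact Finset.sum_congr rfl fun z hz => by
        rw [himg z hz, ← Complex.ofReal_intCast, Complex.normSq_ofReal, sq]; push_cast; rfl
    rw [e1, e2, ← Int.cast_add] at hb
    exact_mod_cast hb
  have hS₁sum : ∑ z ∈ S₁, (X - if ζ = z then (m : ℤ) else 0) ^ 2 =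
      (m : ℤ) * X ^ 2 - 2 * m * X + m ^ 2 := by
    rw [← Finset.add_sum_erase _ _ hζS₁, if_pos rfl, Finset.sum_congr rfl fun z hz => by
      rw [if_neg fun e => (Finset.mem_erase.mp hz).1 e.symm, sub_zero], Finset.sum_const,
      Finset.card_erase_of_mem hζS₁, hN, nsmul_eq_mul]
    rcases Nat.eq_zero_or_pos m with h0 | h0
    · exact absurd (Finset.card_eq_zero.mp (hN.trans h0)) (Finset.ne_empty_of_mem hζS₁)
    · push_cast [Nat.cast_sub h0]
      ring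
  set t : {φ : ↥(W₁ ⊔ W₂) →* ℂˣ // TrivR φ} → ℤ :=
    fun φ => k φ.1 ^ 2 + ((p : ℤ) - 1) * (k φ.1 + Y) ^ 2 with ht
  have hνsum : ∑ ν, k ν * k ν = 2 + ((p : ℤ) - 1) * Y ^ 2 + 2 * Y + ∑ φ ∈ rest, t φ := by
    rw [← (pairEquiv hW).sum_comp, Fintype.sum_prod_type,
      ← Finset.add_sum_erase _ _ (Finset.mem_univ e₁), ← hrest]
    refine congrArg₂ (· + ·) ?_ (Finset.sum_congr rfl fun φ hφ => ?_)
    · set l₁ : {ψ : ↥(W₁ ⊔ W₂) →* ℂˣ // TrivL ψ} := ⟨1, hL1⟩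
      rw [← Finset.add_sum_erase _ _ (Finset.mem_univ l₁)]
      show k ((1 : ↥(W₁ ⊔ W₂) →* ℂˣ) * 1) * k ((1 : ↥(W₁ ⊔ W₂) →* ℂˣ) * 1) + _ = _
      rw [show (1 : ↥(W₁ ⊔ W₂) →* ℂˣ) * 1 = 1 from MonoidHom.ext fun w => one_mul _, hk1,
        Finset.sum_congr rfl fun ψ' (hψ' : ψ' ∈ _) => by
          show k ((1 : ↥(W₁ ⊔ W₂) →* ℂˣ) * ψ'.1) * k ((1 : ↥(W₁ ⊔ W₂) →* ℂˣ) * ψ'.1) =
            Y ^ 2 + if (⟨ψ, hψ⟩ : {ψ : ↥(W₁ ⊔ W₂) →* ℂˣ // TrivL ψ}) = ψ' then 2 * Y + 1 else 0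
          rw [show (1 : ↥(W₁ ⊔ W₂) →* ℂˣ) * ψ'.1 = ψ'.1 from MonoidHom.ext fun w => one_mul _,
            hrow ψ'.1 ψ'.2 fun e => (Finset.mem_erase.mp hψ').1 (Subtype.ext e)]
          by_cases e : ψ = ψ'.1
          · rw [if_pos e, if_pos (Subtype.ext e)]; ring
          · rw [if_neg e, if_neg fun e' => e (congrArg Subtype.val e')]; ring,
        Finset.sum_add_distrib, Finset.sum_const, Finset.card_erase_of_mem (Finset.mem_univ _),
        Finset.card_univ, hcardL, Finset.sum_ite_eq, if_pos (Finset.mem_erase.mpr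
          ⟨fun e => hψ1 (congrArg Subtype.val e), Finset.mem_univ _⟩), nsmul_eq_mul,
        Nat.cast_sub (by omega : 1 ≤ p)]
      push_cast
      ring
    · set l₁ : {ψ : ↥(W₁ ⊔ W₂) →* ℂˣ // TrivL ψ} := ⟨1, hL1⟩
      have hφ1 : φ.1 ≠ 1 := fun e => (Finset.mem_erase.mp hφ).1 (Subtype.ext e)
      rw [← Finset.add_sum_erase _ _ (Finset.mem_univ l₁),
        Finset.sum_congr rfl fun ψ' (hψ' : ψ' ∈ _) => by
          show k (φ.1 * ψ'.1) * k (φ.1 * ψ'.1) = (k φ.1 + Y) * (k φ.1 + Y)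
          rw [htab φ.1 ψ'.1 φ.2 ψ'.2 hφ1 fun e => (Finset.mem_erase.mp hψ').1 (Subtype.ext e)],
        Finset.sum_const, Finset.card_erase_of_mem (Finset.mem_univ _), Finset.card_univ, hcardL,
        nsmul_eq_mul, Nat.cast_sub (by omega : 1 ≤ p)]
      show k (φ.1 * 1) * k (φ.1 * 1) + _ = t φ
      rw [show φ.1 * 1 = φ.1 from MonoidHom.ext fun w => mul_one _, ht]
      push_cast
      ring
  rw [hS₁sum, hνsum] at hbessel
  have hpZ : (2 : ℤ) ≤ (p : ℤ) - 1 := by omega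
  have hYY : 0 ≤ ((p : ℤ) - 1) * Y ^ 2 + 2 * Y := by
    have h1 : 0 ≤ Y * (Y + 1) := by
      rcases le_or_gt 0 Y with h | h
      · positivity
      · nlinarith
    nlinarith [mul_le_mul_of_nonneg_right hpZ (sq_nonneg Y)]
  have hXX : 0 ≤ (m : ℤ) * X ^ 2 - 2 * m * X := by
    obtain ⟨j, hj⟩ := hXeven
    have h1 : 0 ≤ j * (j - 1) := by
      rcases le_or_gt 1 j with h | h
      · nlinarith
      · nlinarith
    rw [hj]
    nlinarith
  have htnn : ∀ φ, 0 ≤ t φ := fun φ => by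
    simp only [ht]
    nlinarith [sq_nonneg (k φ.1), mul_nonneg (show (0 : ℤ) ≤ (p : ℤ) - 1 by omega)
      (sq_nonneg (k φ.1 + Y))]
  have htz : ∀ φ ∈ rest, t φ = 0 := fun φ hφ =>
    le_antisymm (le_trans (Finset.single_le_sum (fun x _ => htnn x) hφ) (by linarith)) (htnn φ)
  have hkz : ∀ φ ∈ rest, k φ.1 = 0 ∧ Y = 0 := fun φ hφ => by
    have h := htz φ hφ
    simp only [ht] at h
    have h1 : k φ.1 ^ 2 = 0 := le_antisymm
      (by nlinarith [mul_nonneg (show (0 : ℤ) ≤ (p : ℤ) - 1 by omega) (sq_nonneg (k φ.1 + Y))])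
      (sq_nonneg _)
    have h2 : k φ.1 = 0 := pow_eq_zero_iff two_ne_zero |>.mp h1
    rw [h2] at h
    refine ⟨h2, ?_⟩
    have : ((p : ℤ) - 1) * Y ^ 2 = 0 := by linarith
    rcases mul_eq_zero.mp this with r | r
    · omega
    · exact pow_eq_zero_iff two_ne_zero |>.mp r
  have hX0 : X = 0 := Finset.sum_eq_zero fun φ hφ => (hkz φ hφ).1
  obtain ⟨φ₂, hφ₂⟩ : rest.Nonempty := by
    rw [← Finset.card_pos, hrest, Finset.card_erase_of_mem (Finset.mem_univ _), Finset.card_univ, hcard]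
    omega
  have hY0 : Y = 0 := (hkz φ₂ hφ₂).2
  have hkψ : k ψ = 1 := by omega
  -- the difference has norm zero
  refine sub_eq_zero.mp (eq_zero_of_classInner_self ?_)
  obtain ⟨T, hT⟩ : ∃ T, T = η ψ - η 1 - (m : ℂ) • img M μ η ζ := ⟨_, rfl⟩
  rw [← hT]
  have hζ1 : Cfsg.classInner (tau M f) (img M μ η ζ) = -(m : ℂ) := by
    rw [himg ζ hζS₁, hX0, if_pos rfl]; push_cast; ring
  have hfT : Cfsg.classInner (tau M f) T = ((2 + (m : ℤ) ^ 2 : ℤ) : ℂ) := by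
    rw [hT, classInner_sub_right, classInner_sub_right, classInner_smul_right, hk, hk, hk1, hkψ,
      hζ1, map_natCast]
    push_cast
    ring
  have hTT : Cfsg.classInner T T = ((2 + (m : ℤ) ^ 2 : ℤ) : ℂ) := by
    rw [hT]
    simp only [classInner_sub_left, classInner_sub_right, classInner_smul_left, classInner_smul_right,
      c.ti.family.orthonormal, c.img_η hA hζ, c.img_inner hA hζ hζ,
      classInner_conj_symm (img M μ η ζ) (η ψ), classInner_conj_symm (img M μ η ζ) (η 1),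
      map_zero, map_natCast, if_pos, if_neg hψ1, if_neg hψ1.symm]
    push_cast
    ring
  rw [classInner_sub_left, classInner_sub_right, classInner_sub_right, c.tau_isometry hS hS.cls, hff,
    classInner_conj_symm (tau M f) T, hfT, hTT, map_intCast]
  ring

/-- The bridge between the degree-`q` characters and the columns. -/
theorem tau_column {ζ : ↥M → ℂ} (hζ : ζ ∈ degQ M C) {ω : ↥(W₁ ⊔ W₂) →* ℂˣ}
    (hω : ¬ AgreeR W₁ W₂ ω 1) :
    tau M (red M μ ω - (C.relIndex U : ℂ) • ζ) =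
      colSum η ω - (C.relIndex U : ℂ) • img M μ η ζ := by
  have hW := c.hW
  haveI := finite_linChar hW
  haveI := Fintype.ofFinite (↥(W₁ ⊔ W₂) →* ℂˣ)
  haveI : Fintype {φ : ↥(W₁ ⊔ W₂) →* ℂˣ // TrivR φ} := Fintype.ofFinite _
  obtain ⟨φ₀, ψ, hφ₀, hψ, rfl⟩ := exists_trivR_mul_trivL hW.2.2.1 hW.2.2.2.1 ω
  have hag : AgreeR W₁ W₂ (φ₀ * ψ) ψ := c.agreeR_mul hφ₀
  have hψ1 : ψ ≠ 1 := fun e => hω (by rw [e] at hag ⊢; exact hag)
  obtain ⟨m, hm⟩ : ∃ m, Nat.card W₁ * m + 1 = C.relIndex U := by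
    obtain ⟨k, hk⟩ := (Nat.modEq_iff_dvd' c.s.one_lt_u.le).mp c.s.u_modEq.symm
    exact ⟨k, by have := c.s.one_lt_u; omega⟩
  have hcol : ∀ {A : Type u} [AddCommGroup A] [Module ℂ A] (F : (↥(W₁ ⊔ W₂) →* ℂˣ) → A),
      ∑ φ : {φ : ↥(W₁ ⊔ W₂) →* ℂˣ // TrivR φ}, (F (φ.1 * ψ) - F ψ - F φ.1 + F 1) =
        (∑ᶠ ν ∈ {ν | AgreeR W₁ W₂ (φ₀ * ψ) ν}, F ν) - (Nat.card W₁ : ℂ) • F ψ -
          (∑ᶠ ν ∈ {ν | AgreeR W₁ W₂ 1 ν}, F ν) + (Nat.card W₁ : ℂ) • F 1 := by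
    intro A _ _ F
    rw [c.colSum_eq hag F, c.colSum_eq (AgreeR.refl 1) F, Finset.sum_add_distrib,
      Finset.sum_sub_distrib, Finset.sum_sub_distrib, Finset.sum_const, Finset.sum_const,
      Finset.card_univ, ← Nat.card_eq_fintype_card, card_trivR hW,
      Nat.cast_smul_eq_nsmul, Nat.cast_smul_eq_nsmul]
    congr 2
    exact Finset.sum_congr rfl fun φ _ => by
      rw [show φ.1 * 1 = φ.1 from MonoidHom.ext fun w => mul_one _]
  have eM := hcol μ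
  have eG := hcol η
  rw [← c.ti.red_eq hW, ← c.ti.red_eq hW] at eM
  rw [← colSum, ← colSum] at eG
  have hsplit : red M μ (φ₀ * ψ) - (C.relIndex U : ℂ) • ζ =
      (∑ φ : {φ : ↥(W₁ ⊔ W₂) →* ℂˣ // TrivR φ}, (μ (φ.1 * ψ) - μ ψ - μ φ.1 + μ 1)) +
        (Nat.card W₁ : ℂ) • (μ ψ - μ 1 - (m : ℂ) • ζ) + (red M μ 1 - ζ) := by
    rw [eM, ← hm, Nat.cast_add, Nat.cast_mul, Nat.cast_one]
    module
  rw [hsplit, c.tau_add, c.tau_add, c.tau_smul, c.tau_beta hA hζ hψ hψ1 hm]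
  have hsum : tau M (∑ φ : {φ : ↥(W₁ ⊔ W₂) →* ℂˣ // TrivR φ}, (μ (φ.1 * ψ) - μ ψ - μ φ.1 + μ 1)) =
      ∑ φ : {φ : ↥(W₁ ⊔ W₂) →* ℂˣ // TrivR φ}, (η (φ.1 * ψ) - η ψ - η φ.1 + η 1) :=
    (Sec12.dade_map_sum _ _).trans (Finset.sum_congr rfl fun φ _ => c.tau_sq φ.2 hψ hψ1)
  rw [hsum, eG, show tau M (red M μ 1 - ζ) = colSum η 1 - img M μ η ζ from (sub_sub_cancel _ _).symm,
    ← hm, Nat.cast_add, Nat.cast_mul, Nat.cast_one]
  module

end Ctx

end CfsgLib.PF.Sec11
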