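import Cfsg.Agent.Lib.PF.Sec11Struct
import Cfsg.Agent.Lib.PF.Sec9Field
import Cfsg.Agent.Lib.PF.Sec9Lines

/-!
# Peterfalvi (11.7): `H₀ = 1`
-/

set_option autoImplicit false
set_option linter.unusedSectionVars false
set_option linter.style.haveILetI false

namespace CfsgLib.PF.Sec11

open Subgroup CfsgLib.OddOrder
open scoped commutatorElement Classical

universe u v

/-- A bi-additive map on a field of order `p^q`, `q` an odd prime, invariant under multiplication by
`λ ≠ 1` of odd order, is zero. -/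
theorem pairing_zero_of_field {F : Type v} [Field F] [Fintype F] {p q : ℕ} (hp : p.Prime)
    (_hq : q.Prime) (hq2 : Odd q) (hF : Fintype.card F = p ^ q) {A : Type u} [AddCommGroup A]
    (b : F →+ F →+ A) (l : F) (hl1 : l ≠ 1) {m : ℕ} (hm : Odd m) (hlm : l ^ m = 1)
    (hinv : ∀ x y, b (l * x) (l * y) = b x y) : b = 0 := by
  haveI : Fact p.Prime := ⟨hp⟩
  haveI : CharP F p := charP_of_card_eq_prime_pow hF
  letI : Algebra (ZMod p) F := ZMod.algebra F p
  have hl0 : l ≠ 0 := fun e => by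
    rw [e, zero_pow hm.pos.ne'] at hlm
    exact zero_ne_one hlm
  let S : Subring (F × F) :=
    { carrier := {a | ∀ x y, b (a.1 * x) y = b x (a.2 * y)}
      one_mem' := fun x y => by simp
      zero_mem' := fun x y => by simp
      mul_mem' := fun {a c} ha hc x y => by
        show b (a.1 * c.1 * x) y = b x (a.2 * c.2 * y)
        rw [mul_assoc, ha, hc, mul_comm a.2 c.2, mul_assoc]
      add_mem' := fun {a c} ha hc x y => by
        show b ((a.1 + c.1) * x) y = b x ((a.2 + c.2) * y)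
        rw [add_mul, add_mul, map_add, map_add, AddMonoidHom.add_apply, ha, hc]
      neg_mem' := fun {a} ha x y => by
        show b (-a.1 * x) y = b x (-a.2 * y)
        rw [neg_mul, neg_mul, map_neg, map_neg, AddMonoidHom.neg_apply, ha] }
  have hlS : (l, l⁻¹) ∈ S := fun x y => by
    show b (l * x) y = b x (l⁻¹ * y)
    rw [← hinv x (l⁻¹ * y), mul_inv_cancel_left₀ hl0]
  set P := minpoly (ZMod p) l with hP
  have hmem : ∀ R : Polynomial (ZMod p), (Polynomial.aeval l R, Polynomial.aeval l⁻¹ R) ∈ S := by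
    intro R
    induction R using Polynomial.induction_on' with
    | add R T hR hT =>
      rw [map_add, map_add]
      exact S.add_mem hR hT
    | monomial n c =>
      have e : ((Polynomial.aeval l (Polynomial.monomial n c), Polynomial.aeval l⁻¹ (Polynomial.monomial n c)) : F × F) =
          ((c.val : ℕ) : F × F) * (l, l⁻¹) ^ n := by
        rw [Polynomial.aeval_monomial, Polynomial.aeval_monomial]
        have ec : algebraMap (ZMod p) F c = (c.val : F) := by
          rw [← map_natCast (algebraMap (ZMod p) F), ZMod.natCast_rightInverse]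
        refine Prod.ext ?_ ?_ <;> simp [ec]
      rw [e]
      exact S.mul_mem (natCast_mem S _) (S.pow_mem hlS n)
  refine AddMonoidHom.ext fun x => AddMonoidHom.ext fun y => ?_
  by_cases h0 : Polynomial.aeval l⁻¹ P = 0
  · exfalso
    have hint : IsIntegral (ZMod p) l := IsIntegral.of_finite _ _
    have e : P = minpoly (ZMod p) l⁻¹ :=
      minpoly.eq_of_irreducible_of_monic (minpoly.irreducible hint) h0 (minpoly.monic hint)
    obtain ⟨σ, hσ⟩ := (Normal.minpoly_eq_iff_mem_orbit (F := ZMod p) F).mp e.symm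
    have hσ' : σ l = l⁻¹ := hσ
    have h2 : (σ ^ 2) l = l := by
      rw [sq, AlgEquiv.mul_apply, hσ', map_inv₀, hσ', inv_inv]
    have hord : σ ^ q = 1 := by
      have hc : Nat.card Gal(F/ZMod p) = q := by
        rw [IsGalois.card_aut_eq_finrank]
        have := Module.card_eq_pow_finrank (K := ZMod p) (V := F)
        rw [hF, ZMod.card] at this
        exact Nat.pow_right_injective hp.two_le this.symm
      rw [← hc, pow_card_eq_one']
    have hit : ∀ k : ℕ, ((σ ^ 2) ^ k) l = l := fun k => by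
      induction k with
      | zero => rfl
      | succ k ih => rw [pow_succ, AlgEquiv.mul_apply, h2, ih]
    obtain ⟨k, hk⟩ := hq2
    have e3 : σ l = l := by
      conv_lhs => rw [show σ = (σ ^ 2) ^ (k + 1) by
        rw [← pow_mul, show 2 * (k + 1) = q + 1 by omega, pow_succ, hord, one_mul]]
      exact hit _
    rw [hσ'] at e3
    have hl2 : l ^ 2 = 1 := by
      rw [sq]
      nth_rw 2 [← e3]
      exact mul_inv_cancel₀ hl0
    obtain ⟨j, rfl⟩ := hm
    rw [pow_succ, pow_mul, hl2, one_pow, one_mul] at hlm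
    exact hl1 hlm
  · have h := hmem P x ((Polynomial.aeval l⁻¹ P)⁻¹ * y)
    simp only [minpoly.aeval, hP, zero_mul, map_zero, AddMonoidHom.zero_apply] at h
    rw [← hP, mul_inv_cancel_left₀ h0] at h
    rw [AddMonoidHom.zero_apply, AddMonoidHom.zero_apply]
    exact h.symm

variable {G : Type u} [Group G]

section ClassTwo

variable {Q : Type u} [Group Q]

theorem commutator_mul_left_of_central (hcen : ∀ a b : Q, ⁅a, b⁆ ∈ Subgroup.center Q) (x y z : Q) :
    ⁅x * y, z⁆ = ⁅x, z⁆ * ⁅y, z⁆ := by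
  have e : ⁅x * y, z⁆ = x * ⁅y, z⁆ * x⁻¹ * ⁅x, z⁆ := by
    simp only [commutatorElement_def]; group
  rw [e, Subgroup.mem_center_iff.mp (hcen y z) x, mul_inv_cancel_right,
    Subgroup.mem_center_iff.mp (hcen x z)]

theorem commutator_mul_right_of_central (hcen : ∀ a b : Q, ⁅a, b⁆ ∈ Subgroup.center Q) (x y z : Q) :
    ⁅x, y * z⁆ = ⁅x, y⁆ * ⁅x, z⁆ := by
  have e : ⁅x, y * z⁆ = ⁅x, y⁆ * (y * ⁅x, z⁆ * y⁻¹) := by
    simp only [commutatorElement_def]; group
  rw [e, Subgroup.mem_center_iff.mp (hcen x z) y, mul_inv_cancel_right]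

end ClassTwo

variable [Fintype G]

namespace Setup

variable {M W₁ U W₂ H₀ C : Subgroup G} {p : ℕ} (s : Setup M W₁ U W₂ H₀ C p) (I : Inputs G)

local notation "H" => Cfsg.fittingHallOf M

include s I

/-- The commutator pairing of `M_F` modulo `[M_F, H₀]`, as an abelian-group valued map. -/
theorem exists_pairing (hne : H₀ ≠ ⊥) :
    ∃ (A : Type u) (_ : AddCommGroup A) (β : G → G → A),
      (∀ x ∈ H, ∀ y ∈ H, ∀ z ∈ H, β (x * y) z = β x z + β y z) ∧
      (∀ x ∈ H, ∀ y ∈ H, ∀ z ∈ H, β x (y * z) = β x y + β x z) ∧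
      (∀ x ∈ H, β x x = 0) ∧
      (∀ x ∈ H₀, ∀ y ∈ H, β x y = 0 ∧ β y x = 0) ∧
      (∀ u ∈ U, ∀ x ∈ H, ∀ y ∈ H, β (u * x * u⁻¹) (u * y * u⁻¹) = β x y) ∧
      ∃ x ∈ H, ∃ y ∈ H, β x y ≠ 0 := by
  haveI : Group.IsNilpotent H := fittingHallOf_isNilpotent M
  set Z := (⁅H, H₀⁆ : Subgroup G) with hZ
  have hHn : H ≤ Subgroup.normalizer (H₀ : Set G) := (s.H_le_M).trans s.fac.normal
  have hZle : Z ≤ H₀ := by
    rw [hZ, Subgroup.commutator_le]
    intro a ha b hb
    rw [commutatorElement_def]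
    exact mul_mem ((Subgroup.mem_normalizer_iff.mp (hHn ha) b).mp hb) (H₀.inv_mem hb)
  have hlt : ¬ H₀ ≤ Z := by
    intro h
    refine hne (eq_bot_iff.mpr ?_)
    obtain ⟨n, hn⟩ := (Subgroup.isNilpotent_iff_lowerCentralSeries (H)).mp inferInstance
    have key : ∀ k, H₀ ≤ (H).lowerCentralSeries k := by
      intro k
      induction k with
      | zero => exact s.H₀_le
      | succ k ih =>
        refine h.trans ?_
        rw [hZ, Subgroup.lowerCentralSeries_succ, Subgroup.commutator_comm]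
        exact Subgroup.commutator_mono ih le_rfl
    exact hn ▸ key n
  haveI hZn : (Z.subgroupOf H).Normal := by
    refine Subgroup.normal_subgroupOf_of_le_normalizer ?_
    exact Subgroup.le_normalizer_iff.2 fun g hg z hz => by
      have hle1 : (H).map (MulAut.conj g).toMonoidHom ≤ H := by
        rintro _ ⟨a, ha, rfl⟩
        exact (H).mul_mem ((H).mul_mem hg ha) ((H).inv_mem hg)
      have hle2 : H₀.map (MulAut.conj g).toMonoidHom ≤ H₀ := by
        rintro _ ⟨a, ha, rfl⟩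
        exact (Subgroup.mem_normalizer_iff.mp (hHn hg) a).mp ha
      refine Subgroup.commutator_mono hle1 hle2 ?_
      rw [← Subgroup.map_commutator]
      exact ⟨z, hz, rfl⟩
  let Q := H ⧸ Z.subgroupOf H
  let π : G → Q := fun x => if hx : x ∈ H then QuotientGroup.mk ⟨x, hx⟩ else 1
  have hπ : ∀ {x} (hx : x ∈ H), π x = QuotientGroup.mk (⟨x, hx⟩ : H) := fun hx => dif_pos hx
  have hπmul : ∀ {x y}, x ∈ H → y ∈ H → π (x * y) = π x * π y := fun {x y} hx hy => by
    rw [hπ hx, hπ hy, hπ ((H).mul_mem hx hy)]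
    rfl
  have hπc : ∀ {x y}, x ∈ H → y ∈ H → π ⁅x, y⁆ = ⁅π x, π y⁆ := fun {x y} hx hy => by
    rw [hπ hx, hπ hy, hπ (Subgroup.commutator_le_self H (Subgroup.commutator_mem_commutator hx hy))]
    rfl
  have hπone : ∀ {x}, x ∈ H → (π x = 1 ↔ x ∈ Z) := fun {x} hx => by
    rw [hπ hx, QuotientGroup.eq_one_iff, Subgroup.mem_subgroupOf]
  have hsurj : ∀ a : Q, ∃ x ∈ H, π x = a := fun a => by
    obtain ⟨⟨x, hx⟩, rfl⟩ := QuotientGroup.mk_surjective a
    exact ⟨x, hx, hπ hx⟩
  have hH0 : ∀ {x y}, x ∈ H₀ → y ∈ H → ⁅π y, π x⁆ = 1 := fun {x y} hx hy => by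
    rw [← hπc hy (s.H₀_le hx), hπone
      (Subgroup.commutator_le_self H (Subgroup.commutator_mem_commutator hy (s.H₀_le hx)))]
    exact Subgroup.commutator_mem_commutator hy hx
  have hHH : ∀ {x y}, x ∈ H → y ∈ H → ⁅x, y⁆ ∈ H₀ := fun {x y} hx hy =>
    (s.H₀_eq I).ge (Subgroup.commutator_mem_commutator hx hy)
  have hcen : ∀ a b : Q, ⁅a, b⁆ ∈ Subgroup.center Q := by
    intro a b
    obtain ⟨x, hx, rfl⟩ := hsurj a
    obtain ⟨y, hy, rfl⟩ := hsurj b
    rw [← hπc hx hy, Subgroup.mem_center_iff]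
    intro c
    obtain ⟨z, hz, rfl⟩ := hsurj c
    exact commutatorElement_eq_one_iff_mul_comm.mp (hH0 (hHH hx hy) hz)
  let β : G → G → Additive (Subgroup.center Q) := fun x y =>
    Additive.ofMul (⟨⁅π x, π y⁆, hcen _ _⟩ : Subgroup.center Q)
  letI : CommGroup (Subgroup.center Q) :=
    { (Subgroup.center Q).toGroup with
      mul_comm := fun a b => Subtype.ext (Subgroup.mem_center_iff.mp b.2 a) }
  have hext : ∀ (a b : Additive (Subgroup.center Q)),
      ((Additive.toMul a : Subgroup.center Q) : Q) = (Additive.toMul b : Subgroup.center Q) → a = b :=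
    fun a b h => Additive.toMul.injective (Subtype.ext h)
  refine ⟨Additive (Subgroup.center Q), inferInstance, β, fun x hx y hy z hz => hext _ _ ?_,
    fun x hx y hy z hz => hext _ _ ?_, fun x hx => hext _ _ ?_,
    fun x hx y hy => ⟨hext _ _ ?_, hext _ _ ?_⟩, fun u hu x hx y hy => hext _ _ ?_, ?_⟩
  · show ⁅π (x * y), π z⁆ = ⁅π x, π z⁆ * ⁅π y, π z⁆
    rw [hπmul hx hy, commutator_mul_left_of_central hcen]
  · show ⁅π x, π (y * z)⁆ = ⁅π x, π y⁆ * ⁅π x, π z⁆
    rw [hπmul hy hz, commutator_mul_right_of_central hcen]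
  · show ⁅π x, π x⁆ = 1
    exact commutatorElement_self _
  · show ⁅π x, π y⁆ = 1
    rw [← commutatorElement_inv, hH0 hx hy, inv_one]
  · exact hH0 hx hy
  · show ⁅π (u * x * u⁻¹), π (u * y * u⁻¹)⁆ = ⁅π x, π y⁆
    have hu' : ∀ {z}, z ∈ H → u * z * u⁻¹ ∈ H := fun {z} hz =>
      (Subgroup.mem_normalizer_iff.mp (TypeP.U_normalizes_core s.data hu) z).mp hz
    rw [← hπc (hu' hx) (hu' hy), ← hπc hx hy]
    congr 1
    calc ⁅u * x * u⁻¹, u * y * u⁻¹⁆ = u * ⁅x, y⁆ * u⁻¹ := by
          simp only [commutatorElement_def]; group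
      _ = _ := by
          rw [← Subgroup.mem_centralizer_iff.mp (s.H₀_central I hu) _ (hHH hx hy)]; group
  · by_contra hall
    push Not at hall
    refine hlt ?_
    rw [s.H₀_eq I, Subgroup.commutator_le]
    intro x hx y hy
    rw [← hπone (Subgroup.commutator_le_self H (Subgroup.commutator_mem_commutator hx hy)), hπc hx hy]
    exact congrArg (fun a => ((Additive.toMul a : Subgroup.center Q) : Q)) (hall x hx y hy)

/-- PF (11.7). -/
theorem H₀_bot : H₀ = ⊥ := by
  by_contra hne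
  obtain ⟨A, _, β, hl, hr, hself, h0, hinv, x₀, hx₀, y₀, hy₀, hβ⟩ := s.exists_pairing I hne
  have hodd : Odd (Nat.card U) := minSimple_odd I.simple U
  by_cases hGal : Galois M U H₀
  · obtain ⟨-, -, -, F, _, _, f, ψ, hcard, hsurj, hadd, hzero, hscal, hψmul, hψC, -⟩ :=
      propGaloisField M W₁ U W₂ H₀ C p s.max (Or.inr s.kind) s.fac hGal
    choose sec hsec hfsec using fun a : F => hsurj (Set.mem_univ a)
    have hwd : ∀ x ∈ H, ∃ h ∈ H₀, x = h * sec (f x) := by
      intro x hx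
      refine ⟨x * (sec (f x))⁻¹, (hzero _ ((H).mul_mem hx ((H).inv_mem (hsec _)))).mp ?_, by group⟩
      have e := hadd _ ((H).mul_mem hx ((H).inv_mem (hsec (f x)))) _ (hsec (f x))
      rw [inv_mul_cancel_right, hfsec] at e
      exact add_eq_right.mp e.symm
    have hβf : ∀ x ∈ H, ∀ y ∈ H, β x y = β (sec (f x)) (sec (f y)) := by
      intro x hx y hy
      obtain ⟨a, ha, ex⟩ := hwd x hx
      obtain ⟨c, hc, ey⟩ := hwd y hy
      rw [ex, ey, hl _ (s.H₀_le ha) _ (hsec _) _ ((H).mul_mem (s.H₀_le hc) (hsec _)), (h0 a ha _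
        ((H).mul_mem (s.H₀_le hc) (hsec _))).1, zero_add, hr _ (hsec _) _ (s.H₀_le hc) _ (hsec _),
        (h0 c hc _ (hsec _)).2, zero_add, ← ex, ← ey]
    have hadd' : ∀ a c : F, ∀ z ∈ H, β (sec (a + c)) z = β (sec a) z + β (sec c) z := by
      intro a c z hz
      rw [← hl _ (hsec a) _ (hsec c) _ hz, hβf _ (hsec (a + c)) z hz,
        hβf _ ((H).mul_mem (hsec a) (hsec c)) z hz, hfsec, hadd _ (hsec a) _ (hsec c), hfsec, hfsec]
    have hadd'' : ∀ a c : F, ∀ z ∈ H, β z (sec (a + c)) = β z (sec a) + β z (sec c) := by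
      intro a c z hz
      rw [← hr _ hz _ (hsec a) _ (hsec c), hβf z hz _ (hsec (a + c)),
        hβf z hz _ ((H).mul_mem (hsec a) (hsec c)), hfsec, hadd _ (hsec a) _ (hsec c), hfsec, hfsec]
    let b : F →+ F →+ A := AddMonoidHom.mk'
      (fun a => AddMonoidHom.mk' (fun c => β (sec a) (sec c)) fun c c' => hadd'' c c' _ (hsec a))
      fun a a' => AddMonoidHom.ext fun c => hadd' a a' _ (hsec c)
    obtain ⟨u, hu, huC⟩ := SetLike.exists_of_lt s.fac.C_lt
    have hψ1 : ψ 1 = 1 := (hψC 1 U.one_mem).mpr C.one_mem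
    have hpow : ∀ n : ℕ, ψ u ^ n = ψ (u ^ n) := by
      intro n
      induction n with
      | zero => rw [pow_zero, pow_zero, hψ1]
      | succ n ih => rw [pow_succ, pow_succ, ih, hψmul _ (U.pow_mem hu n) _ hu]
    have hb := pairing_zero_of_field s.fac.prime s.kind.W₁_prime (minSimple_odd I.simple W₁) hcard b
      (ψ u) (fun e => huC ((hψC u hu).mp e)) hodd (by
        rw [hpow, show u ^ Nat.card U = 1 from congrArg Subtype.val
          (pow_card_eq_one' (x := (⟨u, hu⟩ : U))), hψ1])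
      (fun a c => by
        show β (sec (ψ u * a)) (sec (ψ u * c)) = β (sec a) (sec c)
        have hu' : ∀ a : F, u * sec a * u⁻¹ ∈ H := fun a =>
          (Subgroup.mem_normalizer_iff.mp (TypeP.U_normalizes_core s.data hu) _).mp (hsec a)
        rw [← hinv u hu _ (hsec a) _ (hsec c), hβf _ (hu' a) _ (hu' c), (hscal u hu).2 _ (hsec a),
          (hscal u hu).2 _ (hsec c), hfsec, hfsec])
    refine hβ ?_
    rw [hβf _ hx₀ _ hy₀]
    exact DFunLike.congr_fun (DFunLike.congr_fun hb (f x₀)) (f y₀)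
  · obtain ⟨a, w, L, K, -, hL⟩ := exists_lineData s.data s.fac hodd s.kind.W₁_prime hGal
    set q := Nat.card W₁ with hq
    have hwW : w ∈ W₁ := hL.gen.le (Subgroup.mem_zpowers w)
    have hwq : w ^ q = 1 := congrArg Subtype.val (pow_card_eq_one' (x := (⟨w, hwW⟩ : W₁)))
    have hqodd : Odd q := minSimple_odd I.simple W₁
    haveI : Fact p.Prime := ⟨s.fac.prime⟩
    obtain ⟨x, hxL, hx0⟩ := SetLike.exists_of_lt hL.lt
    have hLH₀ : L ≤ Subgroup.normalizer (H₀ : Set G) :=
      hL.le.trans ((s.H_le_M).trans s.fac.normal)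
    -- every element of the line is a power of `x` modulo `H₀`
    have hgen : ∀ z ∈ L, ∃ n : ℕ, ∃ h ∈ H₀, z = h * x ^ n := by
      intro z hz
      haveI : (H₀.subgroupOf L).Normal := Subgroup.normal_subgroupOf_of_le_normalizer hLH₀
      have hc : Nat.card (L ⧸ H₀.subgroupOf L) = p := hL.rel
      obtain ⟨n, hn⟩ := mem_powers_iff_mem_zpowers.mpr (mem_zpowers_of_prime_card hc
        (g := (QuotientGroup.mk (⟨x, hxL⟩ : L) : L ⧸ H₀.subgroupOf L))
        (g' := (QuotientGroup.mk (⟨z, hz⟩ : L) : L ⧸ H₀.subgroupOf L))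
        (fun e => hx0 (by rwa [QuotientGroup.eq_one_iff] at e)))
      refine ⟨n, z * (x ^ n)⁻¹, ?_, by group⟩
      have h1 : ((⟨z, hz⟩ : L) : L ⧸ H₀.subgroupOf L) * ((((⟨x, hxL⟩ : L) ^ n)⁻¹ : L) :) = 1 := by
        rw [QuotientGroup.mk_inv, QuotientGroup.mk_pow]
        exact mul_inv_eq_one.mpr hn.symm
      rw [← QuotientGroup.mk_mul, QuotientGroup.eq_one_iff] at h1
      exact h1
    set xi : ℕ → G := fun i => w ^ i * x * (w ^ i)⁻¹ with hxi
    have hwM : ∀ i : ℕ, w ^ i ∈ M := fun i => M.pow_mem (TypeP.W₁_le s.data hwW) i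
    have hwH₀ : ∀ (i : ℕ) (h : G), h ∈ H₀ → w ^ i * h * (w ^ i)⁻¹ ∈ H₀ := fun i h hh =>
      (Subgroup.mem_normalizer_iff.mp (s.fac.normal (hwM i)) h).mp hh
    have hwH : ∀ (i : ℕ) (h : G), h ∈ H → w ^ i * h * (w ^ i)⁻¹ ∈ H := fun i h hh =>
      (Subgroup.mem_normalizer_iff.mp (fittingHallOf_normal M (hwM i)) h).mp hh
    have hxiH : ∀ i, xi i ∈ H := fun i => hwH i x (hL.le hxL)
    -- the eigenvalue of an element of `U`
    have hk : ∀ u : G, ∃ k : ℕ, u ∈ U → ∃ h ∈ H₀, u * x * u⁻¹ = h * x ^ k := by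
      intro u
      by_cases hu : u ∈ U
      · obtain ⟨k, hk⟩ := hgen _ ((Subgroup.mem_normalizer_iff.mp (hL.normal hu) x).mp hxL)
        exact ⟨k, fun _ => hk⟩
      · exact ⟨0, fun h => absurd h hu⟩
    choose k hk using hk
    have huniq : ∀ m n : ℕ, (∃ h ∈ H₀, x ^ m = h * x ^ n) → (m : ZMod p) = n := by
      rintro m n ⟨h, hh, e⟩
      haveI : (H₀.subgroupOf L).Normal := Subgroup.normal_subgroupOf_of_le_normalizer hLH₀
      set g := ((⟨x, hxL⟩ : L) : L ⧸ H₀.subgroupOf L) with hg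
      have hg1 : orderOf g = p := by
        refine orderOf_eq_prime ?_ fun e' => hx0 ((QuotientGroup.eq_one_iff (⟨x, hxL⟩ : L)).mp e')
        rw [hg, ← QuotientGroup.mk_pow, QuotientGroup.eq_one_iff]
        exact s.fac.pow_mem x (hL.le hxL)
      have hhL : h ∈ L := hL.lt.le hh
      have e' : ((⟨x, hxL⟩ : L) ^ m) = ⟨h, hhL⟩ * (⟨x, hxL⟩ : L) ^ n := Subtype.ext e
      have e'' := congrArg (QuotientGroup.mk (s := H₀.subgroupOf L)) e'
      rw [QuotientGroup.mk_mul, (QuotientGroup.eq_one_iff (⟨h, hhL⟩ : L)).mpr hh, one_mul,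
        QuotientGroup.mk_pow, QuotientGroup.mk_pow, pow_eq_pow_iff_modEq, hg1] at e''
      exact (ZMod.natCast_eq_natCast_iff _ _ _).mpr e''
    have hβpow : ∀ (m n : ℕ), ∀ y ∈ H, ∀ z ∈ H, β (y ^ m) (z ^ n) = (m * n) • β y z := by
      intro m n y hy z hz
      have h1 : ∀ (m : ℕ), ∀ y ∈ H, ∀ z ∈ H, β (y ^ m) z = m • β y z := by
        intro m y hy z hz
        induction m with
        | zero =>
          rw [pow_zero, zero_nsmul]
          exact (h0 1 H₀.one_mem z hz).1
        | succ m ih => rw [pow_succ, hl _ ((H).pow_mem hy m) _ hy _ hz, ih, succ_nsmul]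
      have h2 : ∀ (n : ℕ), ∀ y ∈ H, ∀ z ∈ H, β y (z ^ n) = n • β y z := by
        intro n y hy z hz
        induction n with
        | zero =>
          rw [pow_zero, zero_nsmul]
          exact (h0 1 H₀.one_mem y hy).2
        | succ n ih => rw [pow_succ, hr _ hy _ ((H).pow_mem hz n) _ hz, ih, succ_nsmul]
      rw [h1 m y hy _ ((H).pow_mem hz n), h2 n y hy z hz, mul_nsmul']
    have hpβ : ∀ y ∈ H, ∀ z ∈ H, p • β y z = 0 := fun y hy z hz => by
      have h := hβpow p 1 y hy z hz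
      rw [pow_one, mul_one] at h
      rw [← h]
      exact (h0 _ (s.fac.pow_mem y hy) z hz).1
    have hv : ∀ u ∈ U, ∀ i : ℕ, (w ^ i)⁻¹ * u * w ^ i ∈ U := fun u hu i =>
      (Subgroup.mem_normalizer_iff''.mp ((Subgroup.normalizer (U : Set G)).pow_mem (s.data.U_normal hwW) i) u).mp hu
    have hact : ∀ u ∈ U, ∀ i, ∃ h ∈ H₀,
        u * xi i * u⁻¹ = h * xi i ^ k ((w ^ i)⁻¹ * u * w ^ i) := by
      intro u hu i
      obtain ⟨h, hh, e⟩ := hk _ (hv u hu i)
      refine ⟨_, hwH₀ i h hh, ?_⟩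
      rw [hxi, conj_pow]
      calc u * (w ^ i * x * (w ^ i)⁻¹) * u⁻¹ =
            w ^ i * ((w ^ i)⁻¹ * u * w ^ i * x * ((w ^ i)⁻¹ * u * w ^ i)⁻¹) * (w ^ i)⁻¹ := by group
        _ = _ := by rw [e]; group
    have hzero : ∀ i j, β (xi i) (xi j) = 0 := by
      intro i j
      by_contra hne'
      have hrel : ∀ u ∈ U,
          ((k ((w ^ i)⁻¹ * u * w ^ i) : ZMod p)) * (k ((w ^ j)⁻¹ * u * w ^ j) : ZMod p) = 1 := by
        intro u hu
        obtain ⟨h, hh, e⟩ := hact u hu i
        obtain ⟨h', hh', e'⟩ := hact u hu j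
        have := hinv u hu _ (hxiH i) _ (hxiH j)
        rw [e, e', hl _ (s.H₀_le hh) _ ((H).pow_mem (hxiH i) _) _
          ((H).mul_mem (s.H₀_le hh') ((H).pow_mem (hxiH j) _)), (h0 h hh _
          ((H).mul_mem (s.H₀_le hh') ((H).pow_mem (hxiH j) _))).1, zero_add,
          hr _ ((H).pow_mem (hxiH i) _) _ (s.H₀_le hh') _ ((H).pow_mem (hxiH j) _),
          (h0 h' hh' _ ((H).pow_mem (hxiH i) _)).2, zero_add, hβpow _ _ _ (hxiH i) _ (hxiH j)] at this
        have hord : addOrderOf (β (xi i) (xi j)) = p :=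
          addOrderOf_eq_prime (hpβ _ (hxiH i) _ (hxiH j)) hne'
        rw [← Nat.cast_mul, ← Nat.cast_one, ZMod.natCast_eq_natCast_iff, ← hord,
          ← nsmul_eq_nsmul_iff_modEq, one_nsmul]
        exact this
      obtain ⟨d, hd⟩ : ∃ d, d = j + i * (q - 1) := ⟨_, rfl⟩
      have hq1 : i + i * (q - 1) = i * q := by
        obtain ⟨l, hl'⟩ := hqodd
        rw [hl', Nat.add_sub_cancel]
        ring
      have hwd : ∀ u : G, (w ^ j)⁻¹ * (w ^ i * u * (w ^ i)⁻¹) * w ^ j = (w ^ d)⁻¹ * u * w ^ d := by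
        intro u
        have : w ^ d = (w ^ i)⁻¹ * w ^ j := by
          rw [eq_inv_mul_iff_mul_eq, ← pow_add, hd, show i + (j + i * (q - 1)) = j + i * q by omega,
            pow_add, mul_comm i q, pow_mul, hwq, one_pow, mul_one]
        rw [this]
        group
      have hone : ∀ v ∈ U, (k v : ZMod p) * (k ((w ^ d)⁻¹ * v * w ^ d) : ZMod p) = 1 := by
        intro v hvU
        have := hrel (w ^ i * v * (w ^ i)⁻¹) ((Subgroup.mem_normalizer_iff.mp
          ((Subgroup.normalizer (U : Set G)).pow_mem (s.data.U_normal hwW) i) v).mp hvU)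
        rwa [hwd, show (w ^ i)⁻¹ * (w ^ i * v * (w ^ i)⁻¹) * w ^ i = v by group] at this
      have htwo : ∀ v ∈ U, (k ((w ^ (2 * d))⁻¹ * v * w ^ (2 * d)) : ZMod p) = k v := by
        intro v hvU
        have h1 := hone v hvU
        have h2 := hone _ (hv v hvU d)
        rw [show (w ^ d)⁻¹ * ((w ^ d)⁻¹ * v * w ^ d) * w ^ d = (w ^ (2 * d))⁻¹ * v * w ^ (2 * d) by
          rw [two_mul, pow_add, mul_inv_rev]; simp only [mul_assoc]] at h2
        calc (k ((w ^ (2 * d))⁻¹ * v * w ^ (2 * d)) : ZMod p)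
            = (k v : ZMod p) * (k ((w ^ d)⁻¹ * v * w ^ d) : ZMod p) *
              (k ((w ^ (2 * d))⁻¹ * v * w ^ (2 * d)) : ZMod p) := by rw [h1, one_mul]
          _ = k v := by rw [mul_assoc, h2, mul_one]
      have hiter : ∀ (n : ℕ) (v : G), v ∈ U →
          (k ((w ^ (n * (2 * d)))⁻¹ * v * w ^ (n * (2 * d))) : ZMod p) = k v := by
        intro n
        induction n with
        | zero => intro v _; simp
        | succ n ih =>
          intro v hvU
          rw [show (w ^ ((n + 1) * (2 * d)))⁻¹ * v * w ^ ((n + 1) * (2 * d)) =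
            (w ^ (2 * d))⁻¹ * ((w ^ (n * (2 * d)))⁻¹ * v * w ^ (n * (2 * d))) * w ^ (2 * d) by
            rw [add_mul, one_mul, pow_add]; group, htwo _ (hv v hvU _), ih v hvU]
      obtain ⟨l, hl'⟩ := hqodd
      have hwhalf : w ^ ((l + 1) * (2 * d)) = w ^ d := by
        rw [show (l + 1) * (2 * d) = d + q * d by rw [hl']; ring, pow_add, pow_mul, hwq, one_pow,
          mul_one]
      have hsq : ∀ v ∈ U, (k v : ZMod p) ^ 2 = 1 := fun v hvU => by
        have h := hiter (l + 1) v hvU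
        rw [hwhalf] at h
        have h1 := hone v hvU
        rwa [h, ← sq] at h1
      have hpowk : ∀ (n : ℕ) (v : G), v ∈ U → ∃ h ∈ H₀, v ^ n * x * (v ^ n)⁻¹ = h * x ^ (k v ^ n) := by
        intro n
        induction n with
        | zero => intro v _; exact ⟨1, H₀.one_mem, by simp⟩
        | succ n ih =>
          intro v hvU
          obtain ⟨h, hh, e⟩ := ih v hvU
          obtain ⟨h', hh', e'⟩ := hk v hvU
          have hconjpow : ∀ m : ℕ, ∃ g ∈ H₀, v * x ^ m * v⁻¹ = g * x ^ (k v * m) := by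
            intro m
            induction m with
            | zero => exact ⟨1, H₀.one_mem, by simp⟩
            | succ m ihm =>
              obtain ⟨g, hg, eg⟩ := ihm
              refine ⟨g * (x ^ (k v * m) * h' * (x ^ (k v * m))⁻¹), H₀.mul_mem hg
                ((Subgroup.mem_normalizer_iff.mp (hLH₀ (L.pow_mem hxL _)) h').mp hh'), ?_⟩
              calc v * x ^ (m + 1) * v⁻¹ = (v * x ^ m * v⁻¹) * (v * x * v⁻¹) := by rw [pow_succ]; group
                _ = g * x ^ (k v * m) * (h' * x ^ k v) := by rw [eg, e']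
                _ = _ := by rw [mul_add_one, pow_add]; group
          obtain ⟨g, hg, eg⟩ := hconjpow (k v ^ n)
          refine ⟨v * h * v⁻¹ * g, H₀.mul_mem ((Subgroup.mem_normalizer_iff.mp
            (s.fac.normal (TypeP.U_le s.data hvU)) h).mp hh) hg, ?_⟩
          calc v ^ (n + 1) * x * (v ^ (n + 1))⁻¹ = v * (v ^ n * x * (v ^ n)⁻¹) * v⁻¹ := by
                rw [pow_succ']; group
            _ = v * h * v⁻¹ * (v * x ^ (k v ^ n) * v⁻¹) := by rw [e]; group
            _ = v * h * v⁻¹ * (g * x ^ (k v * k v ^ n)) := by rw [eg]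
            _ = _ := by rw [pow_succ' (k v) n]; group
      have hk1 : ∀ v ∈ U, (k v : ZMod p) = 1 := by
        intro v hvU
        obtain ⟨h, hh, e⟩ := hpowk (Nat.card U) v hvU
        rw [show v ^ Nat.card U = 1 from congrArg Subtype.val (pow_card_eq_one' (x := (⟨v, hvU⟩ : U)))]
          at e
        simp only [one_mul, inv_one, mul_one] at e
        have h1 := huniq 1 _ ⟨h, hh, (pow_one x).trans e⟩
        rw [Nat.cast_one, Nat.cast_pow] at h1
        obtain ⟨m, hm⟩ := hodd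
        rw [hm, pow_succ, pow_mul, hsq v hvU, one_pow, one_mul] at h1
        exact h1.symm
      refine s.fac.C_lt.not_ge fun u hu => (hL.C_iff u hu).mpr fun n _ => (hL.mem_K _).mpr ⟨hv u hu n, ?_⟩
      intro z hz
      set v := (w ^ n)⁻¹ * u * w ^ n with hvdef
      have hvU : v ∈ U := hv u hu n
      haveI : (H₀.subgroupOf L).Normal := Subgroup.normal_subgroupOf_of_le_normalizer hLH₀
      obtain ⟨h', hh', e'⟩ := hk v hvU
      obtain ⟨n', g, hg, rfl⟩ := hgen z hz
      let cz : L → L ⧸ H₀.subgroupOf L := fun y => QuotientGroup.mk ⟨v * y * v⁻¹,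
        (Subgroup.mem_normalizer_iff.mp (hL.normal hvU) y).mp y.2⟩
      let cv : L →* L ⧸ H₀.subgroupOf L := MonoidHom.mk' cz fun a b => by
        show QuotientGroup.mk _ = QuotientGroup.mk _ * QuotientGroup.mk _
        rw [← QuotientGroup.mk_mul]
        congr 1
        exact Subtype.ext (by simp only [Subgroup.coe_mul]; group)
      have hxv : cv ⟨x, hxL⟩ = QuotientGroup.mk (⟨x, hxL⟩ : L) := by
        refine (QuotientGroup.eq_iff_div_mem).mpr ?_
        show v * x * v⁻¹ / x ∈ H₀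
        rw [div_eq_mul_inv, e']
        have e1 : ∃ t : ℕ, k v = 1 + p * t ∨ k v + p * t = 1 := by
          have h1 := (ZMod.natCast_eq_natCast_iff _ _ _).mp ((hk1 v hvU).trans Nat.cast_one.symm)
          rcases Nat.eq_zero_or_pos (k v) with h2 | h2
          · rw [h2] at h1
            exact absurd (Nat.eq_one_of_dvd_one ((Nat.modEq_iff_dvd' (Nat.zero_le 1)).mp h1))
              s.fac.prime.ne_one
          · obtain ⟨t, ht⟩ := (Nat.modEq_iff_dvd' h2).mp h1.symm
            exact ⟨t, Or.inl (by omega)⟩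
        obtain ⟨t, ht | ht⟩ := e1
        · rw [ht, pow_add, pow_one, pow_mul]
          have : x * (x ^ p) ^ t * x⁻¹ = (x ^ p) ^ t :=
            ((Commute.self_pow x p).pow_right t).mul_inv_cancel
          rw [mul_assoc, this]
          exact H₀.mul_mem hh' (H₀.pow_mem (s.fac.pow_mem x (hL.le hxL)) t)
        · rcases Nat.eq_zero_or_pos t with rfl | htp
          · rw [mul_zero, add_zero] at ht
            rw [ht, pow_one, mul_inv_cancel_right]
            exact hh'
          · have := Nat.le_mul_of_pos_right p htp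
            have := s.fac.prime.two_le
            omega
      have hcg : cv ⟨g, hL.lt.le hg⟩ = 1 := by
        refine (QuotientGroup.eq_one_iff _).mpr ?_
        show v * g * v⁻¹ ∈ H₀
        exact (Subgroup.mem_normalizer_iff.mp (s.fac.normal (TypeP.U_le s.data hvU)) g).mp hg
      have hall : cv (⟨g, hL.lt.le hg⟩ * (⟨x, hxL⟩ : L) ^ n') =
          QuotientGroup.mk (⟨g, hL.lt.le hg⟩ * (⟨x, hxL⟩ : L) ^ n') := by
        rw [map_mul, map_pow, hxv, hcg, QuotientGroup.mk_mul, QuotientGroup.mk_pow,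
          (QuotientGroup.eq_one_iff (⟨g, hL.lt.le hg⟩ : L)).mpr hg]
      have := (QuotientGroup.eq_iff_div_mem).mp hall
      simpa [Subgroup.mem_subgroupOf, div_eq_mul_inv] using this
    have hlineβ : ∀ i j, ∀ y ∈ line w L i, ∀ z ∈ line w L j, β y z = 0 := by
      intro i j y hy z hz
      obtain ⟨m, g, hg, ey⟩ := hgen _ (mem_line.mp hy)
      obtain ⟨n, g', hg', ez⟩ := hgen _ (mem_line.mp hz)
      have ey' : y = (w ^ i * g * (w ^ i)⁻¹) * xi i ^ m := by
        rw [hxi, conj_pow]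
        calc y = w ^ i * ((w ^ i)⁻¹ * y * w ^ i) * (w ^ i)⁻¹ := by group
          _ = _ := by rw [ey]; group
      have ez' : z = (w ^ j * g' * (w ^ j)⁻¹) * xi j ^ n := by
        rw [hxi, conj_pow]
        calc z = w ^ j * ((w ^ j)⁻¹ * z * w ^ j) * (w ^ j)⁻¹ := by group
          _ = _ := by rw [ez]; group
      have hg₁ := hwH₀ i g hg
      have hg₂ := hwH₀ j g' hg'
      rw [ey', ez', hl _ (s.H₀_le hg₁) _ ((H).pow_mem (hxiH i) m) _
        ((H).mul_mem (s.H₀_le hg₂) ((H).pow_mem (hxiH j) n)), (h0 _ hg₁ _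
        ((H).mul_mem (s.H₀_le hg₂) ((H).pow_mem (hxiH j) n))).1, zero_add,
        hr _ ((H).pow_mem (hxiH i) m) _ (s.H₀_le hg₂) _ ((H).pow_mem (hxiH j) n),
        (h0 _ hg₂ _ ((H).pow_mem (hxiH i) m)).2, zero_add, hβpow _ _ _ (hxiH i) _ (hxiH j), hzero,
        nsmul_zero]
    -- the radical
    have hzero' : ∀ y ∈ H, β y 1 = 0 ∧ β 1 y = 0 := fun y hy =>
      ⟨(h0 1 H₀.one_mem y hy).2, (h0 1 H₀.one_mem y hy).1⟩
    let ann : (G → Prop) → Subgroup G := fun P =>
      { carrier := {y | y ∈ H ∧ ∀ z, z ∈ H → P z → β y z = 0}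
        one_mem' := ⟨(H).one_mem, fun z hz _ => (hzero' z hz).2⟩
        mul_mem' := fun {a c} ha hc => ⟨(H).mul_mem ha.1 hc.1, fun z hz hP => by
          rw [hl _ ha.1 _ hc.1 _ hz, ha.2 z hz hP, hc.2 z hz hP, add_zero]⟩
        inv_mem' := fun {a} ha => ⟨(H).inv_mem ha.1, fun z hz hP => by
          have := hl _ ((H).inv_mem ha.1) _ ha.1 _ hz
          rw [inv_mul_cancel, (hzero' z hz).2, ha.2 z hz hP, add_zero] at this
          exact this.symm⟩ }
    let annR : (G → Prop) → Subgroup G := fun P =>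
      { carrier := {z | z ∈ H ∧ ∀ y, y ∈ H → P y → β y z = 0}
        one_mem' := ⟨(H).one_mem, fun y hy _ => (hzero' y hy).1⟩
        mul_mem' := fun {a c} ha hc => ⟨(H).mul_mem ha.1 hc.1, fun y hy hP => by
          rw [hr _ hy _ ha.1 _ hc.1, ha.2 y hy hP, hc.2 y hy hP, add_zero]⟩
        inv_mem' := fun {a} ha => ⟨(H).inv_mem ha.1, fun y hy hP => by
          have := hr _ hy _ ((H).inv_mem ha.1) _ ha.1
          rw [inv_mul_cancel, (hzero' y hy).1, ha.2 y hy hP, add_zero] at this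
          exact this.symm⟩ }
    have h1 : H ≤ annR fun y => ∃ i, y ∈ line w L i := by
      conv_lhs => rw [← hL.span]
      exact sup_le (fun z hz => ⟨s.H₀_le hz, fun y hy _ => (h0 z hz y hy).2⟩)
        (Finset.sup_le fun j _ z hz => ⟨(hL.line_mem j).2.1 hz,
          fun y _ ⟨i, hi⟩ => hlineβ i j y hi z hz⟩)
    have h2 : H ≤ ann fun _ => True := by
      conv_lhs => rw [← hL.span]
      exact sup_le (fun y hy => ⟨s.H₀_le hy, fun z hz _ => (h0 y hy z hz).1⟩)
        (Finset.sup_le fun i _ y hy => ⟨(hL.line_mem i).2.1 hy,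
          fun z hz _ => (h1 hz).2 y ((hL.line_mem i).2.1 hy) ⟨i, hy⟩⟩)
    exact hβ ((h2 hx₀).2 y₀ hy₀ trivial)

end Setup

end CfsgLib.PF.Sec11
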