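import Cfsg.Agent.Lib.PF.Sec11Bound
import Cfsg.Agent.Lib.OddOrder41.FixedFormula

/-!
# Peterfalvi (11.5)–(11.6): the structure of `M'` in Type III/IV
-/

set_option autoImplicit false
set_option linter.unusedSectionVars false
set_option linter.style.haveILetI false

namespace CfsgLib.PF.Sec11

open Subgroup CfsgLib.OddOrder CfsgLib.OddChar
open scoped commutatorElement Classical

universe u

variable {G : Type u} [Group G] [Fintype G]

/-- If an element of prime order `q` normalizes `N ≤ X` and centralizes nothing in `X` outside `N`,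
then `q` divides `[X : N] - 1`. -/
theorem relIndex_modEq_one {X N : Subgroup G} (hNX : N ≤ X) {w : G} {q : ℕ} (hq : q.Prime)
    (hw : w ^ q = 1) (hX : w ∈ Subgroup.normalizer (X : Set G))
    (hN : w ∈ Subgroup.normalizer (N : Set G)) (hcop : Nat.Coprime q (Nat.card N))
    (hfix : ∀ x ∈ X, w * x = x * w → x ∈ N) : N.relIndex X ≡ 1 [MOD q] := by
  haveI : Fact q.Prime := ⟨hq⟩
  have key : ∀ Y : Subgroup G, w ∈ Subgroup.normalizer (Y : Set G) →
      Nat.card Y ≡ Nat.card {x : G // x ∈ Y ∧ w * x = x * w} [MOD q] := by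
    intro Y hY
    let f : Function.End Y := fun y => ⟨w * y * w⁻¹, (Subgroup.mem_normalizer_iff.mp hY y).mp y.2⟩
    have hit : ∀ (n : ℕ) (y : Y), (((f ^ n) y : Y) : G) = w ^ n * y * (w ^ n)⁻¹ := by
      intro n
      induction n with
      | zero => intro y; simp; rfl
      | succ n ih =>
        intro y
        rw [pow_succ']
        show w * ((f ^ n) y : Y) * w⁻¹ = _
        rw [ih y, pow_succ']
        group
    have hf : f ^ q ^ 1 = 1 := by
      funext y
      refine Subtype.ext ?_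
      rw [pow_one, hit, hw]
      simp
      rfl
    haveI := Fintype.ofFinite Y
    have h := Equiv.Perm.card_fixedPoints_modEq hf
    rw [← Nat.card_eq_fintype_card, ← Nat.card_eq_fintype_card] at h
    refine h.trans ?_
    refine Eq.mpr (congrArg (· ≡ _ [MOD q]) ?_) (Nat.ModEq.refl _)
    refine Nat.card_congr
      { toFun := fun y => ⟨(y : Y), (y : Y).2, ?_⟩
        invFun := fun x => ⟨⟨x.1, x.2.1⟩, ?_⟩
        left_inv := fun y => rfl
        right_inv := fun x => rfl }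
    · have := congrArg Subtype.val (y.2 : f (y : Y) = (y : Y))
      change w * (y : G) * w⁻¹ = (y : G) at this
      exact mul_inv_eq_iff_eq_mul.mp this
    · exact Subtype.ext (mul_inv_eq_iff_eq_mul.mpr x.2.2)
  have hsame : Nat.card {x : G // x ∈ X ∧ w * x = x * w} =
      Nat.card {x : G // x ∈ N ∧ w * x = x * w} :=
    Nat.card_congr (Equiv.subtypeEquivRight fun x =>
      ⟨fun h => ⟨hfix x h.1 h.2, h.2⟩, fun h => ⟨hNX h.1, h.2⟩⟩)
  have h := key X hX
  rw [hsame] at h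
  replace h := h.trans (key N hN).symm
  rw [← card_mul_relIndex_of_le hNX] at h
  exact Nat.ModEq.cancel_left_of_coprime (c := Nat.card N) hcop (by rwa [mul_one])

namespace Setup

variable {M W₁ U W₂ H₀ C : Subgroup G} {p : ℕ} (s : Setup M W₁ U W₂ H₀ C p) (I : Inputs G)

local notation "H" => Cfsg.fittingHallOf M

include s

theorem exists_w : ∃ w ∈ W₁, w ≠ 1 ∧ w ^ Nat.card W₁ = 1 := by
  obtain ⟨w, hw, hw1⟩ := (Subgroup.bot_or_exists_ne_one W₁).resolve_left s.data.W₁_ne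
  exact ⟨w, hw, hw1, congrArg Subtype.val (pow_card_eq_one' (x := (⟨w, hw⟩ : W₁)))⟩

theorem u_modEq : C.relIndex U ≡ 1 [MOD Nat.card W₁] := by
  obtain ⟨w, hw, hw1, hwq⟩ := s.exists_w
  refine relIndex_modEq_one s.C_le s.kind.W₁_prime hwq (s.data.U_normal hw)
    (s.fac.C_normal (Subgroup.mem_sup_right hw))
    ((TypeP.coprime_U_W₁ s.data).symm.coprime_dvd_right (Subgroup.card_dvd_of_le s.C_le))
    fun x hx hc => s.fac.fpf w hw hw1 x hx ?_
  rw [hc]
  simp

theorem one_lt_u : 1 < C.relIndex U := by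
  have h0 : C.relIndex U ≠ 0 := Subgroup.index_ne_zero_of_finite
  have h1 : C.relIndex U ≠ 1 := fun h => s.fac.C_lt.not_ge (Subgroup.relIndex_eq_one.mp h)
  omega

include I in
theorem u_odd : Odd (C.relIndex U) :=
  (minSimple_odd I.simple U).of_dvd_nat (Subgroup.relIndex_dvd_card _ _)

include I in
theorem two_q_lt_u : 2 * Nat.card W₁ < C.relIndex U := by
  have h1 := s.u_modEq
  have h2 := s.one_lt_u
  obtain ⟨k, hk⟩ := (Nat.modEq_iff_dvd' (by omega)).mp h1.symm
  obtain ⟨j, hj⟩ := s.u_odd I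
  obtain ⟨l, hl⟩ := minSimple_odd I.simple W₁
  rcases k with _ | _ | k
  · omega
  · omega
  · have : (Nat.card W₁) * (k + 1 + 1) = Nat.card W₁ * k + 2 * Nat.card W₁ := by ring
    omega

theorem comm_mul_eq (h u h' u' : G) : ⁅h * u, h' * u'⁆ =
    h * ⁅u, h'⁆ * h⁻¹ * (h * h' * ⁅u, u'⁆ * (h * h')⁻¹) *
      (⁅h, h'⁆ * (h' * ⁅h, u'⁆ * h'⁻¹)) := by
  simp only [commutatorElement_def]
  group

/-- A subgroup of `M'` normalized by `M_F` containing the commutators of `M_F` and `U` contains `M''`. -/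
theorem derived_two_le {N : Subgroup G} (hN : H ≤ Subgroup.normalizer (N : Set G))
    (hHH : ⁅H, H⁆ ≤ N) (hHU : ⁅H, U⁆ ≤ N) (hUU : ⁅U, U⁆ ≤ N) :
    ⁅⁅M, M⁆, ⁅M, M⁆⁆ ≤ N := by
  rw [Subgroup.commutator_le]
  intro a ha b hb
  obtain ⟨h, hh, u, hu, rfl⟩ := s.data.U_compl.2.2.2 a ha
  obtain ⟨h', hh', u', hu', rfl⟩ := s.data.U_compl.2.2.2 b hb
  have hn : ∀ g ∈ H, ∀ x ∈ N, g * x * g⁻¹ ∈ N := fun g hg x hx =>
    (Subgroup.mem_normalizer_iff.mp (hN hg) x).mp hx
  rw [s.comm_mul_eq]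
  refine mul_mem (mul_mem (hn h hh _ ?_) (hn _ ((H).mul_mem hh hh') _ ?_))
    (mul_mem (hHH (Subgroup.commutator_mem_commutator hh hh')) (hn h' hh' _ ?_))
  · rw [← commutatorElement_inv]
    exact N.inv_mem (hHU (Subgroup.commutator_mem_commutator hh' hu))
  · exact hUU (Subgroup.commutator_mem_commutator hu hu')
  · exact hHU (Subgroup.commutator_mem_commutator hh hu')

theorem comm_HU_le : ⁅H, U⁆ ≤ H := by
  rw [Subgroup.commutator_comm]
  exact Coprime.commutator_le_of_normalizes (TypeP.U_normalizes_core s.data) |>.trans' (le_of_eq (by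
    rw [Subgroup.commutator_comm]))

theorem derived_two_le_HC : ⁅⁅M, M⁆, ⁅M, M⁆⁆ ≤ H ⊔ C :=
  s.derived_two_le ((s.H_le_M).trans s.HC_normal)
    ((Subgroup.commutator_le_self H).trans le_sup_left) (s.comm_HU_le.trans le_sup_left)
    (s.fac.derived_le.trans le_sup_right)

include I in
/-- PF (11.5). -/
theorem derived_two_eq : ⁅⁅M, M⁆, ⁅M, M⁆⁆ = H ⊔ C := by
  have hdM : ⁅M, M⁆ ≤ M := Subgroup.commutator_le_self M
  have hn : M ≤ Subgroup.normalizer ((⁅⁅M, M⁆, ⁅M, M⁆⁆ : Subgroup G) : Set G) := by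
    refine le_normalizer_commutator_self (Subgroup.le_normalizer_iff.2 fun g hg x hx => ?_)
    exact map_commutator_self_le (Subgroup.le_normalizer hg) x hx
  set A := ⁅⁅M, M⁆, ⁅M, M⁆⁆ with hA
  have hle : A ≤ H ⊔ C := s.derived_two_le_HC
  have hlt : A < ⁅M, M⁆ := lt_of_le_of_lt hle s.HC_lt
  obtain ⟨R, hR⟩ := s.exists_sys I
  set K := (⁅M, M⁆ : Subgroup G).subgroupOf M with hK
  haveI : (A.subgroupOf M).Normal := subgroupOf_normal hn
  have hdeg : ∀ φ ∈ Cfsg.inducedIrrAbove K (A.subgroupOf M), φ 1 = (K.index : ℂ) := by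
    rintro φ ⟨θ, hθ, -, hker, rfl⟩
    rw [CfsgLib.Induction.indFun_one_apply, natDeg_spec (CfsgLib.Characters.isCharacter_of_irr hθ),
      natDeg_eq_one hθ fun a b => hker _ ?_, Nat.cast_one, mul_one]
    exact Subgroup.commutator_mem_commutator (H₁ := ⁅M, M⁆) (H₂ := ⁅M, M⁆) a.2 b.2
  obtain ⟨φ, hφ, -⟩ := exists_linear_above K (s.solvable_K I) (A.subgroupOf M)
    (lt_of_le_of_ne (fun _ hx => hlt.le hx) fun e => hlt.ne (by
      rw [← Subgroup.map_subgroupOf_eq_of_le (hlt.le.trans hdM), e,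
        Subgroup.map_subgroupOf_eq_of_le hdM]))
  have hcoh := Cfsg.Agent.S1517.result _ (tau M) R (sys_sub hR (indAbove_subset_bot K _) ⟨φ, hφ⟩
    fun χ hχ => indAbove_conj K _ hχ) fun χ hχ ψ hψ => by rw [hdeg χ hχ, hdeg ψ hψ]
  have hb := s.bound I hn hlt hcoh
  rw [← Subgroup.relIndex_mul_relIndex _ _ _ hle s.HC_le, s.HC_relIndex] at hb
  set n := A.relIndex (H ⊔ C) with hndef
  obtain ⟨w, hw, hw1, hwq⟩ := s.exists_w
  have hwM := TypeP.W₁_le s.data hw
  have hmod : n ≡ 1 [MOD Nat.card W₁] := by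
    refine relIndex_modEq_one hle s.kind.W₁_prime hwq (s.HC_normal hwM) (hn hwM)
      ((TypeP.coprime_derived_W₁ s.data).symm.coprime_dvd_right (Subgroup.card_dvd_of_le hlt.le))
      fun x hx hc => ?_
    exact (le_inf_iff.mp s.data.W₂_le).2 (TypeP.mem_W₂ s.data hw hw1 (s.HC_le hx) hc)
  have hodd : Odd n := (minSimple_odd I.simple (H ⊔ C)).of_dvd_nat (Subgroup.relIndex_dvd_card _ _)
  suffices h1 : n = 1 from le_antisymm hle (Subgroup.relIndex_eq_one.mp h1)
  by_contra h1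
  have h0 : 1 ≤ n := hodd.pos
  obtain ⟨k, hk⟩ := (Nat.modEq_iff_dvd' h0).mp hmod.symm
  obtain ⟨l, hl⟩ := minSimple_odd I.simple W₁
  obtain ⟨j, hj⟩ := hodd
  have hu := s.one_lt_u
  have hn2 : 2 * Nat.card W₁ + 1 ≤ n := by
    rcases k with _ | _ | k
    · omega
    · omega
    · have : (Nat.card W₁) * (k + 1 + 1) = Nat.card W₁ * k + 2 * Nat.card W₁ := by ring
      omega
  have := Nat.mul_le_mul_right (C.relIndex U) hn2
  rw [add_mul, one_mul] at this
  omega

include I in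
theorem C_eq : C = ⁅U, U⁆ := by
  refine le_antisymm (fun c hc => ?_) s.fac.derived_le
  have hn : H ≤ Subgroup.normalizer ((H ⊔ ⁅U, U⁆ : Subgroup G) : Set G) :=
    le_sup_left.trans Subgroup.le_normalizer
  have h : c ∈ H ⊔ ⁅U, U⁆ := s.derived_two_le hn ((Subgroup.commutator_le_self H).trans le_sup_left)
    (s.comm_HU_le.trans le_sup_left) le_sup_right
    ((s.derived_two_eq I).ge (Subgroup.mem_sup_right hc))
  exact s.mem_of_mem_sup (Subgroup.commutator_le_self U) h (s.C_le hc)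

include I in
theorem H_eq_comm : ⁅H, U⁆ = H := by
  haveI : Group.IsNilpotent H := fittingHallOf_isNilpotent M
  refine eq_of_sup_derived inferInstance s.comm_HU_le (le_antisymm
    (sup_le s.comm_HU_le (Subgroup.commutator_le_self H)) fun x hx => ?_)
  set N := ⁅H, U⁆ ⊔ ⁅H, H⁆ with hN
  have hNH : N ≤ H := sup_le s.comm_HU_le (Subgroup.commutator_le_self H)
  have hconj : H ≤ Subgroup.normalizer ((N ⊔ ⁅U, U⁆ : Subgroup G) : Set G) := by
    refine Subgroup.le_normalizer_iff.2 fun g hg y hy => ?_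
    suffices hm : N ⊔ ⁅U, U⁆ ≤ (N ⊔ ⁅U, U⁆).comap (MulAut.conj g).toMonoidHom from hm hy
    refine sup_le (fun z hz => ?_) (fun z hz => ?_)
    · show g * z * g⁻¹ ∈ N ⊔ ⁅U, U⁆
      have e : g * z * g⁻¹ = ⁅g, z⁆ * z := by simp only [commutatorElement_def]; group
      rw [e]
      exact Subgroup.mem_sup_left (N.mul_mem
        (Subgroup.mem_sup_right (Subgroup.commutator_mem_commutator hg (hNH hz))) hz)
    · show g * z * g⁻¹ ∈ N ⊔ ⁅U, U⁆
      have e : g * z * g⁻¹ = ⁅g, z⁆ * z := by simp only [commutatorElement_def]; group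
      rw [e]
      exact mul_mem (Subgroup.mem_sup_left (Subgroup.mem_sup_left
        (Subgroup.commutator_mem_commutator hg (Subgroup.commutator_le_self U hz))))
        (Subgroup.mem_sup_right hz)
  have h : x ∈ N ⊔ ⁅U, U⁆ := s.derived_two_le hconj (le_sup_right.trans le_sup_left)
    (le_sup_left.trans le_sup_left) le_sup_right
    ((s.derived_two_eq I).ge (Subgroup.mem_sup_left hx))
  have hn : ⁅U, U⁆ ≤ Subgroup.normalizer (N : Set G) := by
    refine Subgroup.le_normalizer_iff.2 fun g hg y hy => ?_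
    have hgU := Subgroup.commutator_le_self U hg
    have e : g * y * g⁻¹ = ⁅y, g⁆⁻¹ * y := by simp only [commutatorElement_def]; group
    rw [e]
    exact N.mul_mem (N.inv_mem
      (Subgroup.mem_sup_left (Subgroup.commutator_mem_commutator (hNH hy) hgU))) hy
  have h' : x ∈ ((N ⊔ ⁅U, U⁆ : Subgroup G) : Set G) := h
  rw [Subgroup.coe_mul_of_right_le_normalizer_left N ⁅U, U⁆ hn] at h'
  obtain ⟨a, ha, b, hb, rfl⟩ := h'
  have hb' : b ∈ U ⊓ H :=
    ⟨Subgroup.commutator_le_self U hb, by simpa using (H).mul_mem ((H).inv_mem (hNH ha)) hx⟩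
  rw [TypeP.U_inf_core s.data, Subgroup.mem_bot] at hb'
  simpa [hb'] using ha

include I in
theorem H₀_central : U ≤ Subgroup.centralizer (H₀ : Set G) := by
  haveI : Group.IsNilpotent H := fittingHallOf_isNilpotent M
  haveI : Group.IsSolvable H := inferInstance
  have hsolv : Group.IsSolvable H₀ :=
    Group.isSolvable_of_isSolvable_injective (Subgroup.inclusion_injective s.H₀_le)
  have e := OddOrder41.FixedFormula.fixed_formula U W₁ s.data.W₁_ne s.data.U_normal
    (TypeP.coprime_U_W₁ s.data) (TypeP.W₁_fpf s.data) H₀ (s.UW₁_le_M.trans s.fac.normal) hsolv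
    ((TypeP.coprime_core_sup s.data).coprime_dvd_left (Subgroup.card_dvd_of_le s.H₀_le))
  have h1 : H₀ ⊓ Subgroup.centralizer (W₁ : Set G) = ⊥ := by
    rw [eq_bot_iff, ← (s.prime_eq I).2.2, ← TypeP.core_inf_centralizer s.data]
    exact le_inf inf_le_left (le_inf (inf_le_left.trans s.H₀_le) inf_le_right)
  have h2 : H₀ ⊓ Subgroup.centralizer ((U ⊔ W₁ : Subgroup G) : Set G) = ⊥ := by
    rw [eq_bot_iff, ← h1]
    exact inf_le_inf_left _ (Subgroup.centralizer_le (SetLike.coe_subset_coe.mpr le_sup_right))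
  rw [h1, h2, Subgroup.card_bot, one_pow, one_mul, one_mul] at e
  have h3 : H₀ ⊓ Subgroup.centralizer (U : Set G) = H₀ :=
    Subgroup.eq_of_le_of_card_ge inf_le_left e.le
  exact Subgroup.le_centralizer_iff.mp (inf_eq_left.mp h3)

include I in
theorem isPGroup_core : IsPGroup p H := by
  haveI : Group.IsNilpotent H := fittingHallOf_isNilpotent M
  haveI : Fact p.Prime := ⟨s.fac.prime⟩
  let P : Sylow p H := default
  have hmem : ∀ x : H, (∃ k : ℕ, x ^ p ^ k = 1) → x ∈ (P : Subgroup H) := by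
    rintro x ⟨k, hk⟩
    obtain ⟨Q, hQ⟩ := IsPGroup.exists_le_sylow (P := Subgroup.zpowers x) (IsPGroup.of_card_dvd_pow
      (n := k) (by rw [Nat.card_zpowers]; exact orderOf_dvd_of_pow_eq_one hk))
    haveI := Sylow.unique_of_normal P inferInstance
    rw [Subsingleton.elim P Q]
    exact hQ (Subgroup.mem_zpowers x)
  have hP : ∀ x : H, x ∈ (P : Subgroup H) → ∃ k : ℕ, x ^ p ^ k = 1 := fun x hx => by
    obtain ⟨k, hk⟩ := P.2 ⟨x, hx⟩
    exact ⟨k, by simpa using congrArg Subtype.val hk⟩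
  suffices h : ⁅H, U⁆ ≤ (P : Subgroup H).map (H).subtype by
    rw [s.H_eq_comm I] at h
    intro x
    obtain ⟨y, hy, e⟩ := h x.2
    rw [← Subtype.ext e]
    exact hP y hy
  rw [Subgroup.commutator_le]
  intro h hh u hu
  obtain ⟨a, m, hm, hn⟩ := Nat.exists_eq_pow_mul_and_not_dvd (orderOf_pos (⟨h, hh⟩ : H)).ne' p
    s.fac.prime.ne_one
  have hco : Nat.Coprime (p ^ a) m :=
    (Nat.Coprime.pow_left _ (s.fac.prime.coprime_iff_not_dvd.mpr hm))
  obtain ⟨x, y, hxy⟩ : ∃ x y : ℤ, x * (p ^ a : ℕ) + y * m = 1 :=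
    Int.isCoprime_iff_nat_coprime.mpr (by simpa using hco)
  set z : H := ⟨h, hh⟩ with hz
  set S : H := z ^ (y * m) with hS
  set R : H := z ^ (x * (p ^ a : ℕ)) with hR
  have hsr : z = S * R := by rw [hS, hR, ← zpow_add, add_comm, hxy, zpow_one]
  have hSP : S ∈ (P : Subgroup H) := hmem _ ⟨a, by
    rw [hS, ← zpow_natCast, ← zpow_mul, show y * m * (p ^ a : ℕ) = y * ((p ^ a * m : ℕ) : ℤ) by
      push_cast; ring, ← hn, mul_comm, zpow_mul, zpow_natCast, pow_orderOf_eq_one, one_zpow]⟩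
  have hR0 : (R : G) ∈ H₀ := by
    have hRm : orderOf R ∣ m := orderOf_dvd_of_pow_eq_one (by
      rw [hR, ← zpow_natCast, ← zpow_mul, show x * (p ^ a : ℕ) * m = x * ((p ^ a * m : ℕ) : ℤ) by
        push_cast; ring, ← hn, mul_comm, zpow_mul, zpow_natCast, pow_orderOf_eq_one, one_zpow])
    obtain ⟨k, hk⟩ := exists_pow_eq_self_of_coprime
      ((s.fac.prime.coprime_iff_not_dvd.mpr hm).coprime_dvd_right hRm)
    rw [← hk, SubgroupClass.coe_pow, SubgroupClass.coe_pow]
    exact H₀.pow_mem (s.fac.pow_mem _ R.2) k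
  have huR : u * (R : G) = (R : G) * u :=
    (Subgroup.mem_centralizer_iff.mp (s.H₀_central I hu) _ hR0).symm
  have huS : u * (S : G)⁻¹ * u⁻¹ ∈ H :=
    (Subgroup.mem_normalizer_iff.mp (TypeP.U_normalizes_core s.data hu) _).mp ((H).inv_mem S.2)
  have hT : (⟨_, huS⟩ : H) ∈ (P : Subgroup H) := hmem _ (by
    obtain ⟨k, hk⟩ := hP _ hSP
    refine ⟨k, Subtype.ext ?_⟩
    rw [SubgroupClass.coe_pow, OneMemClass.coe_one]
    show (u * (S : G)⁻¹ * u⁻¹) ^ p ^ k = 1
    rw [conj_pow, inv_pow, ← SubgroupClass.coe_pow, hk]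
    simp)
  refine ⟨S * ⟨_, huS⟩, mul_mem hSP hT, ?_⟩
  show (S : G) * (u * (S : G)⁻¹ * u⁻¹) = ⁅h, u⁆
  have eh : h = (S : G) * R := congrArg Subtype.val hsr
  rw [eh, commutatorElement_def]
  calc (S : G) * (u * (S : G)⁻¹ * u⁻¹) = (S : G) * (u * R) * (R : G)⁻¹ * (S : G)⁻¹ * u⁻¹ := by group
    _ = (S : G) * ((R : G) * u) * (R : G)⁻¹ * (S : G)⁻¹ * u⁻¹ := by rw [huR]
    _ = _ := by group

include I in
/-- `H₀ = H'`. -/
theorem H₀_eq : H₀ = ⁅H, H⁆ := by
  refine le_antisymm (fun x hx => ?_) ?_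
  · haveI := Fintype.ofFinite U
    let cj : U → H → H := fun u h =>
      ⟨u * h * (u : G)⁻¹, (Subgroup.mem_normalizer_iff.mp (TypeP.U_normalizes_core s.data u.2) _).mp h.2⟩
    have hmul : ∀ u h h', cj u (h * h') = cj u h * cj u h' := fun u h h' => Subtype.ext (by
      simp only [cj, Subgroup.coe_mul]; group)
    let φ : H →* Abelianization H := MonoidHom.mk' (fun h => ∏ u : U, Abelianization.of (cj u h))
      fun h h' => by
        rw [← Finset.prod_mul_distrib]
        exact Finset.prod_congr rfl fun u _ => by rw [hmul, map_mul]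
    have hinv : ∀ (v : U) (h : H), φ (cj v h) = φ h := fun v h => by
      refine Fintype.prod_equiv (Equiv.mulRight v) _ _ fun u => ?_
      refine congrArg _ (Subtype.ext ?_)
      show (u : G) * ((v : G) * h * (v : G)⁻¹) * (u : G)⁻¹ =
        ((u * v : U) : G) * h * ((u * v : U) : G)⁻¹
      rw [Subgroup.coe_mul]; group
    have htop : φ.ker.map (H).subtype = H := by
      refine le_antisymm (Subgroup.map_subtype_le _) ?_
      conv_lhs => rw [← s.H_eq_comm I]
      rw [Subgroup.commutator_le]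
      intro h hh v hv
      refine ⟨⟨h, hh⟩ * (cj ⟨v, hv⟩ ⟨h, hh⟩)⁻¹, ?_, ?_⟩
      · rw [SetLike.mem_coe, MonoidHom.mem_ker, map_mul, map_inv, hinv, mul_inv_cancel]
      · show h * (v * h * v⁻¹)⁻¹ = ⁅h, v⁆
        simp only [commutatorElement_def]; group
    have hxH := s.H₀_le hx
    obtain ⟨y, hy, e⟩ := htop.ge hxH
    have hy' : y = ⟨x, hxH⟩ := Subtype.ext e
    rw [hy', SetLike.mem_coe, MonoidHom.mem_ker] at hy
    have hcx : ∀ u : U, cj u ⟨x, hxH⟩ = ⟨x, hxH⟩ := fun u => Subtype.ext (by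
      show (u : G) * x * (u : G)⁻¹ = x
      rw [← Subgroup.mem_centralizer_iff.mp (s.H₀_central I u.2) x hx]
      group)
    change ∏ u : U, Abelianization.of (cj u ⟨x, hxH⟩) = 1 at hy
    simp only [hcx, Finset.prod_const, Finset.card_univ, ← Nat.card_eq_fintype_card] at hy
    have hord : orderOf (Abelianization.of (⟨x, hxH⟩ : H)) ∣ Nat.card H :=
      (orderOf_map_dvd _ _).trans (orderOf_dvd_natCard _)
    have hcop : (Nat.card H).Coprime (Nat.card U) :=
      (TypeP.coprime_core_sup s.data).coprime_dvd_right (Subgroup.card_dvd_of_le le_sup_left)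
    have h1 : Abelianization.of (⟨x, hxH⟩ : H) = 1 := orderOf_eq_one_iff.mp
      (Nat.eq_one_of_dvd_coprimes hcop hord (orderOf_dvd_of_pow_eq_one hy))
    rw [← MonoidHom.mem_ker, Abelianization.ker_of] at h1
    rw [← Subgroup.map_subtype_commutator]
    exact ⟨_, h1, rfl⟩
  · rw [Subgroup.commutator_le]
    intro a ha b hb
    simpa [commutatorElement_def] using s.fac.comm_mem a ha b hb

end Setup

end CfsgLib.PF.Sec11
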