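import Cfsg.Agent.Lib.OddChar.Signed
import Cfsg.Agent.Lib.OddChar.SignedPairs
import Cfsg.Agent.Lib.OddChar.Coherence
import Cfsg.Agent.Lib.OddChar.DadeVirtual
import Cfsg.Agent.Lib.OddChar.DadeInner
import Cfsg.Agent.Lib.PF.TypeOneCoherence

/-!
# Pairs of irreducible characters attached to a Dade set-up

For an irreducible `χ ≠ χ̄` of `L` vanishing outside `A ∪ {1}` the image of `χ - χ̄` is `σ - σ̄` for an
irreducible up to sign `σ`; different pairs are orthogonal.
-/

set_option autoImplicit false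

namespace CfsgLib.PF.Sec12

open scoped Classical ComplexConjugate
open Finset CfsgLib.OddChar CfsgLib.Characters

section Basic

variable {X : Type*} [Group X] [Fintype X]

theorem bessel {ι : Type*} [Fintype ι] (v : ι → X → ℂ)
    (hv : ∀ i j, Cfsg.classInner (v i) (v j) = if i = j then 1 else 0) (f : X → ℂ) :
    ∑ i, Complex.normSq (Cfsg.classInner f (v i)) ≤ (Cfsg.classInner f f).re := by
  set a : ι → ℂ := fun i => Cfsg.classInner f (v i) with ha
  set P : X → ℂ := ∑ i, a i • v i with hP
  have h1 : Cfsg.classInner P f = ∑ i, a i * conj (a i) := by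
    rw [hP, classInner_sum_left]
    exact Finset.sum_congr rfl fun i _ => by rw [classInner_smul_left, classInner_conj_symm f (v i)]
  have h2 : Cfsg.classInner f P = ∑ i, a i * conj (a i) := by
    rw [classInner_conj_symm P f, h1, map_sum]
    exact Finset.sum_congr rfl fun i _ => by rw [map_mul, Complex.conj_conj, mul_comm]
  have h3 : Cfsg.classInner P P = ∑ i, a i * conj (a i) := by
    rw [hP, classInner_sum_left]
    refine Finset.sum_congr rfl fun i _ => ?_
    rw [classInner_smul_left, classInner_sum_right]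
    congr 1
    rw [Finset.sum_eq_single i]
    · rw [classInner_smul_right, hv, if_pos rfl, mul_one]
    · intro j _ hj; rw [classInner_smul_right, hv, if_neg hj.symm, mul_zero]
    · intro h; exact absurd (mem_univ i) h
  have h4 : Cfsg.classInner (f - P) (f - P) = Cfsg.classInner f f - ∑ i, a i * conj (a i) := by
    rw [classInner_sub_left, classInner_sub_right, classInner_sub_right, h1, h2, h3]; ring
  have h5 := classInner_self_re_nonneg (f - P)
  rw [h4, Complex.sub_re, Complex.re_sum] at h5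
  have h6 : ∀ i, (a i * conj (a i)).re = Complex.normSq (a i) := fun i => by
    rw [Complex.mul_conj, Complex.ofReal_re]
  rw [Finset.sum_congr rfl (fun i _ => h6 i)] at h5
  linarith

theorem conjFun_add (a b : X → ℂ) : Cfsg.conjFun (a + b) = Cfsg.conjFun a + Cfsg.conjFun b := by
  funext x; simp [Cfsg.conjFun]

theorem conjFun_sub (a b : X → ℂ) : Cfsg.conjFun (a - b) = Cfsg.conjFun a - Cfsg.conjFun b := by
  funext x; simp [Cfsg.conjFun]

theorem conjFun_neg (a : X → ℂ) : Cfsg.conjFun (-a) = -Cfsg.conjFun a := by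
  funext x; simp [Cfsg.conjFun]

theorem conjFun_signed {a : X → ℂ} (h : IsSigned a) : IsSigned (Cfsg.conjFun a) := by
  rcases h with h | h
  · exact Or.inl (conjFun_irr h)
  · exact Or.inr (by rw [← conjFun_neg]; exact conjFun_irr h)

/-- Two orthogonal irreducibles up to sign with purely imaginary sum. -/
theorem eq_neg_conjFun {a b : X → ℂ} (ha : IsSigned a) (hb : IsSigned b)
    (hab : Cfsg.classInner a b = 0) (h : Cfsg.conjFun (a + b) = -(a + b)) :
    b = -Cfsg.conjFun a := by
  have hca := conjFun_signed ha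
  have hcb := conjFun_signed hb
  have hcab : Cfsg.classInner (Cfsg.conjFun a) (Cfsg.conjFun b) = 0 := by
    rw [classInner_conjFun, hab, map_zero]
  have hreal : conj (a 1) = a 1 := by
    obtain ⟨z, hz⟩ := exists_degree_generalized ha.generalized
    rw [hz, map_intCast]
  rw [conjFun_add] at h
  rcases hca.cases ha with e | e | hna
  · -- `ā = a`
    have h1 := congrArg (fun f => Cfsg.classInner f a) h
    simp only [classInner_add_left, classInner_neg_left] at h1
    rw [ha.norm_one, classInner_conj_symm a b, hab, map_zero] at h1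
    rw [e, ha.norm_one] at h1
    have h2 : Cfsg.classInner (Cfsg.conjFun b) a = 0 := by
      rw [← e, classInner_conjFun, classInner_conj_symm a b, hab, map_zero, map_zero]
    rw [h2] at h1
    norm_num at h1
  · exact absurd (congrFun e 1) (by
      show conj (a 1) ≠ -(a 1)
      rw [hreal]
      intro e'
      exact ha.apply_one_ne_zero (by linear_combination e' / 2))
  rcases hca.cases hb with e | e | hnb
  · -- `ā = b`
    exfalso
    have eb : Cfsg.conjFun b = a := by rw [← e, conjFun_conjFun]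
    rw [e, eb, add_comm b a] at h
    have h0 : a + b = 0 := by
      funext x
      have := congrFun h x
      simp only [Pi.add_apply, Pi.neg_apply, Pi.zero_apply] at this ⊢
      linear_combination this / 2
    have h1 := congrArg (fun f => Cfsg.classInner f a) h0
    simp only [classInner_add_left] at h1
    rw [ha.norm_one, classInner_conj_symm a b, hab, map_zero] at h1
    simp [Cfsg.classInner] at h1
  · rw [e, neg_neg]
  · exfalso
    have h1 := congrArg (fun f => Cfsg.classInner (Cfsg.conjFun a) f) h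
    simp only [classInner_add_right, classInner_neg_right, hca.norm_one, hcab, hna, hnb] at h1
    norm_num at h1

end Basic

section Dade

variable {G : Type*} [Group G] [Fintype G] {A : Set G} {L : Subgroup G} {R : G → Subgroup G}

theorem dade_conjFun (α : L → ℂ) :
    Cfsg.dadeIsometry A L R (Cfsg.conjFun α) = Cfsg.conjFun (Cfsg.dadeIsometry A L R α) := by
  funext g
  simp only [Cfsg.dadeIsometry, Cfsg.conjFun]
  split_ifs <;> simp

theorem dade_zero : Cfsg.dadeIsometry A L R (0 : L → ℂ) = 0 := by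
  funext g
  simp only [Cfsg.dadeIsometry, Pi.zero_apply]
  split_ifs <;> rfl

theorem dade_map_sum {ι : Type*} (s : Finset ι) (f : ι → L → ℂ) :
    Cfsg.dadeIsometry A L R (∑ i ∈ s, f i) = ∑ i ∈ s, Cfsg.dadeIsometry A L R (f i) := by
  induction s using Finset.induction_on with
  | empty => simpa using dade_zero
  | insert i s hi ih => rw [Finset.sum_insert hi, Finset.sum_insert hi, dadeIsometry_add, ih]

variable [Fintype L]

/-- An irreducible character of `L`, not equal to its conjugate, vanishing outside `A ∪ {1}`. -/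
structure InDom (A : Set G) (χ : L → ℂ) : Prop where
  irr : Cfsg.IsIrrCharacter L χ
  ne : Cfsg.conjFun χ ≠ χ
  vanish : ∀ x : L, (x : G) ∉ A → x ≠ 1 → χ x = 0

omit [Fintype G] in
theorem InDom.conj {χ : L → ℂ} (h : InDom A χ) : InDom A (Cfsg.conjFun χ) :=
  ⟨conjFun_irr h.irr, fun e => h.ne (by rw [conjFun_conjFun] at e; exact e.symm),
    fun x hx hx1 => by simp [Cfsg.conjFun, h.vanish x hx hx1]⟩

omit [Fintype G] in
theorem InDom.sub_vanish {χ φ : L → ℂ} (h : InDom A χ) (h' : InDom A φ) (he : χ 1 = φ 1)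
    (x : L) (hx : (x : G) ∉ A) : (χ - φ) x = 0 := by
  by_cases hx1 : x = 1
  · simp [hx1, he]
  · simp [h.vanish x hx hx1, h'.vanish x hx hx1]

omit [Fintype G] in
theorem InDom.conj_one {χ : L → ℂ} (h : InDom A χ) : χ 1 = Cfsg.conjFun χ 1 :=
  (conjFun_one (isCharacter_of_irr h.irr)).symm

omit [Fintype G] in
theorem InDom.gen {χ φ : L → ℂ} (h : InDom A χ) (h' : InDom A φ) :
    Cfsg.IsGeneralizedCharacter L (χ - φ) :=
  isGeneralizedCharacter_sub (isGeneralizedCharacter_irr ⟨χ, h.irr⟩)
    (isGeneralizedCharacter_irr ⟨φ, h'.irr⟩)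

variable (hD : Cfsg.DadeHypothesis A L R)

include hD in
theorem exists_pair {χ : L → ℂ} (h : InDom A χ) :
    ∃ σ : G → ℂ, IsSigned σ ∧ Cfsg.classInner σ (Cfsg.conjFun σ) = 0 ∧
      Cfsg.dadeIsometry A L R (χ - Cfsg.conjFun χ) = σ - Cfsg.conjFun σ := by
  have hgen := h.gen h.conj
  have hsupp := h.sub_vanish h.conj h.conj_one
  have hn : Cfsg.classInner (Cfsg.dadeIsometry A L R (χ - Cfsg.conjFun χ)) (Cfsg.dadeIsometry A L R (χ - Cfsg.conjFun χ)) = ((2 : ℕ) : ℂ) := by
    rw [dade_isometry hD (isClassFunction_of_isGeneralizedCharacter hgen) hsupp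
      (isClassFunction_of_isGeneralizedCharacter hgen)]
    rw [classInner_sub_left, classInner_sub_right, classInner_sub_right,
      classInner_irr_self h.irr, classInner_irr_self (conjFun_irr h.irr),
      classInner_irr_ne h.irr (conjFun_irr h.irr) (Ne.symm h.ne),
      classInner_irr_ne (conjFun_irr h.irr) h.irr h.ne]
    norm_num
  obtain ⟨s, hs, hsig, horth, hsum⟩ :=
    exists_signed_finset (dade_virtual hD hgen hsupp) (by norm_num : 2 ≤ 3) hn
  obtain ⟨a, b, hab, rfl⟩ := Finset.card_eq_two.mp hs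
  rw [Finset.sum_pair hab] at hsum
  have hab0 : Cfsg.classInner a b = 0 := by
    rw [horth a (by simp) b (by simp), if_neg hab]
  have hb := eq_neg_conjFun (hsig a (by simp)) (hsig b (by simp)) hab0 (by
    rw [← hsum, ← dade_conjFun]
    have : Cfsg.conjFun (χ - Cfsg.conjFun χ) = (-1 : ℤ) • (χ - Cfsg.conjFun χ) := by
      rw [conjFun_sub, conjFun_conjFun]; simp
    rw [this, dadeIsometry_zsmul]; simp)
  refine ⟨a, hsig a (by simp), ?_, by rw [hsum, hb, sub_eq_add_neg]⟩
  have := hab0
  rwa [hb, classInner_neg_right, neg_eq_zero] at this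

include hD in
/-- Pairs coming from different pairs of characters are orthogonal. -/
theorem pairs_orth {χ φ : L → ℂ} (h : InDom A χ) (h' : InDom A φ) (h1 : φ ≠ χ)
    (h2 : φ ≠ Cfsg.conjFun χ) {σ s : G → ℂ} (hσ : IsSigned σ)
    (hσ0 : Cfsg.classInner σ (Cfsg.conjFun σ) = 0)
    (hσe : Cfsg.dadeIsometry A L R (χ - Cfsg.conjFun χ) = σ - Cfsg.conjFun σ)
    (hs : IsSigned s) (hse : Cfsg.dadeIsometry A L R (φ - Cfsg.conjFun φ) = s - Cfsg.conjFun s) :
    Cfsg.classInner s σ = 0 ∧ Cfsg.classInner s (Cfsg.conjFun σ) = 0 := by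
  have h3 : φ ≠ χ → Cfsg.conjFun φ ≠ Cfsg.conjFun χ := fun h e => h (by
    rw [← conjFun_conjFun φ, e, conjFun_conjFun])
  have h4 : Cfsg.conjFun φ ≠ χ := fun e => h2 (by rw [← e, conjFun_conjFun])
  have key : Cfsg.classInner (s - Cfsg.conjFun s) (σ - Cfsg.conjFun σ) = 0 := by
    rw [← hσe, ← hse, dade_isometry hD
      (isClassFunction_of_isGeneralizedCharacter (h'.gen h'.conj)) (h'.sub_vanish h'.conj h'.conj_one)
      (isClassFunction_of_isGeneralizedCharacter (h.gen h.conj))]
    rw [classInner_sub_left, classInner_sub_right, classInner_sub_right,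
      classInner_irr_ne h'.irr h.irr h1, classInner_irr_ne h'.irr (conjFun_irr h.irr) h2,
      classInner_irr_ne (conjFun_irr h'.irr) h.irr h4,
      classInner_irr_ne (conjFun_irr h'.irr) (conjFun_irr h.irr) (h3 h1)]
    norm_num
  have hσ0' : Cfsg.classInner (Cfsg.conjFun σ) σ = 0 := by
    rw [classInner_conj_symm σ, hσ0, map_zero]
  constructor
  · by_contra hne
    obtain ⟨e, hε⟩ := hs.eq_smul hσ hne
    set ε := Cfsg.classInner s σ
    have hεc : conj ε = ε := by rcases hε with h | h <;> simp [h]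
    have : Cfsg.conjFun s = ε • Cfsg.conjFun σ := by
      rw [e]; funext x; simp [Cfsg.conjFun, hεc]
    rw [this, e] at key
    simp only [classInner_sub_left, classInner_sub_right, classInner_smul_left, hσ.norm_one,
      (conjFun_signed hσ).norm_one, hσ0, hσ0'] at key
    rcases hε with h | h <;> rw [h] at key <;> norm_num at key
  · by_contra hne
    obtain ⟨e, hε⟩ := hs.eq_smul (conjFun_signed hσ) hne
    set ε := Cfsg.classInner s (Cfsg.conjFun σ)
    have hεc : conj ε = ε := by rcases hε with h | h <;> simp [h]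
    have : Cfsg.conjFun s = ε • σ := by
      rw [e]; funext x; simp [Cfsg.conjFun, hεc]
    rw [this, e] at key
    simp only [classInner_sub_left, classInner_sub_right, classInner_smul_left, hσ.norm_one,
      (conjFun_signed hσ).norm_one, hσ0, hσ0'] at key
    rcases hε with h | h <;> rw [h] at key <;> norm_num at key

/-- `σ` is orthogonal to every member of every pair of `χ`. -/
def PairFree (A : Set G) (R : G → Subgroup G) (χ : L → ℂ) (ψ : G → ℂ) : Prop :=
  ∀ σ : G → ℂ, IsSigned σ → Cfsg.classInner σ (Cfsg.conjFun σ) = 0 →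
    Cfsg.dadeIsometry A L R (χ - Cfsg.conjFun χ) = σ - Cfsg.conjFun σ →
      Cfsg.classInner σ ψ = 0 ∧ Cfsg.classInner (Cfsg.conjFun σ) ψ = 0

include hD in
theorem PairFree.inner {χ : L → ℂ} {ψ : G → ℂ} (h : InDom A χ) (hf : PairFree A R χ ψ) :
    Cfsg.classInner (Cfsg.dadeIsometry A L R (χ - Cfsg.conjFun χ)) ψ = 0 := by
  obtain ⟨σ, h1, h2, h3⟩ := exists_pair hD h
  obtain ⟨a, b⟩ := hf σ h1 h2 h3
  rw [h3, classInner_sub_left, a, b, sub_zero]

include hD in
/-- If the image of `∑ (χ - χ̄)` is orthogonal to `ψ - ψ̄` then `ψ` is in none of the pairs. -/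
theorem pairFree_of_sum {P : Finset (L → ℂ)} (hP : ∀ χ ∈ P, InDom A χ)
    (hPc : ∀ χ ∈ P, Cfsg.conjFun χ ∉ P) {ψ : G → ℂ} (hψ : IsSigned ψ)
    (hψ0 : Cfsg.classInner ψ (Cfsg.conjFun ψ) = 0)
    (h : Cfsg.classInner (Cfsg.dadeIsometry A L R (∑ χ ∈ P, (χ - Cfsg.conjFun χ)))
      (ψ - Cfsg.conjFun ψ) = 0) :
    ∀ χ ∈ P, PairFree A R χ ψ := by
  intro χ hχ σ hσ hσ0 hσe
  choose! f hf1 hf2 hf3 using fun φ (hφ : φ ∈ P) => exists_pair hD (hP φ hφ)
  rw [dade_map_sum, classInner_sum_left, ← Finset.add_sum_erase _ _ hχ, hσe] at h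
  have hψ0' : Cfsg.classInner (Cfsg.conjFun ψ) ψ = 0 := by
    rw [classInner_conj_symm ψ, hψ0, map_zero]
  have hor : ∀ φ ∈ P.erase χ, Cfsg.classInner (f φ) σ = 0 ∧
      Cfsg.classInner (f φ) (Cfsg.conjFun σ) = 0 := fun φ hφ => by
    obtain ⟨hne, hmem⟩ := Finset.mem_erase.mp hφ
    exact pairs_orth hD (hP χ hχ) (hP φ hmem) hne (fun e => hPc χ hχ (e ▸ hmem)) hσ hσ0 hσe
      (hf1 φ hmem) (hf3 φ hmem)
  constructor
  · by_contra hne
    obtain ⟨e, hε⟩ := hσ.eq_smul hψ hne
    set ε := Cfsg.classInner σ ψ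
    have hεc : conj ε = ε := by rcases hε with h | h <;> simp [h]
    have hε0 : ε ≠ 0 := by rcases hε with h | h <;> simp [h]
    have ec : Cfsg.conjFun σ = ε • Cfsg.conjFun ψ := by rw [e]; funext x; simp [Cfsg.conjFun, hεc]
    rw [Finset.sum_eq_zero, add_zero] at h
    · rw [ec, e] at h
      simp only [classInner_sub_left, classInner_sub_right, classInner_smul_left, hψ.norm_one,
        (conjFun_signed hψ).norm_one, hψ0, hψ0'] at h
      exact hε0 (by linear_combination h / 2)
    · intro φ hφ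
      obtain ⟨o1, o2⟩ := hor φ hφ
      rw [e, classInner_smul_right, hεc] at o1
      rw [ec, classInner_smul_right, hεc] at o2
      have o1' := (mul_eq_zero.mp o1).resolve_left hε0
      have o2' := (mul_eq_zero.mp o2).resolve_left hε0
      have o3 : Cfsg.classInner (Cfsg.conjFun (f φ)) (Cfsg.conjFun ψ) = 0 := by
        rw [classInner_conjFun, o1', map_zero]
      have o4 : Cfsg.classInner (Cfsg.conjFun (f φ)) ψ = 0 := by
        rw [← conjFun_conjFun ψ, classInner_conjFun, o2', map_zero]
      rw [hf3 φ (Finset.mem_of_mem_erase hφ), classInner_sub_left, classInner_sub_right,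
        classInner_sub_right, o1', o2', o3, o4]
      norm_num
  · by_contra hne
    obtain ⟨e, hε⟩ := (conjFun_signed hσ).eq_smul hψ hne
    set ε := Cfsg.classInner (Cfsg.conjFun σ) ψ
    have hεc : conj ε = ε := by rcases hε with h | h <;> simp [h]
    have hε0 : ε ≠ 0 := by rcases hε with h | h <;> simp [h]
    have ec : σ = ε • Cfsg.conjFun ψ := by
      rw [← conjFun_conjFun σ, e]; funext x; simp [Cfsg.conjFun, hεc]
    rw [Finset.sum_eq_zero, add_zero] at h
    · rw [e, ec] at h
      simp only [classInner_sub_left, classInner_sub_right, classInner_smul_left, hψ.norm_one,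
        (conjFun_signed hψ).norm_one, hψ0, hψ0'] at h
      exact hε0 (by linear_combination -h / 2)
    · intro φ hφ
      obtain ⟨o1, o2⟩ := hor φ hφ
      rw [ec, classInner_smul_right, hεc] at o1
      rw [e, classInner_smul_right, hεc] at o2
      have o1' := (mul_eq_zero.mp o1).resolve_left hε0
      have o2' := (mul_eq_zero.mp o2).resolve_left hε0
      have o3 : Cfsg.classInner (Cfsg.conjFun (f φ)) (Cfsg.conjFun ψ) = 0 := by
        rw [classInner_conjFun, o2', map_zero]
      have o4 : Cfsg.classInner (Cfsg.conjFun (f φ)) ψ = 0 := by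
        rw [← conjFun_conjFun ψ, classInner_conjFun, o1', map_zero]
      rw [hf3 φ (Finset.mem_of_mem_erase hφ), classInner_sub_left, classInner_sub_right,
        classInner_sub_right, o1', o2', o3, o4]
      norm_num

include hD in
/-- A combination with coefficients `±1` whose image is orthogonal to `ψ` by the norm. -/
theorem inner_eq_zero_of_signs {P : Finset (L → ℂ)} (hP : ∀ χ ∈ P, InDom A χ)
    (hPc : ∀ χ ∈ P, Cfsg.conjFun χ ∉ P) (c : (L → ℂ) → ℤ) (hc : ∀ χ ∈ P, c χ = 1 ∨ c χ = -1)
    (hsupp : ∀ x : L, (x : G) ∉ A → (∑ χ ∈ P, (c χ : ℂ) • χ) x = 0)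
    {ψ : G → ℂ} (hψ : IsSigned ψ) (hfree : ∀ χ ∈ P, PairFree A R χ ψ) :
    Cfsg.classInner (Cfsg.dadeIsometry A L R (∑ χ ∈ P, (c χ : ℂ) • χ)) ψ = 0 := by
  set α := ∑ χ ∈ P, (c χ : ℂ) • χ with hα
  have hgen : Cfsg.IsGeneralizedCharacter L α := isGeneralizedCharacter_sum _ fun χ hχ =>
    isGeneralizedCharacter_intCast_smul (isGeneralizedCharacter_irr ⟨χ, (hP χ hχ).irr⟩) _
  set T := Cfsg.dadeIsometry A L R α with hT
  have hTgen : Cfsg.IsGeneralizedCharacter G T := dade_virtual hD hgen hsupp
  choose! f hf1 hf2 hf3 using fun φ (hφ : φ ∈ P) => exists_pair hD (hP φ hφ)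
  let v : Option (P × Bool) → G → ℂ := fun o => match o with
    | none => ψ
    | some (φ, true) => f φ
    | some (φ, false) => Cfsg.conjFun (f φ)
  have hsym : ∀ {a b : G → ℂ}, Cfsg.classInner a b = 0 → Cfsg.classInner b a = 0 :=
    fun {a b} h => by rw [classInner_conj_symm a, h, map_zero]
  have hfψ : ∀ φ : P, Cfsg.classInner (f φ) ψ = 0 ∧ Cfsg.classInner (Cfsg.conjFun (f φ)) ψ = 0 :=
    fun φ => hfree φ φ.2 _ (hf1 φ φ.2) (hf2 φ φ.2) (hf3 φ φ.2)
  have hff : ∀ φ χ : P, φ ≠ χ → Cfsg.classInner (f φ) (f χ) = 0 ∧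
      Cfsg.classInner (f φ) (Cfsg.conjFun (f χ)) = 0 := fun φ χ hne =>
    pairs_orth hD (hP χ χ.2) (hP φ φ.2) (fun e => hne (Subtype.ext e))
      (fun e => hPc χ χ.2 (e ▸ φ.2)) (hf1 χ χ.2) (hf2 χ χ.2) (hf3 χ χ.2) (hf1 φ φ.2) (hf3 φ φ.2)
  have hv : ∀ i j, Cfsg.classInner (v i) (v j) = if i = j then 1 else 0 := by
    rintro (_ | ⟨φ, _ | _⟩) (_ | ⟨χ, _ | _⟩) <;> simp only [v]
    · simp [hψ.norm_one]
    · simp [hsym (hfψ χ).2]
    · simp [hsym (hfψ χ).1]
    · simp [(hfψ φ).2]
    · by_cases e : φ = χ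
      · subst e; simp [(conjFun_signed (hf1 φ φ.2)).norm_one]
      · rw [if_neg (by simpa using e), classInner_conjFun, (hff φ χ e).1, map_zero]
    · by_cases e : φ = χ
      · subst e; simp [hsym (hf2 φ φ.2)]
      · rw [if_neg (by simp), hsym (hff χ φ (Ne.symm e)).2]
    · simp [(hfψ φ).1]
    · by_cases e : φ = χ
      · subst e; simp [hf2 φ φ.2]
      · rw [if_neg (by simp), (hff φ χ e).2]
    · by_cases e : φ = χ
      · subst e; simp [(hf1 φ φ.2).norm_one]
      · rw [if_neg (by simpa using e), (hff φ χ e).1]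
  have hb := bessel v (fun i j => by convert hv i j) T
  have hTT : (Cfsg.classInner T T).re = P.card := by
    rw [hT, dade_isometry hD (isClassFunction_of_isGeneralizedCharacter hgen) hsupp
      (isClassFunction_of_isGeneralizedCharacter hgen), hα, classInner_sum_left]
    have : ∀ χ ∈ P, Cfsg.classInner ((c χ : ℂ) • χ) (∑ φ ∈ P, (c φ : ℂ) • φ) = 1 := by
      intro χ hχ
      rw [classInner_sum_right, Finset.sum_eq_single χ]
      · rw [classInner_smul_left, classInner_smul_right, classInner_irr_self (hP χ hχ).irr, map_intCast]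
        rcases hc χ hχ with h | h <;> simp [h]
      · intro φ hφ hne
        rw [classInner_smul_left, classInner_smul_right,
          classInner_irr_ne (hP χ hχ).irr (hP φ hφ).irr hne.symm]
        simp
      · exact fun h => absurd hχ h
    rw [Finset.sum_congr rfl this]
    simp
  rw [hTT, Fintype.sum_option] at hb
  have hpair : ∀ φ : P, (1 : ℝ) ≤ Complex.normSq (Cfsg.classInner T (v (some (φ, true)))) +
      Complex.normSq (Cfsg.classInner T (v (some (φ, false)))) := by
    intro φ
    obtain ⟨a, ha⟩ := classInner_generalized_int hTgen (hf1 φ φ.2).generalized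
    obtain ⟨b, hb'⟩ := classInner_generalized_int hTgen (conjFun_signed (hf1 φ φ.2)).generalized
    have hd : (a : ℂ) - b = (c φ : ℂ) := by
      rw [← ha, ← hb', ← classInner_sub_right, ← hf3 φ φ.2, hT,
        dade_isometry hD (isClassFunction_of_isGeneralizedCharacter hgen) hsupp
        (isClassFunction_of_isGeneralizedCharacter ((hP φ φ.2).gen (hP φ φ.2).conj)), hα,
        classInner_sum_left, Finset.sum_eq_single (φ : L → ℂ)]
      · rw [classInner_smul_left, classInner_sub_right, classInner_irr_self (hP φ φ.2).irr,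
          classInner_irr_ne (hP φ φ.2).irr (conjFun_irr (hP φ φ.2).irr) (Ne.symm (hP φ φ.2).ne)]
        ring
      · intro χ hχ hne
        rw [classInner_smul_left, classInner_sub_right, classInner_irr_ne (hP χ hχ).irr (hP φ φ.2).irr hne,
          classInner_irr_ne (hP χ hχ).irr (conjFun_irr (hP φ φ.2).irr) (fun e => hPc φ φ.2 (e ▸ hχ))]
        ring
      · exact fun h => absurd φ.2 h
    have hd' : a - b = c φ := by exact_mod_cast hd
    show (1 : ℝ) ≤ Complex.normSq (Cfsg.classInner T (f φ)) +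
      Complex.normSq (Cfsg.classInner T (Cfsg.conjFun (f φ)))
    rw [ha, hb', ← Complex.ofReal_intCast, ← Complex.ofReal_intCast, Complex.normSq_ofReal,
      Complex.normSq_ofReal]
    have : (1 : ℤ) ≤ a * a + b * b := by
      by_cases ha0 : a = 0
      · subst ha0
        rcases hc φ φ.2 with h | h <;> rw [h] at hd' <;> nlinarith
      · nlinarith [mul_self_pos.mpr ha0, mul_self_nonneg b]
    exact_mod_cast this
  have hsum : (P.card : ℝ) ≤ ∑ x : P × Bool, Complex.normSq (Cfsg.classInner T (v (some x))) := by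
    rw [Fintype.sum_prod_type]
    calc (P.card : ℝ) = ∑ _φ : P, (1 : ℝ) := by simp
      _ ≤ _ := Finset.sum_le_sum fun φ _ => by rw [Fintype.sum_bool]; exact hpair φ
  have h0 : Complex.normSq (Cfsg.classInner T ψ) ≤ 0 := by
    have : v none = ψ := rfl
    rw [this] at hb
    linarith
  exact Complex.normSq_eq_zero.mp (le_antisymm h0 (Complex.normSq_nonneg _))

end Dade

end CfsgLib.PF.Sec12
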