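import Cfsg.Agent.Lib.PF.Sec11Kernel
import Cfsg.Agent.Lib.PF.CoherentMu
import Cfsg.Agent.Lib.PF.Sec12Pairs

/-!
# Peterfalvi (11.8): the Dade map on the functions used for Type III

`Supp M W₁ f`: class functions vanishing at `1` and on `W₁`, which are supported in `A₀(M)`.
-/

set_option autoImplicit false
set_option linter.unusedSectionVars false
set_option linter.style.haveILetI false

namespace CfsgLib.PF.Sec11

open Finset CfsgLib.Characters CfsgLib.OddChar CfsgLib.OddOrder CfsgLib.Clifford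
open scoped Classical ComplexConjugate

universe u

variable {G : Type u} [Group G] [Fintype G]

/-- A class function of `M` vanishing at `1` and on `W₁`. -/
structure Supp (M W₁ : Subgroup G) (f : ↥M → ℂ) : Prop where
  cls : Cfsg.IsClassFunction ↥M f
  one : f 1 = 0
  left : ∀ x : ↥M, (x : G) ∈ W₁ → f x = 0

/-- The hypotheses of (11.8), with `H₀ = 1` and fixed characters `μ`, `η`. -/
structure Ctx (M W₁ U W₂ C : Subgroup G) (p : ℕ) (μ : (↥(W₁ ⊔ W₂) →* ℂˣ) → (↥M → ℂ))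
    (δ : (↥(W₁ ⊔ W₂) →* ℂˣ) → ℂ) (η : (↥(W₁ ⊔ W₂) →* ℂˣ) → (G → ℂ)) : Prop where
  s : Setup M W₁ U W₂ ⊥ C p
  I : Inputs G
  types : PropTypes G
  dadeP : PropDade G
  redP : PropReducible G
  ti : TIData M W₁ W₂ μ δ η

namespace Ctx

variable {M W₁ U W₂ C : Subgroup G} {p : ℕ} {μ : (↥(W₁ ⊔ W₂) →* ℂˣ) → (↥M → ℂ)}
  {δ : (↥(W₁ ⊔ W₂) →* ℂˣ) → ℂ} {η : (↥(W₁ ⊔ W₂) →* ℂˣ) → (G → ℂ)}
  (c : Ctx M W₁ U W₂ C p μ δ η)

include c

theorem data : Cfsg.IsTypePWith M W₁ U W₂ := c.s.data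

theorem hW : Cfsg.IsSelfNormalizingCyclic W₁ W₂ := c.data.selfNormalizing

theorem WM : W₁ ⊔ W₂ ≤ M := (typeP_le c.data).2.2.2.2

theorem odd : Odd (Nat.card ↥(W₁ ⊔ W₂)) := odd_W c.I.simple c.data

theorem hDade : Cfsg.DadeHypothesis (suppA0 M) M (Cfsg.supportR M) :=
  dade c.types c.dadeP c.s.max c.data

theorem cls_μ (ω : ↥(W₁ ⊔ W₂) →* ℂˣ) : Cfsg.IsClassFunction ↥M (μ ω) :=
  isClassFunction_of_isCharacter (isCharacter_of_irr (c.ti.μ_irr ω))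

theorem gen_μ (ω : ↥(W₁ ⊔ W₂) →* ℂˣ) : Cfsg.IsGeneralizedCharacter ↥M (μ ω) :=
  isGeneralizedCharacter_of_isCharacter (isCharacter_of_irr (c.ti.μ_irr ω))

theorem η_one : η 1 = fun _ => 1 := c.ti.family.map_one

theorem η_gen (ω : ↥(W₁ ⊔ W₂) →* ℂˣ) : Cfsg.IsGeneralizedCharacter G (η ω) :=
  (family_signed c.ti.family ω).generalized

theorem inner_μ (a b : ↥(W₁ ⊔ W₂) →* ℂˣ) :
    Cfsg.classInner (μ a) (μ b) = if a = b then 1 else 0 := by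
  split_ifs with h
  · rw [h, classInner_irr_self (c.ti.μ_irr b)]
  · exact classInner_irr_ne (c.ti.μ_irr a) (c.ti.μ_irr b) fun e => h (c.ti.μ_inj e)

theorem mem_W₂ {x : G} (hx : x ∈ W₁ ⊔ W₂) (hxD : x ∈ (⁅M, M⁆ : Subgroup G)) : x ∈ W₂ := by
  obtain ⟨hW₁M, -, -, -, hWM⟩ := typeP_le c.data
  exact (typeP_TPL c.data).mem₂_of_mem (show (⟨x, hWM hx⟩ : M) ∈ W₁.subgroupOf M ⊔ W₂.subgroupOf M by
    rw [← Subgroup.subgroupOf_sup hW₁M (le_sup_right.trans hWM)]; exact hx) hxD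

/-- The support of a `Supp` function. -/
theorem vanish {f : ↥M → ℂ} (hf : Supp M W₁ f) (x : ↥M) (hx : (x : G) ∉ suppA0 M) : f x = 0 := by
  by_cases hK : (x : G) ∈ (⁅M, M⁆ : Subgroup G)
  · by_cases h1 : x = 1
    · rw [h1, hf.one]
    · refine absurd (Or.inl ?_) hx
      rw [suppA_eq_centSupp c.types c.s.max c.data, c.s.typeCore_eq c.I.kinds]
      exact ⟨hK, fun e => h1 (Subtype.ext e), x, hK, fun e => h1 (Subtype.ext e), rfl⟩
  · obtain ⟨hW₁M, -, -, -, hWM⟩ := typeP_le c.data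
    obtain ⟨k, y, hy, hy2, rfl⟩ := TILocal.exists_conj_off (typeP_TPL c.data) (g := x) hK
    have hy' : (y : G) ∈ W₁ ⊔ W₂ := by
      rw [← Subgroup.subgroupOf_sup hW₁M (le_sup_right.trans hWM)] at hy; exact hy
    rw [hf.cls y k]
    by_cases hy1 : (y : G) ∈ W₁
    · exact hf.left y hy1
    · exact absurd (hat_mem_suppA0 c.types c.s.max c.data hy' hy1 hy2 k.2) hx

theorem tau_isometry {f g : ↥M → ℂ} (hf : Supp M W₁ f) (hg : Cfsg.IsClassFunction ↥M g) :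
    Cfsg.classInner (tau M f) (tau M g) = Cfsg.classInner f g :=
  dade_isometry c.hDade hf.cls (c.vanish hf) hg

theorem tau_one {f : ↥M → ℂ} (hf : Supp M W₁ f) :
    Cfsg.classInner (tau M f) (η 1) = Cfsg.classInner f (μ 1) := by
  rw [c.η_one, c.ti.μ_one]
  refine dade_adjoint c.hDade hf.cls (c.vanish hf) (fun _ _ => rfl) fun a ha => ?_
  rw [finsum_mem_eq_finite_toFinset_sum _ (Set.toFinite _), Finset.sum_const, nsmul_eq_mul, mul_one,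
    ← Nat.card_eq_card_finite_toFinset]
  exact (inv_mul_cancel₀ (Nat.cast_ne_zero.mpr Nat.card_pos.ne')).symm

theorem tau_gen {f : ↥M → ℂ} (hf : Supp M W₁ f) (hg : Cfsg.IsGeneralizedCharacter ↥M f) :
    Cfsg.IsGeneralizedCharacter G (tau M f) :=
  dade_virtual c.hDade hg (c.vanish hf)

theorem tau_add (f g : ↥M → ℂ) : tau M (f + g) = tau M f + tau M g := dadeIsometry_add f g

theorem tau_smul (a : ℂ) (f : ↥M → ℂ) : tau M (a • f) = a • tau M f := by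
  funext g
  simp only [tau, Cfsg.dadeIsometry, Pi.smul_apply]
  split_ifs <;> simp

theorem tau_sub (f g : ↥M → ℂ) : tau M (f - g) = tau M f - tau M g := by
  funext x
  simp only [tau, Cfsg.dadeIsometry, Pi.sub_apply]
  split_ifs <;> simp

/-! ### The columns -/

theorem not_one_of_trivL {ψ : ↥(W₁ ⊔ W₂) →* ℂˣ} (hψ : TrivL ψ) (h1 : ψ ≠ 1) :
    ¬ AgreeR W₁ W₂ ψ 1 := fun hag =>
  h1 (eq_one_of_trivR_trivL c.hW.2.2.1 c.hW.2.2.2.1 (fun w hw => hag w hw) hψ)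

theorem agreeR_one {φ : ↥(W₁ ⊔ W₂) →* ℂˣ} (hφ : TrivR φ) : AgreeR W₁ W₂ φ 1 := fun w hw => hφ w hw

theorem agreeR_mul {φ ψ : ↥(W₁ ⊔ W₂) →* ℂˣ} (hφ : TrivR φ) : AgreeR W₁ W₂ (φ * ψ) ψ :=
  fun w hw => by rw [MonoidHom.mul_apply, hφ w hw, one_mul]

/-- `μ ω` is not constant on `W₂` for a non-trivial column. -/
theorem exists_W₂ {ω : ↥(W₁ ⊔ W₂) →* ℂˣ} (hω : ¬ AgreeR W₁ W₂ ω 1) :
    ∃ w : ↥M, (w : G) ∈ W₂ ∧ μ ω w ≠ μ ω 1 := by
  obtain ⟨b, hb, hbω⟩ : ∃ w : ↥(W₁ ⊔ W₂), (w : G) ∈ W₂ ∧ ω w ≠ 1 := by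
    by_contra h
    push Not at h
    exact hω fun w hw => by rw [h w hw, MonoidHom.one_apply]
  refine ⟨⟨b, c.WM b.2⟩, hb, fun h => hbω ?_⟩
  obtain ⟨a, ha, ha1⟩ := (Subgroup.bot_or_exists_ne_one W₁).resolve_left c.hW.1
  have ha0 : a ∈ W₁ ⊔ W₂ := Subgroup.mem_sup_left ha
  have ha2 : a ∉ W₂ := fun hh => ha1 (Subgroup.mem_bot.mp (c.hW.2.2.1.le ⟨ha, hh⟩))
  have ha2' : a * (b : G) ∉ W₂ := fun hh => ha2 (by
    have := W₂.mul_mem hh (W₂.inv_mem hb)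
    rwa [mul_inv_cancel_right] at this)
  have h4 := char_translate (isCharacter_of_irr (c.ti.μ_irr ω)) h ⟨a, c.WM ha0⟩
  change μ ω (⟨a, c.WM ha0⟩ * ⟨(b : G), c.WM b.2⟩) = μ ω ⟨a, c.WM ha0⟩ at h4
  rw [c.ti.μ_value ω (⟨a, c.WM ha0⟩ * ⟨(b : G), c.WM b.2⟩) (Subgroup.mul_mem _ ha0 b.2) ha2',
    c.ti.μ_value ω _ ha0 ha2] at h4
  have hδ : δ ω ≠ 0 := by rcases c.ti.δ_sign ω with r | r <;> simp [r]
  have h5 := mul_left_cancel₀ hδ h4
  change (ω ((⟨a, ha0⟩ : ↥(W₁ ⊔ W₂)) * b) : ℂ) = (ω ⟨a, ha0⟩ : ℂ) at h5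
  rw [map_mul, Units.val_mul, mul_eq_left₀ (Units.ne_zero _), Units.val_eq_one] at h5
  exact h5

theorem red_not_irr (ω : ↥(W₁ ⊔ W₂) →* ℂˣ) : ¬ Cfsg.IsIrrCharacter ↥M (red M μ ω) := by
  intro hi
  have h := classInner_irr_self hi
  rw [c.ti.classInner_red_red c.hW, if_pos (AgreeR.refl ω)] at h
  exact c.s.kind.W₁_prime.ne_one (Nat.cast_eq_one.mp h)

/-- A non-trivial column lies in `S(H)`. -/
theorem red_mem {ω : ↥(W₁ ⊔ W₂) →* ℂˣ} (hω : ¬ AgreeR W₁ W₂ ω 1) :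
    red M μ ω ∈ calS M (Cfsg.fittingHallOf M) ⊥ := by
  obtain ⟨w, hw, hne⟩ := c.exists_W₂ hω
  have hwH := TypeP.W₂_le_core c.data hw
  have hwK : w ∈ (⁅M, M⁆ : Subgroup G).subgroupOf M := TypeP.core_le_derived c.data hwH
  refine ⟨⟨_, c.ti.res_irr ω, fun e => hne ?_, fun a ha => ?_, rfl⟩, ?_⟩
  · have e1 := congrFun e ⟨w, hwK⟩
    have e2 := congrFun e 1
    simp only [resD, OneMemClass.coe_one] at e1 e2
    exact e1.trans e2.symm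
  · rw [Subgroup.bot_subgroupOf, Subgroup.mem_bot] at ha
    rw [show a = 1 from Subtype.ext ha]
  · rintro ⟨θ, hθ, -, hker, e⟩
    haveI : ((Cfsg.fittingHallOf M).subgroupOf M).Normal :=
      subgroupOf_normal (fittingHallOf_normal M)
    obtain ⟨x, hx⟩ := conjChar_of_indFun_eq (derived_subgroupOf_normal M) (c.ti.res_irr ω) hθ e
    refine hne ?_
    have h1 : ∀ a : ↥((⁅M, M⁆ : Subgroup G).subgroupOf M),
        ((a : ↥M) : G) ∈ Cfsg.fittingHallOf M → resD M (μ ω) a = resD M (μ ω) 1 := by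
      intro a ha
      rw [← hx, conjChar_apply_one]
      exact hker _ (‹((Cfsg.fittingHallOf M).subgroupOf M).Normal›.conj_mem _ ha x)
    exact h1 ⟨w, hwK⟩ hwH

/-- The degree and sign of a non-trivial column. -/
theorem column_value {ω : ↥(W₁ ⊔ W₂) →* ℂˣ} (hω : ¬ AgreeR W₁ W₂ ω 1) :
    μ ω 1 = (C.relIndex U : ℂ) ∧ δ ω = 1 := by
  have h1 := ((c.redP M W₁ U W₂ ⊥ C p c.s.max (Or.inr c.s.kind) c.s.fac).2 _ (c.red_mem hω)
    (c.red_not_irr ω)).2.1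
  rw [red, CfsgLib.Induction.indFun_one_apply, c.s.index_K, Nat.cast_mul] at h1
  have hμ : μ ω 1 = (C.relIndex U : ℂ) :=
    mul_left_cancel₀ (Nat.cast_ne_zero.mpr Nat.card_pos.ne') h1
  refine ⟨hμ, (c.ti.δ_sign ω).resolve_right fun hn => ?_⟩
  obtain ⟨n, hn'⟩ := c.ti.degree ω
  rw [hμ, hn] at hn'
  obtain ⟨k, hk⟩ := (Nat.modEq_iff_dvd' c.s.one_lt_u.le).mp c.s.u_modEq.symm
  have e : (((Nat.card W₁ : ℤ) * (k - n) + 2 : ℤ) : ℂ) = ((0 : ℤ) : ℂ) := by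
    have hk' : (C.relIndex U : ℂ) = (Nat.card W₁ : ℂ) * k + 1 := by
      have : C.relIndex U = Nat.card W₁ * k + 1 := by have := c.s.one_lt_u; omega
      rw [this]; push_cast; ring
    rw [hk'] at hn'
    push_cast
    linear_combination hn'
  have e' : (Nat.card W₁ : ℤ) * (k - n) + 2 = 0 := by exact_mod_cast e
  have hd : (Nat.card W₁ : ℤ) ∣ 2 := ⟨-(k - n), by linarith⟩
  have := Int.le_of_dvd two_pos hd
  have := c.s.q_ge c.I
  omega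

theorem red_one_apply {ω : ↥(W₁ ⊔ W₂) →* ℂˣ} (hω : ¬ AgreeR W₁ W₂ ω 1) :
    red M μ ω 1 = (Nat.card W₁ : ℂ) * (C.relIndex U : ℂ) := by
  rw [red, CfsgLib.Induction.indFun_one_apply, c.s.index_K]
  show (Nat.card W₁ : ℂ) * μ ω 1 = _
  rw [(c.column_value hω).1]

/-! ### Rows and squares -/

/-- The square through `φ ψ`. -/
theorem square_supp {φ ψ : ↥(W₁ ⊔ W₂) →* ℂˣ} (hφ : TrivR φ) (hψ : TrivL ψ) (h1 : ψ ≠ 1) :
    Supp M W₁ (μ (φ * ψ) - μ ψ - μ φ + μ 1) := by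
  have hK : ∀ x : ↥M, (x : G) ∈ (⁅M, M⁆ : Subgroup G) → μ (φ * ψ) x = μ ψ x ∧ μ φ x = μ 1 x :=
    fun x hx => ⟨congrFun (c.ti.res_eq _ _ (c.agreeR_mul hφ)) ⟨x, hx⟩,
      congrFun (c.ti.res_eq _ _ (c.agreeR_one hφ)) ⟨x, hx⟩⟩
  refine ⟨fun x y => ?_, ?_, fun x hx => ?_⟩
  · simp only [Pi.sub_apply, Pi.add_apply, c.cls_μ _ x y]
  · obtain ⟨e1, e2⟩ := hK 1 (Subgroup.one_mem _)
    simp only [Pi.sub_apply, Pi.add_apply, e1, e2, sub_self, zero_sub, neg_add_cancel]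
  · by_cases hx2 : (x : G) ∈ W₂
    · obtain ⟨e1, e2⟩ := hK x (TypeP.core_le_derived c.data (TypeP.W₂_le_core c.data hx2))
      simp only [Pi.sub_apply, Pi.add_apply, e1, e2, sub_self, zero_sub, neg_add_cancel]
    · have hxW : (x : G) ∈ W₁ ⊔ W₂ := Subgroup.mem_sup_left hx
      have hn : ¬ AgreeR W₁ W₂ (φ * ψ) 1 := fun e =>
        c.not_one_of_trivL hψ h1 ((c.agreeR_mul hφ).symm.trans e)
      simp only [Pi.sub_apply, Pi.add_apply, c.ti.μ_value _ x hxW hx2, (c.column_value hn).2,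
        (c.column_value (c.not_one_of_trivL hψ h1)).2, (c.ti.trivial_col φ (c.agreeR_one hφ)).1,
        (c.ti.trivial_col 1 (AgreeR.refl 1)).1, MonoidHom.mul_apply, MonoidHom.one_apply,
        hψ ⟨x, hxW⟩ hx, mul_one, Units.val_one]
      ring

theorem tau_sq {φ ψ : ↥(W₁ ⊔ W₂) →* ℂˣ} (hφ : TrivR φ) (hψ : TrivL ψ) (h1 : ψ ≠ 1) :
    tau M (μ (φ * ψ) - μ ψ - μ φ + μ 1) = η (φ * ψ) - η ψ - η φ + η 1 := by
  by_cases hφ1 : φ = 1
  · rw [hφ1, show (1 : ↥(W₁ ⊔ W₂) →* ℂˣ) * ψ = ψ from MonoidHom.ext fun w => one_mul _, sub_self, zero_sub, neg_add_cancel, sub_self, zero_sub, neg_add_cancel]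
    exact dade_zero' (M := M)
  have h := c.ti.tau_square φ ψ (c.agreeR_one hφ)
    (fun w hw => (hψ w hw).trans (MonoidHom.one_apply w).symm) hφ1 h1
  rwa [(c.column_value (c.not_one_of_trivL hψ h1)).2, one_smul] at h
where
  dade_zero' {M : Subgroup G} : tau M (0 : ↥M → ℂ) = 0 := Sec12.dade_zero

theorem row_supp {ν ν' : ↥(W₁ ⊔ W₂) →* ℂˣ} (hag : AgreeL W₁ W₂ ν ν') (hν : ¬ AgreeR W₁ W₂ ν 1)
    (hν' : ¬ AgreeR W₁ W₂ ν' 1) : Supp M W₁ (μ ν - μ ν') := by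
  refine ⟨fun x y => ?_, ?_, fun x hx => ?_⟩
  · simp only [Pi.sub_apply, c.cls_μ _ x y]
  · rw [Pi.sub_apply, (c.column_value hν).1, (c.column_value hν').1, sub_self]
  · by_cases hx2 : (x : G) ∈ W₂
    · have hx1 : x = 1 := Subtype.ext (Subgroup.mem_bot.mp (c.hW.2.2.1.le ⟨hx, hx2⟩))
      rw [hx1, Pi.sub_apply, (c.column_value hν).1, (c.column_value hν').1, sub_self]
    · have hxW : (x : G) ∈ W₁ ⊔ W₂ := Subgroup.mem_sup_left hx
      rw [Pi.sub_apply, c.ti.μ_value _ x hxW hx2, c.ti.μ_value _ x hxW hx2, (c.column_value hν).2,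
        (c.column_value hν').2, hag ⟨x, hxW⟩ hx, sub_self]

theorem tau_rows {ν ν' : ↥(W₁ ⊔ W₂) →* ℂˣ} (hag : AgreeL W₁ W₂ ν ν') (hν : ¬ AgreeR W₁ W₂ ν 1)
    (hν' : ¬ AgreeR W₁ W₂ ν' 1) : tau M (μ ν - μ ν') = η ν - η ν' := by
  rw [(c.ti.tau_row ν ν' hag hν hν' ((c.column_value hν).1.trans (c.column_value hν').1.symm)).2,
    (c.column_value hν).2, one_smul]

/-! ### The coefficient table -/

theorem coeff_square {f : ↥M → ℂ} (hf : Supp M W₁ f) {φ ψ : ↥(W₁ ⊔ W₂) →* ℂˣ} (hφ : TrivR φ)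
    (hψ : TrivL ψ) (h1 : ψ ≠ 1) :
    Cfsg.classInner (tau M f) (η (φ * ψ)) = Cfsg.classInner (tau M f) (η φ) +
      Cfsg.classInner (tau M f) (η ψ) - Cfsg.classInner f (μ 1) +
      (Cfsg.classInner f (μ (φ * ψ)) - Cfsg.classInner f (μ ψ) - Cfsg.classInner f (μ φ) +
        Cfsg.classInner f (μ 1)) := by
  have h := c.tau_isometry hf (c.square_supp hφ hψ h1).cls
  rw [c.tau_sq hφ hψ h1] at h
  simp only [classInner_sub_right, classInner_add_right, c.tau_one hf] at h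
  linear_combination h

theorem coeff_row {f : ↥M → ℂ} (hf : Supp M W₁ f) {ψ ψ' : ↥(W₁ ⊔ W₂) →* ℂˣ}
    (hψ : TrivL ψ) (hψ' : TrivL ψ') (h1 : ψ ≠ 1) (h1' : ψ' ≠ 1) :
    Cfsg.classInner (tau M f) (η ψ) - Cfsg.classInner (tau M f) (η ψ') =
      Cfsg.classInner f (μ ψ) - Cfsg.classInner f (μ ψ') := by
  have hag : AgreeL W₁ W₂ ψ ψ' := fun w hw => (hψ w hw).trans (hψ' w hw).symm
  have hs := c.row_supp hag (c.not_one_of_trivL hψ h1) (c.not_one_of_trivL hψ' h1')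
  have h := c.tau_isometry hf hs.cls
  rwa [c.tau_rows hag (c.not_one_of_trivL hψ h1) (c.not_one_of_trivL hψ' h1'), classInner_sub_right,
    classInner_sub_right] at h

end Ctx

end CfsgLib.PF.Sec11
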