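import Mathlib
import Cfsg.Prelude.Def_Characters
import Cfsg.Agent.Lib.OddChar.TICongruence
import Cfsg.Agent.S1494
import Cfsg.Agent.S1495

/-!
# Congruences modulo `1 - ε` away from `p`

`CongEps p a b` says that `n (a - b)` is an algebraic-integer multiple of `1 - ε` for some natural number
`n` prime to `p`, where `ε` is a primitive `p`-th root of unity.
-/

set_option autoImplicit false

namespace CfsgLib.PF.Sec12

open Finset

/-- `a ≡ b` modulo `1 - ε`, denominators prime to `p` being allowed. -/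
def CongEps (p : ℕ) (a b : ℂ) : Prop :=
  ∃ n : ℕ, ¬ p ∣ n ∧ ∃ z : ℂ, IsIntegral ℤ z ∧
    (n : ℂ) * (a - b) = (1 - Complex.exp (2 * Real.pi * Complex.I / p)) * z

namespace CongEps

variable {p : ℕ} {a b c a' b' : ℂ}

theorem rfl' (hp : p.Prime) (a : ℂ) : CongEps p a a :=
  ⟨1, by simpa using hp.not_dvd_one, 0, isIntegral_zero, by simp⟩

theorem of_eq (hp : p.Prime) (h : a = b) : CongEps p a b := h ▸ rfl' hp a

theorem symm (h : CongEps p a b) : CongEps p b a := by
  obtain ⟨n, hn, z, hz, e⟩ := h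
  exact ⟨n, hn, -z, hz.neg, by linear_combination -e⟩

theorem trans (hp : p.Prime) (h : CongEps p a b) (h' : CongEps p b c) : CongEps p a c := by
  obtain ⟨n, hn, z, hz, e⟩ := h
  obtain ⟨m, hm, w, hw, e'⟩ := h'
  refine ⟨n * m, fun h => (hp.dvd_mul.mp h).elim hn hm, (m : ℂ) * z + (n : ℂ) * w,
    ((isIntegral_algebraMap (R := ℤ) (x := (m : ℤ))).mul hz).add
      ((isIntegral_algebraMap (R := ℤ) (x := (n : ℤ))).mul hw), ?_⟩
  push_cast
  linear_combination (m : ℂ) * e + (n : ℂ) * e'

theorem add (hp : p.Prime) (h : CongEps p a b) (h' : CongEps p a' b') :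
    CongEps p (a + a') (b + b') := by
  obtain ⟨n, hn, z, hz, e⟩ := h
  obtain ⟨m, hm, w, hw, e'⟩ := h'
  refine ⟨n * m, fun h => (hp.dvd_mul.mp h).elim hn hm, (m : ℂ) * z + (n : ℂ) * w,
    ((isIntegral_algebraMap (R := ℤ) (x := (m : ℤ))).mul hz).add
      ((isIntegral_algebraMap (R := ℤ) (x := (n : ℤ))).mul hw), ?_⟩
  push_cast
  linear_combination (m : ℂ) * e + (n : ℂ) * e'

theorem mul_left (hc : IsIntegral ℤ c) (h : CongEps p a b) : CongEps p (c * a) (c * b) := by
  obtain ⟨n, hn, z, hz, e⟩ := h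
  exact ⟨n, hn, c * z, hc.mul hz, by linear_combination c * e⟩

theorem sum (hp : p.Prime) {ι : Type*} (s : Finset ι) {f g : ι → ℂ}
    (h : ∀ i ∈ s, CongEps p (f i) (g i)) : CongEps p (∑ i ∈ s, f i) (∑ i ∈ s, g i) := by
  classical
  induction s using Finset.induction_on with
  | empty => simpa using rfl' hp 0
  | insert i s hi ih =>
    rw [Finset.sum_insert hi, Finset.sum_insert hi]
    exact add hp (h i (Finset.mem_insert_self _ _)) (ih fun j hj => h j (Finset.mem_insert_of_mem hj))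

theorem cancel_nat (hp : p.Prime) {r : ℕ} (hr : ¬ p ∣ r) (h : CongEps p ((r : ℂ) * a) ((r : ℂ) * b)) :
    CongEps p a b := by
  obtain ⟨n, hn, z, hz, e⟩ := h
  exact ⟨n * r, fun h => (hp.dvd_mul.mp h).elim hn hr, z, hz, by push_cast; linear_combination e⟩

theorem int_dvd (hp : p.Prime) {x y : ℤ} (h : CongEps p (x : ℂ) (y : ℂ)) : (p : ℤ) ∣ x - y := by
  obtain ⟨n, hn, z, hz, e⟩ := h
  have h1 : (p : ℤ) ∣ (n : ℤ) * (x - y) :=
    Cfsg.Agent.S1495.result p hp ((n : ℤ) * (x - y)) z hz (by push_cast; exact e)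
  exact ((Nat.prime_iff_prime_int.mp hp).dvd_mul.mp h1).resolve_left
    fun h => hn (Int.natCast_dvd_natCast.mp h)

theorem mul_p_zero (hp : p.Prime) (hc : IsIntegral ℤ c) : CongEps p ((p : ℂ) * c) 0 := by
  set ε : ℂ := Complex.exp (2 * Real.pi * Complex.I / p) with hε
  have hprim : IsPrimitiveRoot ε p := Complex.isPrimitiveRoot_exp p hp.ne_zero
  have hint : IsIntegral ℤ ε := hprim.isIntegral hp.pos
  have hgeom := hprim.geom_sum_eq_zero hp.one_lt
  have hp' : (p : ℂ) = (1 - ε) * ∑ k ∈ range p, ∑ j ∈ range k, ε ^ j := by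
    rw [Finset.mul_sum]
    have h1 : ∀ k ∈ range p, (1 - ε) * ∑ j ∈ range k, ε ^ j = 1 - ε ^ k := fun k _ =>
      mul_neg_geom_sum ε k
    rw [Finset.sum_congr rfl h1, Finset.sum_sub_distrib, hgeom]
    simp
  refine ⟨1, by simpa using hp.not_dvd_one, (∑ k ∈ range p, ∑ j ∈ range k, ε ^ j) * c,
    (IsIntegral.sum _ fun k _ => IsIntegral.sum _ fun j _ => hint.pow j).mul hc, ?_⟩
  rw [Nat.cast_one, one_mul, sub_zero, ← mul_assoc, ← hp']

end CongEps

/-- A generalised character at `x y`, `x` of order `p` commuting with `y`. -/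
theorem cong_char {G : Type*} [Group G] [Finite G] {χ : G → ℂ} (hχ : Cfsg.IsGeneralizedCharacter G χ)
    {p : ℕ} (hp : p.Prime) {x y : G} (hx : orderOf x = p) (hxy : x * y = y * x) :
    CongEps p (χ (x * y)) (χ y) := by
  obtain ⟨ω, hω, e⟩ := Cfsg.Agent.S1494.result χ hχ p hp x y hx hxy
  exact ⟨1, by simpa using hp.not_dvd_one, ω, hω, by simpa using e⟩

open scoped Classical in
/-- The sum of an invariant integral function over a set with an action of a group of order `p` is
congruent to the sum over the fixed points. -/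
theorem cong_sum_fixed {P X : Type*} [Group P] [Fintype P] [Fintype X] [MulAction P X] {p : ℕ}
    (hp : p.Prime) (hP : Nat.card P = p) (f : X → ℂ) (hinv : ∀ (u : P) x, f (u • x) = f x)
    (hint : ∀ x, IsIntegral ℤ (f x)) :
    CongEps p (∑ x, f x) (∑ x ∈ univ.filter (fun x => ∀ u : P, u • x = x), f x) := by
  let Y : SubMulAction P X :=
    { carrier := {x | ¬ ∀ u : P, u • x = x}
      smul_mem' := fun c x hx h => hx fun u => by
        have h1 := h (c * u * c⁻¹)
        rw [← mul_smul, inv_mul_cancel_right, mul_smul] at h1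
        exact MulAction.injective c h1 }
  haveI : Fintype Y := Fintype.ofFinite _
  have hfree : ∀ x : Y, MulAction.stabilizer P x = ⊥ := by
    intro x
    haveI : Fact (Nat.card P).Prime := ⟨hP.symm ▸ hp⟩
    refine (Subgroup.eq_bot_or_eq_top_of_prime_card _).resolve_right fun h => x.2 fun u => ?_
    have : u ∈ MulAction.stabilizer P x := h ▸ Subgroup.mem_top u
    exact congrArg Subtype.val (MulAction.mem_stabilizer_iff.mp this)
  obtain ⟨c, hc, he⟩ := CfsgLib.OddChar.sum_free_invariant hfree (fun x => f x) (fun u x => hinv u x)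
    (fun x => hint x)
  have hsplit : ∑ x, f x = ∑ x ∈ univ.filter (fun x => ∀ u : P, u • x = x), f x + ∑ y : Y, f y := by
    rw [← Finset.sum_filter_add_sum_filter_not univ (fun x => ∀ u : P, u • x = x)]
    congr 1
    exact Finset.sum_subtype _ (p := fun x => x ∈ Y) (fun x => by
      rw [mem_filter]; exact ⟨fun h => h.2, fun h => ⟨mem_univ _, h⟩⟩) f
  rw [hsplit, he, hP]
  simpa using CongEps.add hp (CongEps.rfl' hp _) (CongEps.mul_p_zero hp hc)

end CfsgLib.PF.Sec12
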