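import Mathlib
import Cfsg.Prelude.Def_Characters
import Cfsg.Agent.Lib.Characters.Induction
import Cfsg.Agent.Lib.Characters.Clifford
import Cfsg.Agent.Lib.OddChar.CyclicTI
import Cfsg.Agent.Lib.OddChar.CoprimeCoset
import Cfsg.Agent.Lib.OddChar.InducedSet
import Cfsg.Agent.Lib.OddChar.Coherence

/-!
# Induction of a linear character of a normal subgroup

If `N = H ⋊ U` and the elements of `U` with fixed points on `H` commute, the character induced from a
non-principal linear character of `H` is a sum of distinct irreducible characters of one degree.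
-/

set_option autoImplicit false
set_option linter.style.haveILetI false

namespace CfsgLib.PF.Sec12

open scoped Classical ComplexConjugate
open Finset CfsgLib.Characters CfsgLib.OddChar

universe u

variable {N : Type u} [Group N] {H : Subgroup N} [H.Normal]

/-- The stabiliser of a linear character of a normal subgroup. -/
def linStab (lam : H →* ℂˣ) : Subgroup N where
  carrier := {b | ∀ h : H, lam (MulAut.conjNormal b h) = lam h}
  one_mem' := fun h => by simp
  mul_mem' := fun {a b} ha hb h => by rw [map_mul, MulAut.mul_apply, ha, hb]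
  inv_mem' := fun {a} ha h => by
    have := ha (MulAut.conjNormal a⁻¹ h)
    rw [← MulAut.mul_apply, ← map_mul, mul_inv_cancel, map_one, MulAut.one_apply] at this
    exact this.symm

/-- A linear character of a subgroup as a function. -/
def linFun {K : Subgroup N} (lam : K →* ℂˣ) : K → ℂ := fun x => (lam x : ℂ)

omit [H.Normal] in
theorem linFun_irr (lam : H →* ℂˣ) : Cfsg.IsIrrCharacter H (linFun lam) := isIrrCharacter_of_hom lam

omit [H.Normal] in
theorem linFun_inj {lam mu : H →* ℂˣ} (h : linFun lam = linFun mu) : lam = mu :=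
  MonoidHom.ext fun x => Units.ext (congrFun h x)

/-- A map fixing a non-principal linear character of `H` fixes a non-identity element. -/
theorem fixed_ne_bot [Finite N] {lam : H →* ℂˣ} (h1 : lam ≠ 1) {b : N} (hb : b ∈ linStab lam) :
    H ⊓ Subgroup.centralizer ({b} : Set N) ≠ ⊥ := by
  intro hbot
  refine h1 (MonoidHom.ext fun z => ?_)
  let f : H → H := fun h => h⁻¹ * MulAut.conjNormal b h
  have hinj : Function.Injective f := by
    intro h k hk
    have e := congrArg Subtype.val hk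
    simp only [f, Subgroup.coe_mul, Subgroup.coe_inv, MulAut.conjNormal_apply] at e
    have hmem : (k : N) * (h : N)⁻¹ ∈ H ⊓ Subgroup.centralizer ({b} : Set N) := by
      refine ⟨H.mul_mem k.2 (H.inv_mem h.2), Subgroup.mem_centralizer_singleton_iff.mpr ?_⟩
      calc (k : N) * (h : N)⁻¹ * b = k * ((h : N)⁻¹ * (b * h * b⁻¹)) * b * (h : N)⁻¹ := by group
        _ = k * ((k : N)⁻¹ * (b * k * b⁻¹)) * b * (h : N)⁻¹ := by rw [e]
        _ = b * ((k : N) * (h : N)⁻¹) := by group
    rw [hbot, Subgroup.mem_bot, mul_inv_eq_one] at hmem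
    exact Subtype.ext hmem.symm
  obtain ⟨h, rfl⟩ := (Finite.injective_iff_surjective.mp hinj) z
  show lam (h⁻¹ * MulAut.conjNormal b h) = 1
  rw [map_mul, hb h, map_inv, inv_mul_cancel]

theorem sup_decomp {B : Subgroup N} (x : ↥(H ⊔ B)) : ∃ h : H, ∃ b : B, (x : N) = h * b := by
  obtain ⟨h, hh, b, hb, e⟩ := Subgroup.mem_sup_of_normal_left.mp x.2
  exact ⟨⟨h, hh⟩, ⟨b, hb⟩, e.symm⟩

omit [H.Normal] in
theorem decomp_unique {B : Subgroup N} (hdisj : H ⊓ B = ⊥) {h h' : H} {b b' : B}
    (e : (h : N) * b = h' * b') : h = h' ∧ b = b' := by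
  have e1 : (h' : N)⁻¹ * h = (b' : N) * (b : N)⁻¹ := by
    calc (h' : N)⁻¹ * h = (h' : N)⁻¹ * (h * b) * (b : N)⁻¹ := by group
      _ = (h' : N)⁻¹ * (h' * b') * (b : N)⁻¹ := by rw [e]
      _ = _ := by group
  have hm : (h' : N)⁻¹ * h ∈ H ⊓ B :=
    ⟨H.mul_mem (H.inv_mem h'.2) h.2, e1 ▸ B.mul_mem b'.2 (B.inv_mem b.2)⟩
  rw [hdisj, Subgroup.mem_bot, inv_mul_eq_one] at hm
  have hh : h = h' := Subtype.ext hm.symm
  subst hh
  exact ⟨rfl, Subtype.ext (mul_left_cancel e)⟩

theorem card_sup_disj [Finite N] {B : Subgroup N} (hdisj : H ⊓ B = ⊥) :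
    Nat.card ↥(H ⊔ B) = Nat.card H * Nat.card B := by
  rw [← Nat.card_prod]
  refine (Nat.card_congr (Equiv.ofBijective (fun x : H × B =>
    (⟨(x.1 : N) * x.2, mul_mem (Subgroup.mem_sup_left x.1.2) (Subgroup.mem_sup_right x.2.2)⟩ :
      ↥(H ⊔ B))) ⟨fun x y e => ?_, fun x => ?_⟩)).symm
  · obtain ⟨a, b⟩ := decomp_unique hdisj (congrArg Subtype.val e)
    exact Prod.ext a b
  · obtain ⟨h, b, e⟩ := sup_decomp x
    exact ⟨(h, b), Subtype.ext e.symm⟩

/-- Extension of an invariant linear character to `H B`. -/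
theorem exists_linExt {B : Subgroup N} (hdisj : H ⊓ B = ⊥) {lam : H →* ℂˣ} (hB : B ≤ linStab lam)
    (mu : B →* ℂˣ) : ∃ e : ↥(H ⊔ B) →* ℂˣ, ∀ (h : H) (b : B) (x : ↥(H ⊔ B)),
      (x : N) = h * b → e x = lam h * mu b := by
  choose fh fb hf using fun x : ↥(H ⊔ B) => sup_decomp x
  have key : ∀ (h : H) (b : B) (x : ↥(H ⊔ B)), (x : N) = h * b → fh x = h ∧ fb x = b :=
    fun h b x e => decomp_unique hdisj ((hf x).symm.trans e)
  have hmul : ∀ x y : ↥(H ⊔ B), fh (x * y) = fh x * MulAut.conjNormal (fb x : N) (fh y) ∧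
      fb (x * y) = fb x * fb y := fun x y => key _ _ _ (by
    rw [Subgroup.coe_mul, hf x, hf y, Subgroup.coe_mul, Subgroup.coe_mul, MulAut.conjNormal_apply]
    group)
  refine ⟨MonoidHom.mk' (fun x => lam (fh x) * mu (fb x)) fun x y => ?_, fun h b x e => ?_⟩
  · obtain ⟨a, b⟩ := hmul x y
    simp only [a, b, map_mul, hB (fb x).2 (fh y)]
    ac_rfl
  · obtain ⟨a, b'⟩ := key h b x e
    simp [a, b']

variable [Fintype N]

/-- The character induced from `H` is the sum of those induced from the extensions. -/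
theorem sum_ind_ext {B : Subgroup N} (hdisj : H ⊓ B = ⊥) (hBc : ∀ a ∈ B, ∀ b ∈ B, a * b = b * a)
    {lam : H →* ℂˣ} (e : (B →* ℂˣ) → (↥(H ⊔ B) →* ℂˣ))
    (he : ∀ mu (h : H) (b : B) (x : ↥(H ⊔ B)), (x : N) = h * b → e mu x = lam h * mu b)
    [Fintype (B →* ℂˣ)] :
    ∑ mu : B →* ℂˣ, Cfsg.indFun (H ⊔ B) (linFun (e mu)) = Cfsg.indFun H (linFun lam) := by
  letI : CommGroup B := { (inferInstance : Group B) with
    mul_comm := fun a b => Subtype.ext (hBc a a.2 b b.2) }
  have hcardB : Fintype.card (B →* ℂˣ) = Nat.card B := by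
    rw [← Nat.card_eq_fintype_card]
    exact CommGroup.card_monoidHom_of_hasEnoughRootsOfUnity B ℂ
  have key : ∀ z : N, ∑ mu : B →* ℂˣ, Cfsg.extendByZero (H ⊔ B) (linFun (e mu)) z =
      (Nat.card B : ℂ) * Cfsg.extendByZero H (linFun lam) z := by
    intro z
    by_cases hz : z ∈ H ⊔ B
    · obtain ⟨h, b, ez⟩ := sup_decomp (H := H) ⟨z, hz⟩
      simp only [Induction.extendByZero_mem _ _ hz, linFun, he _ h b ⟨z, hz⟩ ez, Units.val_mul]
      by_cases hb : b = 1
      · subst hb
        have hzH : z ∈ H := by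
          have : z = (h : N) := by simpa using ez
          exact this ▸ h.2
        rw [Induction.extendByZero_mem _ _ hzH]
        simp only [map_one, Units.val_one, mul_one, Finset.sum_const, Finset.card_univ, nsmul_eq_mul,
          hcardB]
        have : (⟨z, hzH⟩ : H) = h := Subtype.ext (by simpa using ez)
        rw [this]; rfl
      · have hzH : z ∉ H := fun hzH => hb (decomp_unique hdisj (h := ⟨z, hzH⟩) (b := 1) (h' := h)
          (by simpa using ez)).2.symm
        rw [Induction.extendByZero_notMem _ _ hzH, mul_zero, ← Finset.mul_sum]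
        obtain ⟨f, hf⟩ := CommGroup.exists_apply_ne_one_of_hasEnoughRootsOfUnity B ℂ hb
        have h1 : (f b : ℂ) * ∑ mu : B →* ℂˣ, (mu b : ℂ) = ∑ mu : B →* ℂˣ, (mu b : ℂ) := by
          rw [Finset.mul_sum]
          exact (Finset.sum_congr rfl fun φ _ => by simp).trans
            (Equiv.sum_comp (Equiv.mulLeft f) (fun φ : B →* ℂˣ => (φ b : ℂ)))
        rcases mul_left_eq_self₀.mp h1 with h2 | h2
        · exact absurd (Units.val_eq_one.mp h2) hf
        · rw [h2, mul_zero]
    · simp only [Induction.extendByZero_notMem _ _ hz]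
      rw [Induction.extendByZero_notMem _ _ fun h => hz (Subgroup.mem_sup_left h)]
      simp
  funext g
  simp only [Finset.sum_apply, Induction.indFun_apply, ← Finset.mul_sum]
  rw [Finset.sum_comm, Finset.sum_congr rfl fun x _ => key _, ← Finset.mul_sum,
    card_sup_disj hdisj, Nat.cast_mul, ← mul_assoc]
  congr 1
  have h1 : (Nat.card B : ℂ) ≠ 0 := Nat.cast_ne_zero.mpr Nat.card_pos.ne'
  field_simp

/-- Values on `H` do not depend on the extension. -/
theorem ind_ext_apply_H {B : Subgroup N} {lam : H →* ℂˣ} (e : ↥(H ⊔ B) →* ℂˣ)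
    (he : ∀ (h : H) (x : ↥(H ⊔ B)), (x : N) = h → e x = lam h) (h : H) :
    Cfsg.indFun (H ⊔ B) (linFun e) h =
      (Nat.card ↥(H ⊔ B) : ℂ)⁻¹ * ∑ x : N, Cfsg.extendByZero H (linFun lam) (x⁻¹ * h * x) := by
  rw [Induction.indFun_apply]
  congr 1
  refine Finset.sum_congr rfl fun x _ => ?_
  have hm : x⁻¹ * (h : N) * x ∈ H := by
    simpa using ‹H.Normal›.conj_mem _ h.2 x⁻¹
  rw [Induction.extendByZero_mem _ _ hm, Induction.extendByZero_mem _ _ (Subgroup.mem_sup_left hm)]
  exact congrArg Units.val (he ⟨_, hm⟩ _ rfl)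

/-- An element of `H B` has a non-identity fixed point on `H` when the elements of `B` have. -/
theorem exists_commute_of_mem_sup {B : Subgroup N} (hcop : (Nat.card H).Coprime (Nat.card B))
    (hB : ∀ b ∈ B, H ⊓ Subgroup.centralizer ({b} : Set N) ≠ ⊥) {x : N}
    (hx : x ∈ H ⊔ B) (hx1 : x ≠ 1) : ∃ w ∈ H, w ≠ 1 ∧ Commute x w := by
  obtain ⟨h, b, e⟩ := sup_decomp (H := H) ⟨x, hx⟩
  change x = _ at e
  by_cases hb : b = 1
  · subst hb
    have : x = (h : N) := by simpa using e
    exact ⟨x, this ▸ h.2, hx1, Commute.refl x⟩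
  have hord : (orderOf (b : N)).Coprime (Nat.card H) :=
    (hcop.coprime_dvd_right (Subgroup.orderOf_dvd_natCard _ b.2)).symm
  obtain ⟨k, hk, c, hc, hcb, ex⟩ := coset_conj_centralizer H (b : N) hord (y := x)
    (by rw [e, mul_inv_cancel_right]; exact h.2)
  obtain ⟨w, hw, hw1, hwc⟩ : ∃ w ∈ H, w ≠ 1 ∧ Commute (c * (b : N)) w := by
    by_cases hc1 : c = 1
    · subst hc1
      obtain ⟨w, hw, hw1⟩ := (Subgroup.bot_or_exists_ne_one _).resolve_left (hB b b.2)
      obtain ⟨hwH, hwC⟩ := Subgroup.mem_inf.mp hw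
      refine ⟨w, hwH, hw1, ?_⟩
      rw [one_mul]
      exact (Subgroup.mem_centralizer_singleton_iff.mp hwC).symm
    · exact ⟨c, hc, hc1, (Commute.refl c).mul_left hcb.symm⟩
  refine ⟨k * w * k⁻¹, ‹H.Normal›.conj_mem w hw k, fun h' => hw1 (conj_eq_one_iff.mp h'), ?_⟩
  rw [ex]
  show _ * _ = _ * _
  calc k * (c * b) * k⁻¹ * (k * w * k⁻¹) = k * ((c * b) * w) * k⁻¹ := by group
    _ = k * (w * (c * b)) * k⁻¹ := by rw [hwc.eq]
    _ = _ := by group

/-- The induced character has no conjugate of a non-fixing element in its support. -/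
theorem ind_sup_eq_zero {B : Subgroup N} (hcop : (Nat.card H).Coprime (Nat.card B))
    (hB : ∀ b ∈ B, H ⊓ Subgroup.centralizer ({b} : Set N) ≠ ⊥) (f : ↥(H ⊔ B) → ℂ) {x : N}
    (hx1 : x ≠ 1) (hx : ∀ w ∈ H, w ≠ 1 → ¬ Commute x w) : Cfsg.indFun (H ⊔ B) f x = 0 := by
  refine Induction.indFun_eq_zero_of_forall _ fun y hy => ?_
  obtain ⟨w, hw, hw1, hc⟩ := exists_commute_of_mem_sup hcop hB hy
    (fun e => hx1 (by
      have : x = y * (y⁻¹ * x * y) * y⁻¹ := by group
      rw [this, e]; group))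
  refine hx (y * w * y⁻¹) (‹H.Normal›.conj_mem w hw y) (fun h' => hw1 (conj_eq_one_iff.mp h')) ?_
  show _ * _ = _ * _
  calc x * (y * w * y⁻¹) = y * ((y⁻¹ * x * y) * w) * y⁻¹ := by group
    _ = y * (w * (y⁻¹ * x * y)) * y⁻¹ := by rw [hc.eq]
    _ = y * w * y⁻¹ * x := by group

variable (U : Subgroup N)

/-- The pieces of an induced linear character. -/
theorem exists_parts (hU : Subgroup.IsComplement' H U)
    (hcop : (Nat.card H).Coprime (Nat.card U))
    (hfix : ∀ a ∈ U, ∀ b ∈ U, H ⊓ Subgroup.centralizer ({a} : Set N) ≠ ⊥ →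
      H ⊓ Subgroup.centralizer ({b} : Set N) ≠ ⊥ → a * b = b * a)
    {lam : H →* ℂˣ} (h1 : lam ≠ 1) :
    ∃ P : Finset (N → ℂ), (∀ χ ∈ P, Cfsg.IsIrrCharacter N χ) ∧
      Cfsg.indFun H (linFun lam) = ∑ χ ∈ P, χ ∧
      (∀ χ ∈ P, ∀ χ' ∈ P, ∀ h ∈ H, χ h = χ' h) ∧
      ∀ χ ∈ P, ∀ x : N, x ≠ 1 → (∀ w ∈ H, w ≠ 1 → ¬ Commute x w) → χ x = 0 := by
  set B := U ⊓ linStab lam with hBdef
  have hBU : B ≤ U := inf_le_left
  have hBs : B ≤ linStab lam := inf_le_right
  have hdisj : H ⊓ B = ⊥ := le_bot_iff.mp ((inf_le_inf_left H hBU).trans (le_of_eq hU.disjoint.eq_bot))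
  have hfp : ∀ b ∈ B, H ⊓ Subgroup.centralizer ({b} : Set N) ≠ ⊥ := fun b hb =>
    fixed_ne_bot h1 (hBs hb)
  have hBc : ∀ a ∈ B, ∀ b ∈ B, a * b = b * a := fun a ha b hb =>
    hfix a (hBU ha) b (hBU hb) (hfp a ha) (hfp b hb)
  have hcopB : (Nat.card H).Coprime (Nat.card B) :=
    hcop.coprime_dvd_right (Subgroup.card_dvd_of_le hBU)
  letI : CommGroup B := { (inferInstance : Group B) with
    mul_comm := fun a b => Subtype.ext (hBc a a.2 b b.2) }
  haveI : Finite (B →* ℂˣ) := (Nat.finite_of_card_ne_zero (by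
    rw [CommGroup.card_monoidHom_of_hasEnoughRootsOfUnity B ℂ]; exact Nat.card_pos.ne'))
  haveI := Fintype.ofFinite (B →* ℂˣ)
  choose e he using fun mu : B →* ℂˣ => exists_linExt hdisj hBs mu
  set I : (B →* ℂˣ) → N → ℂ := fun mu => Cfsg.indFun (H ⊔ B) (linFun (e mu)) with hI
  have hchar : ∀ mu, Cfsg.IsCharacter N (I mu) := fun mu =>
    Induction.isCharacter_indFun _ (isCharacter_of_irr (linFun_irr _))
  have hsum : ∑ mu, I mu = Cfsg.indFun H (linFun lam) := sum_ind_ext hdisj hBc e he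
  haveI : Fintype H := Fintype.ofFinite H
  -- the norm of the induced character
  have hnorm : Cfsg.classInner (Cfsg.indFun H (linFun lam)) (Cfsg.indFun H (linFun lam)) =
      (Nat.card B : ℂ) := by
    rw [Clifford.classInner_indFun_indFun ‹H.Normal›
      (isClassFunction_of_isCharacter (isCharacter_of_irr (linFun_irr lam)))]
    have hT : ∀ x : N, Cfsg.classInner (linFun lam) (Clifford.conjChar ‹H.Normal› (linFun lam) x) =
        if x ∈ H ⊔ B then 1 else 0 := by
      intro x
      have e1 : Clifford.conjChar ‹H.Normal› (linFun lam) x =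
          linFun (lam.comp (MulAut.conjNormal x).toMonoidHom) := rfl
      rw [e1]; unfold linFun; rw [classInner_hom]
      refine if_congr ?_ rfl rfl
      constructor
      · intro hx
        obtain ⟨h, hh, u, hu, rfl⟩ := Subgroup.mem_sup_of_normal_left.mp
          (hU.sup_eq_top.ge (Subgroup.mem_top x))
        refine mul_mem (Subgroup.mem_sup_left hh) (Subgroup.mem_sup_right ⟨hu, fun k => ?_⟩)
        have e2 := DFunLike.congr_fun hx k
        simp only [MonoidHom.coe_comp, MulEquiv.coe_toMonoidHom, Function.comp_apply] at e2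
        have e3 : MulAut.conjNormal (h * u) k =
            (⟨h, hh⟩ : H) * MulAut.conjNormal u k * (⟨h, hh⟩ : H)⁻¹ :=
          Subtype.ext (by simp [mul_assoc])
        rw [e3, map_mul, map_mul, map_inv, mul_inv_cancel_comm] at e2
        exact e2.symm
      · intro hx
        obtain ⟨h, b, e2⟩ := sup_decomp (H := H) ⟨x, hx⟩
        refine MonoidHom.ext fun k => ?_
        simp only [MonoidHom.coe_comp, MulEquiv.coe_toMonoidHom, Function.comp_apply]
        change x = _ at e2
        have e3 : MulAut.conjNormal x k = h * MulAut.conjNormal (b : N) k * h⁻¹ :=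
          Subtype.ext (by simp [e2, mul_assoc])
        rw [e3, map_mul, map_mul, map_inv, mul_inv_cancel_comm, hBs b.2 k]
    rw [Finset.sum_congr rfl fun x _ => hT x, Finset.sum_boole]
    have : ({x : N | x ∈ H ⊔ B} : Finset N).card = Nat.card ↥(H ⊔ B) := by
      rw [Nat.card_eq_fintype_card, Fintype.card_subtype]
    rw [this, card_sup_disj hdisj, Nat.cast_mul]
    have h0 : (Nat.card H : ℂ) ≠ 0 := Nat.cast_ne_zero.mpr Nat.card_pos.ne'
    field_simp
  choose n hn using fun mu nu => classInner_char_nat (hchar mu) (hchar nu)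
  have hn1 : ∀ mu, 1 ≤ n mu mu := by
    intro mu
    refine Nat.one_le_iff_ne_zero.mpr fun h0 => ?_
    have h2 : I mu = 0 := eq_zero_of_classInner_self (by rw [hn, h0, Nat.cast_zero])
    have h3 := congrFun h2 1
    simp only [hI, Induction.indFun_one_apply, linFun, map_one, Units.val_one, mul_one,
      Pi.zero_apply, Nat.cast_eq_zero] at h3
    exact Subgroup.index_ne_zero_of_finite h3
  have htot : ∑ mu, ∑ nu, n mu nu = Nat.card B := by
    rw [← hsum, classInner_sum_left] at hnorm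
    simp only [classInner_sum_right, hn] at hnorm
    exact_mod_cast hnorm
  have hcardB : Fintype.card (B →* ℂˣ) = Nat.card B := by
    rw [← Nat.card_eq_fintype_card]
    exact CommGroup.card_monoidHom_of_hasEnoughRootsOfUnity B ℂ
  have hle : ∀ mu, 1 ≤ ∑ nu, n mu nu := fun mu =>
    (hn1 mu).trans (Finset.single_le_sum (fun _ _ => Nat.zero_le _) (mem_univ mu))
  have heq : ∀ mu, ∑ nu, n mu nu = 1 := by
    intro mu
    have := (Finset.sum_eq_sum_iff_of_le (fun nu _ => hle nu)).mp
      (by rw [htot, Finset.sum_const, Finset.card_univ, hcardB, smul_eq_mul, mul_one]) mu (mem_univ mu)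
    exact this.symm
  have hdiag : ∀ mu, n mu mu = 1 := fun mu => le_antisymm
    ((heq mu) ▸ Finset.single_le_sum (fun _ _ => Nat.zero_le _) (mem_univ mu)) (hn1 mu)
  have hoff : ∀ mu nu, mu ≠ nu → n mu nu = 0 := by
    intro mu nu hne
    have h2 := heq mu
    rw [← Finset.add_sum_erase _ _ (mem_univ mu), hdiag] at h2
    exact Nat.eq_zero_of_le_zero (le_trans (Finset.single_le_sum (f := n mu) (fun _ _ => Nat.zero_le _)
      (Finset.mem_erase.mpr ⟨hne.symm, mem_univ _⟩)) (by omega))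
  have hinj : Function.Injective I := by
    intro mu nu h
    by_contra hne
    have h2 := hn mu nu
    rw [← h, hn mu mu, hdiag, hoff mu nu hne] at h2
    norm_num at h2
  refine ⟨univ.image I, ?_, ?_, ?_, ?_⟩
  · intro χ hχ
    obtain ⟨mu, -, rfl⟩ := Finset.mem_image.mp hχ
    exact (isIrrCharacter_iff_classInner_self (hchar mu)).mpr (by rw [hn, hdiag, Nat.cast_one])
  · rw [Finset.sum_image fun a _ b _ h => hinj h, hsum]
  · intro χ hχ χ' hχ' h hh
    obtain ⟨mu, -, rfl⟩ := Finset.mem_image.mp hχ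
    obtain ⟨nu, -, rfl⟩ := Finset.mem_image.mp hχ'
    simp only [hI]
    rw [ind_ext_apply_H (lam := lam) (e mu) (fun k x ex => by
        rw [he mu k 1 x (by simpa using ex), map_one, mul_one]) ⟨h, hh⟩,
      ind_ext_apply_H (lam := lam) (e nu) (fun k x ex => by
        rw [he nu k 1 x (by simpa using ex), map_one, mul_one]) ⟨h, hh⟩]
  · intro χ hχ x hx1 hx
    obtain ⟨mu, -, rfl⟩ := Finset.mem_image.mp hχ
    exact ind_sup_eq_zero hcopB hfp _ hx1 hx

end CfsgLib.PF.Sec12
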