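import Mathlib
import Cfsg.Agent.Lib.PF.Sec12Pairs
import Cfsg.Agent.Lib.PF.Sec12Ind
import Cfsg.Agent.Lib.PF.Sec12Cong
import Cfsg.Agent.Lib.PF.SubcoherentI
import Cfsg.Agent.Lib.OddChar.DadeInner
import Cfsg.Agent.Lib.Characters.Values

/-!
# The averaged restriction `ρ` and its shape on a coherent Frobenius kernel (PF 7, 12.4)
-/

set_option autoImplicit false
set_option linter.style.haveILetI false
set_option linter.unusedSectionVars false

namespace CfsgLib.PF.Sec12

open scoped Classical ComplexConjugate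
open Finset CfsgLib.Characters CfsgLib.OddChar

universe u

section Generic

variable {G : Type u} [Group G] [Fintype G] {A : Set G} {L : Subgroup G} {R : G → Subgroup G}

/-- The average of `F` over the cosets `a R(a)`, `a ∈ A`; zero elsewhere. -/
noncomputable def rho (A : Set G) (L : Subgroup G) (R : G → Subgroup G) (F : G → ℂ) : L → ℂ :=
  fun a => if (a : G) ∈ A then (Nat.card (R a) : ℂ)⁻¹ * ∑ᶠ u ∈ (R a : Set G), F (a * u) else 0

theorem rho_of_mem {F : G → ℂ} {a : L} (ha : (a : G) ∈ A) :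
    rho A L R F a = (Nat.card (R a) : ℂ)⁻¹ * ∑ᶠ u ∈ (R a : Set G), F (a * u) := if_pos ha

theorem rho_eq_sum {F : G → ℂ} {a : L} (ha : (a : G) ∈ A) :
    rho A L R F a = (Nat.card (R a) : ℂ)⁻¹ * ∑ u ∈ univ.filter (· ∈ R (a : G)), F ((a : G) * u) := by
  rw [rho_of_mem ha, finsum_mem_eq_finite_toFinset_sum _ (Set.toFinite _)]
  congr 2
  ext u; simp

theorem rho_of_bot {F : G → ℂ} {a : L} (ha : (a : G) ∈ A) (hR : R (a : G) = ⊥) :
    rho A L R F a = F a := by
  rw [rho_eq_sum ha, hR]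
  have : univ.filter (fun u : G => u ∈ (⊥ : Subgroup G)) = {1} := by ext u; simp
  rw [this]; simp

theorem rho_isClassFunction (hD : Cfsg.DadeHypothesis A L R) {F : G → ℂ}
    (hF : Cfsg.IsClassFunction G F) : Cfsg.IsClassFunction L (rho A L R F) := by
  intro a x
  have hiff : ((x * a * x⁻¹ : L) : G) ∈ A ↔ (a : G) ∈ A := by
    constructor
    · intro h
      have := hD.conj_mem _ (x⁻¹).2 _ h
      simpa [mul_assoc] using this
    · intro h; simpa using hD.conj_mem _ x.2 _ h
  by_cases ha : (a : G) ∈ A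
  · rw [rho_eq_sum (hiff.mpr ha), rho_eq_sum ha]
    have hb : (x : G) * a * (x : G)⁻¹ ∈ A := hD.conj_mem _ x.2 _ ha
    have hco : ((x * a * x⁻¹ : L) : G) = (x : G) * a * (x : G)⁻¹ := by simp
    rw [hco, dade_card_H_conj hD ha hb (x := (x : G)) rfl]
    congr 1
    refine (Finset.sum_bij (fun u _ => (x : G) * u * (x : G)⁻¹) ?_ ?_ ?_ ?_).symm
    · intro u hu
      exact mem_filter.mpr ⟨mem_univ _, dade_conj_mem_H hD ha hb rfl (mem_filter.mp hu).2⟩
    · intro u _ v _ h; exact mul_left_cancel (mul_right_cancel h)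
    · intro v hv
      have hback : (x : G)⁻¹ * ((x : G) * a * (x : G)⁻¹) * ((x : G)⁻¹)⁻¹ = a := by group
      have := dade_conj_mem_H hD hb ha hback (mem_filter.mp hv).2
      exact ⟨_, mem_filter.mpr ⟨mem_univ _, this⟩, by group⟩
    · intro u _
      rw [show (x : G) * a * (x : G)⁻¹ * ((x : G) * u * (x : G)⁻¹) =
        (x : G) * ((a : G) * u) * (x : G)⁻¹ by group, hF]
  · rw [rho, rho, if_neg ha, if_neg fun h => ha (hiff.mp h)]

variable [Fintype L]

theorem inner_dade_eq_rho (hD : Cfsg.DadeHypothesis A L R) {α : L → ℂ}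
    (hα : Cfsg.IsClassFunction L α) (hαA : ∀ x : L, (x : G) ∉ A → α x = 0) {F : G → ℂ}
    (hF : Cfsg.IsClassFunction G F) :
    Cfsg.classInner (Cfsg.dadeIsometry A L R α) F = Cfsg.classInner α (rho A L R F) :=
  dade_adjoint hD hα hαA hF fun _ ha => rho_of_mem ha

theorem rho_norm_le (hD : Cfsg.DadeHypothesis A L R) {F : G → ℂ} (hF : Cfsg.IsClassFunction G F) :
    (Nat.card L : ℝ)⁻¹ * ∑ a : L, ‖rho A L R F a‖ ^ 2 ≤
      (Nat.card G : ℝ)⁻¹ * ∑ g ∈ univ.filter (· ∈ dadeSupp A R), ‖F g‖ ^ 2 := by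
  have h := dade_norm_le hD hF (ψ := rho A L R F) fun a ha => rho_of_mem ha
  rw [finsum_mem_eq_finite_toFinset_sum _ (Set.toFinite _),
    finsum_mem_eq_finite_toFinset_sum _ (Set.toFinite _)] at h
  refine le_trans (le_of_eq ?_) (h.trans (le_of_eq ?_))
  · congr 1
    refine (Finset.sum_subset (Finset.subset_univ _) fun a _ ha => ?_).symm
    rw [rho, if_neg (by simpa using ha)]; simp
  · congr 1
    refine Finset.sum_congr ?_ fun _ _ => rfl
    ext g; simp

/-- A Dade set-up restricts to invariant subsets. -/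
theorem dade_mono (hD : Cfsg.DadeHypothesis A L R) {A' : Set G} (hsub : A' ⊆ A)
    (hinv : ∀ x ∈ L, ∀ a ∈ A', x * a * x⁻¹ ∈ A') : Cfsg.DadeHypothesis A' L R where
  one_not_mem h := hD.one_not_mem (hsub h)
  subset a h := hD.subset (hsub h)
  conj_mem := hinv
  fusion a ha g hg := hD.fusion a (hsub ha) g (hsub hg)
  le_centralizer a ha := hD.le_centralizer a (hsub ha)
  conj_mem_H a ha := hD.conj_mem_H a (hsub ha)
  inf_eq_bot a ha := hD.inf_eq_bot a (hsub ha)
  sup_eq a ha := hD.sup_eq a (hsub ha)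
  coprime a ha b hb := hD.coprime a (hsub ha) b (hsub hb)

end Generic

theorem isIntegral_generalized {X : Type*} [Group X] [Fintype X] {F : X → ℂ}
    (h : Cfsg.IsGeneralizedCharacter X F) (g : X) : IsIntegral ℤ (F g) := by
  obtain ⟨hc, hz⟩ := isGeneralizedCharacter_iff.mp h
  rw [classFunction_eq_sum hc, Finset.sum_apply]
  refine IsIntegral.sum _ fun χ _ => ?_
  obtain ⟨z, hz⟩ := hz χ
  rw [Pi.smul_apply, hz, smul_eq_mul]
  exact (isIntegral_algebraMap (R := ℤ) (x := z)).mul (isIntegral_of_isCharacter (irr_isCharacter χ) g)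

theorem linFun_ne_one {X : Type u} [Group X] {K : Subgroup X} {lam : K →* ℂˣ} (h : lam ≠ 1) :
    linFun lam ≠ fun _ => 1 := fun e => h (MonoidHom.ext fun x => Units.ext (congrFun e x))

theorem exists_hom_ne_one {X : Type*} [Group X] [Finite X] {x : X} (hx : x ∉ commutator X) :
    ∃ f : X →* ℂˣ, f x ≠ 1 := by
  have h1 : Abelianization.of x ≠ 1 := fun e => hx ((QuotientGroup.eq_one_iff x).mp e)
  obtain ⟨f, hf⟩ :=
    CommGroup.exists_apply_ne_one_of_hasEnoughRootsOfUnity (Abelianization X) ℂ h1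
  exact ⟨f.comp Abelianization.of, hf⟩

section Kernel

variable {X : Type u} [Group X] [Fintype X] {K : Subgroup X} [K.Normal] [Fintype K]

/-- A class function on a normal subgroup with the same coefficient ratios as the regular character is
constant off the identity. -/
theorem const_of_ratios {D : K → ℂ} (hD : Cfsg.IsClassFunction K D) {q : ℂ}
    (h : ∀ φ : K → ℂ, Cfsg.IsIrrCharacter K φ → φ ≠ (fun _ => 1) →
      Cfsg.classInner D φ = φ 1 * q) {x : K} (hx : x ≠ 1) :
    D x = Cfsg.classInner D (fun _ => 1) - q := by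
  conv_lhs => rw [classFunction_eq_sum hD]
  rw [Finset.sum_apply]
  have hv : ∀ φ : Cfsg.IrrCharacter K, (Cfsg.classInner D (φ : K → ℂ) • (φ : K → ℂ)) x =
      q * ((φ : K → ℂ) 1 * (φ : K → ℂ) x) +
        (if φ = principalIrr K then Cfsg.classInner D (fun _ => 1) - q else 0) := by
    intro φ
    rw [Pi.smul_apply, smul_eq_mul]
    split_ifs with e
    · subst e
      simp [principalIrr]
    · rw [h φ φ.2 (fun e' => e (Subtype.ext e'))]; ring
  rw [Finset.sum_congr rfl fun φ _ => hv φ, Finset.sum_add_distrib, ← Finset.mul_sum,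
    sum_degree_mul_irr, if_neg hx, mul_zero, zero_add, Finset.sum_ite_eq' univ, if_pos (mem_univ _)]

/-- The squares of `c + χ` on `K ∖ 1`, `χ` irreducible, not principal, vanishing off `K`. -/
theorem norm_shift {χ : X → ℂ} (hχ : Cfsg.IsIrrCharacter X χ) (h1 : χ ≠ fun _ => 1)
    (hv : ∀ x, x ∉ K → χ x = 0) {e : ℕ} (he : χ 1 = e) (c : ℤ) {F : X → ℂ}
    (hF : ∀ x, x ∈ K → x ≠ 1 → F x = c + χ x) (hF0 : ∀ x, ¬ (x ∈ K ∧ x ≠ 1) → F x = 0) :
    ∑ x, ‖F x‖ ^ 2 =
      (Nat.card X : ℝ) - (e : ℝ) ^ 2 - 2 * c * e + (c : ℝ) ^ 2 * ((Nat.card K : ℝ) - 1) := by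
  have hX : (Nat.card X : ℂ) ≠ 0 := Nat.cast_ne_zero.mpr Nat.card_pos.ne'
  have s1 : ∑ x, χ x * conj (χ x) = (Nat.card X : ℂ) := by
    have := classInner_irr_self hχ
    rw [Cfsg.classInner, inv_mul_eq_one₀ hX] at this
    exact this.symm
  have s2 : ∑ x, χ x = 0 := by
    have := classInner_irr_ne hχ isIrrCharacter_one h1
    rw [Cfsg.classInner, mul_eq_zero] at this
    simpa using this.resolve_left (inv_ne_zero hX)
  have s3 : ∑ x, conj (χ x) = 0 := by rw [← map_sum, s2, map_zero]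
  set ind : X → ℂ := fun x => if x ∈ K then 1 else 0 with hind
  set one : X → ℂ := fun x => if x = 1 then 1 else 0 with hone
  have hval : ∀ x, F x * conj (F x) = χ x * conj (χ x) + (c : ℂ) * χ x + (c : ℂ) * conj (χ x) +
      (c : ℂ) ^ 2 * ind x - one x * ((e : ℂ) ^ 2 + 2 * c * e + (c : ℂ) ^ 2) := by
    intro x
    simp only [hind, hone]
    by_cases hxK : x ∈ K
    · by_cases hx1 : x = 1
      · subst hx1
        rw [hF0 1 (fun h => h.2 rfl), he, if_pos hxK, if_pos rfl]
        simp only [map_zero, mul_zero, Complex.conj_natCast]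
        ring
      · rw [hF x hxK hx1, if_pos hxK, if_neg hx1, map_add, map_intCast]
        ring
    · have hx1 : x ≠ 1 := fun h => hxK (h ▸ K.one_mem)
      rw [hF0 x (fun h => hxK h.1), hv x hxK, if_neg hxK, if_neg hx1]
      simp
  have hK : ∑ x, ind x = (Nat.card K : ℂ) := by
    rw [hind, Finset.sum_boole, Nat.card_eq_fintype_card, Fintype.card_subtype]
  have hC : ((∑ x, ‖F x‖ ^ 2 : ℝ) : ℂ) = (Nat.card X : ℂ) - (e : ℂ) ^ 2 - 2 * c * e +
      (c : ℂ) ^ 2 * ((Nat.card K : ℂ) - 1) := by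
    push_cast
    have e1 : ∀ x, ((‖F x‖ : ℂ)) ^ 2 = F x * conj (F x) := fun x => by
      rw [Complex.mul_conj, Complex.normSq_eq_norm_sq]; norm_cast
    rw [Finset.sum_congr rfl fun x _ => (e1 x).trans (hval x), Finset.sum_sub_distrib,
      Finset.sum_add_distrib, Finset.sum_add_distrib, Finset.sum_add_distrib, ← Finset.mul_sum,
      ← Finset.mul_sum, ← Finset.mul_sum, ← Finset.sum_mul, hK, s1, s2, s3]
    have : ∑ x, one x = 1 := by rw [hone, Finset.sum_ite_eq' univ, if_pos (mem_univ _)]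
    rw [this]; ring
  exact_mod_cast hC

end Kernel

section MSide

variable {G : Type u} [Group G] [Fintype G] {A : Set G} {M : Subgroup G} {R : G → Subgroup G}
  [Fintype M] {K : Subgroup M}

/-- The data on a coherent Frobenius kernel: `ρψ = c + θ` on `K ∖ 1`. -/
structure MData (A : Set G) (M : Subgroup G) (R : G → Subgroup G) (K : Subgroup M) (ψ : G → ℂ)
    (c : ℤ) (θ : M → ℂ) : Prop where
  signed : IsSigned ψ
  conj_orth : Cfsg.classInner ψ (Cfsg.conjFun ψ) = 0
  diff : ψ - Cfsg.conjFun ψ = Cfsg.dadeIsometry A M R (θ - Cfsg.conjFun θ)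
  char : Cfsg.IsCharacter M θ
  deg : θ 1 = (K.index : ℂ)
  shape : ∀ x : M, x ∈ K → x ≠ 1 → rho A M R ψ x = c + θ x
  norm : ∑ x : M, ‖rho A M R ψ x‖ ^ 2 =
    (Nat.card M : ℝ) - (K.index : ℝ) ^ 2 - 2 * c * K.index + (c : ℝ) ^ 2 * ((Nat.card K : ℝ) - 1)

theorem exists_mData (hD : Cfsg.DadeHypothesis A M R) [K.Normal]
    (hA : ∀ x : M, (x : G) ∈ A ↔ x ∈ K ∧ x ≠ 1) (hodd : Odd (Nat.card M))
    (hK1 : K ≠ ⊥) (hKs : Group.IsSolvable K)
    (hirr : ∀ χ ∈ Cfsg.inducedIrrAbove K ⊥, Cfsg.IsIrrCharacter M χ)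
    (hcoh : Cfsg.IsCoherent (Cfsg.inducedIrrAbove K ⊥) ({1}ᶜ : Set M)
      (Cfsg.dadeIsometry A M R)) :
    ∃ ψ c θ, MData A M R K ψ c θ := by
  haveI : Fintype K := Fintype.ofFinite K
  haveI : Nontrivial K := (Subgroup.nontrivial_iff_ne_bot K).mpr hK1
  obtain ⟨x₀, -, hx₀⟩ := SetLike.exists_of_lt (Group.IsSolvable.commutator_lt_top_of_nontrivial K)
  obtain ⟨lam, hlam⟩ := exists_hom_ne_one hx₀
  have hlam1 : lam ≠ 1 := fun e => hlam (by rw [e]; rfl)
  have hmem : ∀ φ : K → ℂ, Cfsg.IsIrrCharacter K φ → φ ≠ (fun _ => 1) →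
      Cfsg.indFun K φ ∈ Cfsg.inducedIrrAbove K ⊥ := fun φ hφ hφ1 =>
    ⟨φ, hφ, hφ1, fun a ha => by rw [show a = 1 from Subtype.ext (Subgroup.mem_bot.mp ha)], rfl⟩
  set θ := Cfsg.indFun K (linFun lam) with hθdef
  have hθS : θ ∈ Cfsg.inducedIrrAbove K ⊥ := hmem _ (linFun_irr lam) (linFun_ne_one hlam1)
  have hθ : Cfsg.IsIrrCharacter M θ := hirr θ hθS
  have hθv : ∀ x, x ∉ K → θ x = 0 := fun x hx => CfsgLib.Induction.indFun_normal_eq_zero K hx
  have hθ1 : θ 1 = (K.index : ℂ) := by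
    rw [hθdef, CfsgLib.Induction.indFun_one_apply]; simp [linFun]
  have hθp : θ ≠ fun _ => 1 := by
    intro e
    have h0 := congrArg (fun f => Cfsg.classInner f (fun _ => (1 : ℂ))) e
    simp only [hθdef] at h0
    rw [CfsgLib.Induction.classInner_indFun K (linFun lam) (fun _ _ => rfl),
      classInner_irr_ne (linFun_irr lam) isIrrCharacter_one (linFun_ne_one hlam1),
      classInner_irr_self isIrrCharacter_one] at h0
    exact zero_ne_one h0
  have hθne : Cfsg.conjFun θ ≠ θ :=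
    conjFun_indFun_ne hodd (linFun_irr lam) (linFun_ne_one hlam1)
  have hθbS : Cfsg.conjFun θ ∈ Cfsg.inducedIrrAbove K ⊥ := by
    rw [hθdef, conjFun_indFun]
    exact hmem _ (conjFun_irr (linFun_irr lam)) fun e => linFun_ne_one hlam1 (by
      rw [← conjFun_conjFun (linFun lam), e]; funext x; simp [Cfsg.conjFun])
  obtain ⟨-, τ₁, ⟨hadd, -, hiso, hvirt⟩, hext⟩ := hcoh
  have hspan : ∀ χ ∈ Cfsg.inducedIrrAbove K ⊥, χ ∈ Cfsg.zspan (Cfsg.inducedIrrAbove K ⊥) :=
    fun χ h => Submodule.subset_span h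
  set ψ := τ₁ θ with hψdef
  have hψ : IsSigned ψ := isSigned_of_norm_one (hvirt _ (hspan _ hθS))
    (by rw [hψdef, hiso _ (hspan _ hθS) _ (hspan _ hθS), classInner_irr_self hθ])
  set b := τ₁ (Cfsg.conjFun θ) with hbdef
  have hb : IsSigned b := isSigned_of_norm_one (hvirt _ (hspan _ hθbS))
    (by rw [hbdef, hiso _ (hspan _ hθbS) _ (hspan _ hθbS), classInner_irr_self (hirr _ hθbS)])
  have hψb : Cfsg.classInner ψ b = 0 := by
    rw [hψdef, hbdef, hiso _ (hspan _ hθS) _ (hspan _ hθbS),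
      classInner_irr_ne hθ (hirr _ hθbS) hθne.symm]
  have hon : θ - Cfsg.conjFun θ ∈ Cfsg.zspanOn (Cfsg.inducedIrrAbove K ⊥) ({1}ᶜ : Set M) := by
    refine zspanOn_compl_one.mpr ⟨Submodule.sub_mem _ (hspan _ hθS) (hspan _ hθbS), ?_⟩
    rw [Pi.sub_apply, conjFun_one (isCharacter_of_irr hθ), sub_self]
  have hτθ : Cfsg.dadeIsometry A M R (θ - Cfsg.conjFun θ) = ψ - b := by
    rw [← hext _ hon, eq_sub_iff_add_eq, hbdef,
      ← hadd _ hon.1 _ (hspan _ hθbS), sub_add_cancel]
  have hnb : -b = -Cfsg.conjFun ψ := by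
    refine eq_neg_conjFun hψ hb.neg (by rw [classInner_neg_right, hψb, neg_zero]) ?_
    rw [← sub_eq_add_neg, ← hτθ, ← dade_conjFun, conjFun_sub, conjFun_conjFun]
    have : Cfsg.conjFun θ - θ = (-1 : ℤ) • (θ - Cfsg.conjFun θ) := by simp
    rw [this, dadeIsometry_zsmul]; simp
  have hbeq : b = Cfsg.conjFun ψ := neg_inj.mp hnb
  have hψc := hψ.classFunction
  set F := rho A M R ψ with hFdef
  have hFc : Cfsg.IsClassFunction M F := rho_isClassFunction hD hψc
  set F₀ : K → ℂ := fun x => F x with hF₀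
  set T : K → ℂ := fun x => θ x with hT
  set D : K → ℂ := F₀ - T with hDdef
  have hθc := isClassFunction_of_isCharacter (isCharacter_of_irr hθ)
  have hDc : Cfsg.IsClassFunction K D := fun a x => by
    simp only [hDdef, Pi.sub_apply, hF₀, hT, Subgroup.coe_mul, Subgroup.coe_inv]
    rw [hFc, hθc]
  have hvan : ∀ {f : K → ℂ} (n : ℂ), f 1 = n → ∀ x : M, (x : G) ∉ A →
      (Cfsg.indFun K f - n • θ) x = 0 := by
    intro f n hn x hx
    by_cases hxK : x ∈ K
    · have hx1 : x = 1 := by_contra fun h => hx ((hA x).mpr ⟨hxK, h⟩)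
      subst hx1
      simp [CfsgLib.Induction.indFun_one_apply, hn, hθ1, mul_comm]
    · simp [CfsgLib.Induction.indFun_normal_eq_zero K hxK, hθv x hxK]
  have hlink : ∀ φ : K → ℂ, Cfsg.IsIrrCharacter K φ → φ ≠ (fun _ => 1) →
      Cfsg.classInner D φ = φ 1 * Cfsg.classInner D (linFun lam) := by
    intro φ hφ hφ1
    obtain ⟨n, hn⟩ := exists_degree (isCharacter_of_irr hφ)
    set α := Cfsg.indFun K φ - (n : ℂ) • θ with hα
    have hαS : α ∈ Cfsg.zspanOn (Cfsg.inducedIrrAbove K ⊥) ({1}ᶜ : Set M) := by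
      refine zspanOn_compl_one.mpr ⟨Submodule.sub_mem _ (hspan _ (hmem φ hφ hφ1)) ?_, ?_⟩
      · rw [show (n : ℂ) • θ = n • θ from (Nat.cast_smul_eq_nsmul ℂ n θ)]
        exact Submodule.smul_of_tower_mem _ n (hspan _ hθS)
      · exact hvan _ hn 1 (fun h => hD.one_not_mem (by simpa using h))
    have hαc : Cfsg.IsClassFunction M α := isClassFunction_sub
      (CfsgLib.Induction.isClassFunction_indFun K φ) (isClassFunction_smul hθc _)
    have h1 := inner_dade_eq_rho hD hαc (hvan _ hn) hψc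
    rw [← hext α hαS, hψdef, hiso α hαS.1 θ (hspan _ hθS), ← hψdef, ← hFdef] at h1
    rw [hα, classInner_sub_left, classInner_sub_left, classInner_smul_left, classInner_smul_left,
      CfsgLib.Induction.classInner_indFun K φ hθc, CfsgLib.Induction.classInner_indFun K φ hFc,
      hθdef, CfsgLib.Induction.classInner_indFun K (linFun lam) hθc,
      CfsgLib.Induction.classInner_indFun K (linFun lam) hFc] at h1
    have h2 : Cfsg.classInner φ D = (n : ℂ) * Cfsg.classInner (linFun lam) D := by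
      rw [hDdef, classInner_sub_right, classInner_sub_right]
      linear_combination -h1
    rw [classInner_conj_symm φ, h2, map_mul, Complex.conj_natCast, hn, ← classInner_conj_symm]
  set q := Cfsg.classInner D (linFun lam) with hq
  have hint : ∃ c : ℤ, Cfsg.classInner D (fun _ => 1) - q = c := by
    set β := Cfsg.indFun K ((fun _ => 1) - linFun lam) with hβ
    have hβg : Cfsg.IsGeneralizedCharacter M β := by
      rw [hβ, CfsgLib.Induction.indFun_sub]
      exact isGeneralizedCharacter_sub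
        (isGeneralizedCharacter_of_isCharacter
          (CfsgLib.Induction.isCharacter_indFun K (isCharacter_of_irr isIrrCharacter_one)))
        (isGeneralizedCharacter_irr ⟨θ, hθ⟩)
    have hβv : ∀ x : M, (x : G) ∉ A → β x = 0 := by
      intro x hx
      by_cases hxK : x ∈ K
      · have hx1 : x = 1 := by_contra fun h => hx ((hA x).mpr ⟨hxK, h⟩)
        subst hx1
        simp [hβ, CfsgLib.Induction.indFun_one_apply, linFun]
      · exact CfsgLib.Induction.indFun_normal_eq_zero K hxK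
    obtain ⟨z, hz⟩ := classInner_generalized_int (dade_virtual hD hβg hβv) hψ.generalized
    rw [inner_dade_eq_rho hD (isClassFunction_of_isGeneralizedCharacter hβg) hβv hψc, hβ,
      CfsgLib.Induction.classInner_indFun K _ hFc] at hz
    have hT1 : Cfsg.classInner T (fun _ => (1 : ℂ)) = 0 := by
      have h := CfsgLib.Induction.classInner_indFun_right K (fun _ => (1 : ℂ)) hθc
      rw [← h, hθdef, CfsgLib.Induction.classInner_indFun K (linFun lam)
        (CfsgLib.Induction.isClassFunction_indFun K _)]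
      have e1 : (fun k : K => Cfsg.indFun K (fun _ => (1 : ℂ)) k) = (K.index : ℂ) • fun _ => 1 := by
        funext k
        rw [CfsgLib.Induction.indFun_normal_apply, Finset.sum_const, Finset.card_univ,
          Pi.smul_apply, smul_eq_mul, nsmul_eq_mul, mul_one, mul_one,
          Fintype.card_eq_nat_card, ← K.card_mul_index, Nat.cast_mul, inv_mul_cancel_left₀
            (Nat.cast_ne_zero.mpr Nat.card_pos.ne')]
      rw [e1, classInner_smul_right,
        classInner_irr_ne (linFun_irr lam) isIrrCharacter_one (linFun_ne_one hlam1), mul_zero]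
    have hTl : Cfsg.classInner T (linFun lam) = 1 := by
      have h := classInner_irr_self hθ
      rw [hθdef, CfsgLib.Induction.classInner_indFun_right K (linFun lam) hθc] at h
      exact h
    refine ⟨z + 1, ?_⟩
    rw [hq, hDdef, classInner_sub_left, classInner_sub_left, hT1, hTl,
      classInner_conj_symm (fun _ => (1 : ℂ)) F₀, classInner_conj_symm (linFun lam) F₀]
    rw [classInner_sub_left] at hz
    have hz' := congrArg (starRingEnd ℂ) hz
    rw [map_sub, map_intCast] at hz'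
    push_cast
    linear_combination hz'
  obtain ⟨c, hc⟩ := hint
  have hshape : ∀ x : M, x ∈ K → x ≠ 1 → F x = c + θ x := by
    intro x hx hx1
    have h := const_of_ratios hDc hlink (x := ⟨x, hx⟩) fun e => hx1 (congrArg Subtype.val e)
    rw [hc] at h
    simp only [hDdef, hF₀, hT, Pi.sub_apply] at h
    linear_combination h
  refine ⟨ψ, c, θ, hψ, by rw [← hbeq, hψb], by rw [hτθ, hbeq], isCharacter_of_irr hθ, hθ1,
    hshape, ?_⟩
  convert norm_shift hθ hθp hθv hθ1 c hshape fun x hx => by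
    rw [hFdef, rho, if_neg fun h => hx ((hA x).mp h)] using 3

end MSide

end CfsgLib.PF.Sec12
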