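import Mathlib
import Cfsg.Agent.Lib.PF.Sec12Rho
import Cfsg.Agent.Lib.OddChar.CyclicTI

/-!
# The side of `L` in (12.7): `⟨τ Ind(1 - λ), ψ⟩` is independent of `λ`
-/

set_option autoImplicit false
set_option linter.style.haveILetI false
set_option linter.unusedSectionVars false

namespace CfsgLib.PF.Sec12

open scoped Classical ComplexConjugate
open Finset CfsgLib.Characters CfsgLib.OddChar

universe u

variable {G : Type u} [Group G] [Fintype G] {A : Set G} {L : Subgroup G} [Fintype L]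
  {R : G → Subgroup G} {H : Subgroup L} [H.Normal] {ψ : G → ℂ}

/-- What the argument needs about `L` and `ψ`. -/
structure LCtx (A : Set G) (L : Subgroup G) [Fintype L] (R : G → Subgroup G) (H : Subgroup L)
    (ψ : G → ℂ) : Prop where
  dade : Cfsg.DadeHypothesis A L R
  mem_iff : ∀ x : L, (x : G) ∈ A ↔ x ≠ 1 ∧ ∃ w ∈ H, w ≠ 1 ∧ Commute x w
  odd : Odd (Nat.card L)
  compl : ∃ U : Subgroup L, Subgroup.IsComplement' H U ∧ (Nat.card H).Coprime (Nat.card U) ∧
    ∀ a ∈ U, ∀ b ∈ U, H ⊓ Subgroup.centralizer ({a} : Set L) ≠ ⊥ →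
      H ⊓ Subgroup.centralizer ({b} : Set L) ≠ ⊥ → a * b = b * a
  off : ∀ x : L, (x : G) ∈ A → x ∉ H → R (x : G) = ⊥
  signed : IsSigned ψ
  conj_orth : Cfsg.classInner ψ (Cfsg.conjFun ψ) = 0
  disj : ∀ α : L → ℂ, Cfsg.IsClassFunction L α → (∀ x : L, ¬ (x ∈ H ∧ x ≠ 1) → α x = 0) →
    Cfsg.classInner (Cfsg.dadeIsometry A L R α) (ψ - Cfsg.conjFun ψ) = 0

variable (hc : LCtx A L R H ψ)

include hc in
theorem LCtx.mem_of_H {x : L} (hx : x ∈ H) (hx1 : x ≠ 1) : (x : G) ∈ A :=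
  (hc.mem_iff x).mpr ⟨hx1, x, hx, hx1, Commute.refl x⟩

/-- The parts of `Ind λ` with the properties used below. -/
structure Parts (A : Set G) (H : Subgroup L) (lam : H →* ℂˣ) (P : Finset (L → ℂ)) : Prop where
  dom : ∀ χ ∈ P, InDom A χ
  no_pair : ∀ χ ∈ P, Cfsg.conjFun χ ∉ P
  sum : Cfsg.indFun H (linFun lam) = ∑ χ ∈ P, χ
  eq_H : ∀ χ ∈ P, ∀ χ' ∈ P, ∀ h ∈ H, χ h = χ' h

theorem linFun_one_apply {K : Subgroup L} (lam : K →* ℂˣ) : linFun lam 1 = 1 := by simp [linFun]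

theorem inner_sum_mem {s : Finset (L → ℂ)} (hs : ∀ χ ∈ s, Cfsg.IsIrrCharacter L χ) {φ : L → ℂ}
    (hφ : Cfsg.IsIrrCharacter L φ) :
    Cfsg.classInner (∑ χ ∈ s, χ) φ = if φ ∈ s then 1 else 0 := by
  rw [classInner_sum_left]
  by_cases h : φ ∈ s
  · rw [if_pos h, Finset.sum_eq_single φ (fun b hb hne => classInner_irr_ne (hs b hb) hφ hne)
      (fun hn => absurd h hn), classInner_irr_self hφ]
  · rw [if_neg h]
    exact Finset.sum_eq_zero fun b hb => classInner_irr_ne (hs b hb) hφ fun e => h (e ▸ hb)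

theorem inner_sum_ne_zero {s t : Finset (L → ℂ)} (hs : ∀ χ ∈ s, Cfsg.IsIrrCharacter L χ)
    (ht : ∀ χ ∈ t, Cfsg.IsIrrCharacter L χ) {φ : L → ℂ} (h : φ ∈ s) (h' : φ ∈ t) :
    Cfsg.classInner (∑ χ ∈ s, χ) (∑ χ ∈ t, χ) ≠ 0 := by
  rw [classInner_sum_right, Finset.sum_congr rfl fun χ hχ => inner_sum_mem hs (ht χ hχ),
    Finset.sum_boole, Nat.cast_ne_zero]
  exact (Finset.card_pos.mpr ⟨φ, Finset.mem_filter.mpr ⟨h', h⟩⟩).ne'

theorem conjFun_sum {X : Type*} (s : Finset (X → ℂ)) :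
    Cfsg.conjFun (∑ χ ∈ s, χ) = ∑ χ ∈ s, Cfsg.conjFun χ := by
  funext x; simp [Cfsg.conjFun, Finset.sum_apply, map_sum]

theorem linFun_inv {K : Subgroup L} (lam : K →* ℂˣ) :
    linFun lam⁻¹ = Cfsg.conjFun (linFun lam) := by
  funext x
  have h := char_apply_inv (isCharacter_of_irr (linFun_irr lam)) x
  show ((lam x)⁻¹ : ℂˣ).val = conj (linFun lam x)
  rw [← h, linFun, map_inv]

include hc in
theorem exists_good_parts {lam : H →* ℂˣ} (h1 : lam ≠ 1) :
    ∃ P : Finset (L → ℂ), Parts A H lam P := by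
  obtain ⟨U, hU, hcop, hfix⟩ := hc.compl
  obtain ⟨P, hirr, hsum, heq, hvan⟩ := exists_parts U hU hcop hfix h1
  have hΦne : Cfsg.conjFun (Cfsg.indFun H (linFun lam)) ≠ Cfsg.indFun H (linFun lam) :=
    conjFun_indFun_ne hc.odd (linFun_irr lam) (linFun_ne_one h1)
  have hno : ∀ χ ∈ P, Cfsg.conjFun χ ∉ P := by
    intro χ hχ hχ'
    have h0 : Cfsg.classInner (Cfsg.conjFun (Cfsg.indFun H (linFun lam)))
        (Cfsg.indFun H (linFun lam)) = 0 := by
      rw [conjFun_indFun] at hΦne ⊢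
      exact indFun_inner_eq_zero inferInstance (conjFun_irr (linFun_irr lam)) (linFun_irr lam) hΦne
    rw [hsum, conjFun_sum] at h0
    have himg : ∑ φ ∈ P, Cfsg.conjFun φ = ∑ φ ∈ P.image Cfsg.conjFun, φ := by
      rw [Finset.sum_image]
      intro a _ b _ e
      rw [← conjFun_conjFun a, e, conjFun_conjFun]
    rw [himg] at h0
    refine inner_sum_ne_zero ?_ hirr (Finset.mem_image.mpr ⟨χ, hχ, rfl⟩) hχ' h0
    intro φ hφ
    obtain ⟨φ', hφ', rfl⟩ := Finset.mem_image.mp hφ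
    exact conjFun_irr (hirr φ' hφ')
  refine ⟨P, fun χ hχ => ⟨hirr χ hχ, fun e => hno χ hχ (e.symm ▸ hχ), fun x hx hx1 => ?_⟩,
    hno, hsum, heq⟩
  exact hvan χ hχ x hx1 fun w hw hw1 hcm => hx ((hc.mem_iff x).mpr ⟨hx1, w, hw, hw1, hcm⟩)

include hc in
theorem sub_ind_vanish {lam mu : H →* ℂˣ} (x : L) (hx : ¬ (x ∈ H ∧ x ≠ 1)) :
    (Cfsg.indFun H (linFun lam) - Cfsg.indFun H (linFun mu)) x = 0 := by
  by_cases hxH : x ∈ H
  · have : x = 1 := by_contra fun h => hx ⟨hxH, h⟩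
    subst this
    simp [CfsgLib.Induction.indFun_one_apply, linFun_one_apply]
  · simp [CfsgLib.Induction.indFun_normal_eq_zero H hxH]

include hc in
theorem not_supp {x : L} (hx : (x : G) ∉ A) : ¬ (x ∈ H ∧ x ≠ 1) :=
  fun h => hx (hc.mem_of_H h.1 h.2)

include hc in
theorem pairFree_parts {lam : H →* ℂˣ} {P : Finset (L → ℂ)} (hP : Parts A H lam P) :
    ∀ χ ∈ P, PairFree A R χ ψ := by
  refine pairFree_of_sum hc.dade hP.dom hP.no_pair hc.signed hc.conj_orth ?_
  have e : ∑ χ ∈ P, (χ - Cfsg.conjFun χ) =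
      Cfsg.indFun H (linFun lam) - Cfsg.indFun H (linFun lam⁻¹) := by
    rw [Finset.sum_sub_distrib, ← conjFun_sum, ← hP.sum, linFun_inv, ← conjFun_indFun]
  rw [e]
  exact hc.disj _ (isClassFunction_sub (CfsgLib.Induction.isClassFunction_indFun H _)
    (CfsgLib.Induction.isClassFunction_indFun H _)) fun x hx => sub_ind_vanish hc x hx

theorem signed_sum_eq (P : Finset (L → ℂ)) (s : Finset (L → ℂ)) (hs : s ⊆ P) :
    ∑ χ ∈ P, ((if χ ∈ s then (1 : ℤ) else -1 : ℤ) : ℂ) • χ = ∑ χ ∈ s, χ - ∑ χ ∈ P \ s, χ := by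
  rw [← Finset.sum_sdiff hs, sub_eq_neg_add, ← Finset.sum_neg_distrib]
  congr 1
  · exact Finset.sum_congr rfl fun χ h => by rw [if_neg (Finset.mem_sdiff.mp h).2]; simp
  · exact Finset.sum_congr rfl fun χ h => by rw [if_pos h]; simp

include hc in
/-- Differences inside the parts of one character. -/
theorem inner_parts_sub {lam : H →* ℂˣ} {P : Finset (L → ℂ)} (hP : Parts A H lam P)
    {χ χ' : L → ℂ} (hχ : χ ∈ P) (hχ' : χ' ∈ P) :
    Cfsg.classInner (Cfsg.dadeIsometry A L R (χ - χ')) ψ = 0 := by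
  by_cases e : χ = χ'
  · subst e; simp [dade_zero]
  have hsub : ({χ, χ'} : Finset (L → ℂ)) ⊆ P := by
    intro a ha; rcases Finset.mem_insert.mp ha with h | h
    · exact h ▸ hχ
    · exact Finset.mem_singleton.mp h ▸ hχ'
  have hse : ∑ a ∈ ({χ, χ'} : Finset (L → ℂ)),
      ((if a ∈ ({χ} : Finset (L → ℂ)) then (1 : ℤ) else -1 : ℤ) : ℂ) • a = χ - χ' := by
    rw [Finset.sum_pair e]
    simp [Ne.symm e, sub_eq_add_neg]
  rw [← hse]
  refine inner_eq_zero_of_signs hc.dade (fun a ha => hP.dom a (hsub ha))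
    (fun a ha h => hP.no_pair a (hsub ha) (hsub h)) _ (fun a _ => by split_ifs <;> simp) ?_
    hc.signed (fun a ha => pairFree_parts hc hP a (hsub ha))
  intro x hx
  rw [hse]
  exact (hP.dom χ hχ).sub_vanish (hP.dom χ' hχ') (hP.eq_H χ hχ χ' hχ' 1 H.one_mem) x hx

include hc in
/-- `⟨τ(Ind λ - Ind μ), ψ⟩ = 0`. -/
theorem inner_ind_sub {lam mu : H →* ℂˣ} (h1 : lam ≠ 1) (h2 : mu ≠ 1) :
    Cfsg.classInner (Cfsg.dadeIsometry A L R
      (Cfsg.indFun H (linFun lam) - Cfsg.indFun H (linFun mu))) ψ = 0 := by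
  obtain ⟨P, hP⟩ := exists_good_parts hc h1
  obtain ⟨Q, hQ⟩ := exists_good_parts hc h2
  by_cases e1 : Cfsg.indFun H (linFun lam) = Cfsg.indFun H (linFun mu)
  · rw [e1, sub_self, dade_zero, classInner_zero_left]
  by_cases e2 : Cfsg.indFun H (linFun mu) = Cfsg.conjFun (Cfsg.indFun H (linFun lam))
  · rw [e2, hP.sum, conjFun_sum, ← Finset.sum_sub_distrib, dade_map_sum, classInner_sum_left]
    exact Finset.sum_eq_zero fun χ hχ => (pairFree_parts hc hP χ hχ).inner hc.dade (hP.dom χ hχ)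
  have horth : ∀ {a : L → ℂ}, a ∈ P → a ∉ Q := by
    intro a ha ha'
    refine inner_sum_ne_zero (fun χ h => (hP.dom χ h).irr) (fun χ h => (hQ.dom χ h).irr) ha ha' ?_
    rw [← hP.sum, ← hQ.sum]
    exact indFun_inner_eq_zero inferInstance (linFun_irr lam) (linFun_irr mu) e1
  have hconj : ∀ {a : L → ℂ}, a ∈ P → Cfsg.conjFun a ∉ Q := by
    intro a ha ha'
    have himg : Cfsg.conjFun (Cfsg.indFun H (linFun lam)) = ∑ χ ∈ P.image Cfsg.conjFun, χ := by
      rw [hP.sum, conjFun_sum, Finset.sum_image]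
      intro b _ c _ e
      rw [← conjFun_conjFun b, e, conjFun_conjFun]
    have h0 : Cfsg.classInner (Cfsg.conjFun (Cfsg.indFun H (linFun lam)))
        (Cfsg.indFun H (linFun mu)) = 0 := by
      rw [conjFun_indFun] at e2 ⊢
      exact indFun_inner_eq_zero inferInstance (conjFun_irr (linFun_irr lam)) (linFun_irr mu)
        (Ne.symm e2)
    rw [himg, hQ.sum] at h0
    refine inner_sum_ne_zero ?_ (fun χ h => (hQ.dom χ h).irr) (Finset.mem_image.mpr ⟨a, ha, rfl⟩)
      ha' h0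
    intro φ hφ
    obtain ⟨φ', hφ', rfl⟩ := Finset.mem_image.mp hφ
    exact conjFun_irr (hP.dom φ' hφ').irr
  have hall : ∀ χ ∈ P ∪ Q, InDom A χ ∧ PairFree A R χ ψ := fun χ h =>
    (Finset.mem_union.mp h).elim (fun h => ⟨hP.dom χ h, pairFree_parts hc hP χ h⟩)
      (fun h => ⟨hQ.dom χ h, pairFree_parts hc hQ χ h⟩)
  have hse : ∑ χ ∈ P ∪ Q, ((if χ ∈ P then (1 : ℤ) else -1 : ℤ) : ℂ) • χ =
      Cfsg.indFun H (linFun lam) - Cfsg.indFun H (linFun mu) := by
    rw [signed_sum_eq _ P Finset.subset_union_left, hP.sum, hQ.sum,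
      show (P ∪ Q) \ P = Q from by
        rw [Finset.union_sdiff_left, Finset.sdiff_eq_self_iff_disjoint, Finset.disjoint_left]
        exact fun a ha ha' => horth ha' ha]
  rw [← hse]
  refine inner_eq_zero_of_signs hc.dade (fun χ h => (hall χ h).1) ?_ _
    (fun χ _ => by split_ifs <;> simp) ?_ hc.signed (fun χ h => (hall χ h).2)
  · intro χ h h'
    rcases Finset.mem_union.mp h with h | h <;> rcases Finset.mem_union.mp h' with h' | h'
    · exact hP.no_pair χ h h'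
    · exact hconj h h'
    · exact hconj h' (by rw [conjFun_conjFun]; exact h)
    · exact hQ.no_pair χ h h'
  · intro x hx
    rw [hse]
    exact sub_ind_vanish hc x (not_supp hc hx)

include hc in
theorem one_sub_vanish (lam : H →* ℂˣ) (x : L) (hx : (x : G) ∉ A) :
    Cfsg.indFun H ((fun _ => 1) - linFun lam) x = 0 := by
  by_cases hxH : x ∈ H
  · have : x = 1 := by_contra fun h => hx (hc.mem_of_H hxH h)
    subst this
    simp [CfsgLib.Induction.indFun_one_apply, linFun_one_apply]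
  · exact CfsgLib.Induction.indFun_normal_eq_zero H hxH

variable [Fintype H]

include hc in
/-- There is an integer `d` with `∑ (1 - λ) conj ρψ = |H| d` for every non-principal `λ`. -/
theorem exists_d {lam₀ : H →* ℂˣ} (h₀ : lam₀ ≠ 1) : ∃ d : ℤ, ∀ lam : H →* ℂˣ, lam ≠ 1 →
    ∑ x : H, (1 - (lam x : ℂ)) * conj (rho A L R ψ x) = (Nat.card H : ℂ) * d := by
  have hψc := hc.signed.classFunction
  have hgen : ∀ lam : H →* ℂˣ,
      Cfsg.IsGeneralizedCharacter L (Cfsg.indFun H ((fun _ => 1) - linFun lam)) := fun lam => by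
    rw [CfsgLib.Induction.indFun_sub]
    exact isGeneralizedCharacter_sub
      (isGeneralizedCharacter_of_isCharacter
        (CfsgLib.Induction.isCharacter_indFun H (isCharacter_of_irr isIrrCharacter_one)))
      (isGeneralizedCharacter_of_isCharacter
        (CfsgLib.Induction.isCharacter_indFun H (isCharacter_of_irr (linFun_irr lam))))
  obtain ⟨d, hd⟩ := classInner_generalized_int
    (dade_virtual hc.dade (hgen lam₀) (one_sub_vanish hc lam₀)) hc.signed.generalized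
  refine ⟨d, fun lam hlam => ?_⟩
  have hsame : Cfsg.classInner (Cfsg.dadeIsometry A L R (Cfsg.indFun H ((fun _ => 1) - linFun lam))) ψ
      = d := by
    have e : Cfsg.indFun H ((fun _ => 1) - linFun lam) =
        Cfsg.indFun H ((fun _ => 1) - linFun lam₀) +
          (Cfsg.indFun H (linFun lam₀) - Cfsg.indFun H (linFun lam)) := by
      rw [CfsgLib.Induction.indFun_sub, CfsgLib.Induction.indFun_sub]; abel
    rw [e, dadeIsometry_add, classInner_add_left, hd, inner_ind_sub hc h₀ hlam, add_zero]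
  rw [inner_dade_eq_rho hc.dade (CfsgLib.Induction.isClassFunction_indFun H _)
    (one_sub_vanish hc lam) hψc,
    CfsgLib.Induction.classInner_indFun H _ (rho_isClassFunction hc.dade hψc), Cfsg.classInner] at hsame
  rw [← hsame, mul_inv_cancel_left₀ (Nat.cast_ne_zero.mpr Nat.card_pos.ne')]
  rfl

include hc in
/-- `∑ χ ψ̄ = 0` over `L ∖ H` for every part `χ`. -/
theorem sum_off_eq_zero {lam : H →* ℂˣ} {P : Finset (L → ℂ)} (hP : Parts A H lam P)
    {χ : L → ℂ} (hχ : χ ∈ P) : ∑ x ∈ univ.filter (fun x : L => x ∉ H), χ x * conj (ψ x) = 0 := by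
  set S : (L → ℂ) → ℂ := fun φ => ∑ x ∈ univ.filter (fun x : L => x ∉ H), φ x * conj (ψ x) with hS
  have hψc := hc.signed.classFunction
  have hsame : ∀ φ ∈ P, S φ = S χ := by
    intro φ hφ
    have h0 := inner_parts_sub hc hP hφ hχ
    have heq : φ 1 = χ 1 := hP.eq_H φ hφ χ hχ 1 H.one_mem
    rw [inner_dade_eq_rho hc.dade
      (isClassFunction_of_isGeneralizedCharacter ((hP.dom φ hφ).gen (hP.dom χ hχ)))
      ((hP.dom φ hφ).sub_vanish (hP.dom χ hχ) heq) hψc, Cfsg.classInner, mul_eq_zero] at h0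
    have h1 := h0.resolve_left (inv_ne_zero (Nat.cast_ne_zero.mpr Nat.card_pos.ne'))
    rw [← sub_eq_zero, hS, ← Finset.sum_sub_distrib]
    refine Eq.trans ?_ h1
    rw [← Finset.sum_filter_add_sum_filter_not univ (fun x : L => x ∉ H)
      (fun x => (φ - χ) x * conj (rho A L R ψ x))]
    rw [Finset.sum_eq_zero (s := univ.filter fun x : L => ¬ x ∉ H) (fun x hx => by
      rw [Pi.sub_apply, hP.eq_H φ hφ χ hχ x (not_not.mp (mem_filter.mp hx).2), sub_self, zero_mul]),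
      add_zero]
    refine Finset.sum_congr rfl fun x hx => ?_
    have hxH := (mem_filter.mp hx).2
    have hx1 : x ≠ 1 := fun e => hxH (e ▸ H.one_mem)
    by_cases hxA : (x : G) ∈ A
    · rw [rho_of_bot hxA (hc.off x hxA hxH), Pi.sub_apply, sub_mul]
    · rw [(hP.dom φ hφ).vanish x hxA hx1, (hP.dom χ hχ).vanish x hxA hx1, Pi.sub_apply,
        (hP.dom φ hφ).vanish x hxA hx1, (hP.dom χ hχ).vanish x hxA hx1]
      ring
  have hsum : ∑ φ ∈ P, S φ = 0 := by
    rw [hS]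
    rw [Finset.sum_comm]
    refine Finset.sum_eq_zero fun x hx => ?_
    rw [← Finset.sum_mul, ← Finset.sum_apply x P (fun φ => φ), ← hP.sum,
      CfsgLib.Induction.indFun_normal_eq_zero H (mem_filter.mp hx).2, zero_mul]
  rw [Finset.sum_congr rfl hsame, Finset.sum_const, nsmul_eq_mul, mul_eq_zero] at hsum
  exact hsum.resolve_left (Nat.cast_ne_zero.mpr (Finset.card_pos.mpr ⟨χ, hχ⟩).ne')

include hc in
/-- The twisted sum `∑ λ(h) ψ̄(h b)` over a coset of `H` vanishes. -/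
theorem twisted_sum_eq_zero {B : Subgroup L} (hdisj : H ⊓ B = ⊥)
    (hBc : ∀ a ∈ B, ∀ b ∈ B, a * b = b * a) {lam : H →* ℂˣ} (h1 : lam ≠ 1) (hB : B ≤ linStab lam)
    {b₀ : B} (hb₀ : b₀ ≠ 1) : ∑ h : H, (lam h : ℂ) * conj (ψ ((h : L) * (b₀ : L) : L)) = 0 := by
  obtain ⟨P, hP⟩ := exists_good_parts hc h1
  letI : CommGroup B := { (inferInstance : Group B) with
    mul_comm := fun a b => Subtype.ext (hBc a a.2 b b.2) }
  haveI : Finite (B →* ℂˣ) := Nat.finite_of_card_ne_zero (by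
    rw [CommGroup.card_monoidHom_of_hasEnoughRootsOfUnity B ℂ]; exact Nat.card_pos.ne')
  haveI := Fintype.ofFinite (B →* ℂˣ)
  haveI : Fintype ↥(H ⊔ B) := Fintype.ofFinite _
  haveI : Fintype B := Fintype.ofFinite _
  choose e he using fun mu : B →* ℂˣ => exists_linExt hdisj hB mu
  set I : (B →* ℂˣ) → L → ℂ := fun mu => Cfsg.indFun (H ⊔ B) (linFun (e mu)) with hI
  have hIc : ∀ mu, Cfsg.IsCharacter L (I mu) := fun mu =>
    CfsgLib.Induction.isCharacter_indFun _ (isCharacter_of_irr (linFun_irr _))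
  have hψc := hc.signed.classFunction
  set g : L → ℂ := fun x => if x ∈ H then 0 else conj (ψ x) with hg
  have hgc : Cfsg.IsClassFunction L g := fun a x => by
    have : x * a * x⁻¹ ∈ H ↔ a ∈ H := ⟨fun h => by
      simpa [mul_assoc] using ‹H.Normal›.conj_mem _ h x⁻¹, fun h => ‹H.Normal›.conj_mem a h x⟩
    simp only [hg, this]
    rw [show ((x * a * x⁻¹ : L) : G) = (x : G) * a * (x : G)⁻¹ by simp, hψc]
  have hSP : ∀ φ ∈ P, ∑ x : L, φ x * g x = 0 := fun φ hφ => by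
    rw [← sum_off_eq_zero hc hP hφ, Finset.sum_filter]
    refine Finset.sum_congr rfl fun x _ => ?_
    by_cases hx : x ∈ H <;> simp [hg, hx]
  choose n hn using fun (mu : B →* ℂˣ) (φ : Cfsg.IrrCharacter L) =>
    classInner_char_nat (hIc mu) (irr_isCharacter φ)
  have hIsum : ∀ mu, ∑ x : L, I mu x * g x = 0 := by
    intro mu
    have hexp := classFunction_eq_sum (isClassFunction_of_isCharacter (hIc mu))
    rw [hexp]
    simp only [Finset.sum_apply, Pi.smul_apply, smul_eq_mul, Finset.sum_mul]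
    rw [Finset.sum_comm]
    refine Finset.sum_eq_zero fun φ _ => ?_
    simp only [mul_assoc, ← Finset.mul_sum, hn mu φ]
    by_cases hφ : (φ : L → ℂ) ∈ P
    · rw [hSP _ hφ, mul_zero]
    · have h0 : n mu φ = 0 := by
        have htot : ∑ nu : B →* ℂˣ, (n nu φ : ℂ) = 0 := by
          rw [← Finset.sum_congr rfl fun nu _ => hn nu φ, ← classInner_sum_left,
            sum_ind_ext hdisj hBc e he, hP.sum, inner_sum_mem (fun χ h => (hP.dom χ h).irr) φ.2,
            if_neg hφ]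
        rw [← Nat.cast_sum, Nat.cast_eq_zero, Finset.sum_eq_zero_iff] at htot
        exact htot mu (mem_univ _)
      rw [h0, Nat.cast_zero, zero_mul]
  set Z : B → ℂ := fun b => if b = 1 then 0 else ∑ h : H, (lam h : ℂ) * conj (ψ ((h : L) * (b : L) : L))
    with hZ
  have hT : ∀ mu : B →* ℂˣ, ∑ b : B, (mu b : ℂ) * Z b = 0 := by
    intro mu
    have h := CfsgLib.Induction.sum_indFun_mul (H ⊔ B) (linFun (e mu)) hgc
    rw [show ∑ x : L, Cfsg.indFun (H ⊔ B) (linFun (e mu)) x * g x = 0 from hIsum mu, mul_zero] at h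
    have h2 := (mul_eq_zero.mp h.symm).resolve_left (inv_ne_zero (Nat.cast_ne_zero.mpr Nat.card_pos.ne'))
    let F : H × B → ↥(H ⊔ B) := fun p => ⟨(p.1 : L) * p.2,
      mul_mem (Subgroup.mem_sup_left p.1.2) (Subgroup.mem_sup_right p.2.2)⟩
    have hF : Function.Bijective F := by
      refine ⟨fun p q h => ?_, fun x => ?_⟩
      · obtain ⟨a, b⟩ := decomp_unique hdisj (congrArg Subtype.val h)
        exact Prod.ext a b
      · obtain ⟨a, b, e⟩ := sup_decomp x
        exact ⟨(a, b), Subtype.ext e.symm⟩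
    rw [← hF.sum_comp (fun x => linFun (e mu) x * g x), Fintype.sum_prod_type_right] at h2
    refine Eq.trans (Finset.sum_congr rfl fun b _ => ?_) h2
    have hval : ∀ h : H, linFun (e mu) (F (h, b)) = (lam h : ℂ) * (mu b : ℂ) := fun h => by
      rw [linFun, he mu h b (F (h, b)) rfl, Units.val_mul]
    simp only [hZ]
    by_cases hb : b = 1
    · rw [if_pos hb, mul_zero]
      refine (Finset.sum_eq_zero fun h _ => ?_).symm
      have : g ((F (h, b) : ↥(H ⊔ B)) : L) = 0 := by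
        simp only [hg]
        rw [if_pos]
        simp [F, hb]
      rw [this, mul_zero]
    · rw [if_neg hb, Finset.mul_sum]
      refine Finset.sum_congr rfl fun h _ => ?_
      rw [hval h]
      have hnot : ((h : L) * (b : L)) ∉ H := fun hm => hb (Subtype.ext (by
        have : (b : L) ∈ H ⊓ B := ⟨(Subgroup.mul_mem_cancel_left H h.2).mp hm, b.2⟩
        rw [hdisj] at this
        exact Subgroup.mem_bot.mp this))
      simp only [hg, F, if_neg hnot]
      ring
  have hcardB : Fintype.card (B →* ℂˣ) = Nat.card B := by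
    rw [← Nat.card_eq_fintype_card]
    exact CommGroup.card_monoidHom_of_hasEnoughRootsOfUnity B ℂ
  have horth : ∀ b : B, b ≠ 1 → ∑ mu : B →* ℂˣ, (mu b : ℂ) = 0 := by
    intro b hb
    obtain ⟨f, hf⟩ := CommGroup.exists_apply_ne_one_of_hasEnoughRootsOfUnity B ℂ hb
    have h1 : (f b : ℂ) * ∑ mu : B →* ℂˣ, (mu b : ℂ) = ∑ mu : B →* ℂˣ, (mu b : ℂ) := by
      rw [Finset.mul_sum]
      exact (Finset.sum_congr rfl fun φ _ => by simp).trans
        (Equiv.sum_comp (Equiv.mulLeft f) (fun φ : B →* ℂˣ => (φ b : ℂ)))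
    exact (mul_left_eq_self₀.mp h1).resolve_left fun h => hf (Units.val_eq_one.mp h)
  have hall : ∑ mu : B →* ℂˣ, (mu b₀⁻¹ : ℂ) * ∑ b : B, (mu b : ℂ) * Z b = 0 :=
    Finset.sum_eq_zero fun mu _ => by rw [hT mu, mul_zero]
  simp only [Finset.mul_sum] at hall
  rw [Finset.sum_comm, Finset.sum_eq_single b₀] at hall
  · have hterm : ∀ mu : B →* ℂˣ, (mu b₀⁻¹ : ℂ) * ((mu b₀ : ℂ) * Z b₀) = Z b₀ := fun mu => by
      rw [← mul_assoc, ← Units.val_mul, ← map_mul, inv_mul_cancel, map_one, Units.val_one, one_mul]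
    rw [Finset.sum_congr rfl fun mu _ => hterm mu, Finset.sum_const, nsmul_eq_mul, mul_eq_zero] at hall
    have := hall.resolve_left (Nat.cast_ne_zero.mpr (by
      rw [Finset.card_univ, hcardB]; exact Nat.card_pos.ne'))
    simpa [hZ, hb₀] using this
  · intro b _ hb
    have hterm : ∀ mu : B →* ℂˣ, (mu b₀⁻¹ : ℂ) * ((mu b : ℂ) * Z b) = (mu (b₀⁻¹ * b) : ℂ) * Z b :=
      fun mu => by rw [map_mul, Units.val_mul, mul_assoc]
    rw [Finset.sum_congr rfl fun mu _ => hterm mu, ← Finset.sum_mul,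
      horth _ (fun h => hb (inv_mul_eq_one.mp h).symm), zero_mul]
  · exact fun h => absurd (mem_univ _) h

include hc in
/-- Bessel for four linear characters. -/
theorem rho_norm_ge {d : ℤ}
    (hd : ∀ lam : H →* ℂˣ, lam ≠ 1 →
      ∑ x : H, (1 - (lam x : ℂ)) * conj (rho A L R ψ x) = (Nat.card H : ℂ) * d)
    {S : Finset (H →* ℂˣ)} (hS1 : 1 ∈ S) (hS : 4 ≤ S.card) :
    3 / 4 * (d : ℝ) ^ 2 * Nat.card H ≤ ∑ x : H, ‖rho A L R ψ x‖ ^ 2 := by
  set F : H → ℂ := fun x => rho A L R ψ x with hF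
  set v : S → H → ℂ := fun lam => linFun (lam : H →* ℂˣ) with hv
  have horth : ∀ i j : S, Cfsg.classInner (v i) (v j) = if i = j then 1 else 0 := by
    intro i j
    split_ifs with h
    · subst h; exact classInner_irr_self (linFun_irr _)
    · exact classInner_irr_ne (linFun_irr _) (linFun_irr _)
        fun e => h (Subtype.ext (linFun_inj e))
  have hb := bessel v (fun i j => by convert horth i j) F
  set a : S → ℂ := fun i => Cfsg.classInner F (v i) with ha
  have hne : (Nat.card H : ℂ) ≠ 0 := Nat.cast_ne_zero.mpr Nat.card_pos.ne'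
  have hai : ∀ i : S, (i : H →* ℂˣ) ≠ 1 → a i = a ⟨1, hS1⟩ - d := by
    intro i hi
    have h := congrArg (starRingEnd ℂ) (hd i hi)
    simp only [map_sum, map_mul, map_sub, map_one, Complex.conj_conj, Complex.conj_natCast,
      map_intCast] at h
    simp only [ha, hv, Cfsg.classInner, linFun]
    have e : ∑ g : H, F g * conj ((i.1 g : ℂˣ) : ℂ) =
        ∑ g : H, F g * conj (((1 : H →* ℂˣ) g : ℂˣ) : ℂ) - (Nat.card H : ℂ) * d := by
      rw [← h, ← Finset.sum_sub_distrib]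
      refine Finset.sum_congr rfl fun g _ => ?_
      simp only [MonoidHom.one_apply, Units.val_one, map_one, hF]
      ring
    rw [e, mul_sub, inv_mul_cancel_left₀ hne]
  have hsum : ∑ i : S, Complex.normSq (a i) =
      Complex.normSq (a ⟨1, hS1⟩) + ((S.card : ℝ) - 1) * Complex.normSq (a ⟨1, hS1⟩ - d) := by
    rw [← Finset.add_sum_erase _ _ (mem_univ (⟨1, hS1⟩ : S)),
      Finset.sum_congr rfl fun i hi => by
        rw [hai i fun e => (Finset.mem_erase.mp hi).1 (Subtype.ext e)]]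
    rw [Finset.sum_const, Finset.card_erase_of_mem (mem_univ _), Finset.card_univ, Fintype.card_coe,
      nsmul_eq_mul, Nat.cast_sub (le_trans (by norm_num) hS), Nat.cast_one]
  have hlow : 3 / 4 * (d : ℝ) ^ 2 ≤ ∑ i : S, Complex.normSq (a i) := by
    rw [hsum]
    have h4 : (4 : ℝ) ≤ S.card := by exact_mod_cast hS
    have hx : Complex.normSq (a ⟨1, hS1⟩) = (a ⟨1, hS1⟩).re ^ 2 + (a ⟨1, hS1⟩).im ^ 2 := by
      rw [Complex.normSq_apply]; ring
    have hy : Complex.normSq (a ⟨1, hS1⟩ - d) = ((a ⟨1, hS1⟩).re - d) ^ 2 + (a ⟨1, hS1⟩).im ^ 2 := by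
      rw [Complex.normSq_apply]; simp; ring
    rw [hx, hy]
    set x := (a ⟨1, hS1⟩).re
    nlinarith [sq_nonneg (4 * x - 3 * (d : ℝ)), sq_nonneg (x - (d : ℝ)),
      sq_nonneg (a ⟨1, hS1⟩).im,
      mul_nonneg (sub_nonneg.mpr h4) (sq_nonneg (x - (d : ℝ)))]
  have hFF : (Cfsg.classInner F F).re = (Nat.card H : ℝ)⁻¹ * ∑ x : H, ‖F x‖ ^ 2 := by
    have e : Cfsg.classInner F F = (((Nat.card H : ℝ)⁻¹ * ∑ x : H, ‖F x‖ ^ 2 : ℝ) : ℂ) := by
      rw [Cfsg.classInner]; push_cast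
      congr 1
      refine Finset.sum_congr rfl fun x _ => ?_
      rw [Complex.mul_conj, Complex.normSq_eq_norm_sq]; norm_cast
    rw [e, Complex.ofReal_re]
  have h := hlow.trans hb
  rw [hFF] at h
  have hH : (0 : ℝ) < Nat.card H := Nat.cast_pos.mpr Nat.card_pos
  calc 3 / 4 * (d : ℝ) ^ 2 * Nat.card H ≤ ((Nat.card H : ℝ)⁻¹ * ∑ x : H, ‖F x‖ ^ 2) * Nat.card H :=
      mul_le_mul_of_nonneg_right h hH.le
    _ = ∑ x : H, ‖F x‖ ^ 2 := by field_simp

end CfsgLib.PF.Sec12
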