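import Mathlib
import Cfsg.Prelude.Def_Transfer
import Cfsg.Agent.Lib.Frobenius.Action
import Cfsg.Agent.Lib.OddOrder41.RankTwoAction

/-!
# A fixed-point-free group of odd order on a plane

If a fixed-point-free group `E` of odd order on `A = p²` has no non-identity element normalizing some
line of `A`, then `2|E| ≤ p + 1`.
-/

set_option autoImplicit false
set_option linter.style.haveILetI false
set_option linter.unusedSectionVars false

namespace CfsgLib.PF.Sec12

open Finset
open scoped commutatorElement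

universe u

variable {G : Type u} [Group G] [Finite G] {p : ℕ} [hp : Fact p.Prime]

/-- A group acting fixed-point-freely by conjugation has order dividing `|A| - 1`. -/
theorem card_dvd_of_fpf_conj {A E : Subgroup G} (hEA : E ≤ Subgroup.normalizer (A : Set G))
    (hfpf : ∀ e ∈ E, e ≠ 1 → ∀ a ∈ A, e * a = a * e → a = 1) :
    Nat.card E ∣ Nat.card A - 1 := by
  letI : MulDistribMulAction E A :=
    MulDistribMulAction.compHom A (OddOrder41.conjHom A E hEA)
  have hf : CfsgLib.Frobenius.IsFPF E A := fun e he a ha => by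
    have h1 : (e : G) * a * (e : G)⁻¹ = a := congrArg Subtype.val ha
    exact Subtype.ext (hfpf e e.2 (fun h => he (Subtype.ext h)) a a.2 (mul_inv_eq_iff_eq_mul.mp h1))
  exact hf.card_dvd_sub_one

theorem card_zpowers_of_exp {A : Subgroup G} (hAe : Cfsg.IsElementaryAbelian p A) {a : G} (ha : a ∈ A)
    (ha1 : a ≠ 1) : Nat.card (Subgroup.zpowers a) = p := by
  rw [Nat.card_zpowers]
  exact orderOf_eq_prime (hAe.2 a ha) ha1

theorem zpowers_eq_of_mem' {A : Subgroup G} (hAe : Cfsg.IsElementaryAbelian p A) {a b : G} (ha : a ∈ A)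
    (ha1 : a ≠ 1) (hb : b ∈ Subgroup.zpowers a) (hb1 : b ≠ 1) :
    Subgroup.zpowers b = Subgroup.zpowers a :=
  Subgroup.eq_of_le_of_card_ge (Subgroup.zpowers_le.mpr hb) (by
    rw [card_zpowers_of_exp hAe ha ha1, card_zpowers_of_exp hAe
      (Subgroup.zpowers_le.mpr ha hb) hb1])

/-- An automorphism of prime order `r ∣ p - 1` of a plane fixes a line. -/
theorem exists_fixed_line {A : Subgroup G} (hAe : Cfsg.IsElementaryAbelian p A)
    (hA2 : Nat.card A = p ^ 2) {d : G} {r : ℕ} [hr : Fact r.Prime] (hr2 : r ≠ 2) (hrp : r ∣ p - 1)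
    (hd : d ∈ Subgroup.normalizer (A : Set G)) (hdr : d ^ r = 1) :
    ∃ a ∈ A, a ≠ 1 ∧ d * a * d⁻¹ ∈ Subgroup.zpowers a := by
  classical
  haveI := Fintype.ofFinite G
  set S : Finset G := univ.filter (fun a => a ∈ A ∧ a ≠ 1) with hS
  set L := S.image (fun a => Subgroup.zpowers a) with hL
  have hScard : S.card = p ^ 2 - 1 := by
    have h1 : S = (univ.filter (fun a : G => a ∈ A)).erase 1 := by
      ext a
      simp [hS, and_comm]
    rw [h1, Finset.card_erase_of_mem (by simp [A.one_mem]), ← hA2, Nat.card_eq_fintype_card,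
      Fintype.card_subtype]
  have hfib : ∀ X ∈ L, (S.filter (fun a => Subgroup.zpowers a = X)).card = p - 1 := by
    intro X hX
    obtain ⟨a, ha, rfl⟩ := Finset.mem_image.mp hX
    obtain ⟨-, haA, ha1⟩ := Finset.mem_filter.mp ha
    have h1 : S.filter (fun b => Subgroup.zpowers b = Subgroup.zpowers a) =
        (univ.filter (fun b : G => b ∈ Subgroup.zpowers a)).erase 1 := by
      ext b
      simp only [hS, Finset.mem_filter, Finset.mem_univ, true_and, Finset.mem_erase]
      constructor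
      · rintro ⟨⟨-, hb1⟩, hb⟩
        exact ⟨hb1, hb ▸ Subgroup.mem_zpowers b⟩
      · rintro ⟨hb1, hb⟩
        exact ⟨⟨Subgroup.zpowers_le.mpr haA hb, hb1⟩, zpowers_eq_of_mem' hAe haA ha1 hb hb1⟩
    rw [h1, Finset.card_erase_of_mem (by simp [Subgroup.one_mem]), ← card_zpowers_of_exp hAe haA ha1,
      Nat.card_eq_fintype_card, Fintype.card_subtype]
  have hn : L.card = p + 1 := by
    have h1 := Finset.card_eq_sum_card_fiberwise (s := S) (t := L) (f := fun a => Subgroup.zpowers a)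
      (fun a ha => Finset.mem_image_of_mem _ ha)
    rw [Finset.sum_congr rfl hfib, Finset.sum_const, smul_eq_mul, hScard] at h1
    have hp1 : 0 < p - 1 := by have := hp.out.two_le; omega
    refine Nat.eq_of_mul_eq_mul_right hp1 (h1.symm.trans ?_)
    rw [show p ^ 2 - 1 = p ^ 2 - 1 ^ 2 by norm_num, Nat.sq_sub_sq]
  have hmem : ∀ X : Subgroup G, X ∈ L →
      X.map (MulAut.conj d).toMonoidHom ∈ L := by
    intro X hX
    obtain ⟨a, ha, rfl⟩ := Finset.mem_image.mp hX
    obtain ⟨-, haA, ha1⟩ := Finset.mem_filter.mp ha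
    refine Finset.mem_image.mpr ⟨d * a * d⁻¹, Finset.mem_filter.mpr ⟨Finset.mem_univ _,
      (Subgroup.mem_normalizer_iff.mp hd a).mp haA, fun h => ha1 (conj_eq_one_iff.mp h)⟩, ?_⟩
    rw [MonoidHom.map_zpowers]
    rfl
  let f : {X // X ∈ L} → {X // X ∈ L} := fun X => ⟨_, hmem X.1 X.2⟩
  have hinj : Function.Injective f := fun X Y h => Subtype.ext
    (Subgroup.map_injective (MulAut.conj d).injective (congrArg Subtype.val h))
  let σ : Equiv.Perm {X // X ∈ L} := Equiv.ofBijective f (Finite.injective_iff_bijective.mp hinj)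
  have hpow : ∀ (n : ℕ) (X : {X // X ∈ L}),
      ((σ ^ n) X).1 = X.1.map (MulAut.conj (d ^ n)).toMonoidHom := by
    intro n
    induction n with
    | zero =>
      intro X
      rw [pow_zero, pow_zero, map_one]
      exact (Subgroup.map_id _).symm
    | succ n ih =>
      intro X
      rw [pow_succ', pow_succ', Equiv.Perm.mul_apply]
      show ((σ ^ n) X).1.map _ = _
      rw [ih, Subgroup.map_map, map_mul]
      rfl
  have hσ : σ ^ r ^ 1 = 1 := by
    rw [pow_one]
    refine Equiv.ext fun X => Subtype.ext ?_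
    rw [hpow, hdr, map_one]
    exact Subgroup.map_id _
  obtain ⟨X, hX⟩ : ∃ X, σ X = X := by
    refine Equiv.Perm.exists_fixed_point_of_prime ?_ hσ
    rw [Fintype.card_coe, hn]
    intro h
    have h1 : r ∣ (p + 1) - (p - 1) := Nat.dvd_sub h hrp
    have := hp.out.two_le
    rw [show (p + 1) - (p - 1) = 2 by omega] at h1
    exact hr2 ((Nat.prime_dvd_prime_iff_eq hr.out Nat.prime_two).mp h1)
  obtain ⟨a, ha, hXa⟩ := Finset.mem_image.mp X.2
  obtain ⟨-, haA, ha1⟩ := Finset.mem_filter.mp ha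
  refine ⟨a, haA, ha1, ?_⟩
  have h1 : (X : Subgroup G).map (MulAut.conj d).toMonoidHom = X := congrArg Subtype.val hX
  rw [← hXa] at h1
  exact h1 ▸ Subgroup.mem_map_of_mem _ (Subgroup.mem_zpowers a)

theorem two_mul_card_le (hp2 : p ≠ 2) {A E : Subgroup G} (hAe : Cfsg.IsElementaryAbelian p A)
    (hA2 : Nat.card A = p ^ 2) (hEA : E ≤ Subgroup.normalizer (A : Set G))
    (hsolv : Group.IsSolvable E) (hodd : Odd (Nat.card E))
    (hfpf : ∀ e ∈ E, e ≠ 1 → ∀ a ∈ A, e * a = a * e → a = 1)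
    {y : G} (hy : y ∈ A) (hline : ∀ e ∈ E, e * y * e⁻¹ ∈ Subgroup.zpowers y → e = 1) :
    2 * Nat.card E ≤ p + 1 := by
  have hdvd := card_dvd_of_fpf_conj hEA hfpf
  rw [hA2] at hdvd
  have hfac : p ^ 2 - 1 = (p + 1) * (p - 1) := by
    rw [show p ^ 2 - 1 = p ^ 2 - 1 ^ 2 by norm_num, Nat.sq_sub_sq]
  have hpE : (Nat.card E).Coprime p := by
    rw [Nat.coprime_comm, hp.out.coprime_iff_not_dvd]
    intro h
    have h1 : p ∣ p ^ 2 - (p ^ 2 - 1) := Nat.dvd_sub (dvd_pow_self p two_ne_zero) (h.trans hdvd)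
    rw [show p ^ 2 - (p ^ 2 - 1) = 1 by have : 1 ≤ p ^ 2 := Nat.one_le_pow _ _ hp.out.pos; omega] at h1
    exact hp.out.not_dvd_one h1
  -- `E` is abelian
  have hab : ∀ e ∈ E, ∀ e' ∈ E, e * e' = e' * e := by
    have := hsolv
    letI : CommGroup A := { (inferInstance : Group A) with
      mul_comm := fun a b => hAe.1.1.1 a b }
    have key := OddOrder41.commutator_pow_acts_trivially (W := A) hp2
      (fun w => Subtype.ext (hAe.2 w w.2)) hA2.le hodd (OddOrder41.conjHom A E hEA)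
    intro e he e' he'
    have hc : ⁅(⟨e, he⟩ : E), ⟨e', he'⟩⁆ ∈ commutator E :=
      Subgroup.commutator_mem_commutator (Subgroup.mem_top _) (Subgroup.mem_top _)
    set c : E := ⁅(⟨e, he⟩ : E), ⟨e', he'⟩⁆ with hcdef
    have h1 := congrArg Subtype.val (DFunLike.congr_fun (key c hc) ⟨y, hy⟩)
    rw [OddOrder41.conjHom_apply, MulAut.one_apply] at h1
    have h2 : c ^ p = 1 := Subtype.ext (hline _ (c ^ p).2 (by
      rw [h1]; exact Subgroup.mem_zpowers y))
    have h3 : c = 1 := by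
      refine orderOf_eq_one_iff.mp (Nat.eq_one_of_dvd_coprimes hpE (orderOf_dvd_natCard c) ?_)
      exact orderOf_dvd_of_pow_eq_one h2
    rw [hcdef] at h3
    have h4 : (⟨e, he⟩ : E) * ⟨e', he'⟩ = ⟨e', he'⟩ * ⟨e, he⟩ :=
      commutatorElement_eq_one_iff_mul_comm.mp h3
    exact congrArg Subtype.val h4
  by_cases hc : (Nat.card E).Coprime (p - 1)
  · obtain ⟨m, hm⟩ : Nat.card E ∣ p + 1 := hc.dvd_of_dvd_mul_right (hfac ▸ hdvd)
    have hp' := hp.out.odd_of_ne_two hp2
    rcases m with _ | _ | m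
    · omega
    · have : Odd (p + 1) := by rw [hm]; simpa using hodd
      exact absurd this (Nat.not_odd_iff_even.mpr hp'.add_one)
    · rw [hm]; nlinarith
  obtain ⟨r, hr, hrE, hrp⟩ := Nat.Prime.not_coprime_iff_dvd.mp hc
  have := Fact.mk hr
  have hr2 : r ≠ 2 := fun h => by
    have := hodd.of_dvd_nat hrE
    rw [h, Nat.odd_iff] at this
    omega
  obtain ⟨⟨d, hd⟩, hdo⟩ := exists_prime_orderOf_dvd_card' (G := E) r hrE
  rw [Subgroup.orderOf_mk] at hdo
  have hd1 : d ≠ 1 := fun h => hr.ne_one (by rw [← hdo, h, orderOf_one])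
  obtain ⟨a, ha, ha1, hda⟩ := exists_fixed_line hAe hA2 hr2 hrp (hEA hd)
    (hdo ▸ pow_orderOf_eq_one d)
  by_cases hfix : ∀ e ∈ E, e * a * e⁻¹ ∈ Subgroup.zpowers a
  · have hEX : E ≤ Subgroup.normalizer (Subgroup.zpowers a : Set G) := fun e he => by
      refine Subgroup.mem_normalizer_fintype ?_
      intro x hx
      obtain ⟨i, rfl⟩ := Subgroup.mem_zpowers_iff.mp hx
      show e * a ^ i * e⁻¹ ∈ Subgroup.zpowers a
      rw [← conj_zpow]
      exact zpow_mem (hfix e he) i
    have h1 := card_dvd_of_fpf_conj hEX fun e he he1 x hx hc' =>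
      hfpf e he he1 x (Subgroup.zpowers_le.mpr ha hx) hc'
    rw [card_zpowers_of_exp hAe ha ha1] at h1
    obtain ⟨m, hm⟩ := h1
    have hp' := hp.out.odd_of_ne_two hp2
    have h2 := hp.out.two_le
    rcases m with _ | _ | m
    · omega
    · have : Odd (p - 1) := by rw [hm]; simpa using hodd
      obtain ⟨j, hj⟩ := hp'
      obtain ⟨i, hi⟩ := this
      omega
    · have h3 : p = Nat.card E * (m + 1 + 1) + 1 := by omega
      rw [h3]; nlinarith
  -- two fixed lines with one eigenvalue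
  push Not at hfix
  obtain ⟨e, he, hea⟩ := hfix
  set b := e * a * e⁻¹ with hb
  obtain ⟨s, hs⟩ := Subgroup.mem_zpowers_iff.mp hda
  have hbA : b ∈ A := (Subgroup.mem_normalizer_iff.mp (hEA he) a).mp ha
  have hdb : d * b * d⁻¹ = b ^ s := by
    calc d * b * d⁻¹ = (d * e) * a * (d * e)⁻¹ := by rw [hb]; group
      _ = (e * d) * a * (e * d)⁻¹ := by rw [hab d hd e he]
      _ = e * (d * a * d⁻¹) * e⁻¹ := by group
      _ = b ^ s := by rw [← hs, hb, conj_zpow]
  let T : Subgroup G :=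
    { carrier := {x | x ∈ A ∧ d * x * d⁻¹ = x ^ s}
      one_mem' := ⟨A.one_mem, by simp⟩
      mul_mem' := fun {x z} hx hz => ⟨A.mul_mem hx.1 hz.1, by
        have hxz : Commute x z := OddOrder.elemAb_commute hAe hx.1 hz.1
        rw [hxz.mul_zpow, ← hx.2, ← hz.2]; group⟩
      inv_mem' := fun {x} hx => ⟨A.inv_mem hx.1, by rw [inv_zpow, ← hx.2]; group⟩ }
  have hlt : Subgroup.zpowers a < T := by
    refine lt_of_le_not_ge (Subgroup.zpowers_le.mpr ⟨ha, hs.symm⟩) fun h => hea (h ⟨hbA, hdb⟩)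
  have hTA : T = A := by
    have hTle : T ≤ A := fun x hx => hx.1
    obtain ⟨k, hk, hTc⟩ := (Nat.dvd_prime_pow hp.out).mp (hA2 ▸ Subgroup.card_dvd_of_le hTle)
    refine Subgroup.eq_of_le_of_card_ge hTle (hA2 ▸ hTc ▸ Nat.pow_le_pow_right hp.out.pos ?_)
    by_contra hk2
    have h1 : Nat.card T ≤ Nat.card (Subgroup.zpowers a) := by
      rw [card_zpowers_of_exp hAe ha ha1, hTc]
      calc p ^ k ≤ p ^ 1 := Nat.pow_le_pow_right hp.out.pos (by omega)
        _ = p := pow_one p
    exact hlt.ne (Subgroup.eq_of_le_of_card_ge hlt.le h1)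
  have hyT : y ∈ T := by rw [hTA]; exact hy
  exact absurd (hline d hd (hyT.2 ▸ zpow_mem (Subgroup.mem_zpowers y) s)) hd1

end CfsgLib.PF.Sec12
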