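import Mathlib
import Cfsg.Agent.Lib.PF.Props8
import Cfsg.Agent.Lib.PF.Props10
import Cfsg.Agent.Lib.PF.Props12
import Cfsg.Agent.Lib.PF.Sec13Facts
import Cfsg.Agent.Lib.PF.Sec12Plane
import Cfsg.Agent.Lib.PF.TypeOneCoherence
import Cfsg.Agent.Lib.OddOrder42.Main16
import Cfsg.Agent.Lib.OddOrder42.Types16
import Cfsg.Agent.Lib.OddOrder38.Main1431
import Cfsg.Agent.Lib.OddOrder38.Main1436
import Cfsg.Agent.Lib.OddOrder38.Cycle14
import Cfsg.Agent.Lib.OddOrder.Sigma12Regular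
import Cfsg.Agent.Lib.OddOrder.NoncyclicAction
import Cfsg.Agent.Lib.Tech46.CoprimeGen

/-!
# Peterfalvi (12.7): the group theory

A subgroup of Type I which is not a Frobenius group has a prime in `τ₂`; for the least such prime this
gives the configuration `Config` that is refuted by character theory.
-/

set_option autoImplicit false
set_option linter.unusedSectionVars false
set_option linter.style.haveILetI false

namespace CfsgLib.PF.Sec12

open Subgroup CfsgLib.OddOrder CfsgLib.OddOrder.Transitivity CfsgLib.OddOrder38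
open scoped commutatorElement

universe u

variable {G : Type u} [Group G] [Finite G] (hG : Cfsg.IsMinSimpleOddOrder G)
  {L : Subgroup G} (hL : IsCoatom L) (hI : OfTypeI L)

include hG hL hI in
/-- A subgroup of Type I has no `κ`-prime. -/
theorem kappa_eq_empty (r : ℕ) : r ∉ Cfsg.kappa L := by
  obtain ⟨K, U, hKU⟩ := OddOrder42.exists_decomp' hG hL
  have hK : K = ⊥ := by
    by_contra hK1
    obtain ⟨V, hP⟩ := OddOrder42.exists_typeP hG (OddOrder42.inputs16 hG) hL hKU hK1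
    exact OddOrder42.not_typeF_of_typeP hG (OddOrder42.inputs16 hG) hL hP hI.1
  intro hr
  refine hKU.hall.2.2 r hr.1 hr ?_
  rw [hK, Subgroup.relIndex_bot_left]
  exact hr.2.1

include hG hL hI in
/-- For Type I, `M_F = M_σ`. -/
theorem fittingHall_eq_sigma : Cfsg.fittingHallOf L = Cfsg.sigmaCore L := by
  obtain ⟨K, U, hKU⟩ := OddOrder42.exists_decomp' hG hL
  refine OddOrder42.fittingHallOf_eq_of_bot hG (OddOrder42.inputs16 hG) hL hKU ?_
  by_contra hK1
  obtain ⟨r, hr, hd⟩ := Nat.exists_prime_and_dvd (n := Nat.card K)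
    fun h => hK1 (Subgroup.card_eq_one.mp h)
  exact kappa_eq_empty hG hL hI r (hKU.hall.2.1 r hr hd)

include hG hL hI in
/-- A `σ'`-element fixing a non-identity element of `M_F` is a `τ₂`-element, with a centralizer in `L`. -/
theorem tau2_centralizer {w z : G} (hw : w ∈ Cfsg.fittingHallOf L) (hw1 : w ≠ 1) (hz : z ∈ L)
    (hz1 : z ≠ 1) (hzw : Commute z w) (hσ : ∀ r : ℕ, r.Prime → r ∣ orderOf z → r ∉ Cfsg.sigma L) :
    (∀ r : ℕ, r.Prime → r ∣ orderOf z → r ∈ Cfsg.tau2 L) ∧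
      Subgroup.centralizer ({z} : Set G) ≤ L ∧
      ∀ L' : Subgroup G, IsCoatom L' → Subgroup.centralizer ({z} : Set G) ≤ L' → L' = L := by
  rw [fittingHall_eq_sigma hG hL hI] at hw
  rcases sigma_element_centralizer_dichotomy hG (OddOrder41.Hall14.inputs hG) L hL w hw hw1 z
      ⟨hz, Subgroup.mem_centralizer_singleton_iff.mpr hzw⟩ hz1 hσ with ⟨hκ, -⟩ | ⟨hτ, -, hC, hu⟩
  · obtain ⟨r, hr, hd⟩ := Nat.exists_prime_and_dvd (n := orderOf z)
      fun h => hz1 (orderOf_eq_one_iff.mp h)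
    exact absurd (hκ r hr hd) (kappa_eq_empty hG hL hI r)
  · exact ⟨hτ, hC, hu⟩

include hG hL hI in
/-- An element off `M_F` has a non-identity `σ'`-power. -/
theorem exists_power_of_off {x : G} (hx : x ∈ L) (hxF : x ∉ Cfsg.fittingHallOf L) :
    ∃ z ∈ Subgroup.zpowers x, z ≠ 1 ∧ ∀ r : ℕ, r.Prime → r ∣ orderOf z → r ∉ Cfsg.sigma L := by
  obtain ⟨a, b, he, ha, hb, hap, hbp⟩ := OddOrder42.exists_parts (Cfsg.sigma L) x
  refine ⟨b, hb, fun hb1 => hxF ?_, hbp⟩
  rw [fittingHall_eq_sigma hG hL hI, he, hb1, mul_one]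
  refine le_sigmaCore hG hL (Subgroup.zpowers_le.mpr (Subgroup.zpowers_le.mpr hx ha)) ?_
    (Subgroup.mem_zpowers a)
  intro r hr hd
  rw [Nat.card_zpowers] at hd
  exact hap r hr hd

include hG hL hI in
/-- Outside `M_F`, an element of `A(L)` has its centralizer in `L`. -/
theorem centralizer_le_of_off {x w : G} (hx : x ∈ L) (hxF : x ∉ Cfsg.fittingHallOf L)
    (hw : w ∈ Cfsg.fittingHallOf L) (hw1 : w ≠ 1) (hxw : Commute x w) :
    Subgroup.centralizer ({x} : Set G) ≤ L := by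
  obtain ⟨z, hz, hz1, hσ⟩ := exists_power_of_off hG hL hI hx hxF
  obtain ⟨i, rfl⟩ := Subgroup.mem_zpowers_iff.mp hz
  refine le_trans (fun c hc => ?_)
    (tau2_centralizer hG hL hI hw hw1 (Subgroup.zpowers_le.mpr hx hz) hz1 (hxw.zpow_left i) hσ).2.1
  rw [Subgroup.mem_centralizer_singleton_iff] at hc ⊢
  exact ((show Commute c x from hc).zpow_right i).eq

include hG hL hI in
/-- Without `τ₂`-primes, Type I means Frobenius. -/
theorem isFrobF_of_tau2 (h : ∀ r, r ∉ Cfsg.tau2 L) : IsFrobF L := by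
  intro w hw hw1 x hx
  obtain ⟨hxL, hxc⟩ := Subgroup.mem_inf.mp hx
  by_contra hxF
  obtain ⟨z, hz, hz1, hσ⟩ := exists_power_of_off hG hL hI hxL hxF
  obtain ⟨i, rfl⟩ := Subgroup.mem_zpowers_iff.mp hz
  obtain ⟨r, hr, hd⟩ := Nat.exists_prime_and_dvd (n := orderOf (x ^ i))
    fun h => hz1 (orderOf_eq_one_iff.mp h)
  exact h r ((tau2_centralizer hG hL hI hw hw1 (Subgroup.zpowers_le.mpr hxL hz) hz1
    ((show Commute x w from Subgroup.mem_centralizer_singleton_iff.mp hxc).zpow_left i) hσ).1 r hr hd)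

include hG hL hI in
/-- `M_F` of a Frobenius subgroup of Type I has a fixed-point-free complement. -/
theorem exists_frob_compl (hF : IsFrobF L) : ∃ E : Subgroup L, E ≠ ⊥ ∧
    Subgroup.IsComplement' (Cfsg.fittingHall L) E ∧
    ∀ e ∈ E, e ≠ 1 → ∀ x ∈ Cfsg.fittingHall L, e * x = x * e → x = 1 := by
  obtain ⟨-, -, -, -, E, hE1, hE, -⟩ := hI.1
  refine ⟨E, hE1, hE, fun e he he1 x hx hex => ?_⟩
  by_contra hx1
  have h1 : (e : G) ∈ Cfsg.fittingHallOf L :=
    hF x (Subgroup.mem_map_of_mem _ hx) (fun h => hx1 (Subtype.ext h))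
      ⟨e.2, Subgroup.mem_centralizer_singleton_iff.mpr (congrArg Subtype.val hex)⟩
  rw [← Subgroup.mem_subgroupOf, fittingHallOf_subgroupOf] at h1
  exact he1 (Subgroup.mem_bot.mp (hE.disjoint.le_bot ⟨h1, he⟩))

/-- The configuration: `L` not Frobenius, `y` of order `p ∈ τ₂(L)` in the kernel of the Frobenius `M`. -/
structure Config (L M : Subgroup G) (p : ℕ) (y : G) : Prop where
  prime : p.Prime
  L_max : IsCoatom L
  M_max : IsCoatom M
  L_I : OfTypeI L
  M_I : OfTypeI M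
  frob : IsFrobF M
  sigma_disj : ∀ r ∈ Cfsg.sigma M, r ∉ Cfsg.sigma L
  y_M : y ∈ Cfsg.fittingHallOf M
  y_L : y ∈ L
  y_order : orderOf y = p
  y_off : y ∉ Cfsg.fittingHallOf L
  p_H : ¬ p ∣ Nat.card (Cfsg.fittingHallOf L)
  C_le : Subgroup.centralizer ({y} : Set G) ≤ L
  C_not_le : ¬ Cfsg.fittingHallOf L ⊓ Subgroup.centralizer ({y} : Set G) ≤
    ⁅Cfsg.fittingHallOf L, Cfsg.fittingHallOf L⁆
  R_eq : Cfsg.supportR M y = Cfsg.fittingHallOf L ⊓ Subgroup.centralizer ({y} : Set G)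
  p_sq : p ^ 2 ≤ Nat.card (Cfsg.fittingHallOf M)
  index_le : (Cfsg.fittingHallOf L).relIndex L ≤ Nat.card (Cfsg.fittingHallOf M)
  e_le : 2 * (Cfsg.fittingHallOf M).relIndex M ≤ p + 1
  e_ge : 3 ≤ (Cfsg.fittingHallOf M).relIndex M

variable {p : ℕ} [hp : Fact p.Prime]

include hG hL in
/-- Some point of the plane has fixed points outside `H'`. -/
theorem exists_not_le {A : Subgroup G} (hAe : Cfsg.IsElementaryAbelian p A)
    (hA2 : Nat.card A = p ^ 2) (hAL : A ≤ L) (hnil : Group.IsNilpotent (Cfsg.sigmaCore L))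
    (hpS : ¬ p ∣ Nat.card (Cfsg.sigmaCore L)) :
    ∃ y ∈ A, y ≠ 1 ∧ ¬ Cfsg.sigmaCore L ⊓ Subgroup.centralizer ({y} : Set G) ≤
      ⁅Cfsg.sigmaCore L, Cfsg.sigmaCore L⁆ := by
  by_contra hcon
  push Not at hcon
  obtain ⟨s, hs, hs1⟩ := (Subgroup.bot_or_exists_ne_one A).resolve_left fun h => by
    rw [h, Subgroup.card_bot] at hA2
    exact hp.out.one_lt.ne' (Nat.pow_left_injective two_ne_zero (by simpa using hA2.symm))
  obtain ⟨t, ht, hts⟩ := SetLike.not_le_iff_exists.mp fun h : A ≤ Subgroup.zpowers s => by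
    have h1 := Subgroup.card_le_of_le h
    rw [hA2, Nat.card_zpowers, orderOf_eq_prime (hAe.2 s hs) hs1] at h1
    have := hp.out.two_le
    nlinarith
  have hn : A ≤ Subgroup.normalizer (Cfsg.sigmaCore L : Set G) := hAL.trans (piCoreOf_normal _ _)
  have hle : Cfsg.sigmaCore L ≤ ⁅Cfsg.sigmaCore L, Cfsg.sigmaCore L⁆ := by
    refine Tech46.nilpotent_le_of_centralizers_le s t (hAe.2 s hs) (hAe.2 t ht)
      (OddOrder.elemAb_commute hAe hs ht) _ _ hpS hnil (hn hs) (hn ht) fun i j hij => ?_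
    refine hcon _ (mul_mem (pow_mem hs _) (pow_mem ht _)) ?_
    rcases hij with ⟨-, rfl⟩ | ⟨rfl, rfl⟩
    · rw [pow_one]
      intro h
      rw [eq_inv_of_mul_eq_one_right h] at hts
      exact hts (inv_mem (pow_mem (Subgroup.mem_zpowers s) i))
    · rwa [pow_one, pow_zero, mul_one]
  have hS1 := Sigma15.sigmaCore_ne_bot hG hL
  have := minSimple_solvable hG (fun h => hL.1 (top_le_iff.mp (h ▸ sigmaCore_le L)) :
    Cfsg.sigmaCore L ≠ ⊤)
  haveI : Nontrivial (Cfsg.sigmaCore L) := (Subgroup.nontrivial_iff_ne_bot _).mpr hS1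
  refine (Group.IsSolvable.commutator_lt_top_of_nontrivial (Cfsg.sigmaCore L)).ne ?_
  rw [eq_top_iff, ← Subgroup.map_le_map_iff_of_injective (Cfsg.sigmaCore L).subtype_injective,
    Subgroup.map_subtype_commutator, ← MonoidHom.range_eq_map, Subgroup.range_subtype]
  exact hle

variable [Fintype G] (hT : PropTypes G) (hV : PropNoTypeV G) (hIII : PropTypeIII G)

include hG hT hV hIII in
/-- A maximal `M` with `p ∈ σ(M)` and `C(y) ⊄ M`, `y` in a plane of `M_σ`, is of Type I. -/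
theorem typeI_of_plane {M : Subgroup G} (hM : IsCoatom M) {A : Subgroup G}
    (hAe : Cfsg.IsElementaryAbelian p A) (hA2 : Nat.card A = p ^ 2)
    (hAS : A ≤ Cfsg.sigmaCore M) (hpσ : p ∈ Cfsg.sigma M) {y : G} (hy : y ∈ A) (hy1ne : y ≠ 1)
    (hyM : ¬ Subgroup.centralizer ({y} : Set G) ≤ M) : OfTypeI M := by
  rcases (hT M hM).1 with h | ⟨W₁, U, W₂, d⟩
  · exact h
  exfalso
  have hJ := OddOrder42.inputs16 hG
  have hAM : A ≤ M := hAS.trans (sigmaCore_le M)
  have hTI : Cfsg.IsTISubset (Cfsg.fittingOf M : Set G) := (hV M W₁ U W₂ hM d).elim (·.TI) (·.TI)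
  by_cases hpF : p ∣ Nat.card (Cfsg.fittingHallOf M)
  · refine hyM fun c hc => ?_
    by_contra hcM
    have hyF : y ∈ Cfsg.fittingOf M := by
      refine OddOrder42.fittingHallOf_le_fitting M (OddOrder42.mem_of_coprime_relIndex
        (fittingHallOf_le M) (fittingHallOf_normal M) (hAM hy) ?_)
      refine Nat.Coprime.coprime_dvd_left (orderOf_dvd_of_pow_eq_one (hAe.2 y hy))
        (Nat.Coprime.coprime_dvd_left hpF (fittingHallOf_coprime_relIndex M))
    have hc' : c * y * c⁻¹ = y := by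
      rw [Subgroup.mem_centralizer_singleton_iff.mp hc, mul_inv_cancel_right]
    have hy1 := hTI c (by rw [Sec13.normalizer_fittingOf hG hM d]; exact hcM) y hyF (by
      show c * y * c⁻¹ ∈ (Cfsg.fittingOf M : Set G)
      rw [hc']; exact hyF)
    exact hy1ne hy1
  have hD : A ≤ ⁅M, M⁆ := hAS.trans (hJ.core M hM).2.2.1
  have hDM : (⁅M, M⁆ : Subgroup G) ≤ M := Subgroup.commutator_le_self M
  have := minSimple_solvable hG (fun h => hM.1 (top_le_iff.mp (h ▸ hDM)) : (⁅M, M⁆ : Subgroup G) ≠ ⊤)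
  obtain ⟨g, hg, hle⟩ := OddOrder41.exists_conj_into (π := {p}) d.U_compl.2.1
    (fun r _ hr hd => hpF (by
      rw [Set.mem_singleton_iff.mp hr] at hd
      rwa [IsComplIn.relIndex_left (OddOrder42.complIn_symm d.U_compl)] at hd)) hD
    (fun r hr hd => Set.mem_singleton_iff.mpr ((Nat.prime_dvd_prime_iff_eq hr hp.out).mp
      (hr.dvd_of_dvd_pow (hA2 ▸ hd))))
  set B := cj g A with hB
  have hBe : Cfsg.IsElementaryAbelian p B := by
    refine ⟨⟨⟨fun a b => Subtype.ext ?_⟩⟩, ?_⟩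
    · obtain ⟨a', ha', ha⟩ := a.2
      obtain ⟨b', hb', hb⟩ := b.2
      rw [Subgroup.coe_mul, Subgroup.coe_mul, ← ha, ← hb, ← map_mul, ← map_mul,
        OddOrder.elemAb_commute hAe ha' hb']
    · rintro _ ⟨a, ha, rfl⟩
      rw [← map_pow, hAe.2 a ha, map_one]
  have hB2 : Nat.card B = p ^ 2 := by rw [hB, card_cj, hA2]
  have hUM : U ≤ M := d.U_compl.2.1.trans hDM
  rcases hV M W₁ U W₂ hM d with h2 | h34
  · refine h2.normalizer_not_le ?_
    have hBP : B ≤ opCore p U := by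
      refine le_opCore hle (fun u hu => ?_) (isPGroup_of_elemAb hBe)
      refine Subgroup.mem_normalizer_iff.mpr fun b => ?_
      constructor
      · intro hb
        rwa [OddOrder.mul_comm_of_mem h2.U_comm hu (hle hb), mul_inv_cancel_right]
      · intro hb
        have h1 := OddOrder.mul_comm_of_mem h2.U_comm (U.inv_mem hu) (hle hb)
        have h3 : b = u⁻¹ * (u * b * u⁻¹) * u := by group
        rw [h3, h1, mul_assoc, inv_mul_cancel, mul_one]
        exact hb
    obtain ⟨E, hE⟩ := OddOrder41.exists_compl hG hM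
    refine (Sigma12.normalizer_le_normalizer_opCore p U).trans
      (((OddOrder41.Hall14.inputs hG).nilpotent M hM E hE).2.2.1 p _ hpσ (opCore_isPGroup p U)
        ((opCore_le p U).trans hUM) ?_)
    intro hcyc
    haveI := hcyc
    have hBc : IsCyclic B := Subgroup.isCyclic_of_le hBP
    have h1 := @IsCyclic.exponent_eq_card B _ hBc
    rw [hB2] at h1
    have h2' : Monoid.exponent B ∣ p :=
      Monoid.exponent_dvd_of_forall_pow_eq_one fun b => Subtype.ext (hBe.2 b b.2)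
    rw [h1] at h2'
    exact absurd (Nat.le_of_dvd hp.out.pos h2') (not_le.mpr (by have := hp.out.two_le; nlinarith))
  · obtain ⟨hUc, -, hFe, -, hreg, hgal, -⟩ := hIII M W₁ U W₂ hM h34
    have hF1 : Cfsg.fittingHallOf M ≠ ⊥ := (hJ.core M hM).1
    obtain ⟨r, hr, hrd⟩ := Nat.exists_prime_and_dvd (n := Nat.card (Cfsg.fittingHallOf M))
      fun h => hF1 (Subgroup.card_eq_one.mp h)
    have := Fact.mk hr
    have hUF : U ≤ Subgroup.normalizer (Cfsg.fittingHallOf M : Set G) :=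
      hUM.trans (fittingHallOf_normal M)
    let X : Subgroup G :=
      { carrier := {x | x ∈ Cfsg.fittingHallOf M ∧ x ^ r = 1}
        one_mem' := ⟨one_mem _, one_pow r⟩
        mul_mem' := fun {a b} ha hb => ⟨mul_mem ha.1 hb.1, by
          rw [(show Commute a b from OddOrder.mul_comm_of_mem hFe.1 ha.1 hb.1).mul_pow, ha.2, hb.2,
            mul_one]⟩
        inv_mem' := fun {a} ha => ⟨inv_mem ha.1, by rw [inv_pow, ha.2, inv_one]⟩ }
    have hnorm : ∀ Y : Subgroup G, (∀ u ∈ U, ∀ x ∈ Y, u * x * u⁻¹ ∈ Y) →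
        U ≤ Subgroup.normalizer (Y : Set G) := fun Y h u hu =>
      Subgroup.mem_normalizer_iff.mpr fun x => ⟨h u hu x, fun hx => by
        simpa [mul_assoc] using h u⁻¹ (inv_mem hu) _ hx⟩
    have hX : X = Cfsg.fittingHallOf M := by
      refine (hgal X bot_le (fun x hx => hx.1) (hnorm X fun u hu x hx =>
        ⟨(Subgroup.mem_normalizer_iff.mp (hUF hu) x).mp hx.1,
          by rw [conj_pow, hx.2, mul_one, mul_inv_cancel]⟩)).resolve_left ?_
      obtain ⟨⟨x, hx⟩, hxo⟩ := exists_prime_orderOf_dvd_card' (G := Cfsg.fittingHallOf M) r hrd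
      rw [Subgroup.orderOf_mk] at hxo
      intro h
      have h1 : x ∈ X := ⟨hx, hxo ▸ pow_orderOf_eq_one x⟩
      rw [h, Subgroup.mem_bot] at h1
      exact hr.ne_one (by rw [← hxo, h1, orderOf_one])
    have hFr : IsPGroup r (Cfsg.fittingHallOf M) := fun x =>
      ⟨1, by rw [pow_one]; exact Subtype.ext (hX.ge x.2).2⟩
    obtain ⟨b, hb, hb1, hne⟩ := CfsgLib.OddOrder.exists_fixed_of_card_sq (p := p)
      (fun h : r = p => hpF (h ▸ hrd)) hBe hB2 ((hle.trans hUF)) hFr hF1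
    have hfix := (hgal _ bot_le inf_le_left (hnorm _ fun u hu x hx => by
      obtain ⟨hx1, hx2⟩ := Subgroup.mem_inf.mp hx
      refine ⟨(Subgroup.mem_normalizer_iff.mp (hUF hu) x).mp hx1,
        Subgroup.mem_centralizer_singleton_iff.mpr ?_⟩
      have hub : Commute u b := OddOrder.mul_comm_of_mem hUc hu (hle hb)
      exact ((hub.mul_left (show Commute x b from
        Subgroup.mem_centralizer_singleton_iff.mp hx2)).mul_left hub.inv_left).eq)).resolve_left hne
    have hbC : b ∈ U ⊓ Subgroup.centralizer (Cfsg.fittingHallOf M : Set G) :=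
      ⟨hle hb, Subgroup.mem_centralizer_iff.mpr fun x hx =>
        Subgroup.mem_centralizer_singleton_iff.mp (Subgroup.mem_inf.mp (hfix.ge hx)).2⟩
    rw [hreg, Subgroup.mem_bot] at hbC
    exact hb1 hbC

include hG hT hV hIII in
/-- **PF (12.7)**, group part. -/
theorem exists_config (h : ¬ ∀ L : Subgroup G, IsCoatom L → OfTypeI L → IsFrobF L) :
    ∃ (L M : Subgroup G) (p : ℕ) (y : G), Config L M p y := by
  classical
  have hex : ∃ p, ∃ L : Subgroup G, IsCoatom L ∧ OfTypeI L ∧ p ∈ Cfsg.tau2 L := by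
    by_contra hno
    push Not at hno
    exact h fun L hL hI => isFrobF_of_tau2 hG hL hI fun r => hno r L hL hI
  obtain ⟨L, hL, hI, hpτ⟩ := Nat.find_spec hex
  have hmin : ∀ N : Subgroup G, IsCoatom N → OfTypeI N → ∀ q ∈ Cfsg.tau2 N, Nat.find hex ≤ q :=
    fun N hN hNI q hq => Nat.find_le ⟨N, hN, hNI, hq⟩
  revert hpτ hmin
  generalize Nat.find hex = p
  intro hpτ hmin
  have := Fact.mk hpτ.1
  have hIn := OddOrder41.Hall14.inputs hG
  set S := Cfsg.sigmaCore L with hS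
  have hFS : Cfsg.fittingHallOf L = S := fittingHall_eq_sigma hG hL hI
  obtain ⟨E, hE⟩ := OddOrder41.exists_compl hG hL
  obtain ⟨A, hAE, hAe, hA2⟩ := exists_plane_compl hG hL hE hpτ
  have hAL : A ≤ L := hAE.trans hE.1
  obtain ⟨hnil, -, -, -, hint, -⟩ := hIn.tauTwo L hL p hpτ A ⟨hAL, hAe, hA2⟩
  obtain ⟨-, ⟨-, -, hNA⟩, -⟩ := hIn.tauTwoCompl L hL E hE p hpτ A ⟨hAE, hAe, hA2⟩
  have hpS : ¬ p ∣ Nat.card S := fun hd => hpτ.2.1 (piNat_card_piCoreOf _ L p hpτ.1 hd)
  obtain ⟨y, hy, hy1, hynot⟩ := exists_not_le hG hL hAe hA2 hAL hnil hpS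
  have hA1 : A ≠ ⊥ := fun h => hy1 (Subgroup.mem_bot.mp (h ▸ hy))
  obtain ⟨M, hM, hNM⟩ := exists_isCoatom_ge
    (minSimple_normalizer_ne_top hG hA1 (minSimple_pgroup_ne_top hG (isPGroup_of_elemAb hAe)))
  have hpσ : p ∈ Cfsg.sigma M := mem_sigma_of_normalizer_plane hG hIn.toLocal hL hM hpτ hAL hAe hA2 hNM
  have hML : M ≠ L := fun e => hNA (e ▸ hNM)
  have hAM : A ≤ M := Subgroup.le_normalizer.trans hNM
  have hAS : A ≤ Cfsg.sigmaCore M := le_sigmaCore hG hM hAM fun r hr hd => by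
    rwa [(Nat.prime_dvd_prime_iff_eq hr hpτ.1).mp (hr.dvd_of_dvd_pow (hA2 ▸ hd))]
  have hSM : S ⊓ M = ⊥ := hint M hM hML hAM
  have hyo : orderOf y = p := orderOf_eq_prime (hAe.2 y hy) hy1
  have hdis : ∀ r ∈ Cfsg.sigma M, r ∉ Cfsg.sigma L := fun r h1 h2 =>
    hpτ.2.1 (sigma_eq_of_sigma hIn.disjoint hM hL h1 h2 ▸ hpσ)
  obtain ⟨w, hw, hwn⟩ := SetLike.not_le_iff_exists.mp hynot
  obtain ⟨hwS, hwC⟩ := Subgroup.mem_inf.mp hw
  have hw1 : w ≠ 1 := fun e => hwn (e ▸ one_mem _)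
  have hCL := tau2_centralizer hG hL hI (hFS ▸ hwS) hw1 (hAL hy) hy1
    (show Commute y w from (Subgroup.mem_centralizer_singleton_iff.mp hwC).symm)
    (fun r hr hd => by rw [(Nat.prime_dvd_prime_iff_eq hr hpτ.1).mp (hyo ▸ hd)]; exact hpτ.2.1)
  have hyM : ¬ Subgroup.centralizer ({y} : Set G) ≤ M := fun hle =>
    hw1 (Subgroup.mem_bot.mp (hSM.le ⟨hwS, hle hwC⟩))
  obtain ⟨L', hL', honly, -, hnil', hcompl, -⟩ := centralizer_partner hG hIn hM (hAS hy) hy1 hyM
  have hLL : L = L' := (hCL.2.2 L' hL' honly.1).symm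
  subst hLL
  have hMI : OfTypeI M := typeI_of_plane hG hT hV hIII hM hAe hA2 hAS hpσ hy hy1 hyM
  have hτM : ∀ q, q ∉ Cfsg.tau2 M := fun q hq =>
    (tau2_lt_sigma hG hIn.toLocal hM hq hpσ (hasMaxPlane_of_tau2 hG hL hpτ)).not_ge (hmin M hM hMI q hq)
  have hFr : IsFrobF M := isFrobF_of_tau2 hG hM hMI hτM
  have hFM : Cfsg.fittingHallOf M = Cfsg.sigmaCore M := fittingHall_eq_sigma hG hM hMI
  have hMLS : M ⊓ L ≤ Cfsg.sigmaCore M := by
    refine le_sigmaCore hG hM inf_le_left fun r hr hd => ?_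
    by_contra hrσ
    have := Fact.mk hr
    have hrL : r ∉ Cfsg.sigma L := not_mem_sigma_of_compl hG hL hcompl hr hd
    have hrp : r ≠ p := fun e => hrσ (e ▸ hpσ)
    obtain ⟨⟨z, hz⟩, hzo⟩ := exists_prime_orderOf_dvd_card' (G := ↥(M ⊓ L)) r hd
    rw [Subgroup.orderOf_mk] at hzo
    have hz1 : z ≠ 1 := fun e => hr.ne_one (by rw [← hzo, e, orderOf_one])
    have hzσ : ∀ s : ℕ, s.Prime → s ∣ orderOf z → s ∉ Cfsg.sigma L := fun s hs hd' => by
      rw [(Nat.prime_dvd_prime_iff_eq hs hr).mp (hzo ▸ hd')]; exact hrL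
    have hrτ : r ∉ Cfsg.tau2 L := fun hrτ => by
      obtain ⟨N, hN, hsub⟩ := tau2_subset_sigma hG hIn.toLocal hL ⟨p, hpτ⟩
      exact hrσ (sigma_eq_of_sigma hIn.disjoint hN hM (hsub hpτ) hpσ ▸ hsub hrτ)
    have hfpf : S ⊓ Subgroup.centralizer ({z} : Set G) = ⊥ := by
      by_contra hne
      obtain ⟨v, hv, hv1⟩ := (Subgroup.bot_or_exists_ne_one _).resolve_left hne
      obtain ⟨hvS, hvC⟩ := Subgroup.mem_inf.mp hv
      exact hrτ ((tau2_centralizer hG hL hI (hFS ▸ hvS) hv1 (Subgroup.mem_inf.mp hz).2 hz1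
        (show Commute z v from (Subgroup.mem_centralizer_singleton_iff.mp hvC).symm) hzσ).1 r hr
          (hzo ▸ dvd_rfl))
    obtain ⟨c, hcA, hc1, hzc⟩ := Sigma12.exists_fixed_of_fpf hG hL hpτ hcompl
      (le_inf hAM hAL) hAe hA2 hrp hz hzo hfpf
    have h1 : z ∈ Cfsg.fittingHallOf M := hFr c (hFM ▸ hAS hcA) hc1
      ⟨(Subgroup.mem_inf.mp hz).1, Subgroup.mem_centralizer_singleton_iff.mpr hzc⟩
    exact hrσ (mem_sigma_of_mem_sigmaCore (hFM ▸ h1) hr (hzo ▸ dvd_rfl))
  obtain ⟨EM, hEM1, hEM, hEMfpf⟩ := exists_frob_compl hG hM hMI hFr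
  have he : (Cfsg.fittingHallOf M).relIndex M = Nat.card EM := by
    rw [Subgroup.relIndex, fittingHallOf_subgroupOf, hEM.symm.index_eq_card]
  have hEodd : Odd (Nat.card EM) := Odd.of_dvd_nat (minSimple_odd hG M) (Subgroup.card_subgroup_dvd_card EM)
  have hEge : 3 ≤ Nat.card EM := by
    rcases Nat.lt_or_ge (Nat.card EM) 3 with h3 | h3
    · exfalso
      rcases Nat.lt_or_ge (Nat.card EM) 2 with h2 | h2
      · exact hEM1 (Subgroup.card_eq_one.mp (le_antisymm (by omega) Nat.card_pos))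
      · rw [show Nat.card EM = 2 by omega] at hEodd
        exact absurd hEodd (by decide)
    · exact h3
  have hyK : y ∈ Cfsg.fittingHallOf M := hFM ▸ hAS hy
  have hp2 : p ≠ 2 := fun e => by
    have h1 : Odd (p ^ 2) := hA2 ▸ minSimple_odd hG A
    rw [e] at h1
    exact absurd h1 (by decide)
  have hE_le : 2 * Nat.card EM ≤ p + 1 := by
    rcases hMI.2 with hTI | ⟨hab, hrk, -⟩ | ⟨hexp, -⟩
    · exfalso
      refine hyM fun c hc => ?_
      by_contra hcM
      have hN : Subgroup.normalizer (Cfsg.fittingHallOf M : Set G) = M :=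
        normalizer_eq_of_isCoatom hG hM (fittingHallOf_le M) (fun h => hy1 (by
          rw [h] at hyK; exact Subgroup.mem_bot.mp hyK)) (fittingHallOf_normal M)
      refine hy1 (hTI c (by rw [hN]; exact hcM) y hyK ?_)
      show c * y * c⁻¹ ∈ (Cfsg.fittingHallOf M : Set G)
      rw [Subgroup.mem_centralizer_singleton_iff.mp hc, mul_inv_cancel_right]
      exact hyK
    · -- abelian of rank two
      have hAK : A ≤ Cfsg.fittingHallOf M := hFM ▸ hAS
      let X : Subgroup G :=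
        { carrier := {x | x ∈ Cfsg.fittingHallOf M ∧ x ^ p = 1}
          one_mem' := ⟨one_mem _, one_pow p⟩
          mul_mem' := fun {a b} ha hb => ⟨mul_mem ha.1 hb.1, by
            rw [(show Commute a b from OddOrder.mul_comm_of_mem hab ha.1 hb.1).mul_pow, ha.2, hb.2,
              mul_one]⟩
          inv_mem' := fun {a} ha => ⟨inv_mem ha.1, by rw [inv_pow, ha.2, inv_one]⟩ }
      have hXA : X = A := by
        refine (Subgroup.eq_of_le_of_card_ge (fun a ha => show a ∈ Cfsg.fittingHallOf M ∧ a ^ p = 1 from ⟨hAK ha, hAe.2 a ha⟩) ?_).symm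
        rw [hA2]
        have hXK : X ≤ Cfsg.fittingHallOf M := fun x hx => hx.1
        rw [← Nat.card_congr (Subgroup.subgroupOfEquivOfLe hXK).toEquiv]
        exact hrk p hpτ.1 (X.subgroupOf (Cfsg.fittingHallOf M))
          ⟨⟨fun a b => Subtype.ext (Subtype.ext (OddOrder.mul_comm_of_mem hab a.1.2 b.1.2))⟩⟩ fun a ha =>
            Subtype.ext (show (a : G) ∈ Cfsg.fittingHallOf M ∧ (a : G) ^ p = 1 from ha).2
      let E' : Subgroup G := EM.map M.subtype
      have hE'M : E' ≤ M := Subgroup.map_subtype_le _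
      have hEA : E' ≤ Subgroup.normalizer (A : Set G) := fun e he => by
        have hn := fittingHallOf_normal M (hE'M he)
        rw [← hXA]
        refine Subgroup.mem_normalizer_iff.mpr fun x => ?_
        show x ∈ Cfsg.fittingHallOf M ∧ x ^ p = 1 ↔
          e * x * e⁻¹ ∈ Cfsg.fittingHallOf M ∧ (e * x * e⁻¹) ^ p = 1
        rw [Subgroup.mem_normalizer_iff.mp hn x, conj_pow, mul_inv_eq_one, mul_eq_left]
      have hcard : Nat.card E' = Nat.card EM := Subgroup.card_map_of_injective M.subtype_injective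
      have := minSimple_solvable hG hM.1
      rw [← hcard]
      refine two_mul_card_le hp2 hAe hA2 hEA
        (minSimple_solvable hG fun h => hM.1 (top_le_iff.mp (h ▸ hE'M))) (hcard ▸ hEodd) ?_ hy ?_
      · rintro _ ⟨e, he, rfl⟩ he1 a ha hea
        have h1 := hEMfpf e he (fun h => he1 (by rw [h, map_one])) ⟨a, hAM ha⟩ (by
          rw [← fittingHallOf_subgroupOf]; exact hAK ha) (Subtype.ext hea)
        exact congrArg Subtype.val h1
      · rintro _ ⟨e, he, rfl⟩ hline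
        -- `e` normalizes `⟨y⟩`, so it lies in `L`
        obtain ⟨i, hi⟩ := Subgroup.mem_zpowers_iff.mp hline
        have hCe : Subgroup.centralizer ({y} : Set G) ≤ cj (e : G) L := by
          intro c hc
          refine mem_cj.mpr (hCL.2.1 ?_)
          rw [Subgroup.mem_centralizer_singleton_iff] at hc ⊢
          have h1 : Commute c ((e : G) * y * (e : G)⁻¹) := by
            have hi' : (e : G) * y * (e : G)⁻¹ = y ^ i := hi.symm
            rw [hi']; exact (show Commute c y from hc).zpow_right i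
          calc (e : G)⁻¹ * c * e * y = (e : G)⁻¹ * (c * ((e : G) * y * (e : G)⁻¹)) * e := by group
            _ = (e : G)⁻¹ * (((e : G) * y * (e : G)⁻¹) * c) * e := by rw [h1.eq]
            _ = y * ((e : G)⁻¹ * c * e) := by group
        have h2 : cj (e : G) L = L := hCL.2.2 _ (isCoatom_map_conj hL _) hCe
        have h3 : (e : G) ∈ M ⊓ L := ⟨e.2, mem_of_cj_eq hG hL h2⟩
        have h4 : e ∈ Cfsg.fittingHall M := by
          rw [← fittingHallOf_subgroupOf, Subgroup.mem_subgroupOf, hFM]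
          exact hMLS h3
        rw [Subgroup.mem_bot.mp (hEM.disjoint.le_bot ⟨h4, he⟩), map_one]
    · have h1 := hexp p hpτ.1 (hyo ▸ Subgroup.orderOf_dvd_natCard _ hyK)
      have h2 : Monoid.exponent (M ⧸ Cfsg.fittingHall M) = Monoid.exponent EM :=
        Monoid.exponent_eq_of_mulEquiv hEM.symm.QuotientMulEquiv
      rw [h2, exponent_eq_card_of_fpf (fun h => hy1 (by
        rw [Cfsg.fittingHallOf, h, Subgroup.map_bot] at hyK
        exact Subgroup.mem_bot.mp hyK)) hEodd hEMfpf] at h1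
      obtain ⟨m, hm⟩ := h1
      have := hpτ.1.two_le
      obtain ⟨j, hj⟩ := hpτ.1.odd_of_ne_two hp2
      obtain ⟨i, hi⟩ := hEodd
      rcases m with _ | _ | m
      · omega
      · omega
      · have : 2 * Nat.card EM ≤ p - 1 := by rw [hm]; nlinarith
        omega
  refine ⟨L, M, p, y, ⟨hpτ.1, hL, hM, hI, hMI, hFr, hdis, hyK, hAL hy, hyo, ?_, hFS ▸ hpS, hCL.2.1,
    hFS ▸ hynot, ?_, ?_, ?_, he ▸ hE_le, he ▸ hEge⟩⟩
  · intro hyF
    exact hy1 (Subgroup.mem_bot.mp (hSM.le ⟨hFS ▸ hyF, hAM hy⟩))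
  · rw [hFS, supportR_eq hG hL hyM honly hnil']
  · rw [hFM, ← hA2]
    exact Subgroup.card_le_of_le hAS
  · rw [hFS, hFM, IsComplIn.relIndex_left (OddOrder42.complIn_symm hcompl)]
    exact Subgroup.card_le_of_le hMLS

end CfsgLib.PF.Sec12
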