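import Mathlib
import Cfsg.Agent.Lib.PF.Sec12TypeI
import Cfsg.Agent.Lib.PF.Sec12LSide
import Cfsg.Agent.Lib.OddOrder42.Support16

/-!
# Peterfalvi (12.7): every subgroup of Type I is a Frobenius group
-/

set_option autoImplicit false
set_option linter.style.haveILetI false
set_option linter.unusedSectionVars false

namespace CfsgLib.PF.Sec12

open scoped Classical ComplexConjugate
open Finset CfsgLib.Characters CfsgLib.OddChar

universe u

theorem isIntegral_natCast' (n : ℕ) : IsIntegral ℤ (n : ℂ) := by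
  simpa using isIntegral_algebraMap (R := ℤ) (A := ℂ) (x := (n : ℤ))

theorem isIntegral_intCast' (n : ℤ) : IsIntegral ℤ (n : ℂ) :=
  isIntegral_algebraMap (R := ℤ) (A := ℂ) (x := n)

/-- The final inequality has no solution. -/
theorem arith_false {p e k c d : ℤ} (he : 3 ≤ e) (hep : 2 * e ≤ p + 1) (hk : p ^ 2 ≤ k)
    (hdvd : p ∣ d - c - e) (h : 4 * c ^ 2 * (k - 1) + 3 * d ^ 2 * e < 4 * e ^ 2 + 8 * c * e) :
    False := by
  by_cases hc : c = 0
  · subst hc
    obtain ⟨m, hm⟩ := hdvd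
    have hd1 : e - 1 ≤ |d| := by
      rcases lt_trichotomy m 0 with h' | h' | h'
      · have : p * m ≤ p * (-1) := Int.mul_le_mul_of_nonneg_left (by omega) (by omega)
        have h2 : d ≤ e - p := by linarith
        have := neg_le_abs d
        linarith
      · subst h'
        have := le_abs_self d
        linarith
      · have : p * 1 ≤ p * m := Int.mul_le_mul_of_nonneg_left (by omega) (by omega)
        have h2 : e + p ≤ d := by linarith
        have := le_abs_self d
        linarith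
    have h2 : (e - 1) ^ 2 ≤ d ^ 2 := by
      rw [← sq_abs d]; exact pow_le_pow_left₀ (by linarith) hd1 2
    nlinarith [mul_le_mul_of_nonneg_right h2 (by linarith : (0 : ℤ) ≤ e), mul_nonneg
      (mul_nonneg (by linarith : (0 : ℤ) ≤ e) (by linarith : (0 : ℤ) ≤ e - 3))
      (by linarith : (0 : ℤ) ≤ e)]
  · have hc1 : 1 ≤ |c| := Int.one_le_abs hc
    have hp2 : (2 * e - 1) ^ 2 ≤ p ^ 2 := pow_le_pow_left₀ (by linarith) (by linarith) 2
    have hk1 : 4 * e ^ 2 - 4 * e ≤ k - 1 := by nlinarith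
    have h1 : 4 * c ^ 2 * (4 * e ^ 2 - 4 * e) ≤ 4 * c ^ 2 * (k - 1) :=
      Int.mul_le_mul_of_nonneg_left hk1 (by positivity)
    have h2 : c * e ≤ c ^ 2 * e := by
      refine mul_le_mul_of_nonneg_right ?_ (by linarith)
      rw [← sq_abs c]
      exact (le_abs_self c).trans (by nlinarith)
    have h3 : 4 * e ^ 2 ≤ c ^ 2 * (4 * e ^ 2) := le_mul_of_one_le_left (by positivity) (by
      rw [← sq_abs c]; nlinarith)
    have h4 : 0 ≤ 3 * d ^ 2 * e := mul_nonneg (by positivity) (by linarith)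
    have h5 : 0 < c ^ 2 := by positivity
    nlinarith [mul_pos h5 (by nlinarith : (0 : ℤ) < 12 * e ^ 2 - 24 * e)]

section Main

variable {G : Type u} [Group G] [Fintype G]

theorem supportR_mem_tildeSet {L : Subgroup G} {a u g x : G} (ha : a ∈ Cfsg.sigmaCore L) (ha1 : a ≠ 1)
    (hu : u ∈ Cfsg.supportR L a) (h : x * g * x⁻¹ = a * u) : g ∈ OddOrder38.tildeSet L :=
  ⟨x⁻¹, a, ha, ha1, u, hu, by rw [← h]; group⟩

variable (hG : Cfsg.IsMinSimpleOddOrder G) (hDade : PropDade G) (hCoh : PropTypeICoherent G)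

include hG hDade hCoh in
theorem false_of_config {L M : Subgroup G} {p : ℕ} {y : G} (cfg : Config L M p y) : False := by
  haveI := Fact.mk cfg.prime
  set H := Cfsg.fittingHall L with hH
  set K := Cfsg.fittingHall M with hK
  set A := suppA0 L with hA
  set AM := suppA0 M with hAM
  set R := Cfsg.supportR L with hR
  set RM := Cfsg.supportR M with hRM
  have hD : Cfsg.DadeHypothesis A L R := ((hDade L _ cfg.L_max) (Or.inr (Or.inr rfl))).2
  have hDM : Cfsg.DadeHypothesis AM M RM := ((hDade M _ cfg.M_max) (Or.inr (Or.inr rfl))).2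
  have hLmem : ∀ x : L, x ∈ H ↔ (x : G) ∈ Cfsg.fittingHallOf L := fun x => by
    rw [← Subgroup.mem_subgroupOf, OddOrder.fittingHallOf_subgroupOf]
  have hLA : ∀ x : L, (x : G) ∈ A ↔ x ≠ 1 ∧ ∃ w ∈ H, w ≠ 1 ∧ Commute x w := by
    intro x
    rw [hA, suppA0, suppA, if_pos cfg.L_I]
    constructor
    · rintro (⟨-, hx1, w, hw, hw1, hc⟩ | ⟨h, -⟩)
      · obtain ⟨w', hw', rfl⟩ := hw
        exact ⟨fun e => hx1 (by rw [e]; rfl), w', hw', fun e => hw1 (by rw [e, map_one]),
          Subtype.ext hc⟩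
      · exact absurd cfg.L_I h
    · rintro ⟨hx1, w, hw, hw1, hc⟩
      exact Or.inl ⟨x.2, fun e => hx1 (Subtype.ext e), w, Subgroup.mem_map_of_mem _ hw,
        fun e => hw1 (Subtype.ext e), congrArg Subtype.val hc.eq⟩
  have hMA : ∀ x : M, (x : G) ∈ AM ↔ x ∈ K ∧ x ≠ 1 := by
    intro x
    rw [hAM, suppA0, suppA, if_pos cfg.M_I, hK, ← mem_kernel_iff cfg.frob x]
    constructor
    · rintro (h | ⟨h, -⟩)
      · exact h
      · exact absurd cfg.M_I h
    · exact Or.inl
  have hsigL := fittingHall_eq_sigma hG cfg.L_max cfg.L_I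
  have hsigM := fittingHall_eq_sigma hG cfg.M_max cfg.M_I
  -- the kernel of `M`
  obtain ⟨hirr, hcoh⟩ := hCoh M cfg.M_max cfg.M_I cfg.frob
  haveI : Group.IsNilpotent K := OddOrder.fittingHall_isNilpotent
  obtain ⟨ψ, c, θ, hM⟩ := exists_mData (K := K) hDM hMA (OddOrder.minSimple_odd hG M) cfg.M_I.1.2.2.1
    inferInstance (fun χ hχ => by convert hirr χ (by unfold calI; convert hχ)) (by
      unfold calI tau at hcoh; convert hcoh)
  -- disjointness of the supports
  have htilde : ∀ g, g ∈ OddOrder38.tildeSet L → g ∈ OddOrder38.tildeSet M → False :=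
    fun g h h' => Set.disjoint_left.mp (OddOrder38.tildeSet_disjoint hG
      (OddOrder41.Hall14.inputs hG) cfg.M_max cfg.L_max cfg.sigma_disj) h' h
  have hsuppM : ∀ g, g ∈ dadeSupp AM RM → g ∈ OddOrder38.tildeSet M := by
    rintro g ⟨a, ha, u, hu, x, e⟩
    obtain ⟨haK, ha1⟩ := (hMA ⟨a, hDM.subset ha⟩).mp ha
    exact supportR_mem_tildeSet (hsigM ▸ Subgroup.mem_map_of_mem _ haK : a ∈ Cfsg.sigmaCore M)
      (fun h => ha1 (Subtype.ext h)) hu e
  -- the complement in `L`
  obtain ⟨-, -, -, -, U, hU1, hUc, ⟨U₁, -, -, hU₁, hcent⟩, U₀, hU₀U, hU₀e, hU₀f⟩ := cfg.L_I.1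
  have hcop : (Nat.card H).Coprime (Nat.card U) := by
    rw [← hUc.symm.index_eq_card]; exact OddOrder.fittingHall_coprime_index
  have hc : LCtx A L R H ψ := by
    refine ⟨hD, hLA, OddOrder.minSimple_odd hG L, ⟨U, hUc, hcop, ?_⟩, ?_, hM.signed, hM.conj_orth, ?_⟩
    · intro a ha b hb ha' hb'
      have key : ∀ a ∈ U, H ⊓ Subgroup.centralizer ({a} : Set L) ≠ ⊥ → a ∈ U₁ := by
        intro a ha h
        obtain ⟨w, hw, hw1⟩ := (Subgroup.bot_or_exists_ne_one _).resolve_left h
        exact hcent w hw.1 hw1 ⟨ha, Subgroup.mem_centralizer_singleton_iff.mpr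
          (Subgroup.mem_centralizer_singleton_iff.mp hw.2).symm⟩
      exact OddOrder.mul_comm_of_mem hU₁ (key a ha ha') (key b hb hb')
    · intro x hxA hxH
      obtain ⟨-, w, hw, hw1, hxw⟩ := (hLA x).mp hxA
      exact OddOrder42.supportR_eq_bot (centralizer_le_of_off hG cfg.L_max cfg.L_I x.2
        (fun h => hxH ((hLmem x).mpr h)) ((hLmem w).mp hw) (fun h => hw1 (Subtype.ext h))
        (congrArg Subtype.val hxw.eq))
    · intro α hα hsupp
      rw [Cfsg.classInner, Finset.sum_eq_zero, mul_zero]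
      intro g _
      by_contra hne
      obtain ⟨h1, h2⟩ := mul_ne_zero_iff.mp hne
      have hg : g ∈ dadeSupp A R := by_contra fun h => h1 (dadeIsometry_of_not_mem h)
      have hg' : g ∈ dadeSupp AM RM := by
        by_contra h
        refine h2 ?_
        rw [hM.diff, dadeIsometry_of_not_mem h, map_zero]
      obtain ⟨a, ha, u, hu, x, e⟩ := hg
      rw [dadeIsometry_apply hD hα (a := ⟨a, hD.subset ha⟩) (x := x) ha hu e] at h1
      obtain ⟨haH, ha1⟩ := not_not.mp fun h => h1 (hsupp _ h)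
      exact htilde g (supportR_mem_tildeSet (hsigL ▸ (hLmem _).mp haH : a ∈ Cfsg.sigmaCore L)
        (fun h => ha1 (Subtype.ext h)) hu e) (hsuppM g hg')
  -- `y` and an invariant character
  set yL : L := ⟨y, cfg.y_L⟩ with hyL
  have hyo : orderOf yL = p := by rw [← Subgroup.orderOf_coe]; exact cfg.y_order
  have hy1 : y ≠ 1 := fun h => cfg.prime.ne_one (by rw [← cfg.y_order, h, orderOf_one])
  set B := Subgroup.zpowers yL with hB
  have hBcard : Nat.card B = p := by rw [hB, Nat.card_zpowers, hyo]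
  have hdisj : H ⊓ B = ⊥ := by
    refine (Subgroup.eq_bot_iff_forall _).mpr fun b hb => by_contra fun hb1 => ?_
    obtain ⟨hbH, hbB⟩ := Subgroup.mem_inf.mp hb
    refine cfg.y_off ((hLmem yL).mp ?_)
    have hle : Subgroup.zpowers b = B := by
      refine Subgroup.eq_of_le_of_card_ge (Subgroup.zpowers_le.mpr hbB) ?_
      rw [hBcard, Nat.card_zpowers]
      rcases (Nat.dvd_prime cfg.prime).mp (hBcard ▸ Subgroup.orderOf_dvd_natCard B hbB) with h | h
      · exact absurd (orderOf_eq_one_iff.mp h) hb1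
      · exact h.ge
    exact Subgroup.zpowers_le.mpr hbH (hle.ge (Subgroup.mem_zpowers yL))
  have hBc : ∀ a ∈ B, ∀ b ∈ B, a * b = b * a := by
    rintro _ ⟨i, rfl⟩ _ ⟨j, rfl⟩
    exact ((Commute.refl yL).zpow_zpow i j).eq
  have hpH : ¬ p ∣ Nat.card H := by
    rw [hH, ← OddOrder.card_fittingHallOf]; exact cfg.p_H
  obtain ⟨c₁, hc₁y, hc₁⟩ : ∃ c₁ : H, Commute (c₁ : L) yL ∧ c₁ ∉ commutator H := by
    obtain ⟨w, hw, hwn⟩ := SetLike.not_le_iff_exists.mp cfg.C_not_le
    obtain ⟨⟨w', hw', rfl⟩, hwC⟩ := Subgroup.mem_inf.mp hw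
    refine ⟨⟨w', hw'⟩, Subtype.ext (Subgroup.mem_centralizer_singleton_iff.mp hwC), fun h => hwn ?_⟩
    have h' : w' ∈ ⁅H, H⁆ := by
      rw [← Subgroup.map_subtype_commutator]; exact ⟨_, h, rfl⟩
    rw [Cfsg.fittingHallOf, ← Subgroup.map_commutator]
    exact Subgroup.mem_map_of_mem _ h'
  obtain ⟨lam₀, hlam₀⟩ := exists_hom_ne_one hc₁
  haveI : Fintype B := Fintype.ofFinite _
  set lam : H →* ℂˣ := ∏ b : B, lam₀.comp (MulAut.conjNormal (b : L)).toMonoidHom with hlamdef
  have hBs : B ≤ linStab lam := by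
    intro b hb h
    simp only [hlamdef, MonoidHom.finset_prod_apply, MonoidHom.coe_comp, MulEquiv.coe_toMonoidHom,
      Function.comp_apply]
    rw [← Equiv.prod_comp (Equiv.mulRight (⟨b, hb⟩ : B))
      (fun b' : B => lam₀ (MulAut.conjNormal (b' : L) h))]
    refine Finset.prod_congr rfl fun b' _ => ?_
    rw [Equiv.coe_mulRight, Subgroup.coe_mul, map_mul, MulAut.mul_apply]
  have hlam1 : lam ≠ 1 := by
    intro e
    have hfix : ∀ b : B, MulAut.conjNormal (b : L) c₁ = c₁ := fun b => by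
      obtain ⟨i, hi⟩ := Subgroup.mem_zpowers_iff.mp b.2
      refine Subtype.ext ?_
      rw [MulAut.conjNormal_apply, ← hi, ((hc₁y.zpow_right i).symm).eq, mul_inv_cancel_right]
    have h1 := DFunLike.congr_fun e c₁
    simp only [hlamdef, MonoidHom.finset_prod_apply, MonoidHom.coe_comp, MulEquiv.coe_toMonoidHom,
      Function.comp_apply, hfix, Finset.prod_const, Finset.card_univ, MonoidHom.one_apply,
      Fintype.card_eq_nat_card, hBcard] at h1
    refine hlam₀ (orderOf_eq_one_iff.mp (Nat.eq_one_of_dvd_coprimes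
      (cfg.prime.coprime_iff_not_dvd.mpr hpH) (orderOf_dvd_of_pow_eq_one h1) ?_))
    exact (orderOf_map_dvd lam₀ c₁).trans (orderOf_dvd_natCard c₁)
  -- four linear characters
  obtain ⟨u, hu, hu1⟩ := (Subgroup.bot_or_exists_ne_one U₀).resolve_left (by
    intro h
    have h1 : Monoid.exponent U₀ = 1 := by rw [h]; exact Monoid.exp_eq_one_of_subsingleton
    rw [hU₀e, Monoid.exp_eq_one_iff] at h1
    exact hU1 (Subgroup.eq_bot_of_subsingleton U))
  have hnot : ∀ v ∈ U₀, v ≠ 1 → v ∉ linStab lam := fun v hv hv1 h => fixed_ne_bot hlam1 h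
    ((Subgroup.eq_bot_iff_forall _).mpr fun w hw => hU₀f v hv hv1 w hw.1
      (Subgroup.mem_centralizer_singleton_iff.mp hw.2).symm)
  have hu2 : u * u ≠ 1 := by
    intro h
    have h2 : orderOf u ∣ 2 := orderOf_dvd_of_pow_eq_one (by rw [pow_two]; exact h)
    have h3 : Odd (orderOf u) := (OddOrder.minSimple_odd hG L).of_dvd_nat (orderOf_dvd_natCard u)
    rcases (Nat.dvd_prime Nat.prime_two).mp h2 with h4 | h4
    · exact hu1 (orderOf_eq_one_iff.mp h4)
    · rw [h4] at h3; exact absurd h3 (by decide)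
  set l₁ : H →* ℂˣ := lam.comp (MulAut.conjNormal u).toMonoidHom with hl₁
  set l₂ : H →* ℂˣ := lam.comp (MulAut.conjNormal (u * u)).toMonoidHom with hl₂
  have hne1 : l₁ ≠ 1 ∧ l₂ ≠ 1 := by
    have key : ∀ v : L, lam.comp (MulAut.conjNormal v).toMonoidHom ≠ 1 := fun v e => hlam1
      (MonoidHom.ext fun h => by
        simpa using DFunLike.congr_fun e ((MulAut.conjNormal v).symm h))
    exact ⟨key u, key (u * u)⟩
  have h01 : l₁ ≠ lam := fun e => hnot u hu hu1 fun h => DFunLike.congr_fun e h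
  have h02 : l₂ ≠ lam := fun e => hnot _ (mul_mem hu hu) hu2 fun h => DFunLike.congr_fun e h
  have h12 : l₂ ≠ l₁ := fun e => hnot u hu hu1 fun h => by
    have := DFunLike.congr_fun e ((MulAut.conjNormal u).symm h)
    simpa [hl₁, hl₂, map_mul] using this
  haveI : Fintype H := Fintype.ofFinite _
  obtain ⟨d, hd⟩ := exists_d hc hlam1
  have hnormL := rho_norm_ge hc hd (S := {1, lam, l₁, l₂}) (by simp) (by
    rw [Finset.card_insert_of_notMem, Finset.card_insert_of_notMem, Finset.card_insert_of_notMem,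
      Finset.card_singleton]
    · simpa using Ne.symm h12
    · simpa using And.intro (Ne.symm h01) (Ne.symm h02)
    · simpa using And.intro (Ne.symm hlam1) (And.intro (Ne.symm hne1.1) (Ne.symm hne1.2)))
  -- the congruence
  set φ : G → ℂ := fun g => conj (ψ g) with hφ
  have hφg : Cfsg.IsGeneralizedCharacter G φ := isGeneralizedCharacter_conj hM.signed.generalized
  have hψc := hM.signed.classFunction
  letI : MulAction B H := MulAction.compHom H ((MulAut.conjNormal (H := H)).comp B.subtype)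
  have hsmul : ∀ (b : B) (x : H), ((b • x : H) : L) = (b : L) * x * (b : L)⁻¹ := fun _ _ => rfl
  set C : Finset H := univ.filter (fun x : H => Commute (x : L) yL) with hC
  have hfixset : univ.filter (fun x : H => ∀ b : B, b • x = x) = C := by
    rw [hC]
    refine Finset.filter_congr fun x _ => ⟨fun h => ?_, fun h b => Subtype.ext ?_⟩
    · have h1 := congrArg Subtype.val (h ⟨yL, Subgroup.mem_zpowers yL⟩)
      rw [hsmul] at h1
      exact (mul_inv_eq_iff_eq_mul.mp h1).symm
    · obtain ⟨i, hi⟩ := Subgroup.mem_zpowers_iff.mp b.2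
      rw [hsmul, ← hi, ((h.zpow_right i).symm).eq, mul_inv_cancel_right]
  have hlaminv : ∀ (b : B) (x : H), lam (b • x) = lam x := fun b x => hBs b.2 x
  have hlamint : ∀ x : H, IsIntegral ℤ ((lam x : ℂ)) := fun x =>
    isIntegral_of_isCharacter (isCharacter_of_irr (linFun_irr lam)) x
  have hφint : ∀ g : G, IsIntegral ℤ (φ g) := isIntegral_generalized hφg
  set n := Nat.card G / p ^ (Nat.card G).factorization p with hn
  have hpn : ¬ p ∣ n := Nat.not_dvd_ordCompl cfg.prime Nat.card_pos.ne'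
  have hrp : ∀ x : L, (x : G) ∈ A → ¬ p ∣ Nat.card (R (x : G)) := by
    intro x hx hd'
    have hyA : y ∈ A := (hLA yL).mpr ⟨fun h => hy1 (congrArg Subtype.val h), c₁, c₁.2,
      fun h => hc₁ (by rw [show c₁ = 1 from Subtype.ext h]; exact one_mem _), hc₁y.symm⟩
    exact cfg.prime.ne_one (Nat.eq_one_of_dvd_coprimes (hD.coprime x hx y hyA) hd'
      (cfg.y_order ▸ Subgroup.orderOf_dvd_natCard _
        ⟨cfg.y_L, Subgroup.mem_centralizer_singleton_iff.mpr rfl⟩))
  set f₀ : H → ℂ := fun x => (1 - (lam x : ℂ)) * conj (rho A L R ψ x) with hf₀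
  have hf₀int : ∀ x : H, IsIntegral ℤ ((n : ℂ) * f₀ x) := by
    intro x
    by_cases hxA : ((x : L) : G) ∈ A
    · obtain ⟨m, hm⟩ : Nat.card (R ((x : L) : G)) ∣ n := by
        refine Nat.Coprime.dvd_of_dvd_mul_left
          ((cfg.prime.coprime_iff_not_dvd.mpr (hrp x hxA)).symm.pow_right ((Nat.card G).factorization p)) ?_
        rw [hn, Nat.ordProj_mul_ordCompl_eq_self]
        exact Subgroup.card_subgroup_dvd_card _
      have h0 : (Nat.card (R ((x : L) : G)) : ℂ) ≠ 0 := Nat.cast_ne_zero.mpr Nat.card_pos.ne'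
      simp only [hf₀]
      rw [rho_eq_sum hxA, map_mul, map_inv₀, Complex.conj_natCast, map_sum, hm, Nat.cast_mul]
      have e : ∀ a b : ℂ, (Nat.card (R ((x : L) : G)) : ℂ) * (m : ℂ) *
          (a * ((Nat.card (R ((x : L) : G)) : ℂ)⁻¹ * b)) = (m : ℂ) * (a * b) := fun a b => by
        field_simp
      rw [e]
      exact (isIntegral_natCast' m).mul ((isIntegral_one.sub (hlamint x)).mul
        (IsIntegral.sum _ fun u _ => hφint _))
    · simp only [hf₀]
      rw [rho, if_neg hxA, map_zero, mul_zero, mul_zero]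
      exact isIntegral_zero
  have hrhoc : Cfsg.IsClassFunction L (rho A L R ψ) := rho_isClassFunction hD hψc
  have hstep1 : CongEps p ((Nat.card H : ℂ) * d) (∑ x ∈ C, f₀ x) := by
    rw [← hd lam hlam1]
    refine CongEps.cancel_nat cfg.prime hpn ?_
    rw [Finset.mul_sum, Finset.mul_sum, ← hfixset]
    convert cong_sum_fixed cfg.prime hBcard (fun x : H => (n : ℂ) * f₀ x) (fun b x => ?_) hf₀int
    simp only [hf₀]
    rw [hlaminv b x, hsmul, hrhoc]
  have hstep2 : CongEps p (∑ x ∈ C, f₀ x)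
      (∑ x ∈ C, (1 - (lam x : ℂ)) * φ (((x : L) : G) * y)) := by
    refine CongEps.sum cfg.prime C fun x hx => ?_
    have hxy : Commute (x : L) yL := (mem_filter.mp hx).2
    have hxy' : Commute ((x : L) : G) y := congrArg Subtype.val hxy.eq
    by_cases hx1 : x = 1
    · refine CongEps.of_eq cfg.prime ?_
      simp [hf₀, hx1]
    refine CongEps.mul_left (isIntegral_one.sub (hlamint x)) ?_
    have hxA : ((x : L) : G) ∈ A := hc.mem_of_H x.2 fun h => hx1 (Subtype.ext h)
    set Rx := R ((x : L) : G) with hRx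
    have hn' : Subgroup.zpowers y ≤ Subgroup.normalizer (Rx : Set G) := by
      intro g hg
      refine Subgroup.mem_normalizer_fintype fun v hv => hD.conj_mem_H _ hxA g ?_ v hv
      obtain ⟨i, rfl⟩ := Subgroup.mem_zpowers_iff.mp hg
      exact Subgroup.mem_centralizer_singleton_iff.mpr ((hxy'.zpow_right i).symm).eq
    letI : MulAction (Subgroup.zpowers y) Rx :=
      MulAction.compHom Rx (OddOrder41.conjHom Rx (Subgroup.zpowers y) hn')
    have hs : ∀ (b : Subgroup.zpowers y) (v : Rx), ((b • v : Rx) : G) = (b : G) * v * (b : G)⁻¹ :=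
      fun _ _ => rfl
    have hPc : Nat.card (Subgroup.zpowers y) = p := by rw [Nat.card_zpowers, cfg.y_order]
    have hone : univ.filter (fun v : Rx => ∀ b : Subgroup.zpowers y, b • v = v) = {1} := by
      ext v
      simp only [mem_filter, mem_univ, true_and, Finset.mem_singleton]
      constructor
      · intro h
        have h1 := congrArg Subtype.val (h ⟨y, Subgroup.mem_zpowers y⟩)
        rw [hs] at h1
        have h2 : (v : G) * y = y * v := (mul_inv_eq_iff_eq_mul.mp h1).symm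
        exact Subtype.ext (Subgroup.mem_bot.mp ((hD.inf_eq_bot _ hxA).le
          ⟨v.2, cfg.C_le (Subgroup.mem_centralizer_singleton_iff.mpr h2),
            hD.le_centralizer _ hxA v.2⟩))
      · rintro rfl b
        exact Subtype.ext (by rw [hs]; simp)
    have hinv : ∀ (b : Subgroup.zpowers y) (v : Rx),
        φ (((x : L) : G) * ((b • v : Rx) : G)) = φ (((x : L) : G) * v) := by
      intro b v
      obtain ⟨i, hi⟩ := Subgroup.mem_zpowers_iff.mp b.2
      have hbx : Commute ((x : L) : G) (b : G) := hi ▸ hxy'.zpow_right i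
      rw [hs, ← isClassFunction_of_isGeneralizedCharacter hφg (((x : L) : G) * v) (b : G)]
      congr 1
      calc ((x : L) : G) * ((b : G) * v * (b : G)⁻¹) = (((x : L) : G) * b) * v * (b : G)⁻¹ := by group
        _ = ((b : G) * (x : L)) * v * (b : G)⁻¹ := by rw [hbx.eq]
        _ = _ := by group
    have h1 : CongEps p (∑ v : Rx, φ (((x : L) : G) * v))
        (∑ v ∈ ({1} : Finset Rx), φ (((x : L) : G) * v)) := by
      rw [← hone]
      convert cong_sum_fixed cfg.prime hPc (fun v : Rx => φ (((x : L) : G) * v)) hinv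
        fun v => hφint _
    rw [Finset.sum_singleton, OneMemClass.coe_one, mul_one] at h1
    have h2 : CongEps p (∑ v : Rx, (1 : ℂ)) (∑ v ∈ ({1} : Finset Rx), (1 : ℂ)) := by
      rw [← hone]
      convert cong_sum_fixed cfg.prime hPc (fun _ : Rx => (1 : ℂ)) (fun _ _ => rfl)
        fun _ => isIntegral_one
    rw [Finset.sum_singleton, Finset.sum_const, Finset.card_univ, nsmul_eq_mul, mul_one,
      Fintype.card_eq_nat_card] at h2
    have h2' := CongEps.mul_left (hφint ((x : L) : G)) h2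
    rw [mul_one, mul_comm] at h2'
    have hsum : (Nat.card Rx : ℂ) * conj (rho A L R ψ x) = ∑ v : Rx, φ (((x : L) : G) * v) := by
      rw [rho_eq_sum hxA, map_mul, map_inv₀, Complex.conj_natCast, ← mul_assoc,
        mul_inv_cancel₀ (Nat.cast_ne_zero.mpr Nat.card_pos.ne'), one_mul, map_sum]
      exact Finset.sum_subtype _ (fun v => by simp [hRx]) _
    have h3 : CongEps p (conj (rho A L R ψ x)) (φ ((x : L) : G)) := by
      refine CongEps.cancel_nat cfg.prime (hrp x hxA) ?_
      rw [← hRx, hsum]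
      exact CongEps.trans cfg.prime h1 (CongEps.symm h2')
    have h4 := cong_char hφg cfg.prime cfg.y_order hxy'.symm.eq
    rw [← hxy'.eq] at h4
    exact CongEps.trans cfg.prime h3 (CongEps.symm h4)
  have hstep3 : CongEps p (∑ x ∈ C, (lam x : ℂ) * φ (((x : L) : G) * y)) 0 := by
    have hz := twisted_sum_eq_zero hc hdisj hBc hlam1 hBs (b₀ := ⟨yL, Subgroup.mem_zpowers yL⟩)
      fun h => hy1 (congrArg (fun b : B => ((b : L) : G)) h)
    have hz' : ∑ x : H, (lam x : ℂ) * φ (((x : L) : G) * y) = 0 := hz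
    rw [← hz', ← hfixset]
    convert CongEps.symm (cong_sum_fixed cfg.prime hBcard
      (fun x : H => (lam x : ℂ) * φ (((x : L) : G) * y)) (fun b x => ?_)
      fun x => (hlamint x).mul (hφint _))
    rw [hlaminv b x, hsmul]
    congr 1
    rw [← isClassFunction_of_isGeneralizedCharacter hφg (((x : L) : G) * y) ((b : L) : G)]
    congr 1
    obtain ⟨i, hi⟩ := Subgroup.mem_zpowers_iff.mp b.2
    have hby : Commute ((b : L) : G) y := by
      rw [← hi]; exact congrArg Subtype.val ((Commute.refl yL).zpow_left i).eq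
    simp only [Subgroup.coe_mul, Subgroup.coe_inv]
    calc ((b : L) : G) * ((x : L) : G) * ((b : L) : G)⁻¹ * y
        = ((b : L) : G) * ((x : L) : G) * (((b : L) : G)⁻¹ * y) := by group
      _ = ((b : L) : G) * ((x : L) : G) * (y * ((b : L) : G)⁻¹) := by rw [hby.inv_left.eq]
      _ = _ := by group
  set yM : M := ⟨y, (OddOrder.fittingHallOf_le M) cfg.y_M⟩ with hyMdef
  have hyK : yM ∈ K ∧ yM ≠ 1 := by
    refine ⟨?_, fun h => hy1 (congrArg Subtype.val h)⟩
    rw [hK, ← OddOrder.fittingHallOf_subgroupOf]; exact cfg.y_M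
  have hrhoM := hM.shape yM hyK.1 hyK.2
  have hstep4 : ∑ x ∈ C, φ (((x : L) : G) * y) = (C.card : ℂ) * ((c : ℂ) + conj (θ yM)) := by
    have hyAM : (yM : G) ∈ AM := (hMA yM).mpr hyK
    have hbij : ∀ F : G → ℂ, ∑ x ∈ C, F ((x : L) : G) = ∑ v ∈ univ.filter (· ∈ RM y), F v := by
      intro F
      refine Finset.sum_bij (fun x _ => ((x : L) : G)) ?_ ?_ ?_ (fun _ _ => rfl)
      · intro x hx
        rw [mem_filter, hRM, cfg.R_eq]
        exact ⟨mem_univ _, (hLmem x).mp x.2, Subgroup.mem_centralizer_singleton_iff.mpr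
          (congrArg Subtype.val (mem_filter.mp hx).2.eq)⟩
      · exact fun a _ b _ h => Subtype.ext (Subtype.ext h)
      · intro v hv
        rw [mem_filter, hRM, cfg.R_eq] at hv
        obtain ⟨-, hvF, hvC⟩ := hv
        have hvL : v ∈ L := OddOrder.fittingHallOf_le L hvF
        exact ⟨⟨⟨v, hvL⟩, (hLmem _).mpr hvF⟩, mem_filter.mpr ⟨mem_univ _,
          Subtype.ext (Subgroup.mem_centralizer_singleton_iff.mp hvC)⟩, rfl⟩
    have hcard : (C.card : ℂ) = Nat.card (RM y) := by
      have := hbij fun _ => 1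
      rw [Finset.sum_const, Finset.sum_const, nsmul_eq_mul, nsmul_eq_mul, mul_one, mul_one] at this
      rw [this, Nat.card_eq_fintype_card, Fintype.card_subtype]
    have hr := congrArg (starRingEnd ℂ) hrhoM
    rw [rho_eq_sum hyAM, map_mul, map_inv₀, Complex.conj_natCast, map_sum, map_add, map_intCast] at hr
    rw [← hr, hcard, ← mul_assoc, mul_inv_cancel₀ (Nat.cast_ne_zero.mpr Nat.card_pos.ne'), one_mul]
    have e : ∀ v : G, φ (v * y) = φ (y * v) := fun v => by
      have := isClassFunction_of_isGeneralizedCharacter hφg (y * v) v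
      rw [← this]; congr 1; group
    rw [Finset.sum_congr rfl fun x _ => e _]
    exact hbij fun v => φ (y * v)
  have hhC : CongEps p (Nat.card H : ℂ) (C.card : ℂ) := by
    have h : CongEps p (∑ _x : H, (1 : ℂ)) (∑ _x ∈ C, (1 : ℂ)) := by
      rw [← hfixset]
      convert cong_sum_fixed cfg.prime hBcard (fun _ : H => (1 : ℂ)) (fun _ _ => rfl)
        fun _ => isIntegral_one
    rwa [Finset.sum_const, Finset.sum_const, Finset.card_univ, nsmul_eq_mul, nsmul_eq_mul,
      mul_one, mul_one, Fintype.card_eq_nat_card] at h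
  have hθy : CongEps p (conj (θ yM)) (K.index : ℂ) := by
    have hθg : Cfsg.IsGeneralizedCharacter M (fun m => conj (θ m)) :=
      isGeneralizedCharacter_of_isCharacter (isCharacter_conj hM.char)
    have h := cong_char hθg cfg.prime (x := yM) (y := 1)
      (by rw [← Subgroup.orderOf_coe]; exact cfg.y_order) (by rw [mul_one, one_mul])
    simp only [mul_one] at h
    rwa [hM.deg, Complex.conj_natCast] at h
  have hfinal : CongEps p ((Nat.card H : ℂ) * d) ((Nat.card H : ℂ) * ((c : ℂ) + (K.index : ℂ))) := by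
    refine CongEps.trans cfg.prime (CongEps.trans cfg.prime hstep1 hstep2) ?_
    have e : ∀ x : H, (1 - (lam x : ℂ)) * φ (((x : L) : G) * y) =
        φ (((x : L) : G) * y) + (-1) * ((lam x : ℂ) * φ (((x : L) : G) * y)) := fun x => by ring
    rw [Finset.sum_congr rfl fun x _ => e x, Finset.sum_add_distrib, ← Finset.mul_sum, hstep4]
    refine CongEps.trans cfg.prime (CongEps.add cfg.prime
      (CongEps.mul_left (isIntegral_natCast' _)
        (CongEps.add cfg.prime (CongEps.rfl' cfg.prime _) hθy))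
      (CongEps.mul_left isIntegral_one.neg hstep3)) ?_
    rw [mul_zero, add_zero, mul_comm, mul_comm (Nat.card H : ℂ)]
    exact CongEps.mul_left ((isIntegral_intCast' c).add (isIntegral_natCast' _)) (CongEps.symm hhC)
  have hdvd : (p : ℤ) ∣ d - c - K.index := by
    have h := CongEps.int_dvd cfg.prime (x := (Nat.card H : ℤ) * d)
      (y := (Nat.card H : ℤ) * (c + K.index)) (by push_cast; exact hfinal)
    rw [← mul_sub] at h
    rw [sub_sub]
    refine ((Nat.prime_iff_prime_int.mp cfg.prime).dvd_mul.mp h).resolve_left fun h' => hpH ?_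
    exact Int.natCast_dvd_natCast.mp h'
  -- the norm
  set A' : Set G := {g | g ∈ Cfsg.fittingHallOf L ∧ g ≠ 1} with hA'
  have hA'A : A' ⊆ A := fun g hg => hc.mem_of_H (x := ⟨g, OddOrder.fittingHallOf_le L hg.1⟩)
    ((hLmem _).mpr hg.1) fun h => hg.2 (congrArg Subtype.val h)
  have hD' : Cfsg.DadeHypothesis A' L R := dade_mono hD hA'A fun x hx a ha =>
    ⟨(Subgroup.mem_normalizer_iff.mp (OddOrder.fittingHallOf_normal L hx) a).mp ha.1,
      fun h => ha.2 (conj_eq_one_iff.mp h)⟩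
  have hbL := rho_norm_le hD' hψc
  have hbM := rho_norm_le hDM hψc
  have hsub : ∑ x : H, ‖rho A L R ψ x‖ ^ 2 ≤ ∑ a : L, ‖rho A' L R ψ a‖ ^ 2 := by
    have e : ∀ x : H, rho A' L R ψ x = rho A L R ψ x := fun x => by
      by_cases h1 : (x : L) = 1
      · rw [rho, rho, if_neg, if_neg]
        · rw [h1]; exact hD.one_not_mem
        · rw [h1]; exact fun h => h.2 rfl
      · have hx : ((x : L) : G) ∈ A' := ⟨(hLmem x).mp x.2, fun h => h1 (Subtype.ext h)⟩
        rw [rho, rho, if_pos hx, if_pos (hA'A hx)]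
    rw [Finset.sum_congr rfl fun (x : H) (_ : x ∈ univ) =>
        show ‖rho A L R ψ x‖ ^ 2 = ‖rho A' L R ψ x‖ ^ 2 by rw [e x],
      ← Finset.sum_subtype (univ.filter (fun a : L => a ∈ H)) (fun a => by simp)
        (fun a => ‖rho A' L R ψ a‖ ^ 2)]
    exact Finset.sum_le_sum_of_subset_of_nonneg (Finset.subset_univ _) fun _ _ _ => sq_nonneg _
  have hsuppL : ∀ g, g ∈ dadeSupp A' R → g ∈ OddOrder38.tildeSet L := by
    rintro g ⟨a, ⟨ha, ha1⟩, u, hu, x, e⟩
    exact supportR_mem_tildeSet (hsigL ▸ ha) ha1 hu e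
  have hone : ∀ {B : Set G} {N : Subgroup G} {S : G → Subgroup G},
      Cfsg.DadeHypothesis B N S → (1 : G) ∉ dadeSupp B S := by
    rintro B N S h ⟨a, ha, u, hu, x, e⟩
    have hau : u = a⁻¹ := eq_inv_of_mul_eq_one_right (by rw [← e]; group)
    have h1 : a⁻¹ ∈ S a ⊓ (N ⊓ Subgroup.centralizer ({a} : Set G)) :=
      ⟨hau ▸ hu, N.inv_mem (h.subset ha),
        Subgroup.inv_mem _ (Subgroup.mem_centralizer_singleton_iff.mpr rfl)⟩
    rw [h.inf_eq_bot a ha, Subgroup.mem_bot, inv_eq_one] at h1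
    exact h.one_not_mem (h1 ▸ ha)
  have hGsum : ∑ g : G, ‖ψ g‖ ^ 2 = (Nat.card G : ℝ) := by
    have h := hM.signed.norm_one
    rw [Cfsg.classInner, inv_mul_eq_one₀ (Nat.cast_ne_zero.mpr Nat.card_pos.ne')] at h
    have e : ((∑ g : G, ‖ψ g‖ ^ 2 : ℝ) : ℂ) = (Nat.card G : ℂ) := by
      rw [h, Complex.ofReal_sum]
      exact Finset.sum_congr rfl fun g _ => by
        rw [Complex.mul_conj, Complex.normSq_eq_norm_sq]
    exact_mod_cast e
  have htot : ∑ g ∈ univ.filter (· ∈ dadeSupp AM RM), ‖ψ g‖ ^ 2 +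
      ∑ g ∈ univ.filter (· ∈ dadeSupp A' R), ‖ψ g‖ ^ 2 + ‖ψ 1‖ ^ 2 ≤ (Nat.card G : ℝ) := by
    rw [← hGsum, ← Finset.sum_union (Finset.disjoint_filter.mpr fun g _ h h' =>
      htilde g (hsuppL g h') (hsuppM g h)), ← Finset.sum_singleton (fun g => ‖ψ g‖ ^ 2) 1,
      ← Finset.sum_union (Finset.disjoint_singleton_right.mpr fun h => by
        rcases Finset.mem_union.mp h with h | h
        · exact hone hDM (mem_filter.mp h).2
        · exact hone hD' (mem_filter.mp h).2)]
    exact Finset.sum_le_sum_of_subset_of_nonneg (Finset.subset_univ _) fun _ _ _ => sq_nonneg _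
  have hψ1 : 0 < ‖ψ 1‖ ^ 2 := pow_pos (norm_pos_iff.mpr hM.signed.apply_one_ne_zero) 2
  have hGpos : (0 : ℝ) < Nat.card G := Nat.cast_pos.mpr Nat.card_pos
  have hlt : (Nat.card M : ℝ)⁻¹ * ∑ x : M, ‖rho AM M RM ψ x‖ ^ 2 +
      (Nat.card L : ℝ)⁻¹ * ∑ a : L, ‖rho A' L R ψ a‖ ^ 2 < 1 := by
    refine lt_of_le_of_lt (add_le_add hbM hbL) ?_
    rw [← mul_add, inv_mul_lt_iff₀ hGpos, mul_one]
    linarith
  rw [hM.norm] at hlt
  set k := Nat.card K with hk
  set e := K.index with he
  set h := Nat.card H with hh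
  set f := H.index with hf
  have hcM : Nat.card M = k * e := K.card_mul_index.symm
  have hcL : Nat.card L = h * f := H.card_mul_index.symm
  have hkF : Nat.card (Cfsg.fittingHallOf M) = k := OddOrder.card_fittingHallOf M
  have heF : (Cfsg.fittingHallOf M).relIndex M = e := by
    rw [Subgroup.relIndex, OddOrder.fittingHallOf_subgroupOf]
  have hfF : (Cfsg.fittingHallOf L).relIndex L = f := by
    rw [Subgroup.relIndex, OddOrder.fittingHallOf_subgroupOf]
  have hfk : f ≤ k := hkF ▸ hfF ▸ cfg.index_le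
  have hkey : 4 * (c : ℝ) ^ 2 * ((k : ℝ) - 1) + 3 * (d : ℝ) ^ 2 * e <
      4 * (e : ℝ) ^ 2 + 8 * c * e := by
    have hk0 : (0 : ℝ) < k := Nat.cast_pos.mpr Nat.card_pos
    have he0 : (0 : ℝ) < e := Nat.cast_pos.mpr (Nat.pos_of_ne_zero Subgroup.index_ne_zero_of_finite)
    have hh0 : (0 : ℝ) < h := Nat.cast_pos.mpr Nat.card_pos
    have hf0 : (0 : ℝ) < f := Nat.cast_pos.mpr (Nat.pos_of_ne_zero Subgroup.index_ne_zero_of_finite)
    have hfk' : (f : ℝ) ≤ k := by exact_mod_cast hfk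
    rw [hcM, hcL, Nat.cast_mul, Nat.cast_mul] at hlt
    have h1 : ((k : ℝ) * e)⁻¹ * ((k : ℝ) * e - (e : ℝ) ^ 2 - 2 * c * e + (c : ℝ) ^ 2 * ((k : ℝ) - 1)) +
        ((h : ℝ) * f)⁻¹ * (3 / 4 * (d : ℝ) ^ 2 * h) < 1 :=
      lt_of_le_of_lt (add_le_add le_rfl
        (mul_le_mul_of_nonneg_left (hnormL.trans hsub) (by positivity))) hlt
    have h2 : ((h : ℝ) * f)⁻¹ * (3 / 4 * (d : ℝ) ^ 2 * h) ≥ (k : ℝ)⁻¹ * (3 / 4 * (d : ℝ) ^ 2) := by
      rw [show ((h : ℝ) * f)⁻¹ * (3 / 4 * (d : ℝ) ^ 2 * h) = (f : ℝ)⁻¹ * (3 / 4 * (d : ℝ) ^ 2) by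
        field_simp]
      exact mul_le_mul_of_nonneg_right ((inv_le_inv₀ hk0 hf0).mpr hfk') (by positivity)
    have h3 : ((k : ℝ) * e)⁻¹ * ((k : ℝ) * e - (e : ℝ) ^ 2 - 2 * c * e + (c : ℝ) ^ 2 * ((k : ℝ) - 1) +
        3 / 4 * (d : ℝ) ^ 2 * e) < 1 := by
      rw [mul_add]
      refine lt_of_le_of_lt (add_le_add le_rfl (le_trans (le_of_eq ?_) h2)) h1
      field_simp
    rw [inv_mul_lt_iff₀ (mul_pos hk0 he0), mul_one] at h3
    nlinarith
  have hkeyZ : 4 * c ^ 2 * ((k : ℤ) - 1) + 3 * d ^ 2 * (e : ℤ) < 4 * (e : ℤ) ^ 2 + 8 * c * e := by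
    exact_mod_cast hkey
  exact arith_false (by exact_mod_cast heF ▸ cfg.e_ge) (by exact_mod_cast heF ▸ cfg.e_le)
    (by exact_mod_cast hkF ▸ cfg.p_sq) hdvd hkeyZ

end Main

end CfsgLib.PF.Sec12

namespace CfsgLib.PF

universe u

/-- **PF (12.7)**: every subgroup of Type I is a Frobenius group with kernel `M_F`. -/
theorem propTypeIFrobenius {G : Type u} [Group G] [Fintype G] (hG : Cfsg.IsMinSimpleOddOrder G)
    (hT : PropTypes G) (hDade : PropDade G) (hV : PropNoTypeV G) (hIII : PropTypeIII G)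
    (hCoh : PropTypeICoherent G) : PropTypeIFrobenius G := by
  by_contra h
  obtain ⟨L, M, p, y, cfg⟩ := Sec12.exists_config hG hT hV hIII h
  exact Sec12.false_of_config hG hDade hCoh cfg

end CfsgLib.PF
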