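import Mathlib
import Cfsg.Agent.Lib.PF.Sec12TypeI
import Cfsg.Agent.Lib.OddOrder40.TheoremD
import Cfsg.Agent.S1526

/-!
# Peterfalvi (12.17): not every maximal subgroup is of Type I

If all were, all would be Frobenius groups whose kernels are TI-sets covering `G`, against S1526.
-/

set_option autoImplicit false
set_option linter.unusedSectionVars false

namespace CfsgLib.PF.Sec12

open Subgroup CfsgLib.OddOrder CfsgLib.OddOrder.Transitivity CfsgLib.OddOrder38

universe u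

variable {G : Type u} [Group G] [Finite G] (hG : Cfsg.IsMinSimpleOddOrder G)

include hG in
/-- A Frobenius subgroup of Type I has no `τ₂`-prime. -/
theorem tau2_empty_of_frob {L : Subgroup G} (hL : IsCoatom L) (hI : OfTypeI L) (hF : IsFrobF L)
    (r : ℕ) : r ∉ Cfsg.tau2 L := by
  intro hr
  have := Fact.mk hr.1
  obtain ⟨A, hAL, hAe, hA2⟩ := not_pRankLE_subgroup_iff.mp hr.2.2.2
  obtain ⟨a, ha, ha1, hne⟩ := Sigma12.exists_good hG hL hr hAL hAe hA2
  obtain ⟨w, hw, hw1⟩ := (Subgroup.bot_or_exists_ne_one _).resolve_left hne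
  obtain ⟨hwS, hwC⟩ := Subgroup.mem_inf.mp hw
  have hsig := fittingHall_eq_sigma hG hL hI
  have h1 : a ∈ Cfsg.fittingHallOf L := hF w (hsig ▸ hwS) hw1
    ⟨hAL ha, Subgroup.mem_centralizer_singleton_iff.mpr
      (Subgroup.mem_centralizer_singleton_iff.mp hwC).symm⟩
  refine hr.2.1 (mem_sigma_of_mem_sigmaCore (hsig ▸ h1) hr.1 ?_)
  rw [orderOf_eq_prime (hAe.2 a ha) ha1]

include hG in
theorem not_all_typeI (hall : ∀ M : Subgroup G, IsCoatom M → OfTypeI M)
    (hF : ∀ M : Subgroup G, IsCoatom M → IsFrobF M)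
    (hcov : ∀ g : G, g ≠ 1 → ∃ M : Subgroup G, IsCoatom M ∧ g ∈ Cfsg.tildeOf M (Cfsg.typeA1 M)) :
    False := by
  classical
  have hIn := OddOrder41.Hall14.inputs hG
  have hI16 := OddOrder42.inputs16 hG
  have hCle : ∀ M : Subgroup G, IsCoatom M → ∀ x ∈ Cfsg.sigmaCore M, x ≠ 1 →
      Subgroup.centralizer ({x} : Set G) ≤ M := by
    intro M hM x hx hx1
    by_contra hle
    obtain ⟨L, hL, -, -, -, -, hτ⟩ := centralizer_partner hG hIn hM hx hx1 hle
    obtain ⟨q, hq, hd⟩ := Nat.exists_prime_and_dvd (n := orderOf x)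
      fun h => hx1 (orderOf_eq_one_iff.mp h)
    exact tau2_empty_of_frob hG hL (hall L hL) (hF L hL) q (hτ q hq hd)
  have hR : ∀ M : Subgroup G, IsCoatom M → ∀ x ∈ Cfsg.sigmaCore M, x ≠ 1 →
      Cfsg.supportR M x = ⊥ := fun M hM x hx hx1 => by
    rw [Cfsg.supportR, dif_neg fun h => h.1 (hCle M hM x hx hx1)]
  have hcov' : ∀ g : G, g ≠ 1 → ∃ M : Subgroup G, IsCoatom M ∧
      ∃ y : G, y * g * y⁻¹ ∈ Cfsg.sigmaCore M := by
    intro g hg
    obtain ⟨M, hM, a, ha, r, hr, y, rfl⟩ := hcov g hg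
    rw [OddOrder42.typeA1_eq hG hI16 hM] at ha
    rw [hR M hM a ha.1 (fun h => ha.2 (Set.mem_singleton_iff.mpr h)), Subgroup.mem_bot] at hr
    refine ⟨M, hM, y⁻¹, ?_⟩
    rw [hr, mul_one]
    simpa [mul_assoc] using ha.1
  -- the classes of maximal subgroups
  let s : Setoid {M : Subgroup G // IsCoatom M} :=
    { r := fun M N => ∃ g : G, cj g M.1 = N.1
      iseqv :=
        { refl := fun M => ⟨1, cj_one _⟩
          symm := fun {M N} h => by
            obtain ⟨g, hg⟩ := h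
            exact ⟨g⁻¹, by rw [← hg, cj_mul, inv_mul_cancel, cj_one]⟩
          trans := fun {M N O} h h' => by
            obtain ⟨g, hg⟩ := h
            obtain ⟨g', hg'⟩ := h'
            exact ⟨g' * g, by rw [← cj_mul, hg, hg']⟩ } }
  have : Fintype (Quotient s) := Fintype.ofFinite _
  set rep : Quotient s → Subgroup G := fun i => i.out.1 with hrep
  have hrepM : ∀ i, IsCoatom (rep i) := fun i => i.out.2
  have hsig : ∀ i, Cfsg.fittingHallOf (rep i) = Cfsg.sigmaCore (rep i) := fun i =>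
    fittingHall_eq_sigma hG (hrepM i) (hall _ (hrepM i))
  have hrepcov : ∀ g : G, g ≠ 1 → ∃ i, ∃ x : G, x * g * x⁻¹ ∈ Cfsg.sigmaCore (rep i) := by
    intro g hg
    obtain ⟨M, hM, y, hy⟩ := hcov' g hg
    let i : Quotient s := Quotient.mk s ⟨M, hM⟩
    obtain ⟨t, ht⟩ := Quotient.mk_out (s := s) ⟨M, hM⟩
    refine ⟨i, t⁻¹ * y, ?_⟩
    have h1 : cj t⁻¹ (cj t (rep i)) = cj t⁻¹ M := congrArg (cj t⁻¹) ht
    rw [cj_mul, inv_mul_cancel, cj_one] at h1
    rw [h1, sigmaCore_cj]
    have : t⁻¹ * y * g * (t⁻¹ * y)⁻¹ = t⁻¹ * (y * g * y⁻¹) * (t⁻¹)⁻¹ := by group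
    rw [this]
    exact mem_cj_self.mpr hy
  have hι : 2 ≤ Fintype.card (Quotient s) := by
    by_contra h2
    have hsub : Subsingleton (Quotient s) := Fintype.card_le_one_iff_subsingleton.mp (by omega)
    haveI := Fintype.ofFinite G
    haveI : IsSimpleGroup G := hG.2.1
    obtain ⟨g₀, hg₀⟩ := exists_ne (1 : G)
    obtain ⟨i₀, -⟩ := hrepcov g₀ hg₀
    have hcount := OddOrder40.ncard_tildeOf hG hIn (hrepM i₀)
    have hle : ((Set.univ : Set G) \ {1}).ncard ≤
        (Cfsg.tildeOf (rep i₀) ((Cfsg.sigmaCore (rep i₀) : Set G) \ {1})).ncard := by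
      refine Set.ncard_le_ncard (fun g hg => ?_) (Set.toFinite _)
      have hg1 : g ≠ 1 := fun h => hg.2 (Set.mem_singleton_iff.mpr h)
      obtain ⟨i, x, hx⟩ := hrepcov g hg1
      rw [Subsingleton.elim i i₀] at hx
      exact ⟨x * g * x⁻¹, ⟨hx, fun h => hg1 (conj_eq_one_iff.mp h)⟩, 1, one_mem _, x⁻¹, by group⟩
    rw [hcount, Set.ncard_sdiff_singleton_of_mem (Set.mem_univ _), Set.ncard_univ] at hle
    have hs : Nat.card (Cfsg.sigmaCore (rep i₀)) ≤ Nat.card (rep i₀) := Subgroup.card_le_of_le (sigmaCore_le (rep i₀))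
    have hidx : 2 ≤ (rep i₀).index := by
      rcases Nat.lt_or_ge (rep i₀).index 2 with h | h
      · exfalso
        refine (hrepM i₀).1 (Subgroup.index_eq_one.mp ?_)
        have := Nat.pos_of_ne_zero (Subgroup.index_ne_zero_of_finite (H := (rep i₀)))
        omega
      · exact h
    have h3 : Nat.card (rep i₀) * (rep i₀).index = Nat.card G := (rep i₀).card_mul_index
    have hpos : 0 < Nat.card G := Nat.card_pos
    have h4 : (Nat.card (rep i₀) - 1) * (rep i₀).index + (rep i₀).index = Nat.card G := by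
      rw [← Nat.succ_mul, Nat.succ_eq_add_one, Nat.sub_add_cancel Nat.card_pos, h3]
    have h5 := Nat.mul_le_mul_right (rep i₀).index (Nat.sub_le_sub_right hs 1)
    omega
  refine Cfsg.Agent.S1526.result hG.1 hι rep (fun i => Cfsg.fittingHallOf (rep i)) (fun i => ?_)
    (fun i => (hI16.core _ (hrepM i)).1)
    (fun i x hx h hh => (Subgroup.mem_normalizer_iff.mp (fittingHallOf_normal _ hx) h).mp hh)
    (fun i => hF _ (hrepM i)) (fun i j hij => ?_) (fun i => ?_) (fun g hg => ?_)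
  · exact lt_of_le_of_lt ((hI16.core _ (hrepM i)).2.1.trans (hI16.core _ (hrepM i)).2.2.1)
      (hI16.core _ (hrepM i)).2.2.2.1
  · rw [hsig i, hsig j]
    refine Nat.coprime_of_dvd fun r hr h1 h2 => hij ?_
    obtain ⟨t, ht⟩ := exists_cj_eq_of_sigma hIn.disjoint (hrepM i) (hrepM j)
      (piNat_card_piCoreOf (Cfsg.sigma (rep i)) (rep i) r hr h1)
      (piNat_card_piCoreOf (Cfsg.sigma (rep j)) (rep j) r hr h2)
    rw [← Quotient.out_eq i, ← Quotient.out_eq j]
    exact Quotient.sound ⟨t, ht.symm⟩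
  · have hN : Subgroup.normalizer (Cfsg.fittingHallOf (rep i) : Set G) = rep i :=
      normalizer_eq_of_isCoatom hG (hrepM i) (fittingHallOf_le _) (hI16.core _ (hrepM i)).1
        (fittingHallOf_normal _)
    refine ⟨fun g hg x hx hgx => by_contra fun hx1 => hg ?_, hN⟩
    rw [hN]
    have hxS : x ∈ Cfsg.sigmaCore (rep i) := hsig i ▸ hx
    exact OddOrder40.mem_of_conj_mem hG hIn (hrepM i) hxS hx1 (hCle _ (hrepM i) x hxS hx1)
      (fittingHallOf_le _ hgx)
  · obtain ⟨i, x, hx⟩ := hrepcov g hg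
    exact ⟨i, x, (hsig i).symm ▸ hx⟩

end CfsgLib.PF.Sec12

namespace CfsgLib.PF

universe u

/-- **PF (12.17)**: not every maximal subgroup is of Type I. -/
theorem propNotAllI {G : Type u} [Group G] [Fintype G] (hG : Cfsg.IsMinSimpleOddOrder G)
    (hF : PropTypeIFrobenius G) (hC : PropCover G) : PropNotAllI G := fun hall =>
  Sec12.not_all_typeI hG hall (fun M hM => hF M hM (hall M hM)) (hC.1 hall)

end CfsgLib.PF
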