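import Mathlib
import Cfsg.Agent.Lib.PF.Sec8Tame

/-!
# The Dade set-up for the sets defined with the strict Type I
-/

set_option autoImplicit false
set_option linter.unusedSectionVars false

namespace CfsgLib.PF

open Subgroup CfsgLib.OddOrder CfsgLib.OddOrder.Transitivity CfsgLib.OddOrder42
open CfsgLib.OddOrder38 hiding Inputs

universe u

variable {G : Type u} [Group G] [Finite G] (hG : Cfsg.IsMinSimpleOddOrder G) {M : Subgroup G}
  (hM : IsCoatom M)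

include hG hM in
theorem typeA_bounds :
    setA1 M ⊆ Cfsg.typeA M ∧ Cfsg.typeA M ⊆ setA M ∧
      ∀ m ∈ M, ∀ a ∈ Cfsg.typeA M, m * a * m⁻¹ ∈ Cfsg.typeA M := by
  have hI := inputs16 hG
  obtain ⟨K, U, hKU⟩ := exists_decomp hG hI hM
  by_cases hT : Cfsg.IsOfTypeI M
  · have hK : K = ⊥ := by_contra fun hK1 => by
      obtain ⟨V, hP⟩ := exists_typeP hG hI hM hKU hK1
      exact not_typeF_of_typeP hG hI hM hP hT.1
    have he : Cfsg.typeA M = setA M :=
      (typeA_sets hG hI hM fun _ => hT).1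
    rw [he]
    exact ⟨setA1_subset_setA, subset_rfl, fun m hm a ha =>
      cj_eq_of_mem_normalizer (Subgroup.le_normalizer hm) ▸ mem_setA_cj ha m⟩
  rw [Cfsg.typeA, if_neg hT, typeCore_eq hG hI hM]
  refine ⟨?_, ?_, ?_⟩
  · rintro x ⟨hx, hx1⟩
    exact ⟨(hI.core M hM).2.2.1 hx, hx1, x, hx, hx1, rfl⟩
  · rintro a ⟨haD, ha1, x, hx, hx1, hax⟩
    refine ⟨⟨Subgroup.commutator_le_self M haD, x, hx, hx1, hax⟩, ha1, fun p hp hd hκ => ?_⟩
    have hK1 : K ≠ ⊥ := hall_ne_bot_of_kappa hKU.hall ⟨p, hκ⟩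
    have h1 : p ∣ Nat.card K := by
      have h2 : p ∣ Nat.card M := hκ.2.1
      rw [← card_mul_relIndex_of_le hKU.hall.1] at h2
      exact (hp.dvd_mul.mp h2).resolve_right (hKU.hall.2.2 p hp hκ)
    exact hp.ne_one (Nat.eq_one_of_dvd_coprimes (coprime_derived hG hI hM hKU hK1) h1
      (hd.trans (Subgroup.orderOf_dvd_natCard _ haD)))
  · rintro m hm a ⟨haD, ha1, x, hx, hx1, hax⟩
    refine ⟨conj_mem_of_le_normalizer (le_normalizer_derived M) hm haD, fun h => ha1 (conj_eq_one_iff.mp h),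
      m * x * m⁻¹, conj_mem_of_le_normalizer (le_normalizer_sigmaCore M) hm hx,
      fun h => hx1 (conj_eq_one_iff.mp h), (commute_conj m hax).eq⟩

include hG hM in
theorem typeA0_bounds :
    setA1 M ⊆ Cfsg.typeA0 M ∧ Cfsg.typeA0 M ⊆ setA0 M ∧
      ∀ m ∈ M, ∀ a ∈ Cfsg.typeA0 M, m * a * m⁻¹ ∈ Cfsg.typeA0 M := by
  have hI := inputs16 hG
  obtain ⟨K, U, hKU⟩ := exists_decomp hG hI hM
  obtain ⟨h1, h2, h3⟩ := typeA_bounds hG hM
  rw [typeA0_eq hG hI hM hKU]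
  refine ⟨h1.trans Set.subset_union_left, ?_, ?_⟩
  · rw [setA0_eq hG hI hM hKU]
    exact Set.union_subset_union_left _ h2
  · rintro m hm a (ha | ⟨hK1, m', hm', z, hz, rfl⟩)
    · exact Or.inl (h3 m hm a ha)
    · exact Or.inr ⟨hK1, m * m', M.mul_mem hm hm', z, hz, by group⟩

include hG hM in
/-- S1537. -/
theorem typeSets_dade {A : Set G} (hA : A = Cfsg.typeA1 M ∨ A = Cfsg.typeA M ∨ A = Cfsg.typeA0 M) :
    Subgroup.normalizer A = M ∧ Cfsg.DadeHypothesis A M (Cfsg.supportR M) := by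
  rcases hA with rfl | rfl | rfl
  · exact propDade hG M _ hM (Or.inl rfl)
  · obtain ⟨h1, h2, h3⟩ := typeA_bounds hG hM
    exact dade_of hG hM h1 (h2.trans setA_subset_setA0) h3
  · obtain ⟨h1, h2, h3⟩ := typeA0_bounds hG hM
    exact dade_of hG hM h1 h2 h3

include hG hM in
/-- S1538. -/
theorem typeSets_TI (hII : Cfsg.IsOfTypeII M) :
    (Cfsg.IsTISubset (Cfsg.typeA0 M) ∧ Subgroup.normalizer (Cfsg.typeA0 M) = M) ∧
      (Cfsg.IsTISubset (Cfsg.typeA M) ∧ Subgroup.normalizer (Cfsg.typeA M) = M) ∧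
      (Cfsg.IsTISubset (Cfsg.typeA1 M) ∧ Subgroup.normalizer (Cfsg.typeA1 M) = M) := by
  have hI := inputs16 hG
  obtain ⟨K, U, hKU⟩ := exists_decomp hG hI hM
  obtain ⟨hA, hA0⟩ := typeA_sets hG hI hM fun hκ =>
    absurd ((kappa_eq_empty_iff hKU.hall).mp hκ) ((typeII_iff hG hI hM hKU).mp hII).1
  exact ⟨⟨propTypeIITI hG M _ hM hII (Or.inr (Or.inr (hA0.trans (suppA0_eq hG hM).symm))),
      (typeSets_dade hG hM (Or.inr (Or.inr rfl))).1⟩,
    ⟨propTypeIITI hG M _ hM hII (Or.inr (Or.inl (hA.trans (suppA_eq hG hM).symm))),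
      (typeSets_dade hG hM (Or.inr (Or.inl rfl))).1⟩,
    ⟨propTypeIITI hG M _ hM hII (Or.inl rfl), (typeSets_dade hG hM (Or.inl rfl)).1⟩⟩

end CfsgLib.PF
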