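import Mathlib
import Cfsg.Agent.Lib.PF.Strict8
import Cfsg.Agent.Lib.PF.Props12

/-!
# The strict forms of Type I, A(M), A₀(M), given that Type I subgroups are Frobenius
-/

set_option autoImplicit false
set_option linter.unusedSectionVars false

namespace CfsgLib.PF

open Subgroup CfsgLib.OddOrder CfsgLib.OddOrder.Transitivity CfsgLib.OddOrder42
open CfsgLib.OddOrder38 hiding Inputs

universe u

variable {G : Type u} [Group G] [Finite G] (hG : Cfsg.IsMinSimpleOddOrder G) {M : Subgroup G}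
  (hM : IsCoatom M)

include hG in
/-- PF (12.7) in the form used by BG §16. -/
theorem kappaFrobenius_of (h : PropTypeIFrobenius G) :
    PropKappaFrobenius G :=
  fun L hL hκ => h L hL ((ofTypeI_iff hG hL).mpr hκ)

variable (hFr : PropKappaFrobenius G)

include hG hFr hM in
theorem strict_typeI_of_kappa (h : Cfsg.kappa M = ∅) : Cfsg.IsOfTypeI M := by
  obtain ⟨K, U, hKU⟩ := exists_decomp hG (inputs16 hG) hM
  exact typeI_of hG (inputs16 hG) hM hKU ((kappa_eq_empty_iff hKU.hall).mp h) hFr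

include hG hFr hM in
theorem strict_iff : Cfsg.IsOfTypeI M ↔ OfTypeI M := by
  refine ⟨fun h => (ofTypeI_iff hG hM).mpr ?_,
    fun h => strict_typeI_of_kappa hG hM hFr ((ofTypeI_iff hG hM).mp h)⟩
  obtain ⟨K, U, hKU⟩ := exists_decomp hG (inputs16 hG) hM
  exact (kappa_eq_empty_iff hKU.hall).mpr (K_eq_of_typeI hG (inputs16 hG) hM hKU h)

include hG hFr hM in
theorem typeA_eq_supp : Cfsg.typeA M = suppA M ∧ Cfsg.typeA0 M = suppA0 M := by
  rw [suppA_eq hG hM, suppA0_eq hG hM]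
  exact typeA_sets hG (inputs16 hG) hM (strict_typeI_of_kappa hG hM hFr)

include hG hFr in
/-- S1539. -/
theorem typeSets_supports (S T : Subgroup G) (hS : IsCoatom S) (hT : IsCoatom T)
    (hnc : ∀ g : G, T.map (MulAut.conj g).toMonoidHom ≠ S) :
    (Cfsg.Supports T S ↔ (Cfsg.typeA1 S ∩ Cfsg.typeA T).Nonempty) ∧
      (∀ x ∈ Cfsg.typeA1 S ∩ Cfsg.typeA T, ¬ Subgroup.centralizer ({x} : Set G) ≤ S ∧
        Subgroup.centralizer ({x} : Set G) ≤ T) ∧
      ((∃ g : G, Cfsg.Supports (T.map (MulAut.conj g).toMonoidHom) S) ↔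
        (Cfsg.tildeOf S (Cfsg.typeA1 S) ∩ Cfsg.tildeOf T (Cfsg.typeA T)).Nonempty) ∧
      (Cfsg.tildeOf S (Cfsg.typeA1 S) ∩ Cfsg.tildeOf T (Cfsg.typeA T) = ∅ ∨
        Cfsg.tildeOf T (Cfsg.typeA1 T) ∩ Cfsg.tildeOf S (Cfsg.typeA S) = ∅) := by
  have hsupp : ∀ L, Cfsg.Supports L S ↔ SupportsA0 L S := fun L => by
    rw [Cfsg.Supports, SupportsA0, (typeA_eq_supp hG hS hFr).2]
  simp only [hsupp]
  rw [(typeA_eq_supp hG hT hFr).1, (typeA_eq_supp hG hS hFr).1]
  obtain ⟨h1, h2, h3, h4, -⟩ := propSupports hG S T hS hT hnc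
  exact ⟨h1, h2, h3, h4⟩

end CfsgLib.PF
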