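import Cfsg.Agent.Lib.PF.Props8
import Cfsg.Agent.Lib.PF.Props12
import Cfsg.Agent.Lib.PF.TypeOneCoherence

/-! Peterfalvi (12.6), given the Dade hypothesis of (8.15). -/

set_option autoImplicit false

namespace CfsgLib.PF

universe u

theorem typeICoherent {G : Type u} [Group G] [Fintype G] (hG : Cfsg.IsMinSimpleOddOrder G)
    (hDade : PropDade G) : PropTypeICoherent G := by
  classical
  intro L hL hI hfrob
  refine frobenius_coherent hG L hL hI.1 (hI.2.imp_right (Or.imp And.left And.left)) hfrob
    (suppA0 L) (Cfsg.supportR L) (fun x => ?_)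
    ((hDade L _ hL) (Or.inr (Or.inr rfl))).2
  rw [suppA0, suppA, if_pos hI]
  constructor
  · rintro (h | ⟨h, -⟩)
    · exact (mem_kernel_iff hfrob x).mp h
    · exact absurd hI h
  · exact fun h => Or.inl ((mem_kernel_iff hfrob x).mpr h)

end CfsgLib.PF
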