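import Mathlib
import Cfsg.Agent.Lib.PF.Sec12Main
import Cfsg.Agent.Lib.PF.Sec12NotAll
import Cfsg.Agent.Lib.PF.Sec8Tame
import Cfsg.Agent.Lib.PF.TypeICoherent
import Cfsg.Agent.Lib.PF.StrictFrob8

/-!
# (12.7) and (12.17) with the inputs of §8 filled in, and for the strict Type I
-/

set_option autoImplicit false
set_option linter.unusedSectionVars false

namespace CfsgLib.PF

open CfsgLib.OddOrder CfsgLib.OddOrder38

universe u

variable {G : Type u} [Group G] [Fintype G] (hG : Cfsg.IsMinSimpleOddOrder G)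
  (hV : PropNoTypeV G) (hIII : PropTypeIII G)

include hG hV hIII in
theorem typeIFrobenius_of_noTypeV : PropTypeIFrobenius G :=
  propTypeIFrobenius hG (propTypes hG) (propDade hG) hV hIII (typeICoherent hG (propDade hG))

include hG hV hIII in
theorem notAllI_of_noTypeV : PropNotAllI G :=
  propNotAllI hG (typeIFrobenius_of_noTypeV hG hV hIII) (propCover hG)

include hG in
/-- Type I excludes type P, so is Type I of §8. -/
theorem ofTypeI_of_strict {M : Subgroup G} (hM : IsCoatom M) (h : Cfsg.IsOfTypeI M) : OfTypeI M := by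
  rw [ofTypeI_iff hG hM]
  obtain ⟨K, U, hKU⟩ := OddOrder42.exists_decomp' hG hM
  have hK := OddOrder42.K_eq_of_typeI hG (OddOrder42.inputs16 hG) hM hKU h
  refine Set.eq_empty_of_forall_notMem fun r hr => hKU.hall.2.2 r hr.1 hr ?_
  rw [hK, Subgroup.relIndex_bot_left]
  exact hr.2.1

include hG hV hIII in
/-- The content of S1540. -/
theorem strictTypeI_frobenius {M : Subgroup G} (hM : IsCoatom M) (h : Cfsg.IsOfTypeI M) :
    ∀ x ∈ Cfsg.fittingHallOf M, x ≠ 1 →
      M ⊓ Subgroup.centralizer ({x} : Set G) ≤ Cfsg.fittingHallOf M :=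
  typeIFrobenius_of_noTypeV hG hV hIII M hM (ofTypeI_of_strict hG hM h)

include hG hV hIII in
/-- The content of S1541. -/
theorem exists_not_strictTypeI : ∃ M : Subgroup G, IsCoatom M ∧ ¬ Cfsg.IsOfTypeI M := by
  by_contra h
  push Not at h
  exact notAllI_of_noTypeV hG hV hIII fun M hM => ofTypeI_of_strict hG hM (h M hM)

end CfsgLib.PF
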