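import Cfsg.Agent.Lib.PF.Sec13RegVal
import Cfsg.Agent.Lib.Characters.NormalAvg
import Cfsg.Agent.S0181

/-!
# Squared norms on the elements centralising part of an abelian normal subgroup

`K` is a finite group, `N` an abelian normal subgroup, `xSet N` the non-identity elements centralising
a non-identity element of `N`.  A function that differs from a combination of irreducible characters
non-trivial on `N` by a function constant on the cosets has computable squared norm there.
-/

set_option autoImplicit false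
set_option linter.style.haveILetI false
set_option linter.unusedSectionVars false

namespace CfsgLib.PF.Sec13Reg

open scoped Classical ComplexConjugate
open Finset CfsgLib.Characters CfsgLib.NormalAvg

universe u

variable {K : Type u} [Group K] [Fintype K] (N : Subgroup K) [N.Normal]

/-- The non-identity elements centralising a non-identity element of `N`. -/
noncomputable def xSet : Finset K :=
  univ.filter fun x => x ≠ 1 ∧ ∃ h ∈ N, h ≠ 1 ∧ x * h = h * x

/-- The non-identity elements of `N`. -/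
noncomputable def nPts : Finset K := univ.filter fun x => x ∈ N ∧ x ≠ 1

/-- The part of `xSet N` outside `N`. -/
noncomputable def outPts : Finset K := (xSet N).filter fun x => x ∉ N

/-- An irreducible character non-trivial on `N`. -/
def RelChar (θ : K → ℂ) : Prop := Cfsg.IsIrrCharacter K θ ∧ ∃ h ∈ N, θ h ≠ θ 1

/-- Constant on the cosets of `N` outside `N` and on the non-identity elements of `N`. -/
structure CosetConst (f : K → ℂ) : Prop where
  out : ∀ h ∈ N, ∀ x, x ∉ N → f (h * x) = f x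
  on : ∀ h ∈ N, h ≠ 1 → ∀ h' ∈ N, h' ≠ 1 → f h = f h'

variable {N}

theorem mem_xSet {x : K} : x ∈ xSet N ↔ x ≠ 1 ∧ ∃ h ∈ N, h ≠ 1 ∧ x * h = h * x := by simp [xSet]

theorem mem_nPts {x : K} : x ∈ nPts N ↔ x ∈ N ∧ x ≠ 1 := by simp [nPts]

theorem mem_outPts {x : K} : x ∈ outPts N ↔ x ∈ xSet N ∧ x ∉ N := by simp [outPts]

theorem nPts_subset : nPts N ⊆ xSet N := fun x hx => by
  obtain ⟨hxN, hx1⟩ := mem_nPts.mp hx
  exact mem_xSet.mpr ⟨hx1, x, hxN, hx1, rfl⟩

theorem xSet_eq : xSet N = outPts N ∪ nPts N := by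
  ext x
  rw [Finset.mem_union, mem_outPts, mem_nPts]
  constructor
  · intro hx
    by_cases hN : x ∈ N
    · exact Or.inr ⟨hN, (mem_xSet.mp hx).1⟩
    · exact Or.inl ⟨hx, hN⟩
  · rintro (⟨hx, -⟩ | ⟨hN, h1⟩)
    · exact hx
    · exact nPts_subset (mem_nPts.mpr ⟨hN, h1⟩)

theorem disjoint_out_nPts : Disjoint (outPts N) (nPts N) :=
  Finset.disjoint_left.mpr fun _ h h' => (mem_outPts.mp h).2 (mem_nPts.mp h').1

theorem card_nPts : (nPts N).card + 1 = Nat.card N := by
  have e : nPts N = (univ.filter (· ∈ N)).erase (1 : K) := by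
    ext x
    simp [nPts, and_comm]
  rw [e, Finset.card_erase_add_one (by simp), Nat.card_eq_fintype_card, Fintype.card_subtype]

theorem vanish {θ : K → ℂ} (h : RelChar N θ) {x : K} (hx : x ∉ xSet N) (hx1 : x ≠ 1) : θ x = 0 := by
  obtain ⟨⟨d, ρ, hρ, rfl⟩, h0, hh, hne⟩ := h
  haveI := hρ
  refine Cfsg.Agent.S0181.result ρ N ⟨h0, hh, fun e => hne ?_⟩ x fun y hy hc => ?_
  · rw [show ρ.character 1 = (Module.finrank ℂ (Fin d → ℂ) : ℂ) from Representation.char_one ρ]
    exact (char_eq_degree_iff ρ h0).mpr e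
  · by_contra hy1
    exact hx (mem_xSet.mpr ⟨hx1, y, hy, hy1, hc.symm⟩)

theorem avg_zero {θ : K → ℂ} (h : RelChar N θ) : avgN N θ = 0 := by
  refine (avgN_irr N h.1).resolve_left fun e => ?_
  obtain ⟨h0, hh, hne⟩ := h.2
  refine hne ?_
  have := avgN_mul_left N θ ⟨h0, hh⟩ 1
  rw [e] at this
  simpa using this

theorem sum_nPts (θ : K → ℂ) : ∑ x ∈ nPts N, θ x + θ 1 = ∑ n : N, θ (n : K) := by
  have e : nPts N = (univ.filter (· ∈ N)).erase (1 : K) := by
    ext x
    simp [nPts, and_comm]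
  rw [e, Finset.sum_erase_add _ _ (by simp)]
  exact Finset.sum_subtype _ (fun x => by simp) θ

theorem sum_nPts_rel {θ : K → ℂ} (h : RelChar N θ) : ∑ x ∈ nPts N, θ x = -θ 1 := by
  have h0 := congrFun (avg_zero h) 1
  simp only [avgN, mul_one, Pi.zero_apply, mul_eq_zero, inv_eq_zero, Nat.cast_eq_zero,
    Nat.card_pos.ne', false_or] at h0
  have h1 := sum_nPts (N := N) θ
  rw [h0] at h1
  linear_combination h1

theorem sum_xSet_eq {θ : K → ℂ} (h : RelChar N θ) (f : K → ℂ) :
    ∑ x ∈ xSet N, θ x * f x = ∑ x : K, θ x * f x - θ 1 * f 1 := by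
  rw [eq_sub_iff_add_eq, add_comm, ← Finset.sum_insert (s := xSet N) (a := 1) (f := fun x => θ x * f x)
    (fun h => (mem_xSet.mp h).1 rfl)]
  refine Finset.sum_subset (Finset.subset_univ _) fun x _ hx => ?_
  rw [Finset.mem_insert, not_or] at hx
  rw [vanish h hx.2 hx.1, zero_mul]

theorem sum_rel_pair {θ θ' : K → ℂ} (h : RelChar N θ) (h' : RelChar N θ') :
    ∑ x ∈ xSet N, θ x * conj (θ' x) =
      (if θ = θ' then (Nat.card K : ℂ) else 0) - θ 1 * conj (θ' 1) := by
  rw [sum_xSet_eq h (fun x => conj (θ' x))]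
  congr 1
  have hc : Cfsg.classInner θ θ' = if θ = θ' then 1 else 0 := by
    split_ifs with e
    · subst e; exact classInner_irr_self h.1
    · exact classInner_irr_ne h.1 h'.1 e
  have hne : (Nat.card K : ℂ) ≠ 0 := Nat.cast_ne_zero.mpr Nat.card_pos.ne'
  rw [Cfsg.classInner, inv_mul_eq_iff_eq_mul₀ hne] at hc
  rw [hc]
  split_ifs <;> simp

theorem CosetConst.extend {f : K → ℂ} (hf : CosetConst N f) {h0 : K} (hh : h0 ∈ N) (h1 : h0 ≠ 1) :
    ∀ (n : N) (x : K), Function.update f 1 (f h0) ((n : K) * x) = Function.update f 1 (f h0) x := by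
  intro n x
  by_cases hx : x ∈ N
  · have hv : ∀ y ∈ N, Function.update f 1 (f h0) y = f h0 := fun y hy => by
      by_cases hy1 : y = 1
      · rw [hy1, Function.update_self]
      · rw [Function.update_of_ne hy1]
        exact hf.on y hy hy1 h0 hh h1
    rw [hv _ (N.mul_mem n.2 hx), hv _ hx]
  · have hnx : (n : K) * x ∉ N := fun h => hx (by
      have := N.mul_mem (N.inv_mem n.2) h
      rwa [inv_mul_cancel_left] at this)
    rw [Function.update_of_ne (fun h : x = 1 => hx (by rw [h]; exact N.one_mem)),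
      Function.update_of_ne (fun h : (n : K) * x = 1 => hnx (by rw [h]; exact N.one_mem))]
    exact hf.out _ n.2 x hx

theorem sum_rel_const {θ f : K → ℂ} (h : RelChar N θ) (hf : CosetConst N f) {h0 : K} (hh : h0 ∈ N)
    (h1 : h0 ≠ 1) : ∑ x ∈ xSet N, θ x * conj (f x) = -(θ 1 * conj (f h0)) := by
  set g := Function.update f 1 (f h0) with hg
  have e : ∑ x ∈ xSet N, θ x * conj (f x) = ∑ x ∈ xSet N, θ x * conj (g x) :=
    Finset.sum_congr rfl fun x hx => by rw [hg, Function.update_of_ne (mem_xSet.mp hx).1]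
  rw [e, sum_xSet_eq h (fun x => conj (g x))]
  have hz := classInner_avgN_left N θ (hf.extend hh h1)
  rw [avg_zero h, classInner_zero_left, Cfsg.classInner] at hz
  rw [(mul_eq_zero.mp hz.symm).resolve_left
    (inv_ne_zero (Nat.cast_ne_zero.mpr Nat.card_pos.ne')), zero_sub, hg, Function.update_self]

/-- Orthogonality to the characters non-trivial on `N`, up to multiples of the degree. -/
theorem cosetConst_of_orth {f : K → ℂ} (hf : Cfsg.IsClassFunction K f) (lam : ℂ)
    (h : ∀ θ, RelChar N θ → Cfsg.classInner f θ = lam * θ 1) : CosetConst N f := by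
  set R : K → ℂ := fun x => if x = 1 then (Nat.card K : ℂ) else 0 with hR
  have hRc : Cfsg.IsClassFunction K R := fun x y => by
    simp [hR]
  set g : K → ℂ := f - lam • R with hg
  have hgc : Cfsg.IsClassFunction K g := isClassFunction_sub hf (isClassFunction_smul hRc lam)
  have hRi : ∀ θ : K → ℂ, Cfsg.classInner R θ = conj (θ 1) := fun θ => by
    rw [Cfsg.classInner, Finset.sum_eq_single (1 : K) (fun x _ hx => by simp [hR, hx]) (by simp)]
    simp [hR]
  have hconst : ∀ (n : N) (x : K), g ((n : K) * x) = g x := by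
    have hsum := classFunction_eq_sum hgc
    intro n x
    rw [hsum]
    simp only [Finset.sum_apply, Pi.smul_apply, smul_eq_mul]
    refine Finset.sum_congr rfl fun θ _ => ?_
    by_cases hrel : ∃ h ∈ N, (θ : K → ℂ) h ≠ (θ : K → ℂ) 1
    · have hz : Cfsg.classInner g (θ : K → ℂ) = 0 := by
        rw [hg, classInner_sub_left, classInner_smul_left, h _ ⟨θ.2, hrel⟩, hRi]
        obtain ⟨m, hm⟩ := exists_degree (irr_isCharacter θ)
        rw [hm, map_natCast, sub_self]
      rw [hz, zero_mul, zero_mul]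
    · push Not at hrel
      congr 1
      have hnx := char_translate_left (irr_isCharacter θ) (hrel _ n.2) x
      exact hnx
  constructor
  · intro h' hh' x hx
    have := hconst ⟨h', hh'⟩ x
    have hx1 : x ≠ 1 := fun e => hx (by rw [e]; exact N.one_mem)
    have hhx : h' * x ≠ 1 := fun e => hx (by
      have : x = h'⁻¹ := eq_inv_of_mul_eq_one_right e
      rw [this]; exact N.inv_mem hh')
    simpa [hg, hR, hx1, hhx] using this
  · intro a ha ha1 b hb hb1
    have h1 := hconst ⟨a, ha⟩ 1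
    have h2 := hconst ⟨b, hb⟩ 1
    simp only [mul_one] at h1 h2
    have := h1.trans h2.symm
    simpa [hg, hR, ha1, hb1] using this
where
  char_translate_left {χ : K → ℂ} (hχ : Cfsg.IsCharacter K χ) {w : K} (hw : χ w = χ 1) (x : K) :
      χ (w * x) = χ x := by
    obtain ⟨n, ρ, rfl⟩ := hχ
    have e : ρ w = LinearMap.id := (char_eq_degree_iff ρ w).mp (by rw [hw, Representation.char_one])
    simp only [Representation.character, map_mul, e]
    rfl

/-- A combination of characters non-trivial on `N`. -/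
noncomputable def comb {ι : Type*} [Fintype ι] (Z : ι → K → ℂ) (c : ι → ℤ) : K → ℂ :=
  fun x => ∑ i, (c i : ℂ) * Z i x

theorem avg_out {ι : Type*} [Fintype ι] {Z : ι → K → ℂ} (hZ : ∀ i, RelChar N (Z i)) (c : ι → ℤ)
    {f : K → ℂ} (hf : CosetConst N (f - comb Z c)) {x : K} (hx : x ∉ N) :
    avgN N f x = f x - comb Z c x := by
  have hz : ∀ i, ∑ n : N, Z i ((n : K) * x) = 0 := fun i => by
    have h0 := congrFun (avg_zero (hZ i)) x
    simpa [avgN, Nat.card_pos.ne'] using h0
  have e : ∀ n : N, f ((n : K) * x) = comb Z c ((n : K) * x) + (f - comb Z c) x := fun n => by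
    rw [← hf.out _ n.2 x hx, Pi.sub_apply]; ring
  simp only [avgN, e, Finset.sum_add_distrib, Finset.sum_const, Finset.card_univ, nsmul_eq_mul,
    Pi.sub_apply]
  have hc : ∑ n : N, comb Z c ((n : K) * x) = 0 := by
    simp only [comb]
    rw [Finset.sum_comm]
    exact Finset.sum_eq_zero fun i _ => by rw [← Finset.mul_sum, hz, mul_zero]
  rw [hc, zero_add, ← Nat.card_eq_fintype_card, inv_mul_cancel_left₀
    (Nat.cast_ne_zero.mpr Nat.card_pos.ne')]

theorem sum_nPts_comb {ι : Type*} [Fintype ι] {Z : ι → K → ℂ} (hZ : ∀ i, RelChar N (Z i)) {u : ℕ}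
    (hu : ∀ i, Z i 1 = u) (c : ι → ℤ) {f : K → ℂ} (hf : CosetConst N (f - comb Z c)) {h0 : K}
    (hh : h0 ∈ N) (h1 : h0 ≠ 1) :
    ∑ x ∈ nPts N, f x =
      ((nPts N).card : ℂ) * (f h0 - comb Z c h0) - (u : ℂ) * ((∑ i, c i : ℤ) : ℂ) := by
  have e : ∀ x ∈ nPts N, f x = comb Z c x + (f h0 - comb Z c h0) := fun x hx => by
    obtain ⟨hxN, hx1⟩ := mem_nPts.mp hx
    have := hf.on x hxN hx1 h0 hh h1
    simp only [Pi.sub_apply] at this
    rw [← this]; ring
  rw [Finset.sum_congr rfl e, Finset.sum_add_distrib, Finset.sum_const, nsmul_eq_mul]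
  simp only [comb]
  rw [Finset.sum_comm (f := fun x i => (c i : ℂ) * Z i x)]
  simp only [← Finset.mul_sum, sum_nPts_rel (hZ _), hu]
  rw [← Finset.sum_mul]
  push_cast
  ring

/-- The squared norm on `xSet N`. -/
theorem sum_normSq_decomp {ι : Type*} [Fintype ι] {Z : ι → K → ℂ} (hZ : ∀ i, RelChar N (Z i))
    (hinj : Function.Injective Z) {u : ℕ} (hu : ∀ i, Z i 1 = u) (c : ι → ℤ) {f : K → ℂ}
    (hf : CosetConst N (f - comb Z c)) {h0 : K} (hh : h0 ∈ N) (h1 : h0 ≠ 1) {k : ℤ}
    (hk : f h0 - comb Z c h0 = k) :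
    ∑ x ∈ xSet N, Complex.normSq (f x) =
      (Nat.card K : ℝ) * ((∑ i, c i ^ 2 : ℤ) : ℝ) - (u : ℝ) ^ 2 * ((∑ i, c i : ℤ) : ℝ) ^ 2 -
        2 * u * ((∑ i, c i : ℤ) : ℝ) * k +
        ((nPts N).card * (k : ℝ) ^ 2 + ∑ x ∈ outPts N, Complex.normSq (f x - comb Z c x)) := by
  set Φ := f - comb Z c with hΦ
  set C : ℤ := ∑ i, c i with hC
  have hΦ0 : Φ h0 = k := hk
  have hzz : ∑ x ∈ xSet N, comb Z c x * conj (comb Z c x) =
      (Nat.card K : ℂ) * ((∑ i, c i ^ 2 : ℤ) : ℂ) - (u : ℂ) ^ 2 * (C : ℂ) ^ 2 := by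
    simp only [comb, map_sum, map_mul, map_intCast, Finset.sum_mul, Finset.mul_sum]
    rw [Finset.sum_comm]
    have e1 : ∀ i j, ∑ x ∈ xSet N, (c i : ℂ) * Z i x * ((c j : ℂ) * conj (Z j x)) =
        (c i : ℂ) * (c j : ℂ) * ((if i = j then (Nat.card K : ℂ) else 0) - (u : ℂ) ^ 2) := by
      intro i j
      have e2 := sum_rel_pair (hZ i) (hZ j)
      rw [hu, hu, map_natCast, ← sq] at e2
      simp only [hinj.eq_iff] at e2
      rw [← e2, Finset.mul_sum]
      exact Finset.sum_congr rfl fun x _ => by ring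
    rw [Finset.sum_congr rfl fun j _ => (Finset.sum_comm).trans (Finset.sum_congr rfl fun i _ => e1 i j)]
    simp only [mul_sub, Finset.sum_sub_distrib, mul_ite, mul_zero, Finset.sum_ite_eq',
      Finset.mem_univ, if_true]
    rw [hC]
    push_cast
    rw [Finset.mul_sum, sq (∑ i, (c i : ℂ)), Finset.sum_mul_sum, Finset.mul_sum]
    congr 1
    · exact Finset.sum_congr rfl fun i _ => by ring
    · refine Finset.sum_congr rfl fun i _ => ?_
      rw [Finset.mul_sum]
      exact Finset.sum_congr rfl fun j _ => by ring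
  have hzΦ : ∑ x ∈ xSet N, comb Z c x * conj (Φ x) = -((u : ℂ) * (C : ℂ) * (k : ℂ)) := by
    simp only [comb, Finset.sum_mul, mul_assoc]
    rw [Finset.sum_comm]
    simp only [← Finset.mul_sum, sum_rel_const (hZ _) hf hh h1, hΦ0, hu, map_intCast]
    rw [hC]
    push_cast
    rw [← Finset.sum_mul]
    ring
  have hΦΦ : ∑ x ∈ xSet N, Complex.normSq (Φ x) =
      (nPts N).card * (k : ℝ) ^ 2 + ∑ x ∈ outPts N, Complex.normSq (Φ x) := by
    rw [xSet_eq, Finset.sum_union disjoint_out_nPts, add_comm]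
    congr 1
    rw [Finset.sum_congr rfl (g := fun _ => (k : ℝ) ^ 2) fun x hx => ?_, Finset.sum_const,
      nsmul_eq_mul]
    rw [hf.on x (mem_nPts.mp hx).1 (mem_nPts.mp hx).2 h0 hh h1, hΦ0, Complex.normSq_intCast, sq]
  have hcross : (∑ x ∈ xSet N, (comb Z c x * conj (Φ x)).re) = -((u : ℝ) * (C : ℝ) * (k : ℝ)) := by
    rw [← Complex.re_sum, hzΦ]
    simp
  have hsq : ∑ x ∈ xSet N, Complex.normSq (comb Z c x) =
      (Nat.card K : ℝ) * ((∑ i, c i ^ 2 : ℤ) : ℝ) - (u : ℝ) ^ 2 * (C : ℝ) ^ 2 := by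
    refine Complex.ofReal_injective ?_
    push_cast
    rw [Finset.sum_congr rfl fun x _ => (Complex.mul_conj (comb Z c x)).symm, hzz]
    push_cast
    ring
  calc ∑ x ∈ xSet N, Complex.normSq (f x)
      = ∑ x ∈ xSet N, (Complex.normSq (comb Z c x) + Complex.normSq (Φ x) +
          2 * (comb Z c x * conj (Φ x)).re) := Finset.sum_congr rfl fun x _ => by
        rw [← Complex.normSq_add, hΦ, Pi.sub_apply, add_sub_cancel]
    _ = _ := by
        rw [Finset.sum_add_distrib, Finset.sum_add_distrib, ← Finset.mul_sum, hcross, hsq, hΦΦ]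
        simp only [hΦ, Pi.sub_apply]
        ring

end CfsgLib.PF.Sec13Reg
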