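import Mathlib
import Cfsg.Agent.Lib.OddChar.CyclicTI

/-!
# Sets of conjugates and primary parts, for Peterfalvi (13.12)
-/

set_option autoImplicit false

namespace CfsgLib.PF.Sec13

open scoped Classical
open Finset CfsgLib.OddChar

universe u

variable {G : Type u} [Group G]

/-- The conjugates of the elements of `X`. -/
def conjSet (X : Set G) : Set G := {g | ∃ y : G, ∃ z ∈ X, g = y * z * y⁻¹}

theorem conj_mem_conjSet {X : Set G} {g : G} (h : g ∈ conjSet X) (y : G) :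
    y * g * y⁻¹ ∈ conjSet X := by
  obtain ⟨x, z, hz, rfl⟩ := h
  exact ⟨y * x, z, hz, by group⟩

theorem conjSet_mono {X Y : Set G} (h : X ⊆ Y) : conjSet X ⊆ conjSet Y := by
  rintro g ⟨y, z, hz, rfl⟩
  exact ⟨y, z, h hz, rfl⟩

/-- The elements of `W₁W₂` outside both factors. -/
def hatW (W₁ W₂ : Subgroup G) : Set G := {z | z ∈ W₁ ⊔ W₂ ∧ z ∉ W₁ ∧ z ∉ W₂}

variable [Fintype G]

/-- Sum of a class function over the conjugates of a trivial intersection set. -/
theorem sum_conjSet {X : Set G} {L : Subgroup G} (hn : ∀ l ∈ L, ∀ x ∈ X, l * x * l⁻¹ ∈ X)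
    (hTI : ∀ x ∈ X, ∀ y : G, y * x * y⁻¹ ∈ X → y ∈ L) {M : Type*} [AddCommMonoid M] (f : G → M)
    (hf : ∀ g y, f (y * g * y⁻¹) = f g) :
    ∑ g ∈ univ.filter (· ∈ conjSet X), f g = L.index • ∑ x ∈ univ.filter (· ∈ X), f x := by
  have hb : ∑ g ∈ univ.filter (· ∈ conjSet X), f g =
      ∑ p ∈ (univ : Finset (G ⧸ L)) ×ˢ univ.filter (· ∈ X), f p.2 := by
    refine (Finset.sum_bij (fun p _ => p.1.out * p.2 * p.1.out⁻¹) ?_ ?_ ?_ ?_).symm
    · rintro ⟨c, x⟩ hp
      simp only [mem_product, mem_filter, mem_univ, true_and] at hp ⊢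
      exact ⟨c.out, x, hp, rfl⟩
    · rintro ⟨c, x⟩ hp ⟨c', x'⟩ hp' e
      simp only [mem_product, mem_filter, mem_univ, true_and] at hp hp'
      have e1 : (c'.out⁻¹ * c.out) * x * (c'.out⁻¹ * c.out)⁻¹ = x' := by
        dsimp only at e
        calc _ = c'.out⁻¹ * (c.out * x * c.out⁻¹) * c'.out := by group
          _ = x' := by rw [e]; group
      have hl := hTI x hp (c'.out⁻¹ * c.out) (e1.symm ▸ hp')
      have hc : c' = c := by
        rw [← QuotientGroup.out_eq' c, ← QuotientGroup.out_eq' c']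
        exact QuotientGroup.eq.mpr hl
      subst hc
      simp at e1
      rw [e1]
    · intro g hg
      simp only [mem_filter, mem_univ, true_and] at hg
      obtain ⟨y, x, hx, rfl⟩ := hg
      set l := (QuotientGroup.mk y : G ⧸ L).out⁻¹ * y with hl
      have hlL : l ∈ L := QuotientGroup.eq.mp (QuotientGroup.out_eq' _)
      refine ⟨(QuotientGroup.mk y, l * x * l⁻¹), ?_, ?_⟩
      · simpa using hn l hlL x hx
      · rw [hl]; group
    · rintro ⟨c, x⟩ -
      exact (hf x _).symm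
  rw [hb, Finset.sum_product]
  simp only [Finset.sum_const, Finset.card_univ, ← Nat.card_eq_fintype_card]
  rfl

/-- An exponent killing the `q`-elements and fixing the `q'`-elements. -/
theorem exists_part_exponent (q : ℕ) [hq : Fact q.Prime] :
    ∃ e : ℕ, ∀ g : G, ¬ q ∣ orderOf (g ^ e) ∧ (¬ q ∣ orderOf g → g ^ e = g) ∧
      (∀ k : ℕ, g ^ q ^ k = 1 → g ^ e = 1) ∧ ∃ k : ℕ, (g * (g ^ e)⁻¹) ^ q ^ k = 1 := by
  have hn0 : Nat.card G ≠ 0 := Nat.card_pos.ne'
  set a := (Nat.card G).factorization q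
  set n' := Nat.card G / q ^ a with hn'
  have hsplit : q ^ a * n' = Nat.card G := Nat.ordProj_mul_ordCompl_eq_self _ _
  have hqn' : ¬ q ∣ n' := Nat.not_dvd_ordCompl hq.out hn0
  have hcop : Nat.Coprime (q ^ a) n' :=
    Nat.Coprime.pow_left _ (hq.out.coprime_iff_not_dvd.mpr hqn')
  obtain ⟨e, he0, he1⟩ := Nat.chineseRemainder hcop 0 1
  have hdiv : q ^ a ∣ e := Nat.modEq_zero_iff_dvd.mp he0
  refine ⟨e, fun g => ⟨fun h => hqn' (h.trans (orderOf_dvd_of_pow_eq_one ?_)), fun h => ?_,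
    fun k hk => ?_, a, ?_⟩⟩
  · obtain ⟨c, hc⟩ := hdiv
    rw [← pow_mul, hc, mul_assoc, mul_comm c, ← mul_assoc, hsplit, pow_mul, pow_card_eq_one', one_pow]
  · have hd : orderOf g ∣ n' := by
      have h1 : orderOf g ∣ q ^ a * n' := hsplit ▸ orderOf_dvd_natCard g
      exact ((hq.out.coprime_iff_not_dvd.mpr h).symm.pow_right a).dvd_of_dvd_mul_left h1
    conv_rhs => rw [← pow_one g]
    exact pow_eq_pow_iff_modEq.mpr (he1.of_dvd hd)
  · obtain ⟨j, -, hj⟩ := (Nat.dvd_prime_pow hq.out).mp (orderOf_dvd_of_pow_eq_one hk)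
    refine orderOf_dvd_iff_pow_eq_one.mp (dvd_trans ?_ hdiv)
    rw [hj]
    exact pow_dvd_pow q ((hq.out.pow_dvd_iff_le_factorization hn0).mp (hj ▸ orderOf_dvd_natCard g))
  · have hc : Commute g (g ^ e)⁻¹ := ((Commute.refl g).pow_right e).inv_right
    rw [hc.mul_pow, inv_pow, ← pow_mul, mul_inv_eq_one]
    refine pow_eq_pow_iff_modEq.mpr (Nat.ModEq.of_dvd (hsplit ▸ orderOf_dvd_natCard g) ?_)
    have := (he1.symm.mul_left' (q ^ a))
    rwa [mul_one, mul_comm (q ^ a) e] at this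

/-- A subgroup of prime power order prime to its index contains a conjugate of every element of
`p`-power order. -/
theorem exists_conj_mem_hall (p : ℕ) [Fact p.Prime] {P : Subgroup G} {n : ℕ} (hP : Nat.card P = p ^ n)
    (hn : n ≠ 0) (hcop : (Nat.card P).Coprime P.index) {z : G} {k : ℕ} (hz : z ^ p ^ k = 1) :
    ∃ y : G, y * z * y⁻¹ ∈ P := by
  have hndvd : ¬ p ∣ P.index := fun h => (Fact.out : p.Prime).not_dvd_one
    (hcop ▸ Nat.dvd_gcd (hP ▸ dvd_pow_self p hn) h)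
  let Q : Sylow p G := (IsPGroup.of_card hP).toSylow hndvd
  have hzp : IsPGroup p (Subgroup.zpowers z) := fun a => ⟨k, by
    obtain ⟨i, hi⟩ := Subgroup.mem_zpowers_iff.mp a.2
    refine Subtype.ext ?_
    rw [Subgroup.coe_pow, OneMemClass.coe_one, ← hi, ← zpow_natCast, ← zpow_mul, mul_comm, zpow_mul,
      zpow_natCast, hz, one_zpow]⟩
  obtain ⟨R, hR⟩ := hzp.exists_le_sylow
  obtain ⟨y, hy⟩ := MulAction.exists_smul_eq G R Q
  refine ⟨y, ?_⟩
  have : y * z * y⁻¹ ∈ (y • R : Sylow p G) := ⟨z, hR (Subgroup.mem_zpowers z), rfl⟩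
  rwa [hy] at this

end CfsgLib.PF.Sec13
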