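import Mathlib
import Cfsg.Agent.Lib.PF.Sec13Facts
import Cfsg.Agent.Lib.PF.Sec13Group
import Cfsg.Agent.Lib.PF.Sec13RegSets
import Cfsg.Agent.Lib.PF.TIDataExists
import Cfsg.Agent.Lib.Sporadic.NormalizerCriterion

/-!
# Peterfalvi (13.12): the group theory of the configuration
-/

set_option autoImplicit false
set_option linter.unusedSectionVars false
set_option linter.style.haveILetI false

namespace CfsgLib.PF.Sec13

open Subgroup CfsgLib.OddOrder CfsgLib.OddOrder.Transitivity CfsgLib.OddOrder41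
open scoped Classical

universe u

variable {G : Type u} [Group G] [Fintype G]

/-- A pair whose left side is of Type II, with what is used in (13.12). -/
structure RegCtx (S T W₁ W₂ U V : Subgroup G) : Prop where
  pair : TypePPair S T W₁ W₂ U V
  kind : Kind2 S W₁ U W₂
  notI : ¬ OfTypeI S
  notI' : ¬ OfTypeI T
  core : Cfsg.typeCore S = Cfsg.fittingHallOf S
  q_prime : (Nat.card W₁).Prime
  p_prime : (Nat.card W₂).Prime
  ne : Nat.card W₁ ≠ Nat.card W₂
  P_elem : Cfsg.IsElementaryAbelian (Nat.card W₂) (Cfsg.fittingHallOf S)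
  P_card : Nat.card (Cfsg.fittingHallOf S) = Nat.card W₂ ^ Nat.card W₁
  Q_elem : Cfsg.IsElementaryAbelian (Nat.card W₁) (Cfsg.fittingHallOf T)
  Q_card : Nat.card (Cfsg.fittingHallOf T) = Nat.card W₁ ^ Nat.card W₂
  P_hall : (Nat.card (Cfsg.fittingHallOf S)).Coprime (Cfsg.fittingHallOf S).index
  Q_hall : (Nat.card (Cfsg.fittingHallOf T)).Coprime (Cfsg.fittingHallOf T).index
  TI : Cfsg.IsTISubset (suppA0 S)
  N_A0 : Subgroup.normalizer (suppA0 S) = S
  TI' : Cfsg.IsTISubset (suppA0 T)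
  N_A0' : Subgroup.normalizer (suppA0 T) = T
  FTI' : Cfsg.IsTISubset (Cfsg.fittingOf T : Set G)
  N_FT : Subgroup.normalizer (Cfsg.fittingOf T : Set G) = T
  N_FS : Subgroup.normalizer (Cfsg.fittingOf S : Set G) = S
  V_ne : V ≠ ⊥

theorem regCtx (hG : Cfsg.IsMinSimpleOddOrder G) (hT : PropTypes G) (hK : PropKinds G)
    (hCore : PropCore G) (hP : PropPairFacts G) {S T W₁ W₂ U V : Subgroup G}
    (h : TypePPair S T W₁ W₂ U V) (h2 : Kind2 S W₁ U W₂) : RegCtx S T W₁ W₂ U V := by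
  obtain ⟨hq, hp, hne, -, -, hab, hcard, -, hTI, hN, -⟩ := hP S T W₁ W₂ U V h
  obtain ⟨-, -, -, hkT, -, hab', hcard', -, hTI', hN', -⟩ := hP T S W₂ W₁ V U (TypePPair.symm h)
  have hcore : Cfsg.typeCore S = Cfsg.fittingHallOf S := by
    rw [Cfsg.typeCore, if_neg fun h34 => ?_]
    exact h2.normalizer_not_le ((hK S W₁ U W₂ h.left_max h.left).2.2.1.mp h34).normalizer_le
  obtain ⟨hFT, hV⟩ : Cfsg.IsTISubset (Cfsg.fittingOf T : Set G) ∧ V ≠ ⊥ := by
    rcases hkT with k | ⟨k, -⟩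
    · exact ⟨k.TI, k.U_ne⟩
    · exact ⟨k.TI, k.U_ne⟩
  exact ⟨h, h2, (hT S h.left_max).2 W₁ U W₂ h.left, (hT T h.right_max).2 W₂ V W₁ h.right, hcore, hq,
    hp, hne, hab, hcard, hab', hcard', (hCore S h.left_max).2.1, (hCore T h.right_max).2.1, hTI, hN,
    hTI', hN', hFT, normalizer_fittingOf hG h.right_max h.right, normalizer_fittingOf hG h.left_max h.left,
    hV⟩

/-- `H = S_F × C_U(S_F)`. -/
def regH (S U : Subgroup G) : Subgroup G :=
  Cfsg.fittingHallOf S ⊔ (U ⊓ Subgroup.centralizer (Cfsg.fittingHallOf S : Set G))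

/-- The elements of `G` outside the conjugates of `A(S)` and of `W - (W₁ ∪ W₂)`. -/
def regR (S W₁ W₂ : Subgroup G) : Set G :=
  {g | g ∉ conjSet (suppA S) ∧ g ∉ conjSet (hatW W₁ W₂)}

namespace RegCtx

variable {S T W₁ W₂ U V : Subgroup G} (C : RegCtx S T W₁ W₂ U V)

include C

theorem suppA_def : suppA S = centSupp ⁅S, S⁆ (Cfsg.fittingHallOf S) := by
  rw [suppA, if_neg C.notI, C.core]

theorem suppA_def' : suppA T = centSupp ⁅T, T⁆ (Cfsg.typeCore T) := by
  rw [suppA, if_neg C.notI']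

theorem centralizer_le {a : G} (ha : a ∈ suppA0 S) (ha1 : a ≠ 1) :
    Subgroup.centralizer ({a} : Set G) ≤ S := by
  intro c hc
  by_contra hcS
  refine ha1 (C.TI c (C.N_A0.symm ▸ hcS) a ha ?_)
  rwa [Subgroup.mem_centralizer_singleton_iff.mp hc, mul_inv_cancel_right]

theorem centralizer_le' {a : G} (ha : a ∈ suppA0 T) (ha1 : a ≠ 1) :
    Subgroup.centralizer ({a} : Set G) ≤ T := by
  intro c hc
  by_contra hcS
  refine ha1 (C.TI' c (C.N_A0'.symm ▸ hcS) a ha ?_)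
  rwa [Subgroup.mem_centralizer_singleton_iff.mp hc, mul_inv_cancel_right]

theorem suppA_ne_one {a : G} (ha : a ∈ suppA S) : a ≠ 1 := by
  rw [C.suppA_def] at ha; exact ha.2.1

theorem suppA_derived {a : G} (ha : a ∈ suppA S) : a ∈ ⁅S, S⁆ := by
  rw [C.suppA_def] at ha; exact ha.1

theorem suppA_TI {a : G} (ha : a ∈ suppA S) {y : G} (h : y * a * y⁻¹ ∈ suppA S) : y ∈ S := by
  by_contra hy
  exact C.suppA_ne_one ha (C.TI y (C.N_A0.symm ▸ hy) a (Or.inl ha) (Or.inl h))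

theorem coprime_derived {g : G} (hg : g ∈ ⁅S, S⁆) : ¬ Nat.card W₁ ∣ orderOf g := fun h =>
  C.q_prime.ne_one (Nat.eq_one_of_dvd_coprimes (coprime_W₁_derived C.pair.left) dvd_rfl
    (h.trans (Subgroup.orderOf_dvd_natCard _ hg)))

theorem conjA_not_dvd {g : G} (hg : g ∈ conjSet (suppA S)) : ¬ Nat.card W₁ ∣ orderOf g := by
  obtain ⟨y, a, ha, rfl⟩ := hg
  rw [← MulAut.conj_apply, MulEquiv.orderOf_eq]
  exact C.coprime_derived (C.suppA_derived ha)

theorem hat_dvd {g : G} (hg : g ∈ conjSet (hatW W₁ W₂)) :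
    Nat.card W₁ ∣ orderOf g ∧ Nat.card W₂ ∣ orderOf g := by
  obtain ⟨y, z, ⟨hz, h1, h2⟩, rfl⟩ := hg
  rw [← MulAut.conj_apply, MulEquiv.orderOf_eq]
  haveI := C.pair.left.selfNormalizing.2.2.2.2.1
  have hcard : Nat.card ↥(W₁ ⊔ W₂) = Nat.card W₁ * Nat.card W₂ := by
    rw [← Nat.card_congr (Equiv.ofBijective _ (CfsgLib.OddChar.ctiMul_bijective
      C.pair.left.selfNormalizing.2.2.1 C.pair.left.selfNormalizing.2.2.2.1)), Nat.card_prod]
  have hd : orderOf z ∣ Nat.card W₁ * Nat.card W₂ := hcard ▸ Subgroup.orderOf_dvd_natCard _ hz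
  constructor
  · by_contra hn
    exact h2 ((CfsgLib.OddChar.mem_iff_pow_card_eq_one le_sup_right hz).mpr (orderOf_dvd_iff_pow_eq_one.mp
      ((C.q_prime.coprime_iff_not_dvd.mpr hn).symm.dvd_of_dvd_mul_left hd)))
  · by_contra hn
    exact h1 ((CfsgLib.OddChar.mem_iff_pow_card_eq_one le_sup_left hz).mpr (orderOf_dvd_iff_pow_eq_one.mp
      ((C.p_prime.coprime_iff_not_dvd.mpr hn).symm.dvd_of_dvd_mul_right hd)))

/-- An element of `S - S'` centralizing an element of `S'` in a way forcing it into `W`. -/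
theorem exists_conj_W {g : G} (hg : g ∈ S) (hd : Nat.card W₁ ∣ orderOf g) :
    ∃ s ∈ S, s * g * s⁻¹ ∈ W₁ ⊔ W₂ ∧ Nat.card W₁ ∣ orderOf (s * g * s⁻¹) := by
  have d := C.pair.left
  have := Fact.mk C.q_prime
  set w : S := ⟨g ^ (orderOf g / Nat.card W₁), pow_mem hg _⟩ with hw
  have hwo : orderOf (w : G) = Nat.card W₁ := by
    rw [hw, orderOf_pow_orderOf_div (orderOf_pos g).ne' hd]
  have hW1 : Nat.card (W₁.subgroupOf S) = Nat.card W₁ :=
    Nat.card_congr (Subgroup.subgroupOfEquivOfLe (W₁_le d)).toEquiv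
  have hcop : (Nat.card (W₁.subgroupOf S)).Coprime (W₁.subgroupOf S).index := by
    rw [hW1]; exact d.W₁_hall
  obtain ⟨s, hs⟩ := exists_conj_mem_hall (Nat.card W₁) (n := 1) (by rw [hW1, pow_one]) one_ne_zero hcop
    (z := w) (k := 1) (by
      exact Subtype.ext (by rw [pow_one, Subgroup.coe_pow, Subgroup.coe_one, ← hwo, pow_orderOf_eq_one]))
  refine ⟨s, s.2, ?_, by rwa [← MulAut.conj_apply, MulEquiv.orderOf_eq]⟩
  have hs' : (s : G) * (w : G) * (s : G)⁻¹ ∈ W₁ := Subgroup.mem_subgroupOf.mp hs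
  have hne : (s : G) * (w : G) * (s : G)⁻¹ ≠ 1 := fun e => C.q_prime.ne_one (by
    rw [← hwo, ← MulEquiv.orderOf_eq (MulAut.conj (s : G)), MulAut.conj_apply, e, orderOf_one])
  obtain ⟨x, hx, w', hw', e⟩ := d.W₁_compl.2.2.2 ((s : G) * g * (s : G)⁻¹)
    (S.mul_mem (S.mul_mem s.2 hg) (S.inv_mem s.2))
  rw [e]
  refine mul_mem (Subgroup.mem_sup_right ?_) (Subgroup.mem_sup_left hw')
  rw [← d.W₂_centralizer _ hs' hne]
  refine ⟨hx, Subgroup.mem_centralizer_singleton_iff.mpr ?_⟩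
  have h1 : Commute ((s : G) * (w : G) * (s : G)⁻¹) ((s : G) * g * (s : G)⁻¹) := by
    have := ((Commute.refl g).pow_left (orderOf g / Nat.card W₁)).map (MulAut.conj (s : G)).toMonoidHom
    simpa [hw] using this
  have h2 : Commute ((s : G) * (w : G) * (s : G)⁻¹) w' := by
    haveI := d.W₁_cyclic
    exact congrArg Subtype.val (IsCyclic.commGroup.mul_comm (⟨_, hs'⟩ : W₁) ⟨w', hw'⟩)
  have h3 : Commute ((s : G) * (w : G) * (s : G)⁻¹) x := by
    have := (e ▸ h1).mul_right h2.inv_right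
    rwa [mul_inv_cancel_right] at this
  exact h3.eq.symm

theorem dvd_mem {g : G} (hd : Nat.card W₂ ∣ orderOf g) :
    g ∈ conjSet (suppA S) ∪ conjSet (hatW W₁ W₂) := by
  have d := C.pair.left
  have := Fact.mk C.p_prime
  set z := g ^ (orderOf g / Nat.card W₂) with hz
  have hzo : orderOf z = Nat.card W₂ := orderOf_pow_orderOf_div (orderOf_pos g).ne' hd
  obtain ⟨y, hy⟩ := exists_conj_mem_hall (Nat.card W₂) C.P_card C.q_prime.ne_zero C.P_hall (z := z)
    (k := 1) (by rw [pow_one, ← hzo, pow_orderOf_eq_one])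
  set g₁ := y * g * y⁻¹ with hg₁
  have hg₁o : orderOf g₁ = orderOf g := by rw [hg₁, ← MulAut.conj_apply, MulEquiv.orderOf_eq]
  have hz1 : y * z * y⁻¹ ≠ 1 := fun e => C.p_prime.ne_one (by
    rw [← hzo, ← MulEquiv.orderOf_eq (MulAut.conj y), MulAut.conj_apply, e, orderOf_one])
  have hcomm : Commute g₁ (y * z * y⁻¹) := by
    have := ((Commute.refl g).pow_right (orderOf g / Nat.card W₂)).map (MulAut.conj y).toMonoidHom
    simpa [hg₁, hz] using this
  have hzA : y * z * y⁻¹ ∈ suppA S := by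
    rw [C.suppA_def]
    exact ⟨d.U_compl.1 hy, hz1, _, hy, hz1, rfl⟩
  have hgS : g₁ ∈ S := C.centralizer_le (Or.inl hzA) hz1
    (Subgroup.mem_centralizer_singleton_iff.mpr hcomm.eq)
  have hg1 : g₁ ≠ 1 := fun e => C.p_prime.not_dvd_one (by rwa [← orderOf_one (G := G), ← e, hg₁o])
  have hback : g = y⁻¹ * g₁ * (y⁻¹)⁻¹ := by rw [hg₁]; group
  by_cases hg' : g₁ ∈ ⁅S, S⁆
  · refine Or.inl ⟨y⁻¹, g₁, ?_, hback⟩
    rw [C.suppA_def]
    exact ⟨hg', hg1, _, hy, hz1, hcomm.eq⟩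
  have hqd : Nat.card W₁ ∣ orderOf g₁ := by
    by_contra hn
    refine hg' ?_
    have := derived_subgroupOf_normal S
    have hidx : ((⁅S, S⁆ : Subgroup G).subgroupOf S).index = Nat.card W₁ :=
      IsComplIn.relIndex_left d.W₁_compl
    have h1 := Subgroup.pow_index_mem ((⁅S, S⁆ : Subgroup G).subgroupOf S) ⟨g₁, hgS⟩
    rw [hidx, Subgroup.mem_subgroupOf] at h1
    obtain ⟨m, hm⟩ := exists_pow_eq_self_of_coprime (C.q_prime.coprime_iff_not_dvd.mpr hn)
    rw [← hm]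
    exact pow_mem h1 _
  obtain ⟨s, hs, hsW, hsd⟩ := C.exists_conj_W hgS hqd
  refine Or.inr ⟨y⁻¹ * s⁻¹, s * g₁ * s⁻¹, ⟨hsW, fun h1 => ?_, fun h2 => ?_⟩, by rw [hback]; group⟩
  · have := Subgroup.orderOf_dvd_natCard _ h1
    rw [← MulAut.conj_apply, MulEquiv.orderOf_eq, hg₁o] at this
    exact C.ne ((Nat.prime_dvd_prime_iff_eq C.p_prime C.q_prime).mp (hd.trans this)).symm
  · exact C.coprime_derived (d.U_compl.1 (W₂_le_fittingHall d h2)) hsd

theorem R_not_dvd {g : G} (hg : g ∈ regR S W₁ W₂) : ¬ Nat.card W₂ ∣ orderOf g := fun h =>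
  (C.dvd_mem h).elim hg.1 hg.2

theorem mem_R {g : G} (hq : Nat.card W₁ ∣ orderOf g) (hp : ¬ Nat.card W₂ ∣ orderOf g) :
    g ∈ regR S W₁ W₂ :=
  ⟨fun h => C.conjA_not_dvd h hq, fun h => hp (C.hat_dvd h).2⟩

/-- The `q'`-part of a `q`-singular element outside the conjugates of `A(S)` lies outside them too. -/
theorem part_mem_R {z h : G} (hz : orderOf z = Nat.card W₁) (hc : Commute z h)
    (hhq : ¬ Nat.card W₁ ∣ orderOf h) (hhp : ¬ Nat.card W₂ ∣ orderOf h) :
    h ∈ regR S W₁ W₂ := by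
  refine ⟨fun ⟨y, a, ha, e⟩ => ?_, fun h' => hhq (C.hat_dvd h').1⟩
  set z₁ := y⁻¹ * z * y with hz₁
  have hz₁o : orderOf z₁ = Nat.card W₁ := by
    rw [hz₁, ← hz, ← MulEquiv.orderOf_eq (MulAut.conj y⁻¹) z, MulAut.conj_apply, inv_inv]
  have hc₁ : Commute z₁ a := by
    have := hc.map (MulAut.conj y⁻¹).toMonoidHom
    simpa [hz₁, e, mul_assoc] using this
  have hzS : z₁ ∈ S := C.centralizer_le (Or.inl ha) (C.suppA_ne_one ha)
    (Subgroup.mem_centralizer_singleton_iff.mpr hc₁.eq)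
  have hao : orderOf a = orderOf h := by rw [e, ← MulAut.conj_apply, MulEquiv.orderOf_eq]
  obtain ⟨s, hs, hsW, hsd⟩ := C.exists_conj_W hzS hz₁o.symm.dvd
  haveI := C.pair.left.selfNormalizing.2.2.2.2.1
  have hsW₁ : s * z₁ * s⁻¹ ∈ W₁ := (CfsgLib.OddChar.mem_iff_pow_card_eq_one le_sup_left hsW).mpr (by
    rw [conj_pow, ← hz₁o, pow_orderOf_eq_one, mul_one, mul_inv_cancel])
  have hne : s * z₁ * s⁻¹ ≠ 1 := fun e' => C.q_prime.not_dvd_one (by
    rwa [e', orderOf_one] at hsd)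
  have hW2 : s * a * s⁻¹ ∈ W₂ := by
    rw [← C.pair.left.W₂_centralizer _ hsW₁ hne]
    refine ⟨?_, Subgroup.mem_centralizer_singleton_iff.mpr ?_⟩
    · have := (derived_subgroupOf_normal S).conj_mem
        ⟨a, Subgroup.commutator_le_self S (C.suppA_derived ha)⟩ (C.suppA_derived ha) ⟨s, hs⟩
      exact this
    · have := (hc₁.map (MulAut.conj s).toMonoidHom).symm
      simpa using this.eq
  have h1 := Subgroup.orderOf_dvd_natCard _ hW2
  rw [← MulAut.conj_apply, MulEquiv.orderOf_eq, hao] at h1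
  rcases (Nat.dvd_prime C.p_prime).mp h1 with h2 | h2
  · exact C.suppA_ne_one ha (orderOf_eq_one_iff.mp (hao.trans h2))
  · exact hhp h2.symm.dvd

theorem centralizer_Q {z : G} (hz : z ∈ Cfsg.fittingHallOf T) (hz1 : z ≠ 1) :
    Subgroup.centralizer ({z} : Set G) ≤ T := by
  intro c hc
  by_contra hcT
  refine hz1 (C.FTI' c (C.N_FT.symm ▸ hcT) z (OddOrder42.fittingHallOf_le_fitting T hz) ?_)
  rw [Subgroup.mem_centralizer_singleton_iff.mp hc, mul_inv_cancel_right]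
  exact OddOrder42.fittingHallOf_le_fitting T hz

theorem exists_conj_Q {z : G} {k : ℕ} (hz : z ^ Nat.card W₁ ^ k = 1) :
    ∃ y : G, y * z * y⁻¹ ∈ Cfsg.fittingHallOf T :=
  have := Fact.mk C.q_prime
  exists_conj_mem_hall (Nat.card W₁) C.Q_card C.p_prime.ne_zero C.Q_hall hz

/-- A non-trivial `q'`-element `h` centralizing a non-trivial `q`-element: the `q`-elements
centralizing it form the subgroup `E`. -/
theorem exists_fibre {h z : G} {k : ℕ} (hh : h ≠ 1) (hhq : ¬ Nat.card W₁ ∣ orderOf h)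
    (hhp : ¬ Nat.card W₂ ∣ orderOf h) (hz : z ^ Nat.card W₁ ^ k = 1) (hz1 : z ≠ 1)
    (hc : Commute z h) :
    ∃ E : Subgroup G, (∀ x ∈ E, x ^ Nat.card W₁ = 1 ∧ Commute x h) ∧
      ∀ (x : G) (j : ℕ), x ^ Nat.card W₁ ^ j = 1 → Commute x h → x ∈ E := by
  have d := C.pair.right
  have := Fact.mk C.q_prime
  obtain ⟨y, hy⟩ := C.exists_conj_Q hz
  set Q := Cfsg.fittingHallOf T
  set h' := y * h * y⁻¹ with hh'
  have hho : orderOf h' = orderOf h := by rw [hh', ← MulAut.conj_apply, MulEquiv.orderOf_eq]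
  have hzy : y * z * y⁻¹ ≠ 1 := fun e => hz1 (by simpa using conj_eq_one_iff.mp e)
  have hc' : Commute (y * z * y⁻¹) h' := by
    simpa [hh'] using hc.map (MulAut.conj y).toMonoidHom
  have hhT : h' ∈ T := C.centralizer_Q hy hzy (Subgroup.mem_centralizer_singleton_iff.mpr hc'.eq.symm)
  have hh'T : h' ∈ ⁅T, T⁆ := by
    have := derived_subgroupOf_normal T
    have hidx : ((⁅T, T⁆ : Subgroup G).subgroupOf T).index = Nat.card W₂ :=
      IsComplIn.relIndex_left d.W₁_compl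
    have h1 := Subgroup.pow_index_mem ((⁅T, T⁆ : Subgroup G).subgroupOf T) ⟨h', hhT⟩
    rw [hidx, Subgroup.mem_subgroupOf] at h1
    obtain ⟨m, hm⟩ := exists_pow_eq_self_of_coprime
      (x := h') (n := Nat.card W₂) (C.p_prime.coprime_iff_not_dvd.mpr (hho ▸ hhp))
    rw [← hm]
    exact pow_mem h1 _
  have hh1 : h' ≠ 1 := fun e => hh (by simpa [hh'] using conj_eq_one_iff.mp e)
  have hQc : Q ≤ Cfsg.typeCore T := by
    rw [Cfsg.typeCore]; split_ifs
    · exact d.U_compl.1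
    · exact le_rfl
  have hA : h' ∈ suppA0 T := Or.inl (by
    rw [C.suppA_def']; exact ⟨hh'T, hh1, _, hQc hy, hzy, hc'.eq.symm⟩)
  refine ⟨(Q ⊓ Subgroup.centralizer ({h'} : Set G)).comap (MulAut.conj y).toMonoidHom, ?_, ?_⟩
  · intro x hx
    simp only [Subgroup.mem_comap, Subgroup.mem_inf, MulEquiv.coe_toMonoidHom, MulAut.conj_apply] at hx
    refine ⟨?_, ?_⟩
    · have := C.Q_elem.2 _ hx.1
      rwa [conj_pow, conj_eq_one_iff] at this
    · have := Subgroup.mem_centralizer_singleton_iff.mp hx.2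
      rw [hh'] at this
      exact (MulAut.conj y).injective (by
        simp only [map_mul, MulAut.conj_apply]
        exact this)
  · intro x j hx hxc
    simp only [Subgroup.mem_comap, Subgroup.mem_inf, MulEquiv.coe_toMonoidHom, MulAut.conj_apply]
    have hcx : y * x * y⁻¹ ∈ Subgroup.centralizer ({h'} : Set G) :=
      Subgroup.mem_centralizer_singleton_iff.mpr (by
        simpa [hh'] using (hxc.map (MulAut.conj y).toMonoidHom).eq)
    refine ⟨?_, hcx⟩
    have hxT := C.centralizer_le' hA hh1 hcx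
    have hn : (Q.subgroupOf T).Normal :=
      Subgroup.normal_subgroupOf_iff_le_normalizer (d.U_compl.1.trans (Subgroup.commutator_le_self T)) |>.mpr
        (fittingHallOf_normal T)
    refine OddOrder42.mem_of_coprime_relIndex (d.U_compl.1.trans (Subgroup.commutator_le_self T))
      (fittingHallOf_normal T) hxT ?_
    have h1 : orderOf (y * x * y⁻¹) ∣ Nat.card W₁ ^ j := by
      rw [← MulAut.conj_apply, MulEquiv.orderOf_eq]; exact orderOf_dvd_of_pow_eq_one hx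
    refine Nat.Coprime.coprime_dvd_left h1 (Nat.Coprime.pow_left _ ?_)
    have h2 := fittingHallOf_coprime_relIndex T
    rw [C.Q_card] at h2
    exact (Nat.coprime_pow_left_iff C.p_prime.pos _ _).mp h2

/-- The non-trivial `q`-elements. -/
theorem card_qElements_le :
    (Finset.univ.filter fun g : G => g ≠ 1 ∧ ∃ k, g ^ Nat.card W₁ ^ k = 1).card ≤
      T.index * (Nat.card (Cfsg.fittingHallOf T) - 1) := by
  set Q := Cfsg.fittingHallOf T
  set Q₁ := (Finset.univ.filter fun z : G => z ∈ Q ∧ z ≠ 1)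
  have hcard : Q₁.card = Nat.card Q - 1 := by
    have : Q₁ = (Finset.univ.filter fun z : G => z ∈ Q).erase 1 := by ext; simp [Q₁, and_comm]
    rw [this, Finset.card_erase_of_mem (by simp [Q.one_mem]), Nat.card_eq_fintype_card,
      Fintype.card_subtype]
  refine le_trans (Finset.card_le_card_of_surjOn (s := (Finset.univ : Finset (G ⧸ T)) ×ˢ Q₁)
    (fun p => p.1.out * p.2 * p.1.out⁻¹) ?_) (le_of_eq ?_)
  · intro g hg
    simp only [Finset.coe_filter, Set.mem_setOf_eq, Finset.mem_univ, true_and] at hg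
    obtain ⟨hg1, k, hk⟩ := hg
    obtain ⟨y, hy⟩ := C.exists_conj_Q hk
    set l := (QuotientGroup.mk y⁻¹ : G ⧸ T).out⁻¹ * y⁻¹ with hl
    have hlT : l ∈ T := QuotientGroup.eq.mp (QuotientGroup.out_eq' _)
    refine ⟨(QuotientGroup.mk y⁻¹, l * (y * g * y⁻¹) * l⁻¹), ?_, by simp [hl]; group⟩
    simp only [Finset.coe_product, Set.mem_prod, Finset.coe_univ, Set.mem_univ, true_and, Q₁,
      Finset.coe_filter, Set.mem_setOf_eq, Finset.mem_univ]
    exact ⟨(Subgroup.mem_normalizer_iff.mp (fittingHallOf_normal T hlT) _).mp hy,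
      fun e => hg1 (conj_eq_one_iff.mp (conj_eq_one_iff.mp e))⟩
  · rw [Finset.card_product, hcard, Finset.card_univ, ← Nat.card_eq_fintype_card]; rfl

end RegCtx

end CfsgLib.PF.Sec13
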