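import Cfsg.Agent.Lib.Characters.Galois
import Cfsg.Agent.Lib.Characters.Generalized
import Cfsg.Agent.Lib.Characters.Clifford
import Cfsg.Agent.Lib.Characters.NormalAvg
import Cfsg.Agent.Lib.Characters.NormalRes
import Cfsg.Agent.Lib.Characters.Ito
import Mathlib.RingTheory.ZMod.UnitsCyclic
import Mathlib.NumberTheory.DirichletCharacter.Basic

/-!
# Tools for the proof of Peterfalvi (13.12)

Integrality of fixed values, averages of virtual characters over cosets, and the lower bound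
`|E| ≤ ∑_{y ∈ E} θ(y h)²` for integer valued virtual characters not vanishing on `E h`.
-/

set_option autoImplicit false
set_option linter.unusedSectionVars false

namespace CfsgLib.PF.Sec13

open scoped Classical ComplexConjugate
open Finset CfsgLib.Characters Cfsg

universe u

variable {X : Type u} [Group X] [Fintype X]

theorem gen_integral {Θ : X → ℂ} (h : IsGeneralizedCharacter X Θ) (g : X) : IsIntegral ℤ (Θ g) := by
  obtain ⟨χ, χ', h1, h2, rfl⟩ := h
  exact (isIntegral_of_isCharacter h1 g).sub (isIntegral_of_isCharacter h2 g)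

theorem int_of_integral_rat {z : ℂ} (hz : IsIntegral ℤ z) {r : ℚ} (hr : z = (r : ℂ)) :
    ∃ n : ℤ, z = (n : ℂ) := by
  obtain ⟨n, hn⟩ := exists_int_of_isIntegral_rat (hr ▸ hz)
  exact ⟨n, by rw [hr, ← hn]; simp⟩

/-- A value of a virtual character fixed by every automorphism of `ℂ` is an integer. -/
theorem int_of_fixed {Θ : X → ℂ} (h : IsGeneralizedCharacter X Θ) (g : X)
    (hfix : ∀ σ : ℂ ≃+* ℂ, σ (Θ g) = Θ g) : ∃ n : ℤ, Θ g = n := by
  have hint := gen_integral h g
  obtain ⟨χ, χ', h1, h2, rfl⟩ := h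
  obtain ⟨N, z, hz, hd⟩ := CfsgLib.CharGalois.exists_root_decomp h1 g
  obtain ⟨N', z', hz', hd'⟩ := CfsgLib.CharGalois.exists_root_decomp h2 g
  have e : (χ - χ') g = ∑ i : Fin N ⊕ Fin N', Sum.elim z (fun j => -z' j) i := by
    have e1 := hd 1
    have e2 := hd' 1
    simp only [pow_one] at e1 e2
    rw [Fintype.sum_sum_type]
    simp [Pi.sub_apply, e1, e2, sub_eq_add_neg]
  have : NeZero (2 * Nat.card X) := ⟨mul_ne_zero two_ne_zero Nat.card_pos.ne'⟩
  obtain ⟨r, hr⟩ := CfsgLib.CharGalois.exists_rat_of_fixed (2 * Nat.card X) Finset.univ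
    (Sum.elim z (fun j => -z' j)) (fun i _ => by
      rcases i with i | i
      · rw [Sum.elim_inl, mul_comm, pow_mul, hz, one_pow]
      · rw [Sum.elim_inr, pow_mul, neg_sq, ← pow_mul, mul_comm, pow_mul, hz', one_pow])
    (fun m σ _ _ => by rw [← e]; exact hfix σ)
  exact int_of_integral_rat hint (e ▸ hr)

/-- The averages of a virtual character over the cosets of a subgroup form a virtual character of its
normalizer. -/
theorem mean_gen {Θ : X → ℂ} (h : IsGeneralizedCharacter X Θ) (E : Subgroup X) :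
    IsGeneralizedCharacter ↥(Subgroup.normalizer (E : Set X))
      (fun x => (Nat.card E : ℂ)⁻¹ * ∑ y : E, Θ ((y : X) * x)) := by
  obtain ⟨χ, χ', h1, h2, rfl⟩ := h
  set K := Subgroup.normalizer (E : Set X)
  haveI : (E.subgroupOf K).Normal := Subgroup.normal_in_normalizer
  refine ⟨_, _, CfsgLib.NormalAvg.isCharacter_avgN (E.subgroupOf K) (CfsgLib.NormalRes.isCharacter_res K h1),
    CfsgLib.NormalAvg.isCharacter_avgN (E.subgroupOf K) (CfsgLib.NormalRes.isCharacter_res K h2), ?_⟩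
  funext x
  have e := (Subgroup.subgroupOfEquivOfLe (Subgroup.le_normalizer (H := E))).toEquiv
  simp only [CfsgLib.NormalAvg.avgN, Pi.sub_apply, ← mul_sub, ← Finset.sum_sub_distrib]
  rw [Nat.card_congr e]
  congr 1
  exact (Fintype.sum_equiv (Subgroup.subgroupOfEquivOfLe (Subgroup.le_normalizer (H := E))).toEquiv
    _ _ fun _ => rfl).symm

/-- A fixed average of a virtual character over a coset is an integer. -/
theorem mean_int {Θ : X → ℂ} (h : IsGeneralizedCharacter X Θ) {E : Subgroup X} {x : X}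
    (hx : x ∈ Subgroup.normalizer (E : Set X))
    (hfix : ∀ σ : ℂ ≃+* ℂ, σ ((Nat.card E : ℂ)⁻¹ * ∑ y : E, Θ ((y : X) * x)) =
      (Nat.card E : ℂ)⁻¹ * ∑ y : E, Θ ((y : X) * x)) :
    ∃ n : ℤ, (Nat.card E : ℂ)⁻¹ * ∑ y : E, Θ ((y : X) * x) = n :=
  int_of_fixed (mean_gen h E) ⟨x, hx⟩ hfix

/-- The average over a coset is an algebraic integer. -/
theorem mean_integral {Θ : X → ℂ} (h : IsGeneralizedCharacter X Θ) {E : Subgroup X} {x : X}
    (hx : x ∈ Subgroup.normalizer (E : Set X)) :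
    IsIntegral ℤ ((Nat.card E : ℂ)⁻¹ * ∑ y : E, Θ ((y : X) * x)) :=
  gen_integral (mean_gen h E) ⟨x, hx⟩

/-- An integer valued virtual character not vanishing on the coset `E h` has squares summing to at
least `|E|`. -/
theorem sum_sq_coset {Θ : X → ℂ} (h : IsGeneralizedCharacter X Θ) {E : Subgroup X} {x : X}
    (hx : x ∈ Subgroup.normalizer (E : Set X)) (F : E → ℤ) (hF : ∀ y : E, Θ ((y : X) * x) = F y)
    (hne : ∃ y, F y ≠ 0) : (Nat.card E : ℤ) ≤ ∑ y : E, F y ^ 2 := by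
  have e : ∀ y : E, (Θ * Θ) ((y : X) * x) = ((F y ^ 2 : ℤ) : ℂ) := fun y => by
    rw [Pi.mul_apply, hF, sq, Int.cast_mul]
  have hsq := isGeneralizedCharacter_mul h h
  obtain ⟨m, hm⟩ := mean_int hsq hx fun σ => by simp [e]
  have hcast : ((∑ y : E, F y ^ 2 : ℤ) : ℂ) = ((Nat.card E : ℤ) * m : ℤ) := by
    rw [Int.cast_mul, Int.cast_natCast, ← hm, mul_inv_cancel_left₀ (Nat.cast_ne_zero.mpr Nat.card_pos.ne'),
      Int.cast_sum]
    exact Finset.sum_congr rfl fun y _ => (e y).symm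
  have hz : (∑ y : E, F y ^ 2 : ℤ) = (Nat.card E : ℤ) * m := by exact_mod_cast hcast
  obtain ⟨y₀, hy₀⟩ := hne
  have hpos : 0 < ∑ y : E, F y ^ 2 :=
    Finset.sum_pos' (fun y _ => sq_nonneg _) ⟨y₀, Finset.mem_univ _, by positivity⟩
  rw [hz] at hpos ⊢
  have : (0 : ℤ) < m := pos_of_mul_pos_right hpos (Int.natCast_nonneg _)
  nlinarith [Int.natCast_nonneg (Nat.card E)]

/-- An automorphism of `ℂ` fixing the values at an element of order prime to `q` and raising `q`-th
roots of unity to the `k`-th power. -/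
theorem exists_galois {q : ℕ} (hq : q ∣ Nat.card X) {g : X} (hg : Nat.Coprime (orderOf g) q)
    {k : ℕ} (hk : Nat.Coprime k q) :
    ∃ σ : ℂ ≃+* ℂ, (∀ Θ : X → ℂ, IsGeneralizedCharacter X Θ → σ (Θ g) = Θ g) ∧
      ∀ z : ℂ, z ^ q = 1 → σ z = z ^ k := by
  set n := Nat.card X
  haveI : NeZero n := ⟨Nat.card_pos.ne'⟩
  have hdn : orderOf g * q ∣ n := hg.mul_dvd_of_dvd_of_dvd (orderOf_dvd_natCard g) hq
  obtain ⟨r, hr1, hr2⟩ := Nat.chineseRemainder hg 1 k
  have hr : Nat.Coprime r (orderOf g * q) := Nat.Coprime.mul_right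
    (by rw [Nat.Coprime, hr1.gcd_eq]; exact Nat.gcd_one_left _)
    (by rw [Nat.Coprime, hr2.gcd_eq]; exact hk)
  obtain ⟨v, hv⟩ := ZMod.unitsMap_surjective hdn (ZMod.unitOfCoprime r hr)
  obtain ⟨σ, hσ⟩ := CfsgLib.CharGalois.exists_autComplex n (ZMod.val_coe_unit_coprime v)
  have hmod : (v : ZMod n).val ≡ r [MOD orderOf g * q] := by
    rw [← ZMod.natCast_eq_natCast_iff]
    have := congrArg Units.val hv
    rw [ZMod.unitsMap_val, ZMod.coe_unitOfCoprime] at this
    rw [← this, ZMod.natCast_val]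
  refine ⟨σ, fun Θ hΘ => ?_, fun z hz => ?_⟩
  · obtain ⟨χ, χ', h1, h2, rfl⟩ := hΘ
    have hpow : g ^ (v : ZMod n).val = g := by
      conv_rhs => rw [← pow_one g]
      exact pow_eq_pow_iff_modEq.mpr ((Nat.ModEq.of_mul_right _ hmod).trans hr1)
    rw [Pi.sub_apply, map_sub, CfsgLib.CharGalois.map_char_eq_pow h1 σ hσ,
      CfsgLib.CharGalois.map_char_eq_pow h2 σ hσ, hpow]
  · rw [hσ z (by obtain ⟨c, hc⟩ := hq; rw [hc, pow_mul, hz, one_pow]),
      pow_eq_pow_mod _ hz, pow_eq_pow_mod k hz]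
    congr 1
    exact (Nat.ModEq.of_mul_left _ hmod).trans hr2

/-- An irreducible character whose degree is the index of an abelian normal subgroup vanishes outside
that subgroup. -/
theorem vanish_of_degree_eq_index {θ : X → ℂ} (hθ : IsIrrCharacter X θ) (N : Subgroup X)
    (hN : ∀ a ∈ N, ∀ b ∈ N, a * b = b * a) (hdeg : θ 1 = (N.index : ℂ)) {x : X} (hx : x ∉ N) :
    θ x = 0 := by
  haveI : IsMulCommutative N := ⟨⟨fun a b => Subtype.ext (hN a a.2 b b.2)⟩⟩
  have hres := CfsgLib.NormalRes.isCharacter_res N (isCharacter_of_irr hθ)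
  obtain ⟨m, hm, hsum⟩ := CfsgLib.Clifford.exists_mult hres
  have h1 : (∑ ψ : IrrCharacter N, m ψ) = N.index := by
    have e := congrFun hsum 1
    simp only [Finset.sum_apply, Pi.smul_apply, smul_eq_mul, OneMemClass.coe_one, hdeg] at e
    rw [Finset.sum_congr rfl (g := fun ψ : IrrCharacter N => (m ψ : ℂ)) fun ψ _ => by
      rw [CfsgLib.CharIto.degree_one_of_comm ψ.2, mul_one], ← Nat.cast_sum] at e
    exact_mod_cast e.symm
  have h2 : classInner (fun n : N => θ n) (fun n : N => θ n) = ((∑ ψ : IrrCharacter N, (m ψ : ℤ) ^ 2 : ℤ) : ℂ) :=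
    classInner_self_eq_sum_sq (isClassFunction_of_isCharacter hres) fun ψ => by simp [hm]
  have h3 : (N.index : ℤ) ≤ ∑ ψ : IrrCharacter N, (m ψ : ℤ) ^ 2 := by
    rw [← h1]
    push_cast
    refine Finset.sum_le_sum fun ψ _ => ?_
    rcases Nat.eq_zero_or_pos (m ψ) with e | e
    · simp [e]
    · exact le_self_pow₀ (by exact_mod_cast e) two_ne_zero
  have hall : ∑ g : X, ‖θ g‖ ^ 2 = (Nat.card X : ℝ) := by
    have h := classInner_irr_self hθ
    rw [classInner, inv_mul_eq_one₀ (Nat.cast_ne_zero.mpr Nat.card_pos.ne')] at h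
    have h' := congrArg Complex.re h.symm
    simpa [Complex.re_sum, Complex.mul_conj, Complex.normSq_eq_norm_sq, ← Complex.ofReal_pow] using h'
  have hin : ∑ n : N, ‖θ n‖ ^ 2 = (Nat.card N : ℝ) * ((∑ ψ : IrrCharacter N, (m ψ : ℤ) ^ 2 : ℤ) : ℝ) := by
    rw [classInner, inv_mul_eq_iff_eq_mul₀ (Nat.cast_ne_zero.mpr Nat.card_pos.ne')] at h2
    have h' := congrArg Complex.re h2
    rw [← Complex.ofReal_natCast, ← Complex.ofReal_intCast, Complex.re_ofReal_mul, Complex.ofReal_re,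
      Complex.re_sum] at h'
    rw [← h']
    exact Finset.sum_congr rfl fun n _ => by
      rw [Complex.mul_conj, Complex.ofReal_re, Complex.normSq_eq_norm_sq]
  have hsplit := Finset.sum_filter_add_sum_filter_not (univ : Finset X) (· ∈ N) fun g => ‖θ g‖ ^ 2
  rw [hall, Finset.sum_subtype (univ.filter (· ∈ N)) (p := (· ∈ N)) (fun g => by simp), hin] at hsplit
  have hzero : ∑ g ∈ univ.filter (fun g => g ∉ N), ‖θ g‖ ^ 2 ≤ 0 := by
    have h4 : ((N.index : ℤ) : ℝ) ≤ ((∑ ψ : IrrCharacter N, (m ψ : ℤ) ^ 2 : ℤ) : ℝ) := by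
      exact_mod_cast h3
    have h5 := mul_le_mul_of_nonneg_left h4 (Nat.cast_nonneg (α := ℝ) (Nat.card N))
    have h6 : (Nat.card N : ℝ) * ((N.index : ℤ) : ℝ) = Nat.card X := by
      rw [Int.cast_natCast, ← Nat.cast_mul, N.card_mul_index]
    linarith
  have := (Finset.sum_eq_zero_iff_of_nonneg fun g _ => sq_nonneg _).mp
    (le_antisymm hzero (Finset.sum_nonneg fun g _ => sq_nonneg _)) x (by simp [hx])
  simpa using this

end CfsgLib.PF.Sec13
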