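import Mathlib
import Cfsg.Agent.Lib.PF.Props9
import Cfsg.Agent.Lib.PF.Sec13RegGroup
import Cfsg.Agent.Lib.PF.Sec13RegTools
import Cfsg.Agent.Lib.PF.CoherentMu
import Cfsg.Agent.Lib.OddChar.InducedSet

/-!
# Peterfalvi (13.12): the characters of `S` of degree `qu`
-/

set_option autoImplicit false
set_option linter.unusedSectionVars false
set_option linter.style.haveILetI false

namespace CfsgLib.PF.Sec13

open Subgroup CfsgLib.OddOrder CfsgLib.Characters CfsgLib.OddChar CfsgLib.Clifford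
open scoped Classical

universe u

variable {G : Type u} [Group G] [Fintype G]

/-- `C_U(S_F)`. -/
def regC (S U : Subgroup G) : Subgroup G :=
  U ⊓ Subgroup.centralizer (Cfsg.fittingHallOf S : Set G)

namespace RegCtx

variable {S T W₁ W₂ U V : Subgroup G} (C : RegCtx S T W₁ W₂ U V)

include C

theorem comm_P : ∀ a ∈ Cfsg.fittingHallOf S, ∀ b ∈ Cfsg.fittingHallOf S, a * b = b * a :=
  fun a ha b hb => congrArg Subtype.val (C.P_elem.1.1.1 (⟨a, ha⟩ : Cfsg.fittingHallOf S) ⟨b, hb⟩)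

theorem regC_comm : ∀ a ∈ Cfsg.fittingHallOf S, ∀ b ∈ regC S U, a * b = b * a :=
  fun a ha _ hb => Subgroup.mem_centralizer_iff.mp hb.2 a ha

theorem regH_comm : ∀ a ∈ regH S U, ∀ b ∈ regH S U, a * b = b * a := by
  intro a ha b hb
  have hle : regH S U ≤ Subgroup.centralizer (regH S U : Set G) := by
    refine sup_le (Subgroup.le_centralizer_iff.mpr (sup_le ?_ ?_)) (Subgroup.le_centralizer_iff.mpr (sup_le ?_ ?_))
    · exact fun x hx => Subgroup.mem_centralizer_iff.mpr fun y hy => C.comm_P y hy x hx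
    · exact fun x hx => Subgroup.mem_centralizer_iff.mpr fun y hy => C.regC_comm y hy x hx
    · exact fun x hx => Subgroup.mem_centralizer_iff.mpr fun y hy => (C.regC_comm x hx y hy).symm
    · exact fun x hx => Subgroup.mem_centralizer_iff.mpr fun y hy => by
        exact congrArg Subtype.val (C.kind.U_comm.1.1 (⟨y, hy.1⟩ : U) ⟨x, hx.1⟩)
  exact (Subgroup.mem_centralizer_iff.mp (hle hb) a ha)

theorem regH_le : regH S U ≤ ⁅S, S⁆ :=
  sup_le C.pair.left.U_compl.1 (inf_le_left.trans C.pair.left.U_compl.2.1)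

theorem regH_le_S : regH S U ≤ S := C.regH_le.trans (Subgroup.commutator_le_self S)

theorem regH_normal : ((regH S U).subgroupOf S).Normal := by
  refine (Subgroup.normal_subgroupOf_iff_le_normalizer C.regH_le_S).mpr ?_
  have d := C.pair.left
  have hP : S ≤ Subgroup.normalizer (Cfsg.fittingHallOf S : Set G) := fittingHallOf_normal S
  have key : ∀ g ∈ S, g ∈ Subgroup.normalizer (Cfsg.fittingHallOf S : Set G) →
      (∀ x ∈ regC S U, g * x * g⁻¹ ∈ regH S U) → g ∈ Subgroup.normalizer (regH S U : Set G) := by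
    intro g _ hgP hgC
    refine CfsgLib.OddOrder.Transitivity.mem_normalizer_of_cj_eq ?_
    refine Subgroup.eq_of_le_of_card_ge ?_ (le_of_eq (CfsgLib.OddOrder.Transitivity.card_cj _ _).symm)
    show (regH S U).map (MulAut.conj g).toMonoidHom ≤ regH S U
    rw [regH, Subgroup.map_sup]
    refine sup_le ?_ ?_
    · rintro _ ⟨x, hx, rfl⟩
      exact Subgroup.mem_sup_left ((Subgroup.mem_normalizer_iff.mp hgP x).mp hx)
    · rintro _ ⟨x, hx, rfl⟩
      exact hgC x hx
  intro g hg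
  refine key g hg (hP hg) fun x hx => ?_
  -- `F(S) = S_F × C_U(S_F)`
  have hC : x ∈ Cfsg.fittingOf S := by
    rw [← d.fitting_eq]; exact Subgroup.mem_sup_right ⟨U_le d hx.1, hx.2⟩
  have hF : g * x * g⁻¹ ∈ Cfsg.fittingOf S :=
    (Subgroup.mem_normalizer_iff.mp (fittingOf_normal S hg) x).mp hC
  obtain ⟨a, ha, v, hv, e⟩ := d.U_compl.2.2.2 _ (d.fitting_le hF)
  rw [e]
  refine mul_mem (Subgroup.mem_sup_left ha) (Subgroup.mem_sup_right ⟨hv, ?_⟩)
  refine Subgroup.mem_centralizer_iff.mpr fun y hy => ?_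
  have h1 : y * (g * x * g⁻¹) = g * x * g⁻¹ * y := by
    have := Subgroup.mem_centralizer_iff.mp hx.2 (g⁻¹ * y * g)
      (by simpa using (Subgroup.mem_normalizer_iff.mp (hP (inv_mem hg)) y).mp hy)
    calc y * (g * x * g⁻¹) = g * ((g⁻¹ * y * g) * x) * g⁻¹ := by group
      _ = _ := by rw [this]; group
  rw [e, ← mul_assoc, C.comm_P y hy a ha, mul_assoc, mul_assoc] at h1
  exact mul_left_cancel h1

theorem card_derived : Nat.card ↥⁅S, S⁆ = Nat.card (Cfsg.fittingHallOf S) * Nat.card U := by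
  have d := C.pair.left
  rw [← card_mul_relIndex_of_le d.U_compl.1, IsComplIn.relIndex_left d.U_compl]

theorem card_U : Nat.card U = Nat.card (regC S U) * (regC S U).relIndex U :=
  (card_mul_relIndex_of_le inf_le_left).symm

theorem card_regH : Nat.card (regH S U) = Nat.card (Cfsg.fittingHallOf S) * Nat.card (regC S U) := by
  refine CfsgLib.Coprime.card_sup_of_disjoint (fun x hx => ?_) (le_bot_iff.mp fun x hx => ?_)
  · exact Subgroup.centralizer_le_normalizer _ (Subgroup.mem_centralizer_iff.mpr fun y hy =>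
      (C.regC_comm x hx y hy).symm)
  · exact C.pair.left.U_compl.2.2.1.le ⟨hx.2, hx.1.1⟩

theorem card_S : Nat.card S =
    Nat.card (Cfsg.fittingHallOf S) * (regC S U).relIndex U * Nat.card (regC S U) * Nat.card W₁ := by
  rw [← card_derived_mul C.pair.left, C.card_derived, C.card_U]; ring

theorem index_regH :
    (((regH S U).subgroupOf S).subgroupOf ((⁅S, S⁆ : Subgroup G).subgroupOf S)).index =
      (regC S U).relIndex U := by
  have hd : ⁅S, S⁆ ≤ S := Subgroup.commutator_le_self S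
  have h1 := card_mul_relIndex_of_le C.regH_le
  rw [C.card_derived, C.card_U, C.card_regH, mul_assoc] at h1
  have h2 := Nat.eq_of_mul_eq_mul_left Nat.card_pos (mul_left_cancel₀ Nat.card_pos.ne' h1)
  rw [← h2]
  show ((regH S U).subgroupOf S).relIndex ((⁅S, S⁆ : Subgroup G).subgroupOf S) = _
  rw [Subgroup.relIndex_subgroupOf hd]

theorem index_derived : ((⁅S, S⁆ : Subgroup G).subgroupOf S).index = Nat.card W₁ :=
  IsComplIn.relIndex_left C.pair.left.W₁_compl

theorem resP_ne {μ δ η} (hd : TIData S W₁ W₂ μ δ η) {ω : ↥(W₁ ⊔ W₂) →* ℂˣ}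
    (hω : ¬ AgreeR W₁ W₂ ω 1) :
    ∃ a : S, (a : G) ∈ Cfsg.fittingHallOf S ∧ μ ω a ≠ μ ω 1 := by
  by_contra hall
  push Not at hall
  refine hω fun z hz => ?_
  have d := C.pair.left
  obtain ⟨w, hw, hw1⟩ := (Subgroup.bot_or_exists_ne_one W₁).resolve_left d.W₁_ne
  have hzS : (z : G) ∈ S := (typeP_le d).2.2.2.2 z.2
  have hwS : w ∈ S := W₁_le d hw
  set wW : ↥(W₁ ⊔ W₂) := ⟨w, Subgroup.mem_sup_left hw⟩
  have hw2 : w ∉ W₂ := fun h => hw1 (Subgroup.mem_bot.mp (d.selfNormalizing.2.2.1.le ⟨hw, h⟩))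
  have e := char_translate (isCharacter_of_irr (hd.μ_irr ω))
    (w := (⟨z, hzS⟩ : S)) (hall ⟨z, hzS⟩ (W₂_le_fittingHall d hz)) ⟨w, hwS⟩
  rw [hd.μ_value ω ⟨w, hwS⟩ (show w ∈ W₁ ⊔ W₂ from Subgroup.mem_sup_left hw) hw2,
    hd.μ_value ω (⟨w, hwS⟩ * ⟨z, hzS⟩) (show w * (z : G) ∈ W₁ ⊔ W₂ from mul_mem wW.2 z.2)
      (fun h : w * (z : G) ∈ W₂ => hw2 (by simpa using mul_mem h (inv_mem hz)))] at e
  have h0 : δ ω ≠ 0 := by rcases hd.δ_sign ω with r | r <;> rw [r] <;> norm_num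
  have e' := Units.ext (mul_left_cancel₀ h0 e)
  change ω (wW * z) = ω wW at e'
  rw [map_mul, mul_eq_left] at e'
  exact e'

/-- The reducible member of a non-trivial column. -/
theorem red_mem {μ δ η} (hd : TIData S W₁ W₂ μ δ η) {ω : ↥(W₁ ⊔ W₂) →* ℂˣ}
    (hω : ¬ AgreeR W₁ W₂ ω 1) : red S μ ω ∈ calS S (Cfsg.fittingHallOf S) ⊥ := by
  have d := C.pair.left
  set K := (⁅S, S⁆ : Subgroup G).subgroupOf S with hK
  obtain ⟨a, ha, hne⟩ := C.resP_ne hd hω
  have haK : a ∈ K := C.pair.left.U_compl.1 ha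
  have h1 : resD S (μ ω) ≠ fun _ => 1 := fun e => hne (by
    have e1 := congrFun e ⟨a, haK⟩
    have e2 := congrFun e 1
    simp only [resD] at e1 e2
    rw [e1, ← e2]; rfl)
  refine ⟨⟨resD S (μ ω), hd.res_irr ω, h1, fun x hx => ?_, rfl⟩, ?_⟩
  · have : x = 1 := Subtype.ext (Subgroup.mem_bot.mp (by simpa using hx))
    rw [this]
  rintro ⟨θ, hθ, -, hker, e⟩
  obtain ⟨g, hg⟩ := conjChar_of_indFun_eq (inferInstance : K.Normal) hθ (hd.res_irr ω) e.symm
  refine hne ?_
  have hn : ((Cfsg.fittingHallOf S).subgroupOf S).Normal :=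
    (Subgroup.normal_subgroupOf_iff_le_normalizer (d.U_compl.1.trans (Subgroup.commutator_le_self S))).mpr
      (fittingHallOf_normal S)
  have haP : g⁻¹ * a * g ∈ (Cfsg.fittingHallOf S).subgroupOf S := hn.conj_mem' a ha g
  have e1 := congrFun hg (⟨g⁻¹ * a * g, C.pair.left.U_compl.1 haP⟩ : K)
  have e2 := congrFun hg 1
  rw [conjChar_apply_one] at e2
  rw [hker _ haP, ← e2] at e1
  simpa [conjChar, resD, mul_assoc] using e1

/-- Members induced from characters of degree `u` vanish outside `H`. -/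
theorem ind_vanish {θ : ↥((⁅S, S⁆ : Subgroup G).subgroupOf S) → ℂ}
    (hθ : Cfsg.IsIrrCharacter ↥((⁅S, S⁆ : Subgroup G).subgroupOf S) θ)
    (hdeg : θ 1 = ((regC S U).relIndex U : ℂ)) {x : S} (hx : (x : G) ∉ regH S U) :
    Cfsg.indFun ((⁅S, S⁆ : Subgroup G).subgroupOf S) θ x = 0 := by
  by_cases hxK : x ∈ (⁅S, S⁆ : Subgroup G).subgroupOf S
  swap
  · exact CfsgLib.Induction.indFun_normal_eq_zero _ hxK
  have hn := C.regH_normal
  have := CfsgLib.Induction.indFun_normal_apply _ θ ⟨x, hxK⟩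
  rw [show Cfsg.indFun _ θ x = _ from this]
  refine mul_eq_zero_of_right _ (Finset.sum_eq_zero fun y _ => ?_)
  refine vanish_of_degree_eq_index hθ (((regH S U).subgroupOf S).subgroupOf ((⁅S, S⁆ : Subgroup G).subgroupOf S))
    (fun a ha b hb => Subtype.ext (Subtype.ext (C.regH_comm _ ha _ hb))) ?_ fun h => hx ?_
  · rw [hdeg, C.index_regH]
  · have := hn.conj_mem' _ (Subgroup.mem_subgroupOf.mp h) y
    simpa [Subgroup.mem_subgroupOf, mul_assoc] using this

/-- Irreducible characters whose kernel does not contain `S_F` have sum zero on its cosets. -/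
theorem sum_P_eq_zero {χ : ↥S → ℂ} (hχ : Cfsg.IsIrrCharacter ↥S χ)
    (hex : ∃ a : S, (a : G) ∈ Cfsg.fittingHallOf S ∧ χ a ≠ χ 1) (x : S) :
    ∑ y : (Cfsg.fittingHallOf S).subgroupOf S, χ ((y : S) * x) = 0 := by
  set N := (Cfsg.fittingHallOf S).subgroupOf S
  haveI : N.Normal := (Subgroup.normal_subgroupOf_iff_le_normalizer
    (C.pair.left.U_compl.1.trans (Subgroup.commutator_le_self S))).mpr (fittingHallOf_normal S)
  obtain ⟨a, ha, hne⟩ := hex
  rcases CfsgLib.NormalAvg.avgN_irr N hχ with e | e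
  · refine absurd ?_ hne
    have := CfsgLib.NormalAvg.avgN_mul_left N χ ⟨a, ha⟩ 1
    rwa [e, mul_one] at this
  · have := congrFun e x
    rw [CfsgLib.NormalAvg.avgN, Pi.zero_apply] at this
    exact (mul_eq_zero.mp this).resolve_left (inv_ne_zero (Nat.cast_ne_zero.mpr Nat.card_pos.ne'))

/-- An irreducible member of `S` does not contain `S_F` in its kernel. -/
theorem irr_P_ne {χ : ↥S → ℂ} (hχ : χ ∈ calS S (Cfsg.fittingHallOf S) ⊥)
    (hi : Cfsg.IsIrrCharacter ↥S χ) :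
    ∃ a : S, (a : G) ∈ Cfsg.fittingHallOf S ∧ χ a ≠ χ 1 := by
  set K := (⁅S, S⁆ : Subgroup G).subgroupOf S
  obtain ⟨⟨θ, hθ, hθ1, -, rfl⟩, hnot⟩ := hχ
  by_contra hall
  push Not at hall
  refine hnot ⟨θ, hθ, hθ1, fun a ha => ?_, rfl⟩
  refine constituent_eq_one (CfsgLib.NormalRes.isCharacter_res K (isCharacter_of_irr hi))
    (ψ := ⟨θ, hθ⟩) ?_ (hall a ha)
  rw [← CfsgLib.Induction.classInner_indFun_right K θ
    (CfsgLib.Induction.isClassFunction_of_isCharacter (isCharacter_of_irr hi)), classInner_irr_self hi]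
  exact one_ne_zero

end RegCtx

end CfsgLib.PF.Sec13
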