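import Mathlib
import Cfsg.Agent.Lib.PF.Props12
import Cfsg.Agent.Lib.PF.Sec13RegVanish
import Cfsg.Agent.Lib.OddChar.CyclicUnique

/-!
# Peterfalvi (13.12): the coherent images

`Ψ = ε τ₁(λ)` equals `∑_i η_{ij}` for every non-trivial column `j` outside the conjugates of `H#`.
-/

set_option autoImplicit false
set_option linter.unusedSectionVars false
set_option linter.style.haveILetI false

namespace CfsgLib.PF.Sec13

open CfsgLib.OddOrder CfsgLib.Characters CfsgLib.OddChar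
open scoped Classical ComplexConjugate

universe u

variable {G : Type u} [Group G] [Fintype G]

/-- The column paired with the column of `ν`. -/
noncomputable def tw {W₁ W₂ : Subgroup G} (ε : ℤ) (ν : ↥(W₁ ⊔ W₂) →* ℂˣ) : ↥(W₁ ⊔ W₂) →* ℂˣ :=
  if ε = 1 then ν else ν⁻¹

/-- `H#`. -/
def regHs (S U : Subgroup G) : Set G := {g | g ∈ regH S U ∧ g ≠ 1}

/-- The number `u`. -/
noncomputable def regu (S U : Subgroup G) : ℕ := (regC S U).relIndex U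

/-- The characters used for (13.12). -/
structure RegChars (S W₁ W₂ U : Subgroup G) (μ : (↥(W₁ ⊔ W₂) →* ℂˣ) → (↥S → ℂ))
    (δ : (↥(W₁ ⊔ W₂) →* ℂˣ) → ℂ) (η : (↥(W₁ ⊔ W₂) →* ℂˣ) → (G → ℂ)) (lam : ↥S → ℂ) (ε : ℤ)
    (τ₁ : (↥S → ℂ) → (G → ℂ)) : Prop where
  data : TIData S W₁ W₂ μ δ η
  lam_mem : lam ∈ calS S (Cfsg.fittingHallOf S) ⊥
  lam_irr : Cfsg.IsIrrCharacter ↥S lam
  lam_one : lam 1 = ((Nat.card W₁ * regu S U : ℕ) : ℂ)
  δ_one : ∀ ν, ¬ AgreeR W₁ W₂ ν 1 → δ ν = 1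
  μ_one : ∀ ν, ¬ AgreeR W₁ W₂ ν 1 → μ ν 1 = (regu S U : ℂ)
  iso : Cfsg.IsLinearIsometryOn (Cfsg.zspan (calS S (Cfsg.fittingHallOf S) ⊥)) τ₁
  ext : ∀ α ∈ Cfsg.zspanOn (calS S (Cfsg.fittingHallOf S) ⊥) {1}ᶜ, τ₁ α = tau S α
  sign : ε = 1 ∨ ε = -1
  red_image : ∀ ν, ¬ AgreeR W₁ W₂ ν 1 → τ₁ (red S μ (tw ε ν)) = (ε : ℂ) • colSum η ν
  sign_neg : ε = -1 → ∀ (ν : ↥(W₁ ⊔ W₂) →* ℂˣ), ¬ AgreeR W₁ W₂ ν 1 →
    ∀ z : ↥(W₁ ⊔ W₂), (z : G) ∈ W₂ → ν z ^ 3 = 1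
  red_orth : ∀ χ ∈ calS S (Cfsg.fittingHallOf S) ⊥, ∀ φ ∈ calS S (Cfsg.fittingHallOf S) ⊥, χ ≠ φ →
    Cfsg.classInner χ φ = 0
  irr_η : ∀ χ ∈ calS S (Cfsg.fittingHallOf S) ⊥, Cfsg.IsIrrCharacter ↥S χ → ∀ ν,
    Cfsg.classInner (τ₁ χ) (η ν) = 0

theorem tw_nontriv {W₁ W₂ : Subgroup G} (ε : ℤ) {ν : ↥(W₁ ⊔ W₂) →* ℂˣ} (h : ¬ AgreeR W₁ W₂ ν 1) :
    ¬ AgreeR W₁ W₂ (tw ε ν) 1 := by
  unfold tw
  split_ifs
  · exact h
  · exact fun e => h (by have := e.inv; rwa [linInv, linInv_one] at this)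

theorem tw_tw {W₁ W₂ : Subgroup G} (ε : ℤ) (ν : ↥(W₁ ⊔ W₂) →* ℂˣ) : tw ε (tw ε ν) = ν := by
  unfold tw
  split_ifs
  · rfl
  · exact linInv ν

theorem AgreeR.tw {W₁ W₂ : Subgroup G} (ε : ℤ) {a b : ↥(W₁ ⊔ W₂) →* ℂˣ} (h : AgreeR W₁ W₂ a b) :
    AgreeR W₁ W₂ (Sec13.tw ε a) (Sec13.tw ε b) := by
  unfold Sec13.tw
  split_ifs
  · exact h
  · exact h.inv

theorem colSum_congr {W₁ W₂ : Subgroup G} (η : (↥(W₁ ⊔ W₂) →* ℂˣ) → (G → ℂ))
    {a b : ↥(W₁ ⊔ W₂) →* ℂˣ} (h : AgreeR W₁ W₂ a b) : colSum η a = colSum η b := by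
  have : {ν | AgreeR W₁ W₂ a ν} = {ν | AgreeR W₁ W₂ b ν} :=
    Set.ext fun ν => ⟨fun e => h.symm.trans e, fun e => h.trans e⟩
  rw [colSum, colSum, this]

namespace RegCtx

variable {S T W₁ W₂ U V : Subgroup G} (C : RegCtx S T W₁ W₂ U V)

include C

theorem not_irr_red {μ δ η} (hd : TIData S W₁ W₂ μ δ η) (ν : ↥(W₁ ⊔ W₂) →* ℂˣ) :
    ¬ Cfsg.IsIrrCharacter ↥S (red S μ ν) := fun h => by
  have e := classInner_irr_self h
  rw [hd.classInner_red_red C.pair.left.selfNormalizing, if_pos (AgreeR.refl ν)] at e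
  exact C.q_prime.ne_one (by exact_mod_cast e)

theorem red_one {μ δ η} (hd : TIData S W₁ W₂ μ δ η) (ν : ↥(W₁ ⊔ W₂) →* ℂˣ) :
    red S μ ν 1 = (Nat.card W₁ : ℂ) * μ ν 1 := by
  rw [red, CfsgLib.Induction.indFun_one_apply, C.index_derived]; rfl

/-- The data of (13.12) exist when `C_U(S_F) ≠ 1`. -/
theorem exists_regChars (hG : Cfsg.IsMinSimpleOddOrder G) (hT : PropTypes G) (hD : PropDade G)
    (hP : PropPairFacts G) (hTI : PropTIData G) (hSub : PropSubcoherentP G) (hCF : PropCoreFactor G)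
    (hRed : PropReducible G) (hRC : PropReducibleCases G) (hu : regu S U ≡ 1 [MOD Nat.card W₁])
    (hne : regC S U ≠ ⊥) :
    ∃ μ δ η lam ε τ₁, RegChars S W₁ W₂ U μ δ η lam ε τ₁ := by
  have d := C.pair.left
  have hM := C.pair.left_max
  have hW := d.selfNormalizing
  have hodd := odd_W hG d
  obtain ⟨μ, δ, η, hd⟩ := hTI S W₁ U W₂ hM d
  obtain ⟨R, hsys, hirr, hredR⟩ := hSub S W₁ U W₂ hM d μ δ η hd
  obtain ⟨-, -, -, -, -, -, -, -, -, -, ⟨-, τ₁, hiso, hext⟩⟩ := hP S T W₁ W₂ U V C.pair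
  obtain ⟨H₀, C₀, p, hcf⟩ := hCF S W₁ U W₂ hM (Or.inl C.kind)
  -- the core factor is `S_F` itself
  have hH0p : p = Nat.card W₂ ∧ H₀ = ⊥ := by
    have h1 : p ∣ Nat.card W₂ := hcf.W₂_rel ▸ Subgroup.relIndex_dvd_card H₀ W₂
    have h2 : p = Nat.card W₂ := (Nat.prime_dvd_prime_iff_eq hcf.prime C.p_prime).mp h1
    refine ⟨h2, ?_⟩
    have h3 := card_mul_relIndex_of_le hcf.lt.le
    rw [hcf.card, C.P_card, h2] at h3
    exact Subgroup.card_eq_one.mp (Nat.mul_right_cancel (pow_pos C.p_prime.pos _)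
      (h3.trans (one_mul _).symm))
  obtain ⟨rfl, rfl⟩ := hH0p
  have hC0 : C₀ = regC S U := by
    ext x
    rw [hcf.mem_C, regC, Subgroup.mem_inf, Subgroup.mem_centralizer_iff]
    refine and_congr_right fun _ => forall_congr' fun y => imp_congr_right fun _ => ?_
    rw [Subgroup.mem_bot, mul_inv_eq_one, mul_inv_eq_iff_eq_mul]
    exact eq_comm
  subst hC0
  set T₀ := calS S (Cfsg.fittingHallOf S) ⊥ with hT₀
  have hc : CoherentPart S W₁ W₂ μ δ η R T₀ τ₁ := ⟨hsys, hirr, hredR, by rw [hT₀, C.core],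
    fun φ hφ => by
      have := hsys.conj_mem φ (by rwa [C.core])
      rwa [C.core] at this, hiso, hext⟩
  have hdeg : ∀ ν, ¬ AgreeR W₁ W₂ ν 1 → μ ν 1 = (regu S U : ℂ) := fun ν hν => by
    have h1 := (hRed S W₁ U W₂ ⊥ (regC S U) _ hM (Or.inl C.kind) hcf).2 _ (C.red_mem hd hν)
      (C.not_irr_red hd ν)
    have h2 := h1.2.1
    rw [C.red_one hd, Nat.cast_mul] at h2
    exact mul_left_cancel₀ (Nat.cast_ne_zero.mpr C.q_prime.ne_zero) h2
  have hδ : ∀ ν, ¬ AgreeR W₁ W₂ ν 1 → δ ν = 1 := fun ν hν => by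
    rcases hd.δ_sign ν with e | e
    · exact e
    exfalso
    obtain ⟨n, hn⟩ := hd.degree ν
    rw [e, hdeg ν hν] at hn
    have hn' : (regu S U : ℤ) + 1 = n * Nat.card W₁ := by
      have : ((regu S U : ℤ) : ℂ) + 1 = ((n * Nat.card W₁ : ℤ) : ℂ) := by
        push_cast; linear_combination hn
      exact_mod_cast this
    have h1 : (Nat.card W₁ : ℤ) ∣ (regu S U : ℤ) - 1 := by
      have := Nat.modEq_iff_dvd.mp hu.symm
      simpa using this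
    have h2 : (Nat.card W₁ : ℤ) ∣ 2 := by
      have := dvd_sub (Dvd.intro_left n hn'.symm) h1
      simpa using this
    have h3 := Nat.le_of_dvd (by norm_num) (Int.natCast_dvd_natCast.mp h2 : Nat.card W₁ ∣ 2)
    have := (three_le_card hW hodd).1
    omega
  obtain ⟨lam, hlam, hlam_irr, hlam1⟩ := (hRC S W₁ U W₂ ⊥ (regC S U) _ hM (Or.inl C.kind) hcf).resolve_right
    fun h => hne h.2.1
  have hcomm : ⁅regC S U, regC S U⁆ = ⊥ := Subgroup.commutator_eq_bot_iff_le_centralizer.mpr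
    fun x hx => Subgroup.mem_centralizer_iff.mpr fun y hy =>
      congrArg Subtype.val (C.kind.U_comm.1.1 (⟨y, hy.1⟩ : U) ⟨x, hx.1⟩)
  rw [hcomm, bot_sup_eq] at hlam
  have horth : ∀ χ ∈ T₀, ∀ φ ∈ T₀, χ ≠ φ → Cfsg.classInner χ φ = 0 := fun χ hχ φ hφ =>
    hsys.orthogonal χ (hc.sub hχ) φ (hc.sub hφ)
  have hirrη : ∀ χ ∈ T₀, Cfsg.IsIrrCharacter ↥S χ → ∀ ν, Cfsg.classInner (τ₁ χ) (η ν) = 0 :=
    fun χ hχ hi ν => hc.inner_tau1_zero hd hχ fun ω _ e => absurd (e ▸ hi) (C.not_irr_red hd ω)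
  have himg : ∀ ν, ¬ AgreeR W₁ W₂ ν 1 →
      τ₁ (red S μ ν) = colSum η ν ∨ τ₁ (red S μ ν) = -colSum η ν⁻¹ := fun ν hν => by
    have hψ1 : lam ≠ red S μ ν := fun e => C.not_irr_red hd ν (e ▸ hlam_irr)
    have hψ2 : lam ≠ red S μ ν⁻¹ := fun e => C.not_irr_red hd ν⁻¹ (e ▸ hlam_irr)
    have := hc.tau1_red hd hG hT hD hM d hν (C.red_mem hd hν) hlam hψ1 hψ2
    rwa [hδ ν hν, one_smul, one_smul] at this
  by_cases hall : ∀ ν, ¬ AgreeR W₁ W₂ ν 1 → τ₁ (red S μ ν) = colSum η ν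
  · exact ⟨μ, δ, η, lam, 1, τ₁, hd, hlam, hlam_irr, hlam1, hδ, hdeg, hiso, hext, Or.inl rfl,
      fun ν hν => by simp [tw, hall ν hν], fun h => absurd h (by norm_num), horth, hirrη⟩
  push Not at hall
  obtain ⟨ω, hω, hωne⟩ := hall
  have hneg := (himg ω hω).resolve_left hωne
  -- no further column
  have htwo : ∀ ν, ¬ AgreeR W₁ W₂ ν 1 → AgreeR W₁ W₂ ω ν ∨ AgreeR W₁ W₂ ω⁻¹ ν := by
    intro ν hν
    by_contra hn
    rw [not_or] at hn
    refine hωne ?_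
    rw [hc.tau1_red_pos hd hG hT hD hM d hω hν (C.red_mem hd hω) (C.red_mem hd hν) hn.1 hn.2
      (by rw [hdeg ω hω, hdeg ν hν]), hδ ω hω, one_smul]
  have hω' : ¬ AgreeR W₁ W₂ ω⁻¹ 1 := fun e => hω (by have := e.inv; rwa [linInv, linInv_one] at this)
  have hne' : ¬ AgreeR W₁ W₂ ω ω⁻¹ := fun e => hω (agreeR_self_inv hodd e)
  have hneg' : τ₁ (red S μ ω⁻¹) = -colSum η ω := by
    rcases himg ω⁻¹ hω' with e | e
    · exfalso
      have h0 : Cfsg.classInner (red S μ ω) (red S μ ω⁻¹) = 0 := by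
        rw [hd.classInner_red_red hW, if_neg hne']
      rw [← hiso.2.2.1 _ (zspan_of_mem (C.red_mem hd hω)) _ (zspan_of_mem (C.red_mem hd hω')), hneg, e,
        classInner_neg_left, hd.classInner_colSum_colSum hW, if_pos (AgreeR.refl _), neg_eq_zero] at h0
      exact C.q_prime.ne_zero (by exact_mod_cast h0)
    · rw [e, linInv]
  have hcol : ∀ a b, AgreeR W₁ W₂ a b → red S μ a = red S μ b := fun a b hab => by
    rw [red, red, hd.res_eq _ _ hab]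
  refine ⟨μ, δ, η, lam, -1, τ₁, hd, hlam, hlam_irr, hlam1, hδ, hdeg, hiso, hext, Or.inr rfl,
    fun ν hν => ?_, fun _ ν hν z hz => ?_, horth, hirrη⟩
  · simp only [tw, show (-1 : ℤ) ≠ 1 by norm_num, if_false, Int.cast_neg, Int.cast_one, neg_smul, one_smul]
    rcases htwo ν hν with e | e
    · rw [hcol _ _ e.inv.symm, hneg', colSum_congr η e]
    · have e' := e.inv
      rw [linInv] at e'
      rw [hcol _ _ e'.symm, hneg, colSum_congr η e]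
  · have hν2 : ¬ AgreeR W₁ W₂ (ν * ν) 1 := fun e => hν (agreeR_self_inv hodd fun w hw => by
      have h1 := e w hw
      rw [MonoidHom.mul_apply, MonoidHom.one_apply] at h1
      rw [MonoidHom.inv_apply]
      exact eq_inv_of_mul_eq_one_left h1)
    have key : AgreeR W₁ W₂ (ν * ν) ν ∨ AgreeR W₁ W₂ (ν * ν) ν⁻¹ := by
      rcases htwo ν hν with e | e <;> rcases htwo _ hν2 with e2 | e2
      · exact Or.inl (e2.symm.trans e)
      · exact Or.inr (e2.symm.trans e.inv)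
      · refine Or.inr (e2.symm.trans ?_)
        have := e.inv; rwa [linInv] at this
      · exact Or.inl (e2.symm.trans e)
    rcases key with e | e
    · have h1 := e z hz
      rw [MonoidHom.mul_apply, mul_eq_left] at h1
      rw [h1, one_pow]
    · have h1 := e z hz
      rw [MonoidHom.mul_apply, MonoidHom.inv_apply] at h1
      rw [pow_succ, sq, h1, inv_mul_cancel]

end RegCtx

end CfsgLib.PF.Sec13
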