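import Mathlib
import Cfsg.Agent.Lib.PF.Sec13RegTools
import Cfsg.Agent.Lib.PF.Sec13RegSets
import Cfsg.Agent.Lib.PF.CoherentMu
import Cfsg.Agent.Lib.OddChar.CyclicUnique

/-!
# Integrality of the averaged values of a column sum of a cyclic TI family

Where a virtual character `Ψ` agrees in the mean with every non-trivial column sum, its mean is an
integer `n`, the means of the `η_{0j}` are one integer `m`, and `(n, m) ≠ (0, 1)` on `q'`-elements.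
-/

set_option autoImplicit false
set_option linter.unusedSectionVars false
set_option linter.style.haveILetI false

namespace CfsgLib.PF.Sec13

open CfsgLib.Characters CfsgLib.OddChar
open scoped Classical

universe u

variable {G : Type u} [Group G] [Fintype G]

/-- The average of `f` over `E g`. -/
noncomputable def meanAt (E : Subgroup G) (f : G → ℂ) (g : G) : ℂ :=
  (Nat.card E : ℂ)⁻¹ * ∑ y : E, f ((y : G) * g)

theorem meanAt_bot (f : G → ℂ) (g : G) : meanAt ⊥ f g = f g := by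
  have h : ∀ y : (⊥ : Subgroup G), (y : G) = 1 := fun y => Subgroup.mem_bot.mp y.2
  simp [meanAt, h]

theorem meanAt_congr {E : Subgroup G} {f f' : G → ℂ} {g : G}
    (h : ∀ y ∈ E, f (y * g) = f' (y * g)) : meanAt E f g = meanAt E f' g := by
  unfold meanAt
  congr 1
  exact Finset.sum_congr rfl fun y _ => h _ y.2

theorem map_meanAt (σ : ℂ ≃+* ℂ) (E : Subgroup G) (f : G → ℂ) (g : G) :
    σ (meanAt E f g) = meanAt E (fun x => σ (f x)) g := by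
  simp [meanAt, map_sum]

variable {W₁ W₂ : Subgroup G} {η : (↥(W₁ ⊔ W₂) →* ℂˣ) → (G → ℂ)}

theorem trivL_map {ψ : ↥(W₁ ⊔ W₂) →* ℂˣ} (h : TrivL ψ) (σ : ℂ ≃+* ℂ) :
    TrivL ((Units.map σ.toMonoidHom).comp ψ) := fun w hw => by
  rw [MonoidHom.comp_apply, h w hw, map_one]

theorem trivR_map {ψ : ↥(W₁ ⊔ W₂) →* ℂˣ} (h : TrivR ψ) (σ : ℂ ≃+* ℂ) :
    TrivR ((Units.map σ.toMonoidHom).comp ψ) := fun w hw => by
  rw [MonoidHom.comp_apply, h w hw, map_one]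

theorem map_ne_one {ψ : ↥(W₁ ⊔ W₂) →* ℂˣ} (h : ψ ≠ 1) (σ : ℂ ≃+* ℂ) :
    (Units.map σ.toMonoidHom).comp ψ ≠ 1 := fun e => h (MonoidHom.ext fun w => by
  have := congrArg Units.val (DFunLike.congr_fun e w)
  simp only [MonoidHom.comp_apply, Units.coe_map, MonoidHom.one_apply, Units.val_one] at this
  exact Units.ext (σ.injective (this.trans (map_one σ).symm)))

variable (hW : Cfsg.IsSelfNormalizingCyclic W₁ W₂) (hη : Cfsg.IsCyclicTIFamily W₁ W₂ η)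

include hW hη in
/-- A column sum off the conjugates of `W - (W₁ ∪ W₂)`. -/
theorem colSum_off {ψ : ↥(W₁ ⊔ W₂) →* ℂˣ} (hψ : TrivL ψ) (hψ1 : ψ ≠ 1) {g : G}
    (hg : g ∉ conjSet (hatW W₁ W₂)) :
    colSum η ψ g = ∑ᶠ φ ∈ {φ | TrivR φ}, η φ g + (Nat.card W₁ : ℂ) * (η ψ g - 1) := by
  haveI := finite_linChar hW
  haveI := Fintype.ofFinite (↥(W₁ ⊔ W₂) →* ℂˣ)
  obtain ⟨-, -, hdisj, hcomm, -, -⟩ := id hW
  have hterm : ∀ φ, TrivR φ → η (φ * ψ) g = η φ g + (η ψ g - 1) := by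
    intro φ hφ
    by_cases hφ1 : φ = 1
    · subst hφ1
      rw [show (1 : ↥(W₁ ⊔ W₂) →* ℂˣ) * ψ = ψ from one_mul ψ, hη.map_one]; ring
    have h := congrFun (hη.induced_eq φ ψ hφ1 hψ1 hφ hψ) g
    rw [CfsgLib.Induction.indFun_apply, Finset.sum_eq_zero, mul_zero] at h
    · linear_combination -h
    intro x _
    by_cases hx : x⁻¹ * g * x ∈ W₁ ⊔ W₂
    · rw [CfsgLib.Induction.extendByZero_mem _ _ hx]
      refine ctiAlpha_vanish hφ hψ _ ?_
      by_contra hc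
      rw [not_or] at hc
      exact hg ⟨x, x⁻¹ * g * x, ⟨hx, hc.1, hc.2⟩, by group⟩
    · exact CfsgLib.Induction.extendByZero_notMem _ _ hx
  have hb : Set.BijOn (fun φ => φ * ψ) {φ | TrivR φ} {ν | AgreeR W₁ W₂ ψ ν} := by
    refine ⟨fun φ hφ w hw => ?_, (mul_left_injective ψ).injOn, fun ν hν => ⟨ν * ψ⁻¹, fun w hw => ?_,
      inv_mul_cancel_right ν ψ⟩⟩
    · rw [MonoidHom.mul_apply, hφ w hw, one_mul]
    · rw [MonoidHom.mul_apply, MonoidHom.inv_apply, ← hν w hw, mul_inv_cancel]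
  rw [colSum, ← finsum_mem_eq_of_bijOn (f := fun φ => η (φ * ψ)) _ hb (fun _ _ => rfl),
    finsum_mem_eq_toFinset_sum, finsum_mem_eq_toFinset_sum, Finset.sum_apply,
    Finset.sum_congr rfl (g := fun φ => η φ g + (η ψ g - 1)) fun φ (hφ : φ ∈ {φ | TrivR φ}.toFinset) => hterm φ (Set.mem_toFinset.mp hφ), Finset.sum_add_distrib,
    Finset.sum_const, nsmul_eq_mul, ← card_trivR hW, Nat.card_eq_fintype_card]
  congr 3
  rw [Set.toFinset_card]
  exact Fintype.card_congr (Equiv.refl _)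

variable (hodd : Odd (Nat.card ↥(W₁ ⊔ W₂))) {Ψ : G → ℂ} (hΨ : Cfsg.IsGeneralizedCharacter G Ψ)
  {E : Subgroup G} {g : G} (hg : g ∈ Subgroup.normalizer (E : Set G))
  (hrel : ∀ ψ, TrivL ψ → ψ ≠ 1 → meanAt E Ψ g = meanAt E (colSum η ψ) g)
  (hoff : ∀ y ∈ E, y * g ∉ conjSet (hatW W₁ W₂))

include hW hη hodd hΨ hg hrel hoff in
/-- The integrality statement. -/
theorem mean_values :
    ∃ n m : ℤ, meanAt E Ψ g = n ∧ (∀ ψ, TrivL ψ → ψ ≠ 1 → meanAt E (η ψ) g = m) ∧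
      ((∀ y ∈ E, Nat.Coprime (orderOf (y * g)) (Nat.card W₁)) → (Nat.card W₁).Prime →
        ¬ (n = 0 ∧ m = 1)) := by
  haveI := finite_linChar hW
  haveI := Fintype.ofFinite (↥(W₁ ⊔ W₂) →* ℂˣ)
  obtain ⟨-, -, hdisj, hcomm, -, -⟩ := id hW
  obtain ⟨hq3, hp3⟩ := three_le_card hW hodd
  have hq0 : (Nat.card W₁ : ℂ) ≠ 0 := Nat.cast_ne_zero.mpr (by omega)
  set R := {φ : ↥(W₁ ⊔ W₂) →* ℂˣ | TrivR φ}.toFinset with hR
  set s := ∑ φ ∈ R, meanAt E (η φ) g with hs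
  -- the mean of a column
  have hmean : ∀ ψ, TrivL ψ → ψ ≠ 1 →
      meanAt E Ψ g = s + (Nat.card W₁ : ℂ) * (meanAt E (η ψ) g - 1) := by
    intro ψ hψ hψ1
    rw [hrel ψ hψ hψ1, hs]
    simp only [meanAt]
    rw [← Finset.mul_sum, Finset.sum_comm,
      Finset.sum_congr rfl fun (y : E) _ => colSum_off hW hη hψ hψ1 (hoff y y.2), Finset.sum_add_distrib,
      mul_add, ← Finset.mul_sum, Finset.sum_sub_distrib, Finset.sum_const, Finset.card_univ,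
      ← Nat.card_eq_fintype_card, nsmul_eq_mul, mul_one, mul_sub, mul_sub, mul_sub]
    have h0 : (Nat.card E : ℂ) ≠ 0 := Nat.cast_ne_zero.mpr Nat.card_pos.ne'
    rw [Finset.sum_congr rfl fun (y : E) _ => finsum_mem_eq_toFinset_sum _ _]
    field_simp
    ring
  obtain ⟨⟨ψ₀, hψ₀⟩, hψ₀1⟩ := ((Finite.one_lt_card_iff_nontrivial (α := {φ : ↥(W₁ ⊔ W₂) →* ℂˣ // TrivL φ})).mp
    (by rw [card_trivL hW]; omega)) |> fun h => @exists_ne _ h ⟨1, fun _ _ => rfl⟩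
  have hψ₀1' : ψ₀ ≠ 1 := fun e => hψ₀1 (Subtype.ext e)
  have hconst : ∀ ψ, TrivL ψ → ψ ≠ 1 → meanAt E (η ψ) g = meanAt E (η ψ₀) g := fun ψ hψ hψ1 => by
    have e := (hmean ψ hψ hψ1).symm.trans (hmean ψ₀ hψ₀ hψ₀1')
    have := mul_left_cancel₀ hq0 (add_left_cancel e)
    linear_combination this
  have hσ : ∀ (σ : ℂ ≃+* ℂ) ω, σ (meanAt E (η ω) g) = meanAt E (η ((Units.map σ.toMonoidHom).comp ω)) g :=
    fun σ ω => by rw [map_meanAt, family_map hW hodd hη σ ω]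
  have hma : ∀ σ : ℂ ≃+* ℂ, σ (meanAt E (η ψ₀) g) = meanAt E (η ψ₀) g := fun σ => by
    rw [hσ, hconst _ (trivL_map hψ₀ σ) (map_ne_one hψ₀1' σ)]
  have hgen : ∀ ω, Cfsg.IsGeneralizedCharacter G (η ω) := fun ω => (family_signed hη ω).generalized
  obtain ⟨m, hm⟩ : ∃ m : ℤ, meanAt E (η ψ₀) g = m := mean_int (hgen ψ₀) hg hma
  have hsσ : ∀ σ : ℂ ≃+* ℂ, σ s = s := by
    intro σ
    rw [hs, map_sum, Finset.sum_congr rfl fun φ _ => hσ σ φ]
    have hinv : ∀ τ τ' : ℂ ≃+* ℂ, (∀ z, τ (τ' z) = z) → ∀ φ : ↥(W₁ ⊔ W₂) →* ℂˣ,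
        (Units.map τ.toMonoidHom).comp ((Units.map τ'.toMonoidHom).comp φ) = φ :=
      fun τ τ' h φ => MonoidHom.ext fun w => Units.ext (h _)
    refine Finset.sum_nbij' (fun φ => (Units.map σ.toMonoidHom).comp φ)
      (fun φ => (Units.map σ.symm.toMonoidHom).comp φ) ?_ ?_ ?_ ?_ (fun _ _ => rfl)
    · intro φ hφ; simpa [hR] using trivR_map (by simpa [hR] using hφ) σ
    · intro φ hφ; simpa [hR] using trivR_map (by simpa [hR] using hφ) σ.symm
    · exact fun φ _ => hinv σ.symm σ σ.symm_apply_apply φ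
    · exact fun φ _ => hinv σ σ.symm σ.apply_symm_apply φ
  obtain ⟨n, hn⟩ : ∃ n : ℤ, meanAt E Ψ g = n := mean_int hΨ hg fun σ => by
    show σ (meanAt E Ψ g) = meanAt E Ψ g
    rw [hmean ψ₀ hψ₀ hψ₀1', map_add, map_mul, map_sub, hma, hsσ, map_natCast, map_one]
  refine ⟨n, m, hn, fun ψ hψ hψ1 => (hconst ψ hψ hψ1).trans hm, fun hcop hqp ⟨hn0, hm1⟩ => ?_⟩
  have hs0 : s = 0 := by
    have := hmean ψ₀ hψ₀ hψ₀1'
    rw [hn, hm, hn0, hm1] at this
    simpa using this.symm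
  -- on `q'`-elements the non-trivial rows have equal values
  obtain ⟨w₀, hw₀, hw₀1⟩ := (Subgroup.bot_or_exists_ne_one W₁).resolve_left hW.1
  set w : W₁ := ⟨w₀, hw₀⟩
  have hwq : w ^ Nat.card W₁ = 1 := pow_card_eq_one'
  have hgenw : ∀ a : W₁, ∃ k : ℕ, w ^ k = a := fun a => by
    have := Fact.mk hqp
    exact (Submonoid.mem_powers_iff _ _).mp
      (mem_powers_of_prime_card (p := Nat.card W₁) rfl (fun e => hw₀1 (congrArg Subtype.val e)))
  have hrow : ∀ φ φ', TrivR φ → TrivR φ' → φ ≠ 1 → φ' ≠ 1 →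
      meanAt E (η φ') g = meanAt E (η φ) g := by
    intro φ φ' hφ hφ' hφ1 hφ'1
    set z : ℂ := (φ (ctiL W₁ W₂ w) : ℂ) with hz
    set z' : ℂ := (φ' (ctiL W₁ W₂ w) : ℂ) with hz'
    have hpow : ∀ (f : ↥(W₁ ⊔ W₂) →* ℂˣ), ((f (ctiL W₁ W₂ w) : ℂ)) ^ Nat.card W₁ = 1 := fun f => by
      rw [← Units.val_pow_eq_pow_val, ← map_pow, ← map_pow, hwq, map_one, map_one, Units.val_one]
    have hne : ∀ {f : ↥(W₁ ⊔ W₂) →* ℂˣ}, TrivR f → f ≠ 1 → (f (ctiL W₁ W₂ w) : ℂ) ≠ 1 := fun {f} hf hf1 e =>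
      hf1 (trivR_ext hdisj hcomm hf (fun _ _ => rfl) (MonoidHom.ext fun a => by
        obtain ⟨k, rfl⟩ := hgenw a
        rw [map_pow, map_pow]
        simp [Units.ext_iff, e]))
    have hprim : IsPrimitiveRoot z (Nat.card W₁) :=
      IsPrimitiveRoot.iff_orderOf.mpr (((Nat.dvd_prime hqp).mp (orderOf_dvd_of_pow_eq_one (hpow φ))).resolve_left
        fun e => hne hφ hφ1 (orderOf_eq_one_iff.mp e))
    haveI : NeZero (Nat.card W₁) := ⟨Nat.card_pos.ne'⟩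
    obtain ⟨k, hk, hkz⟩ := hprim.eq_pow_of_pow_eq_one (hpow φ')
    have hk0 : k ≠ 0 := fun e => hne hφ' hφ'1 (by rw [← hkz, e, pow_zero])
    have hkc : Nat.Coprime k (Nat.card W₁) := (hqp.coprime_iff_not_dvd.mpr fun h =>
      absurd (Nat.le_of_dvd (Nat.pos_of_ne_zero hk0) h) (not_le.mpr hk)).symm
    refine meanAt_congr fun y hy => ?_
    obtain ⟨σ, hσfix, hσz⟩ := exists_galois (Subgroup.card_subgroup_dvd_card W₁) (hcop y hy) hkc
    have e : (Units.map σ.toMonoidHom).comp φ = φ' := by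
      refine trivR_ext hdisj hcomm (trivR_map hφ σ) hφ' (MonoidHom.ext fun a => ?_)
      obtain ⟨j, rfl⟩ := hgenw a
      rw [map_pow, map_pow]
      refine congrArg (· ^ j) (Units.ext ?_)
      show σ z = z'
      rw [hσz z (hpow φ)]
      exact hkz
    rw [← e, ← congrFun (family_map hW hodd hη σ φ) (y * g)]
    exact hσfix _ (hgen φ)
  obtain ⟨⟨φ₀, hφ₀⟩, hφ₀1⟩ := ((Finite.one_lt_card_iff_nontrivial (α := {φ : ↥(W₁ ⊔ W₂) →* ℂˣ // TrivR φ})).mp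
    (by rw [card_trivR hW]; omega)) |> fun h => @exists_ne _ h ⟨1, fun _ _ => rfl⟩
  have hφ₀1' : φ₀ ≠ 1 := fun e => hφ₀1 (Subtype.ext e)
  set b := meanAt E (η φ₀) g with hb
  have h1R : (1 : ↥(W₁ ⊔ W₂) →* ℂˣ) ∈ R := by simp [hR, TrivR]
  have hRc : R.card = Nat.card W₁ := by
    rw [← card_trivR hW, Nat.card_eq_fintype_card, hR, Set.toFinset_card]
    exact Fintype.card_congr (Equiv.refl _)
  have hse : s = 1 + ((Nat.card W₁ : ℂ) - 1) * b := by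
    rw [hs, ← Finset.add_sum_erase R _ h1R, Finset.sum_congr rfl (g := fun _ => b) fun φ hφ => by
      obtain ⟨hφ1, hφR⟩ := Finset.mem_erase.mp hφ
      exact hrow φ₀ φ hφ₀ (by simpa [hR] using hφR) hφ₀1' hφ1]
    rw [Finset.sum_const, nsmul_eq_mul, Finset.card_erase_of_mem h1R, hRc,
      Nat.cast_sub (by omega), Nat.cast_one]
    congr 1
    rw [hη.map_one, meanAt]
    simp
  have hbint : IsIntegral ℤ b := mean_integral (hgen φ₀) hg
  have hq1 : ((Nat.card W₁ : ℂ) - 1) ≠ 0 := by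
    rw [sub_ne_zero]; exact_mod_cast (by omega : Nat.card W₁ ≠ 1)
  obtain ⟨b', hb'⟩ := int_of_integral_rat hbint (r := -1 / ((Nat.card W₁ : ℚ) - 1)) (by
    push_cast
    rw [eq_div_iff hq1]
    linear_combination -hse + hs0)
  rw [hse, hb'] at hs0
  have hz : (1 : ℤ) + ((Nat.card W₁ : ℤ) - 1) * b' = 0 := by exact_mod_cast hs0
  rcases lt_trichotomy b' 0 with h | h | h
  · nlinarith [mul_le_mul_of_nonneg_left (show b' ≤ -1 by omega) (show (0 : ℤ) ≤ (Nat.card W₁ : ℤ) - 1 by omega)]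
  · rw [h] at hz; simp at hz
  · nlinarith [mul_pos (show (0 : ℤ) < (Nat.card W₁ : ℤ) - 1 by omega) h]

end CfsgLib.PF.Sec13
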