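import Mathlib
import Cfsg.Agent.Lib.PF.Sec13RegCoh
import Cfsg.Agent.Lib.PF.Sec13RegValues

/-!
# Peterfalvi (13.12): the lattice of `S(S_F)` and the coherent extension on it
-/

set_option autoImplicit false
set_option linter.unusedSectionVars false
set_option linter.style.haveILetI false

namespace CfsgLib.PF.Sec13

open CfsgLib.OddOrder CfsgLib.Characters CfsgLib.OddChar CfsgLib.Clifford
open scoped Classical ComplexConjugate

universe u

variable {G : Type u} [Group G] [Fintype G]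

/-- `q |U| (|S_F| - 1)`. -/
noncomputable def regN (S W₁ U : Subgroup G) : ℕ :=
  Nat.card W₁ * Nat.card U * (Nat.card (Cfsg.fittingHallOf S) - 1)

/-- The regular character of `S` less that of `S / S_F`. -/
noncomputable def regPhi (S W₁ U : Subgroup G) : ↥S → ℂ := fun x =>
  if x = 1 then (regN S W₁ U : ℂ)
  else if (x : G) ∈ Cfsg.fittingHallOf S then -((Nat.card W₁ * Nat.card U : ℕ) : ℂ) else 0

/-- Restrictions of virtual characters. -/
theorem gen_res {Θ : G → ℂ} (h : Cfsg.IsGeneralizedCharacter G Θ) (K : Subgroup G) :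
    Cfsg.IsGeneralizedCharacter K (fun x : K => Θ x) := by
  obtain ⟨χ, χ', h1, h2, rfl⟩ := h
  exact ⟨_, _, CfsgLib.NormalRes.isCharacter_res K h1, CfsgLib.NormalRes.isCharacter_res K h2, rfl⟩

namespace RegCtx

variable {S T W₁ W₂ U V : Subgroup G} (C : RegCtx S T W₁ W₂ U V)

include C

theorem Ps_normal : ((Cfsg.fittingHallOf S).subgroupOf S).Normal :=
  (Subgroup.normal_subgroupOf_iff_le_normalizer
    (C.pair.left.U_compl.1.trans (Subgroup.commutator_le_self S))).mpr (fittingHallOf_normal S)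

theorem Ps_card :
    Nat.card ((Cfsg.fittingHallOf S).subgroupOf S) = Nat.card (Cfsg.fittingHallOf S) :=
  Nat.card_congr (Subgroup.subgroupOfEquivOfLe
    (C.pair.left.U_compl.1.trans (Subgroup.commutator_le_self S))).toEquiv

theorem Ps_comm : IsMulCommutative ((Cfsg.fittingHallOf S).subgroupOf S) :=
  ⟨⟨fun a b => Subtype.ext (Subtype.ext (C.comm_P _ a.2 _ b.2))⟩⟩

theorem indP_mem : ∀ {κ : ↥((Cfsg.fittingHallOf S).subgroupOf S) → ℂ},
    Cfsg.IsIrrCharacter ↥((Cfsg.fittingHallOf S).subgroupOf S) κ → κ ≠ (fun _ => 1) →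
    Cfsg.indFun ((Cfsg.fittingHallOf S).subgroupOf S) κ ∈
      Cfsg.zspan (calS S (Cfsg.fittingHallOf S) ⊥) := by
  set Ps := (Cfsg.fittingHallOf S).subgroupOf S with hPs
  set K := (⁅S, S⁆ : Subgroup G).subgroupOf S with hK
  have hle : Ps ≤ K := fun x hx => C.pair.left.U_compl.1 hx
  intro κ hκ hκ1
  haveI := C.Ps_normal
  haveI := C.Ps_comm
  set κ' : Ps.subgroupOf K → ℂ := fun h => κ ⟨((h : K) : S), h.2⟩ with hκ'
  have hκ'c : Cfsg.IsCharacter (Ps.subgroupOf K) κ' :=
    CfsgLib.CharGalois.isCharacter_comp (isCharacter_of_irr hκ)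
      (Subgroup.subgroupOfEquivOfLe hle).toMonoidHom
  have hκ'i : Cfsg.classInner κ' (fun _ => 1) = 0 := by
    have e : Cfsg.classInner κ' (fun _ => 1) = Cfsg.classInner κ (fun _ => 1) := by
      rw [Cfsg.classInner, Cfsg.classInner, Nat.card_congr (Subgroup.subgroupOfEquivOfLe hle).toEquiv]
      congr 1
      exact Fintype.sum_equiv (Subgroup.subgroupOfEquivOfLe hle).toEquiv _ _ fun _ => rfl
    rw [e, classInner_irr_ne hκ isIrrCharacter_one hκ1]
  obtain ⟨m, hm, hsum⟩ := exists_mult (CfsgLib.Induction.isCharacter_indFun (Ps.subgroupOf K) hκ'c)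
  rw [← CfsgLib.Induction.indFun_trans hle κ, hsum, CfsgLib.Induction.indFun_sum]
  refine zspan_sum _ fun θ _ => ?_
  rw [CfsgLib.Induction.indFun_smul, ← Int.cast_natCast, ← CfsgLib.OddChar.zsmul_eq_smul]
  rcases Nat.eq_zero_or_pos (m θ) with h0 | h0
  · rw [h0, Nat.cast_zero, zero_smul]; exact zspan_zero
  refine zspan_zsmul _ (zspan_of_mem ?_)
  -- the constituent does not contain `S_F` in its kernel
  have hne : ∃ a : K, ((a : S) : G) ∈ Cfsg.fittingHallOf S ∧ (θ : K → ℂ) a ≠ (θ : K → ℂ) 1 := by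
    by_contra hall
    push Not at hall
    have h1 := hm θ
    rw [CfsgLib.Induction.classInner_indFun _ _ (CfsgLib.Induction.isClassFunction_of_isCharacter
      (isCharacter_of_irr θ.2))] at h1
    have h2 : (fun h : Ps.subgroupOf K => (θ : K → ℂ) h) = (θ : K → ℂ) 1 • fun _ => (1 : ℂ) := by
      funext h
      rw [Pi.smul_apply, smul_eq_mul, mul_one, hall _ h.2]
    rw [h2, classInner_smul_right, hκ'i, mul_zero] at h1
    exact (Nat.cast_ne_zero.mpr h0.ne') h1.symm
  obtain ⟨a, ha, hne⟩ := hne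
  refine ⟨⟨θ, θ.2, fun e => hne (by rw [e]), fun x hx => ?_, rfl⟩, ?_⟩
  · have : x = 1 := Subtype.ext (Subgroup.mem_bot.mp (by simpa using hx))
    rw [this]
  rintro ⟨φ, hφ, -, hker, e⟩
  haveI : K.Normal := derived_subgroupOf_normal S
  obtain ⟨g, hg⟩ := conjChar_of_indFun_eq (inferInstance : K.Normal) hφ θ.2 e.symm
  refine hne ?_
  have haP : g⁻¹ * (a : S) * g ∈ Ps := C.Ps_normal.conj_mem' _ ha g
  have e1 := congrFun hg (⟨g⁻¹ * (a : S) * g, hle haP⟩ : K)
  have e2 := congrFun hg 1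
  rw [conjChar_apply_one] at e2
  rw [hker _ haP, ← e2] at e1
  simpa [conjChar, mul_assoc] using e1

theorem phi_eq : regPhi S W₁ U =
    ∑ κ ∈ (Finset.univ.filter fun κ : Cfsg.IrrCharacter ↥((Cfsg.fittingHallOf S).subgroupOf S) =>
      (κ : ↥((Cfsg.fittingHallOf S).subgroupOf S) → ℂ) ≠ fun _ => 1),
      Cfsg.indFun ((Cfsg.fittingHallOf S).subgroupOf S)
        (κ : ↥((Cfsg.fittingHallOf S).subgroupOf S) → ℂ) := by
  set Ps := (Cfsg.fittingHallOf S).subgroupOf S with hPs
  haveI := C.Ps_normal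
  haveI := C.Ps_comm
  set F : Ps → ℂ := ∑ κ ∈ (Finset.univ.filter fun κ : Cfsg.IrrCharacter Ps =>
    (κ : Ps → ℂ) ≠ fun _ => 1), (κ : Ps → ℂ) with hF
  rw [← CfsgLib.Induction.indFun_sum, ← hF]
  have hone : ∀ n : Ps, F n = (if n = 1 then (Nat.card Ps : ℂ) else 0) - 1 := by
    intro n
    have h := sum_degree_mul_irr (G := Ps) n
    rw [Finset.sum_congr rfl fun κ _ => by
        rw [CfsgLib.CharIto.degree_one_of_comm κ.2, one_mul],
      ← Finset.sum_filter_add_sum_filter_not Finset.univ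
        (fun κ : Cfsg.IrrCharacter Ps => (κ : Ps → ℂ) ≠ fun _ => 1)] at h
    rw [hF, Finset.sum_apply, eq_sub_iff_add_eq, ← h]
    congr 1
    rw [show (Finset.univ.filter fun κ : Cfsg.IrrCharacter Ps => ¬ (κ : Ps → ℂ) ≠ fun _ => 1) =
      {(⟨fun _ => 1, isIrrCharacter_one⟩ : Cfsg.IrrCharacter Ps)} from Finset.ext fun κ => by simp [Subtype.ext_iff],
      Finset.sum_singleton]
  have hcS : Nat.card S = Nat.card (Cfsg.fittingHallOf S) * (Nat.card W₁ * Nat.card U) := by
    rw [← card_derived_mul C.pair.left, C.card_derived]; ring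
  have hP0 : (Nat.card (Cfsg.fittingHallOf S) : ℂ) ≠ 0 := Nat.cast_ne_zero.mpr Nat.card_pos.ne'
  funext x
  by_cases hx : x ∈ Ps
  swap
  · rw [CfsgLib.Induction.indFun_normal_eq_zero Ps hx, regPhi, if_neg (fun e : x = 1 => hx (by rw [e]; exact Ps.one_mem)),
      if_neg (fun h => hx (Subgroup.mem_subgroupOf.mpr h))]
  have e := CfsgLib.Induction.indFun_normal_apply Ps F ⟨x, hx⟩
  rw [show Cfsg.indFun Ps F x = _ from e]
  by_cases hx1 : x = 1
  · subst hx1
    rw [regPhi, if_pos rfl, Finset.sum_congr rfl (g := fun _ => (Nat.card Ps : ℂ) - 1) fun y _ => by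
      rw [hone, if_pos (Subtype.ext (by simp))], Finset.sum_const, Finset.card_univ, nsmul_eq_mul,
      ← Nat.card_eq_fintype_card, C.Ps_card, hcS, regN, Nat.cast_mul, Nat.cast_mul, Nat.cast_mul,
      Nat.cast_mul, Nat.cast_sub Nat.card_pos, Nat.cast_one]
    field_simp
  · rw [regPhi, if_neg hx1, if_pos (Subgroup.mem_subgroupOf.mp hx),
      Finset.sum_congr rfl (g := fun _ => (-1 : ℂ)) fun y _ => by
        rw [hone, if_neg fun e => hx1 (by
          have e' := congrArg Subtype.val e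
          simpa using conj_eq_one_iff.mp e'), zero_sub],
      Finset.sum_const, Finset.card_univ, nsmul_eq_mul, ← Nat.card_eq_fintype_card, C.Ps_card, hcS]
    push_cast
    field_simp

theorem phi_mem : regPhi S W₁ U ∈ Cfsg.zspan (calS S (Cfsg.fittingHallOf S) ⊥) := by
  rw [C.phi_eq]
  exact zspan_sum _ fun κ hκ => C.indP_mem κ.2 (Finset.mem_filter.mp hκ).2

theorem phi_one : regPhi S W₁ U 1 = (regN S W₁ U : ℂ) := by simp [regPhi]

theorem phi_off {x : S} (hx : (x : G) ∉ Cfsg.fittingHallOf S) : regPhi S W₁ U x = 0 := by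
  rw [regPhi, if_neg fun e => hx (by rw [e]; exact Subgroup.one_mem _), if_neg hx]

theorem class_of_zspan {X : ↥S → ℂ} (h : X ∈ Cfsg.zspan (calS S (Cfsg.fittingHallOf S) ⊥)) :
    Cfsg.IsClassFunction ↥S X := by
  induction h using Submodule.span_induction with
  | mem χ hχ => obtain ⟨θ, -, -, -, rfl⟩ := hχ.1; exact CfsgLib.Induction.isClassFunction_indFun _ θ
  | zero => exact fun _ _ => rfl
  | add a b _ _ ha hb => exact fun x y => by rw [Pi.add_apply, Pi.add_apply, ha, hb]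
  | smul n a _ ha => exact fun x y => by rw [Pi.smul_apply, Pi.smul_apply, ha]

theorem regHs_suppA {g : G} (hg : g ∈ regHs S U) : g ∈ suppA S := by
  obtain ⟨z, hz, hz1⟩ := (Subgroup.bot_or_exists_ne_one W₂).resolve_left C.pair.left.selfNormalizing.2.1
  rw [C.suppA_def]
  have hzP := W₂_le_fittingHall C.pair.left hz
  exact ⟨C.regH_le hg.1, hg.2, z, hzP, hz1, C.regH_comm _ hg.1 _ (Subgroup.mem_sup_left hzP)⟩

theorem supportR_bot {a : G} (ha : a ∈ suppA0 S) (ha1 : a ≠ 1) : Cfsg.supportR S a = ⊥ := by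
  rw [Cfsg.supportR, dif_neg]
  exact fun h => h.1 (C.centralizer_le ha ha1)

variable (hT : PropTypes G) (hD : PropDade G)

include hT hD

/-- Reciprocity for functions supported on `H#`. -/
theorem pairing {Y : ↥S → ℂ} (hYc : Cfsg.IsClassFunction ↥S Y)
    (hY : ∀ x : S, (x : G) ∉ regHs S U → Y x = 0) {Θ : G → ℂ} (hΘ : Cfsg.IsClassFunction G Θ) :
    Cfsg.classInner (tau S Y) Θ = Cfsg.classInner Y (fun x : S => Θ x) := by
  have hDd := dade hT hD C.pair.left_max C.pair.left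
  refine dade_adjoint hDd hYc (fun x hx => hY x fun h => hx (Or.inl (C.regHs_suppA h))) hΘ fun a ha => ?_
  rw [C.supportR_bot ha fun e => hDd.one_not_mem (by rw [← e]; exact ha)]
  simp

theorem tau_zero {Y : ↥S → ℂ} (hYc : Cfsg.IsClassFunction ↥S Y)
    (hY : ∀ x : S, (x : G) ∉ regHs S U → Y x = 0) {g : G} (hg : g ∉ conjSet (regHs S U)) :
    tau S Y g = 0 := by
  have hDd := dade hT hD C.pair.left_max C.pair.left
  by_cases hs : g ∈ dadeSupp (suppA0 S) (Cfsg.supportR S)
  swap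
  · exact dadeIsometry_of_not_mem hs
  obtain ⟨a, ha, v, hv, x, e⟩ := hs
  rw [tau, dadeIsometry_apply hDd hYc (a := ⟨a, hDd.subset ha⟩) (x := x) ha hv e]
  refine hY _ fun h => hg ⟨x⁻¹, a, h, ?_⟩
  rw [C.supportR_bot ha fun e => hDd.one_not_mem (by rw [← e]; exact ha), Subgroup.mem_bot] at hv
  subst hv
  rw [mul_one] at e
  rw [← e]; group

theorem tau_self {Y : ↥S → ℂ} (hYc : Cfsg.IsClassFunction ↥S Y) {x : S} (hx : (x : G) ∈ suppA0 S) :
    tau S Y x = Y x :=
  dadeIsometry_apply (dade hT hD C.pair.left_max C.pair.left) hYc (x := (1 : G)) hx (Subgroup.one_mem _)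
    (by simp)

end RegCtx

end CfsgLib.PF.Sec13
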