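import Mathlib
import Cfsg.Agent.Lib.PF.Sec13RegSpan

/-!
# Peterfalvi (13.12): squares summed over `H#`
-/

set_option autoImplicit false
set_option linter.unusedSectionVars false
set_option linter.style.haveILetI false

namespace CfsgLib.PF.Sec13

open CfsgLib.OddOrder CfsgLib.Characters CfsgLib.OddChar Finset
open scoped Classical ComplexConjugate

universe u

variable {G : Type u} [Group G] [Fintype G]

/-- `Ψ = ε τ₁(λ)`. -/
noncomputable def regPsi {S : Subgroup G} (ε : ℤ) (τ₁ : (↥S → ℂ) → (G → ℂ)) (lam : ↥S → ℂ) : G → ℂ :=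
  (ε : ℂ) • τ₁ lam

/-- What is used of `λ` and of the reducible members. -/
structure DegQU (S W₁ U : Subgroup G) (χ : ↥S → ℂ) : Prop where
  mem : χ ∈ calS S (Cfsg.fittingHallOf S) ⊥
  one : χ 1 = ((Nat.card W₁ * regu S U : ℕ) : ℂ)
  off : ∀ x : S, (x : G) ∉ regH S U → χ x = 0
  psum : ∀ x : S, ∑ y : (Cfsg.fittingHallOf S).subgroupOf S, χ ((y : S) * x) = 0

namespace RegCtx

variable {S T W₁ W₂ U V : Subgroup G} (C : RegCtx S T W₁ W₂ U V)
  {μ : (↥(W₁ ⊔ W₂) →* ℂˣ) → (↥S → ℂ)} {δ : (↥(W₁ ⊔ W₂) →* ℂˣ) → ℂ}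
  {η : (↥(W₁ ⊔ W₂) →* ℂˣ) → (G → ℂ)} {lam : ↥S → ℂ} {ε : ℤ} {τ₁ : (↥S → ℂ) → (G → ℂ)}
  (h : RegChars S W₁ W₂ U μ δ η lam ε τ₁)

include C h

theorem eps_sq : (ε : ℂ) * (ε : ℂ) = 1 := by
  rcases h.sign with e | e <;> rw [e] <;> norm_num

theorem lam_degQU : DegQU S W₁ U lam := by
  refine ⟨h.lam_mem, h.lam_one, fun x hx => ?_, C.sum_P_eq_zero h.lam_irr (C.irr_P_ne h.lam_mem h.lam_irr)⟩
  obtain ⟨θ, hθ, -, -, e⟩ := h.lam_mem.1
  have h1 := h.lam_one
  rw [e, CfsgLib.Induction.indFun_one_apply, C.index_derived, Nat.cast_mul] at h1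
  rw [e]
  exact C.ind_vanish hθ (mul_left_cancel₀ (Nat.cast_ne_zero.mpr C.q_prime.ne_zero) h1) hx

theorem red_degQU {ν : ↥(W₁ ⊔ W₂) →* ℂˣ} (hν : ¬ AgreeR W₁ W₂ ν 1) : DegQU S W₁ U (red S μ ν) := by
  refine ⟨C.red_mem h.data hν, ?_, fun x hx => ?_, fun x => ?_⟩
  · rw [C.red_one h.data, h.μ_one ν hν, Nat.cast_mul]
  · exact C.ind_vanish (h.data.res_irr ν) (h.μ_one ν hν) hx
  · haveI := finite_linChar C.pair.left.selfNormalizing
    haveI := Fintype.ofFinite (↥(W₁ ⊔ W₂) →* ℂˣ)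
    rw [h.data.red_eq C.pair.left.selfNormalizing, finsum_mem_eq_toFinset_sum]
    simp only [Finset.sum_apply]
    rw [Finset.sum_comm]
    refine Finset.sum_eq_zero fun ν' hν' => C.sum_P_eq_zero (h.data.μ_irr ν') (C.resP_ne h.data ?_) x
    have hag : AgreeR W₁ W₂ ν ν' := Set.mem_toFinset.mp hν'
    exact fun e => hν (hag.trans e)

theorem span_inner {Θ : G → ℂ} {k : ℂ} {f : ↥S → ℂ}
    (hgen : ∀ χ ∈ calS S (Cfsg.fittingHallOf S) ⊥,
      Cfsg.classInner (τ₁ χ) Θ = k * Cfsg.classInner χ f)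
    {X : ↥S → ℂ} (hX : X ∈ Cfsg.zspan (calS S (Cfsg.fittingHallOf S) ⊥)) :
    Cfsg.classInner (τ₁ X) Θ = k * Cfsg.classInner X f := by
  induction hX using Submodule.span_induction with
  | mem χ hχ => exact hgen χ hχ
  | zero =>
    have h0 := h.iso.1 0 zspan_zero 0 zspan_zero
    rw [add_zero, left_eq_add] at h0
    rw [h0, classInner_zero_left, classInner_zero_left, mul_zero]
  | add a b ha hb iha ihb =>
    rw [h.iso.1 a ha b hb, classInner_add_left, classInner_add_left, iha, ihb, mul_add]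
  | smul n a ha iha =>
    rw [h.iso.2.1 a ha n, CfsgLib.OddChar.zsmul_eq_smul, CfsgLib.OddChar.zsmul_eq_smul,
      classInner_smul_left, classInner_smul_left, iha]
    ring

theorem psi_gen : Cfsg.IsGeneralizedCharacter G (regPsi ε τ₁ lam) := by
  rw [regPsi, ← CfsgLib.OddChar.zsmul_eq_smul]
  exact isGeneralizedCharacter_zsmul (h.iso.2.2.2 _ (zspan_of_mem h.lam_mem)) ε

theorem psi_norm : Cfsg.classInner (regPsi ε τ₁ lam) (regPsi ε τ₁ lam) = 1 := by
  rw [regPsi, classInner_smul_left, classInner_smul_right,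
    h.iso.2.2.1 _ (zspan_of_mem h.lam_mem) _ (zspan_of_mem h.lam_mem), classInner_irr_self h.lam_irr,
    mul_one, map_intCast, C.eps_sq h]

theorem pair_psi {X : ↥S → ℂ} (hX : X ∈ Cfsg.zspan (calS S (Cfsg.fittingHallOf S) ⊥)) :
    Cfsg.classInner (τ₁ X) (regPsi ε τ₁ lam) = (ε : ℂ) * Cfsg.classInner X lam := by
  rw [regPsi, classInner_smul_right, map_intCast, h.iso.2.2.1 _ hX _ (zspan_of_mem h.lam_mem)]

theorem pair_eta {ν : ↥(W₁ ⊔ W₂) →* ℂˣ} (hν : ¬ AgreeR W₁ W₂ ν 1) {X : ↥S → ℂ}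
    (hX : X ∈ Cfsg.zspan (calS S (Cfsg.fittingHallOf S) ⊥)) :
    Cfsg.classInner (τ₁ X) (η ν - η 1) =
      ((ε : ℂ) / (Nat.card W₁ : ℂ)) * Cfsg.classInner X (red S μ (tw ε ν)) := by
  have hW := C.pair.left.selfNormalizing
  refine C.span_inner h (fun χ hχ => ?_) hX
  rcases mem_calS_cases h.data hχ with hi | ⟨ω, hω, rfl⟩
  · rw [classInner_sub_right, h.irr_η χ hχ hi, h.irr_η χ hχ hi, sub_zero,
      h.red_orth χ hχ _ (C.red_mem h.data (tw_nontriv ε hν)) fun e => C.not_irr_red h.data _ (e ▸ hi),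
      mul_zero]
  · have e := h.red_image (tw ε ω) (tw_nontriv ε hω)
    rw [tw_tw] at e
    rw [e, classInner_sub_right, classInner_smul_left, classInner_smul_left,
      h.data.classInner_colSum_η hW, h.data.classInner_colSum_η hW,
      if_neg (tw_nontriv ε hω), mul_zero, sub_zero, h.data.classInner_red_red hW]
    by_cases hag : AgreeR W₁ W₂ (tw ε ω) ν
    · have : AgreeR W₁ W₂ ω (tw ε ν) := by have := Sec13.AgreeR.tw ε hag; rwa [tw_tw] at this
      rw [if_pos hag, if_pos this, div_mul_cancel₀ _ (Nat.cast_ne_zero.mpr Nat.card_pos.ne'), mul_one]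
    · have : ¬ AgreeR W₁ W₂ ω (tw ε ν) := fun e => hag (by have := Sec13.AgreeR.tw ε e; rwa [tw_tw] at this)
      rw [if_neg hag, if_neg this, mul_zero, mul_zero]

theorem inner_phi (f : ↥S → ℂ) :
    Cfsg.classInner f (regPhi S W₁ U) = ((Nat.card W₁ * Nat.card U : ℕ) : ℂ) / (Nat.card S : ℂ) *
      ((Nat.card (Cfsg.fittingHallOf S) : ℂ) * f 1 -
        ∑ y : (Cfsg.fittingHallOf S).subgroupOf S, f y) := by
  set Ps := (Cfsg.fittingHallOf S).subgroupOf S with hPs
  have e : ∑ x : S, f x * conj (regPhi S W₁ U x) = ∑ x ∈ univ.filter (· ∈ Ps), f x * conj (regPhi S W₁ U x) := by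
    refine (Finset.sum_subset (Finset.subset_univ _) fun x _ hx => ?_).symm
    rw [C.phi_off (fun hh => hx (by simpa [hPs, Subgroup.mem_subgroupOf] using hh)), map_zero, mul_zero]
  rw [Cfsg.classInner, e, Finset.sum_subtype (univ.filter (· ∈ Ps)) (p := (· ∈ Ps)) (fun x => by simp),
    Finset.sum_congr rfl (g := fun y : Ps => ((Nat.card W₁ * Nat.card U : ℕ) : ℂ) *
      ((if y = 1 then (Nat.card (Cfsg.fittingHallOf S) : ℂ) * f 1 else 0) - f y)) fun y _ => ?_,
    ← Finset.mul_sum, Finset.sum_sub_distrib, Finset.sum_ite_eq' univ (1 : Ps), if_pos (mem_univ _)]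
  · ring
  by_cases hy : y = 1
  · subst hy
    rw [if_pos rfl, OneMemClass.coe_one, C.phi_one, map_natCast, regN, Nat.cast_mul,
      Nat.cast_sub Nat.card_pos, Nat.cast_one]
    ring
  · rw [if_neg hy, regPhi, if_neg (fun e : (y : S) = 1 => hy (Subtype.ext e)), if_pos (Subgroup.mem_subgroupOf.mp y.2),
      map_neg, map_natCast]
    ring

theorem card_S' : (Nat.card S : ℂ) =
    (Nat.card (Cfsg.fittingHallOf S) : ℂ) * ((Nat.card W₁ * Nat.card U : ℕ) : ℂ) := by
  rw [← card_derived_mul C.pair.left, C.card_derived]; push_cast; ring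

theorem inner_phi_deg {χ : ↥S → ℂ} (hχ : DegQU S W₁ U χ) :
    Cfsg.classInner χ (regPhi S W₁ U) = χ 1 := by
  have h0 : ∑ y : (Cfsg.fittingHallOf S).subgroupOf S, χ y = 0 := by simpa using hχ.psum 1
  rw [C.inner_phi h, h0, C.card_S' h, sub_zero]
  have : ((Nat.card W₁ * Nat.card U : ℕ) : ℂ) ≠ 0 :=
    Nat.cast_ne_zero.mpr (mul_ne_zero Nat.card_pos.ne' Nat.card_pos.ne')
  have : (Nat.card (Cfsg.fittingHallOf S) : ℂ) ≠ 0 := Nat.cast_ne_zero.mpr Nat.card_pos.ne'
  field_simp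

theorem sum_phi : ∑ y : (Cfsg.fittingHallOf S).subgroupOf S, regPhi S W₁ U y = 0 := by
  set Ps := (Cfsg.fittingHallOf S).subgroupOf S with hPs
  rw [← Finset.add_sum_erase _ _ (mem_univ (1 : Ps)), OneMemClass.coe_one, C.phi_one,
    Finset.sum_congr rfl (g := fun _ => -((Nat.card W₁ * Nat.card U : ℕ) : ℂ)) fun y hy => by
      rw [regPhi, if_neg (fun e : (y : S) = 1 => (Finset.mem_erase.mp hy).1 (Subtype.ext e)),
        if_pos (Subgroup.mem_subgroupOf.mp y.2)],
    Finset.sum_const, Finset.card_erase_of_mem (mem_univ _), Finset.card_univ,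
    ← Nat.card_eq_fintype_card, C.Ps_card, nsmul_eq_mul, regN, Nat.cast_mul,
    Nat.cast_sub Nat.card_pos, Nat.cast_one]
  ring

theorem inner_phi_phi : Cfsg.classInner (regPhi S W₁ U) (regPhi S W₁ U) = (regN S W₁ U : ℂ) := by
  rw [C.inner_phi h, C.sum_phi h, sub_zero, C.phi_one, C.card_S' h]
  have : ((Nat.card W₁ * Nat.card U : ℕ) : ℂ) ≠ 0 :=
    Nat.cast_ne_zero.mpr (mul_ne_zero Nat.card_pos.ne' Nat.card_pos.ne')
  have : (Nat.card (Cfsg.fittingHallOf S) : ℂ) ≠ 0 := Nat.cast_ne_zero.mpr Nat.card_pos.ne'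
  field_simp

theorem regN_pos : 0 < regN S W₁ U := by
  have : 1 < Nat.card (Cfsg.fittingHallOf S) := by
    rw [C.P_card]; exact Nat.one_lt_pow C.q_prime.ne_zero C.p_prime.one_lt
  rw [regN]
  exact Nat.mul_pos (Nat.mul_pos Nat.card_pos Nat.card_pos) (by omega)

variable (hT : PropTypes G) (hD : PropDade G)

include hT hD

theorem bessel {Θ : G → ℂ} (hΘ : Cfsg.IsClassFunction G Θ) {χ : ↥S → ℂ} (hχ : DegQU S W₁ U χ) (k : ℝ)
    {n : ℕ} (hn : Cfsg.classInner χ χ = (n : ℂ))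
    (hpair : ∀ X ∈ Cfsg.zspan (calS S (Cfsg.fittingHallOf S) ⊥),
      Cfsg.classInner (τ₁ X) Θ = (k : ℂ) * Cfsg.classInner X χ) :
    (Nat.card S : ℝ) * k ^ 2 * ((n : ℝ) - ((Nat.card W₁ * regu S U : ℕ) : ℝ) ^ 2 / (regN S W₁ U : ℝ)) +
      ∑ z ∈ univ.filter (fun z : S => (z : G) ∈ Cfsg.fittingHallOf S ∧ z ≠ 1),
        Complex.normSq (Θ z - (k : ℂ) * (χ z + ((Nat.card W₁ * regu S U : ℕ) : ℂ) /
          (((Nat.card (Cfsg.fittingHallOf S) - 1 : ℕ) : ℂ)))) +
      (Nat.card (Cfsg.fittingHallOf S) : ℝ) * ∑ x ∈ univ.filter (fun x : G => x ∈ regC S U ∧ x ≠ 1),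
        Complex.normSq (meanAt (Cfsg.fittingHallOf S) Θ x) ≤
      ∑ g ∈ univ.filter (fun g : G => g ∈ regHs S U), Complex.normSq (Θ g) := by
  set P := Cfsg.fittingHallOf S with hP
  set qu : ℕ := Nat.card W₁ * regu S U with hqu
  set N : ℕ := regN S W₁ U with hN
  have hN0 : (N : ℂ) ≠ 0 := Nat.cast_ne_zero.mpr (C.regN_pos h).ne'
  set c : ℂ := (qu : ℂ) / (N : ℂ) with hc
  set α : ↥S → ℂ := χ - c • regPhi S W₁ U with hα
  set Y : ↥S → ℂ := (N : ℤ) • χ - (qu : ℤ) • regPhi S W₁ U with hY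
  have hYα : Y = (N : ℂ) • α := by
    funext x
    simp only [hY, hα, CfsgLib.OddChar.zsmul_eq_smul, Pi.sub_apply, Pi.smul_apply, smul_eq_mul, hc,
      Int.cast_natCast]
    field_simp
  have hYmem : Y ∈ Cfsg.zspanOn (calS S P ⊥) {1}ᶜ := zspanOn_compl_one.mpr
    ⟨zspan_sub (zspan_zsmul _ (zspan_of_mem hχ.mem)) (zspan_zsmul _ C.phi_mem), by
      simp only [hY, CfsgLib.OddChar.zsmul_eq_smul, Pi.sub_apply, Pi.smul_apply, smul_eq_mul, hχ.one,
        C.phi_one, Int.cast_natCast]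
      ring⟩
  have hY1 : Y 1 = 0 := (zspanOn_compl_one.mp hYmem).2
  have hα0 : ∀ x : S, (x : G) ∉ regHs S U → α x = 0 := by
    intro x hx
    by_cases hx1 : x = 1
    · subst hx1
      have := hY1
      rw [hYα, Pi.smul_apply, smul_eq_mul] at this
      exact (mul_eq_zero.mp this).resolve_left hN0
    · have hxH : (x : G) ∉ regH S U := fun hh => hx ⟨hh, fun e => hx1 (Subtype.ext e)⟩
      rw [hα, Pi.sub_apply, Pi.smul_apply, hχ.off x hxH,
        C.phi_off (fun hh => hxH (Subgroup.mem_sup_left hh)), smul_zero, sub_zero]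
  have hαc : Cfsg.IsClassFunction ↥S α := isClassFunction_sub (C.class_of_zspan (zspan_of_mem hχ.mem))
    (fun x y => by simp only [Pi.smul_apply, C.class_of_zspan C.phi_mem x y])
  have hcc : conj c = c := by rw [hc, map_div₀, map_natCast, map_natCast]
  have hχΦ := C.inner_phi_deg h hχ
  rw [hχ.one] at hχΦ
  have hαΦ : Cfsg.classInner α (regPhi S W₁ U) = 0 := by
    rw [hα, classInner_sub_left, classInner_smul_left, hχΦ, C.inner_phi_phi h, hc,
      div_mul_cancel₀ _ hN0, sub_self]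
  have hΦχ : Cfsg.classInner (regPhi S W₁ U) χ = (qu : ℂ) := by
    rw [classInner_conj_symm, hχΦ, map_natCast]
  have hαα : Cfsg.classInner α α = (n : ℂ) - (qu : ℂ) ^ 2 / (N : ℂ) := by
    conv_lhs => arg 2; rw [hα]
    rw [classInner_sub_right, classInner_smul_right, hαΦ, mul_zero, sub_zero, hα,
      classInner_sub_left, classInner_smul_left, hn, hΦχ, hc]
    ring
  -- orthogonality
  have horth : Cfsg.classInner α (fun x : S => Θ x - (k : ℂ) * α x) = 0 := by
    have e1 := C.pairing hT hD (C.class_of_zspan hYmem.1) (fun x hx => by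
      rw [hYα, Pi.smul_apply, hα0 x hx, smul_zero]) hΘ
    rw [← h.ext Y hYmem, hpair Y hYmem.1, hYα, classInner_smul_left, classInner_smul_left,
      mul_left_comm] at e1
    have e2 : Cfsg.classInner α (fun x : S => Θ x) = (k : ℂ) * Cfsg.classInner α χ :=
      (mul_left_cancel₀ hN0 e1).symm
    rw [show (fun x : S => Θ x - (k : ℂ) * α x) = (fun x : S => Θ x) - (k : ℂ) • α from rfl,
      classInner_sub_right, classInner_smul_right, e2, Complex.conj_ofReal,
      show Cfsg.classInner α α = Cfsg.classInner α χ by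
        conv_lhs => arg 2; rw [hα]
        rw [classInner_sub_right, classInner_smul_right, hαΦ, mul_zero, sub_zero]]
    exact sub_self _
  set D : G → ℂ := fun g => if hg : g ∈ S then Θ g - (k : ℂ) * α ⟨g, hg⟩ else 0 with hDdef
  have hHS : ∀ g ∈ regHs S U, g ∈ S := fun g hg => C.regH_le_S hg.1
  have hsplit : ∑ g ∈ univ.filter (fun g : G => g ∈ regHs S U), Complex.normSq (Θ g) =
      (Nat.card S : ℝ) * k ^ 2 * ((n : ℝ) - (qu : ℝ) ^ 2 / (N : ℝ)) +
        ∑ g ∈ univ.filter (fun g : G => g ∈ regHs S U), Complex.normSq (D g) := by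
    have hsub : regHs S U ⊆ (S : Set G) := hHS
    rw [dade_sum_subtype hsub (fun g => Complex.normSq (Θ g)),
      dade_sum_subtype hsub (fun g => Complex.normSq (D g))]
    have hsum : ∀ f : S → ℂ, (∀ x, α x = 0 → f x = 0) →
        ∑ x ∈ univ.filter (fun x : S => (x : G) ∈ regHs S U), f x = ∑ x : S, f x := fun f hf =>
      Finset.sum_subset (Finset.subset_univ _) fun x _ hx => hf x (hα0 x (by simpa using hx))
    have hcross : (∑ x ∈ univ.filter (fun x : S => (x : G) ∈ regHs S U),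
        α x * conj (Θ x - (k : ℂ) * α x)) = 0 := by
      rw [hsum _ fun x hx => by rw [hx, zero_mul]]
      rw [Cfsg.classInner] at horth
      exact (mul_eq_zero.mp horth).resolve_left (inv_ne_zero (Nat.cast_ne_zero.mpr Nat.card_pos.ne'))
    have hsq : ∑ x ∈ univ.filter (fun x : S => (x : G) ∈ regHs S U), Complex.normSq (α x) =
        (Nat.card S : ℝ) * ((n : ℝ) - (qu : ℝ) ^ 2 / (N : ℝ)) := by
      have e : ∑ x ∈ univ.filter (fun x : S => (x : G) ∈ regHs S U), α x * conj (α x) =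
          (Nat.card S : ℂ) * ((n : ℂ) - (qu : ℂ) ^ 2 / (N : ℂ)) := by
        rw [hsum _ fun x hx => by rw [hx, zero_mul]]
        rw [Cfsg.classInner, inv_mul_eq_iff_eq_mul₀ (Nat.cast_ne_zero.mpr Nat.card_pos.ne')] at hαα
        exact hαα
      apply Complex.ofReal_injective
      push_cast
      rw [← e]
      exact Finset.sum_congr rfl fun x _ => (Complex.mul_conj _).symm
    calc ∑ x ∈ univ.filter (fun x : S => (x : G) ∈ regHs S U), Complex.normSq (Θ x)
        = ∑ x ∈ univ.filter (fun x : S => (x : G) ∈ regHs S U), (k ^ 2 * Complex.normSq (α x) +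
            Complex.normSq (D x) + 2 * k * (α x * conj (Θ x - (k : ℂ) * α x)).re) :=
          Finset.sum_congr rfl fun x _ => by
            rw [hDdef]
            simp only [SetLike.coe_mem, dif_pos, Subtype.coe_eta]
            simp only [Complex.normSq_apply, Complex.mul_re, Complex.sub_re, Complex.sub_im,
              Complex.mul_im, Complex.conj_re, Complex.conj_im, Complex.ofReal_re, Complex.ofReal_im]
            ring
      _ = _ := by
          rw [Finset.sum_add_distrib, Finset.sum_add_distrib, ← Finset.mul_sum, hsq, ← Finset.mul_sum,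
            ← Complex.re_sum, hcross, Complex.zero_re, mul_zero, add_zero]
          ring
  rw [hsplit, add_assoc]
  refine add_le_add le_rfl ?_
  -- `P#` and the cosets `x P`, `x ∈ C#`
  set Z₁ := univ.filter (fun g : G => g ∈ P ∧ g ≠ 1) with hZ₁
  set Z₂ := ((univ.filter (fun x : G => x ∈ regC S U ∧ x ≠ 1)) ×ˢ (univ.filter (fun y : G => y ∈ P))).image
    (fun t => t.2 * t.1) with hZ₂
  have hPC : ∀ x ∈ regC S U, x ∈ P → x = 1 := fun x hx hxP =>
    Subgroup.mem_bot.mp (C.pair.left.U_compl.2.2.1.le ⟨hxP, hx.1⟩)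
  have hinj : Set.InjOn (fun t : G × G => t.2 * t.1)
      (((univ.filter (fun x : G => x ∈ regC S U ∧ x ≠ 1)) ×ˢ (univ.filter (fun y : G => y ∈ P)) :
        Finset (G × G)) : Set (G × G)) := by
    rintro ⟨a, b⟩ hab ⟨a', b'⟩ hab' e
    simp only [Finset.coe_product, Set.mem_prod, Finset.coe_filter, Set.mem_setOf_eq, mem_univ,
      true_and] at hab hab'
    have h1 : a * a'⁻¹ = 1 := hPC _ (mul_mem hab.1.1 (inv_mem hab'.1.1)) (by
      have : a * a'⁻¹ = b⁻¹ * b' := by
        calc a * a'⁻¹ = b⁻¹ * (b * a) * a'⁻¹ := by group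
          _ = b⁻¹ * (b' * a') * a'⁻¹ := by rw [show b * a = b' * a' from e]
          _ = _ := by group
      rw [this]; exact mul_mem (inv_mem hab.2) hab'.2)
    rw [mul_inv_eq_one] at h1
    subst h1
    exact Prod.ext rfl (mul_right_cancel e)
  have hdisj : Disjoint Z₁ Z₂ := Finset.disjoint_left.mpr fun g hg hg' => by
    simp only [hZ₁, hZ₂, mem_filter, mem_univ, true_and, Finset.mem_image, Finset.mem_product] at hg hg'
    obtain ⟨⟨a, b⟩, ⟨⟨ha, ha1⟩, hb⟩, rfl⟩ := hg'
    exact ha1 (hPC a ha (by simpa using mul_mem (inv_mem hb) hg.1))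
  have hD1 : ∀ x ∈ univ.filter (fun x : G => x ∈ regC S U ∧ x ≠ 1),
      (Nat.card P : ℝ) * Complex.normSq (meanAt P Θ x) ≤
        ∑ y ∈ univ.filter (fun y : G => y ∈ P), Complex.normSq (D (y * x)) := by
    intro x hx
    obtain ⟨hxC, hx1⟩ := (mem_filter.mp hx).2
    have hxS : x ∈ S := U_le C.pair.left hxC.1
    have hPS : ∀ y : P, (y : G) ∈ S := fun y =>
      Subgroup.commutator_le_self S (C.pair.left.U_compl.1 y.2)
    have hsum : ∑ y : P, D ((y : G) * x) = ∑ y : P, Θ ((y : G) * x) := by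
      have hDy : ∀ y : P, D ((y : G) * x) = Θ ((y : G) * x) - (k : ℂ) * χ (⟨y, hPS y⟩ * ⟨x, hxS⟩) := by
        intro y
        have hmem : (y : G) * x ∈ S := mul_mem (hPS y) hxS
        have hnot : ((⟨(y : G) * x, hmem⟩ : S) : G) ∉ P := fun hh => hx1 (hPC x hxC (by
          simpa using mul_mem (inv_mem y.2) hh))
        rw [hDdef]
        simp only [dif_pos hmem]
        rw [hα, Pi.sub_apply, Pi.smul_apply, C.phi_off hnot, smul_zero, sub_zero]
        rfl
      rw [Finset.sum_congr rfl fun y _ => hDy y, Finset.sum_sub_distrib, ← Finset.mul_sum]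
      have : ∑ y : P, χ (⟨y, hPS y⟩ * ⟨x, hxS⟩) = 0 := by
        rw [← hχ.psum ⟨x, hxS⟩]
        exact (Fintype.sum_equiv (Subgroup.subgroupOfEquivOfLe
          (C.pair.left.U_compl.1.trans (Subgroup.commutator_le_self S))).toEquiv _ _ fun _ => rfl).symm
      rw [this, mul_zero, sub_zero]
    rw [Finset.sum_subtype (univ.filter (fun y : G => y ∈ P)) (p := (· ∈ P)) (fun y => by simp)
      (fun y => Complex.normSq (D (y * x))), meanAt, ← hsum, Complex.normSq_mul, map_inv₀,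
      Complex.normSq_natCast]
    have hcs : Complex.normSq (∑ y : P, D ((y : G) * x)) ≤
        (Nat.card P : ℝ) * ∑ y : P, Complex.normSq (D ((y : G) * x)) := by
      have h1 := norm_sum_le (univ : Finset P) fun y => D ((y : G) * x)
      have h2 := sq_sum_le_card_mul_sum_sq (s := (univ : Finset P)) (f := fun y => ‖D ((y : G) * x)‖)
      simp only [Complex.normSq_eq_norm_sq, Nat.card_eq_fintype_card]
      rw [Finset.card_univ] at h2
      exact (pow_le_pow_left₀ (norm_nonneg _) h1 2).trans h2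
    have h0 : (0 : ℝ) < Nat.card P := Nat.cast_pos.mpr Nat.card_pos
    rw [mul_inv, ← mul_assoc, ← mul_assoc, mul_inv_cancel₀ h0.ne', one_mul, inv_mul_le_iff₀ h0]
    exact hcs
  refine le_trans ?_ ((Finset.sum_union hdisj).symm.le.trans
    (Finset.sum_le_sum_of_subset_of_nonneg (f := fun g => Complex.normSq (D g)) ?_ fun _ _ _ =>
      Complex.normSq_nonneg _))
  · refine add_le_add (le_of_eq ?_) ?_
    · rw [hZ₁]
      refine Finset.sum_nbij' (fun z : S => (z : G))
        (fun g => if hg : g ∈ S then (⟨g, hg⟩ : S) else 1) ?_ ?_ ?_ ?_ ?_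
      · intro z hz
        simp only [Finset.mem_filter, mem_univ, true_and] at hz ⊢
        exact ⟨hz.1, fun e => hz.2 (Subtype.ext e)⟩
      · intro g hg
        simp only [Finset.mem_filter, mem_univ, true_and] at hg ⊢
        have hgS : g ∈ S := Subgroup.commutator_le_self S (C.pair.left.U_compl.1 hg.1)
        rw [dif_pos hgS]
        exact ⟨hg.1, fun e => hg.2 (congrArg Subtype.val e)⟩
      · intro z _; simp
      · intro g hg
        simp only [Finset.mem_filter, mem_univ, true_and] at hg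
        simp [Subgroup.commutator_le_self S (C.pair.left.U_compl.1 hg.1)]
      · intro z hz
        simp only [Finset.mem_filter, mem_univ, true_and] at hz
        rw [hDdef]
        simp only [SetLike.coe_mem, dif_pos, Subtype.coe_eta]
        congr 2
        rw [hα, Pi.sub_apply, Pi.smul_apply, smul_eq_mul, regPhi, if_neg hz.2, if_pos hz.1, hc, hN, regN]
        have hP1 : ((Nat.card P - 1 : ℕ) : ℂ) ≠ 0 := by
          have : 1 < Nat.card P := by
            rw [hP, C.P_card]; exact Nat.one_lt_pow C.q_prime.ne_zero C.p_prime.one_lt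
          exact Nat.cast_ne_zero.mpr (by omega)
        have : ((Nat.card W₁ * Nat.card U : ℕ) : ℂ) ≠ 0 :=
          Nat.cast_ne_zero.mpr (mul_ne_zero Nat.card_pos.ne' Nat.card_pos.ne')
        rw [Nat.cast_mul (Nat.card W₁ * Nat.card U), ← hP]
        field_simp
        ring
    · rw [hZ₂, Finset.sum_image hinj, Finset.sum_product, Finset.mul_sum]
      exact Finset.sum_le_sum hD1
  · intro g hg
    simp only [hZ₁, hZ₂, Finset.mem_union, mem_filter, mem_univ, true_and, Finset.mem_image,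
      Finset.mem_product] at hg ⊢
    rcases hg with ⟨h1, h2⟩ | ⟨⟨a, b⟩, ⟨⟨ha, ha1⟩, hb⟩, rfl⟩
    · exact ⟨Subgroup.mem_sup_left h1, h2⟩
    · refine ⟨mul_mem (Subgroup.mem_sup_left hb) (Subgroup.mem_sup_right ha), fun e => ha1 (hPC a ha ?_)⟩
      rw [show a = b⁻¹ from eq_inv_of_mul_eq_one_right e]; exact inv_mem hb

end RegCtx

end CfsgLib.PF.Sec13
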