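import Cfsg.Agent.Lib.PF.Sec13RegAvg

/-!
# The lower bound for one side

`E` and `A = q F - (q - 1) + Σ E_j` on `K`, the `E_j` conjugates of `E`, each a combination of
characters non-trivial on `N` up to a function constant on cosets.
-/

set_option autoImplicit false
set_option linter.style.haveILetI false
set_option linter.unusedSectionVars false

namespace CfsgLib.PF.Sec13Reg

open scoped Classical ComplexConjugate
open Finset CfsgLib.Characters CfsgLib.NormalAvg CfsgLib.KGV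

universe u

variable {K : Type u} [Group K] [Fintype K] {N : Subgroup K} [N.Normal]

theorem xSet_pow {L : ℕ} (hL : ∀ g : K, g ^ L = 1) {x : K} (hx : x ∈ xSet N) {m : ℕ}
    (hm : m.Coprime L) : x ^ m ∈ xSet N := by
  obtain ⟨hx1, h, hh, hh1, hc⟩ := mem_xSet.mp hx
  refine mem_xSet.mpr ⟨fun e => hx1 ?_, h, hh, hh1, (Commute.pow_left hc m)⟩
  exact pow_left_inj_of_coprime hm (hL x) (one_pow L) (by rw [e, one_pow])

theorem mem_of_pow_mem_coprime {L : ℕ} (hL : ∀ g : K, g ^ L = 1) {x : K} {m : ℕ}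
    (hm : m.Coprime L) (hx : x ^ m ∈ N) : x ∈ N := by
  have h0 : (x : K ⧸ N) ^ m = 1 := by
    rw [← QuotientGroup.mk_pow]; exact (QuotientGroup.eq_one_iff _).mpr hx
  have h1 : (x : K ⧸ N) ^ L = 1 := by rw [← QuotientGroup.mk_pow, hL]; rfl
  exact (QuotientGroup.eq_one_iff x).mp
    (pow_left_inj_of_coprime hm h1 (one_pow L) (by rw [h0, one_pow]))

theorem outPts_pow {L : ℕ} (hL : ∀ g : K, g ^ L = 1) {x : K} (hx : x ∈ outPts N) {m : ℕ}
    (hm : m.Coprime L) : x ^ m ∈ outPts N := by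
  obtain ⟨h1, h2⟩ := mem_outPts.mp hx
  exact mem_outPts.mpr ⟨xSet_pow hL h1 hm, fun h => h2 (mem_of_pow_mem_coprime hL hm h)⟩

theorem val_comb {ι : Type*} [Fintype ι] {L : ℕ} (hK : Nat.card K ∣ L) {Z : ι → K → ℂ}
    (hZ : ∀ i, RelChar N (Z i)) (c : ι → ℤ) : Val L (comb Z c) :=
  Val.sum _ fun i _ => (val_char hK (isCharacter_of_irr (hZ i).1)).mul_int (c i)

theorem val_sub_comb {ι : Type*} [Fintype ι] {L : ℕ} (hK : Nat.card K ∣ L) {Z : ι → K → ℂ}
    (hZ : ∀ i, RelChar N (Z i)) (c : ι → ℤ) {f : K → ℂ} (hf : Val L f) :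
    Val L (fun x => f x - comb Z c x) :=
  (hf.add ((val_comb hK hZ c).mul_int (-1))).congr fun x => by simp [sub_eq_add_neg]

theorem avg_map {σ : ℂ ≃+* ℂ} {f g : K → ℂ} (h : ∀ x, g x = σ (f x)) (x : K) :
    avgN N g x = σ (avgN N f x) := by
  simp [avgN, h]

/-- The constant value on the non-identity elements of `N` is an integer. -/
theorem exists_int_value {L : ℕ} [NeZero L] (hL : ∀ g : K, g ^ L = 1) {f : K → ℂ} (hf : Val L f)
    (hc : CosetConst N f) {h0 : K} (hh : h0 ∈ N) (h1 : h0 ≠ 1) : ∃ k : ℤ, f h0 = k := by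
  refine int_of_fixed (hf.mem h0) (hf.integral h0) fun m σ hm hσ => ?_
  rw [hf.map m hm σ hσ]
  refine hc.on _ (N.pow_mem hh m) (fun e => h1 ?_) h0 hh h1
  exact pow_left_inj_of_coprime hm (hL h0) (one_pow L) (by rw [e, one_pow])

theorem int_not_mid {q : ℕ} (hq : 2 ≤ q) (a : ℂ) (ha : IsIntegral ℤ a)
    (h : (q : ℂ) * a - ((q : ℂ) - 1) = 0) : False := by
  have hq0 : (q : ℂ) ≠ 0 := Nat.cast_ne_zero.mpr (by omega)
  have e : a = (((q - 1 : ℕ) : ℂ) / (q : ℂ)) := by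
    rw [eq_div_iff hq0, Nat.cast_sub (by omega), Nat.cast_one]
    linear_combination h
  rw [e] at ha
  have h1 := nat_dvd_of_isIntegral_div (by omega) ha
  have h2 := Nat.le_of_dvd (by omega) h1
  omega

variable {ι κ : Type*} [Fintype ι] [Fintype κ]

/-- The bound for one side. -/
theorem side_bound {L : ℕ} [NeZero L] (hK : Nat.card K ∣ L) (hN : N ≠ ⊥) {Z : ι → K → ℂ}
    (hZ : ∀ i, RelChar N (Z i)) (hinj : Function.Injective Z) {u : ℕ} (hu : ∀ i, Z i 1 = u)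
    {q : ℕ} (hq : 2 ≤ q) (hκ : Fintype.card κ + 1 = q)
    {E F A : K → ℂ} (hE : Val L E) (hF : Val L F) (hA : Val L A) {Ej : κ → K → ℂ}
    {σ : κ → ℂ ≃+* ℂ} (hσ : ∀ j x, Ej j x = σ j (E x))
    (hrel : ∀ x, A x = (q : ℂ) * F x - ((q : ℂ) - 1) + ∑ j, Ej j x)
    {c e d : ι → ℤ} {cj : κ → ι → ℤ} (hcj : ∀ j, ∑ i, cj j i = ∑ i, c i)
    (hd : ∀ i, d i = (q : ℤ) * e i + ∑ j, cj j i)
    (hcE : CosetConst N (E - comb Z c)) (hcF : CosetConst N (F - comb Z e))
    (hcj' : ∀ j, CosetConst N (Ej j - comb Z (cj j))) :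
    ∃ k l : ℤ, (k ≠ 0 ∨ l ≠ 0) ∧
      (Nat.card K : ℝ) * (((∑ i, c i ^ 2 : ℤ) : ℝ) + ((∑ i, d i ^ 2 : ℤ) : ℝ)) -
          (u : ℝ) ^ 2 * (((∑ i, c i : ℤ) : ℝ) ^ 2 + ((∑ i, d i : ℤ) : ℝ) ^ 2) -
          2 * u * (((∑ i, c i : ℤ) : ℝ) * k + ((∑ i, d i : ℤ) : ℝ) * l) +
          ((Nat.card N : ℝ) - 1) * ((k : ℝ) ^ 2 + (l : ℝ) ^ 2 - 1) ≤
        ∑ x ∈ xSet N, (Complex.normSq (E x) + Complex.normSq (A x) - 1) := by
  have hL : ∀ g : K, g ^ L = 1 := fun g => orderOf_dvd_iff_pow_eq_one.mp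
    ((orderOf_dvd_natCard g).trans hK)
  obtain ⟨h0, hh, h1⟩ := (Subgroup.bot_or_exists_ne_one N).resolve_left hN
  have hA' : A - comb Z d = fun x => (q : ℂ) * (F - comb Z e) x - ((q : ℂ) - 1) +
      ∑ j, (Ej j - comb Z (cj j)) x := by
    funext x
    simp only [Pi.sub_apply, hrel, Finset.sum_sub_distrib, comb, hd]
    push_cast
    rw [Finset.sum_comm (f := fun j i => (cj j i : ℂ) * Z i x)]
    simp only [add_mul, Finset.sum_add_distrib, Finset.sum_mul, mul_sub, Finset.mul_sum, mul_assoc]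
    ring
  have hcA : CosetConst N (A - comb Z d) := by
    rw [hA']
    constructor
    · intro h hhN x hx
      simp only [hcF.out h hhN x hx, (hcj' _).out h hhN x hx]
    · intro a ha ha1 b hb hb1
      simp only [hcF.on a ha ha1 b hb hb1, (hcj' _).on a ha ha1 b hb hb1]
  obtain ⟨k, hk⟩ := exists_int_value hL (val_sub_comb hK hZ c hE) hcE hh h1
  obtain ⟨kF, hkF⟩ := exists_int_value hL (val_sub_comb hK hZ e hF) hcF hh h1
  set n : ℂ := ((nPts N).card : ℂ) with hn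
  have hn0 : n ≠ 0 := Nat.cast_ne_zero.mpr (Finset.card_ne_zero.mpr ⟨h0, mem_nPts.mpr ⟨hh, h1⟩⟩)
  have hkj : ∀ j, Ej j h0 - comb Z (cj j) h0 = (k : ℂ) := by
    intro j
    have e1 := sum_nPts_comb hZ hu (cj j) (hcj' j) hh h1
    have e2 := congrArg (σ j) (sum_nPts_comb hZ hu c hcE hh h1)
    rw [map_sum, hk] at e2
    simp only [← hσ, map_sub, map_mul, map_natCast, map_intCast] at e2
    rw [e1, hcj] at e2
    exact mul_left_cancel₀ hn0 (by linear_combination e2)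
  set l : ℤ := (q : ℤ) * kF - ((q : ℤ) - 1) + ((q : ℤ) - 1) * k with hldef
  have hl : A h0 - comb Z d h0 = (l : ℂ) := by
    have := congrFun hA' h0
    simp only [Pi.sub_apply, hkj, Finset.sum_const, Finset.card_univ, nsmul_eq_mul] at this
    rw [this, hkF, hldef]
    have hc : (Fintype.card κ : ℂ) = (q : ℂ) - 1 := by
      rw [← hκ]; push_cast; ring
    rw [hc]
    push_cast
    ring
  have hne : k ≠ 0 ∨ l ≠ 0 := by
    by_contra hcon
    simp only [not_or, not_not] at hcon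
    obtain ⟨hk0, hl0⟩ := hcon
    rw [hk0, mul_zero, add_zero] at hldef
    refine int_not_mid hq (kF : ℂ) (isIntegral_algebraMap (R := ℤ) (x := kF)) ?_
    have : ((l : ℤ) : ℂ) = 0 := by rw [hl0, Int.cast_zero]
    rw [hldef] at this
    push_cast at this
    exact this
  refine ⟨k, l, hne, ?_⟩
  have hnv : ∀ x ∈ outPts N, E x - comb Z c x = 0 → A x - comb Z d x ≠ 0 := by
    intro x hx hEx hAx
    have hxN := (mem_outPts.mp hx).2
    have hj : ∀ j, Ej j x - comb Z (cj j) x = 0 := fun j => by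
      rw [← avg_out hZ (cj j) (hcj' j) hxN, avg_map (hσ j), avg_out hZ c hcE hxN, hEx, map_zero]
    have := congrFun hA' x
    simp only [Pi.sub_apply, hj, Finset.sum_const_zero, add_zero] at this
    rw [hAx] at this
    exact int_not_mid hq _ ((val_sub_comb hK hZ e hF).integral x) this.symm
  have hout := card_le_sum_sq hL (val_sub_comb hK hZ c hE) (val_sub_comb hK hZ d hA) (outPts N)
    (fun g hg m hm => outPts_pow hL hg hm) hnv
  rw [Finset.sum_add_distrib] at hout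
  have hX : ((xSet N).card : ℝ) = (outPts N).card + (nPts N).card := by
    rw [xSet_eq, Finset.card_union_of_disjoint disjoint_out_nPts]; push_cast; ring
  have hNc : ((nPts N).card : ℝ) = (Nat.card N : ℝ) - 1 := by
    rw [← card_nPts]; push_cast; ring
  rw [Finset.sum_sub_distrib, Finset.sum_add_distrib, Finset.sum_const, nsmul_eq_mul, mul_one, hX,
    sum_normSq_decomp hZ hinj hu c hcE hh h1 hk, sum_normSq_decomp hZ hinj hu d hcA hh h1 hl, ← hNc]
  linarith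

/-- The bracket on the side with a single column. -/
theorem bracket_one {n Q : ℝ} (hn : 0 < n) (hQ : 0 ≤ Q) {k l : ℤ} (h : k ≠ 0 ∨ l ≠ 0) (ε : ℝ)
    (hε : |ε| ≤ 1) :
    -(4 / 3 * Q ^ 2 / n) - 2 * Q ≤ n * ((k : ℝ) ^ 2 + (l : ℝ) ^ 2 - 1) - 2 * Q * (ε * l) := by
  have hεl : ε * (l : ℝ) ≤ |(l : ℝ)| := by
    calc ε * (l : ℝ) ≤ |ε * (l : ℝ)| := le_abs_self _
      _ = |ε| * |(l : ℝ)| := abs_mul _ _
      _ ≤ 1 * |(l : ℝ)| := by gcongr
      _ = _ := one_mul _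
  have hQ2 : 0 ≤ 4 / 3 * Q ^ 2 / n := by positivity
  rcases eq_or_ne l 0 with rfl | hl
  · have hk : (1 : ℝ) ≤ (k : ℝ) ^ 2 := by
      have hk0 : k ≠ 0 := h.resolve_right (fun h => h rfl)
      have : (1 : ℤ) ≤ k ^ 2 := by nlinarith [mul_self_pos.mpr hk0]
      exact_mod_cast this
    simp only [Int.cast_zero, mul_zero]
    nlinarith
  · have hk : (0 : ℝ) ≤ (k : ℝ) ^ 2 := sq_nonneg _
    have hla : (1 : ℝ) ≤ |(l : ℝ)| := by
      rw [← Int.cast_abs]; exact_mod_cast Int.one_le_abs hl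
    rcases (show |l| = 1 ∨ 2 ≤ |l| by have := Int.one_le_abs hl; omega) with h1 | h1
    · have h1' : |(l : ℝ)| = 1 := by rw [← Int.cast_abs, h1, Int.cast_one]
      rw [← sq_abs (l : ℝ), h1']
      nlinarith
    · have h2 : (2 : ℝ) ≤ |(l : ℝ)| := by rw [← Int.cast_abs]; exact_mod_cast h1
      have hsq : 0 ≤ 3 / 4 * n * |(l : ℝ)| ^ 2 - 2 * Q * |(l : ℝ)| + 4 / 3 * Q ^ 2 / n := by
        have e : 3 / 4 * n * |(l : ℝ)| ^ 2 - 2 * Q * |(l : ℝ)| + 4 / 3 * Q ^ 2 / n =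
            3 / 4 * (n * |(l : ℝ)| - 4 / 3 * Q) ^ 2 / n := by
          field_simp
          ring
        rw [e]
        positivity
      rw [← sq_abs (l : ℝ)]
      nlinarith [mul_le_mul_of_nonneg_left hεl (by linarith : 0 ≤ 2 * Q),
        mul_le_mul_of_nonneg_left (pow_le_pow_left₀ (by norm_num) h2 2) hn.le]

/-- The bracket on the side with several columns. -/
theorem bracket_many {n v q : ℝ} (hq : 2 ≤ q) (hv : 0 ≤ v) (hn : (q - 1) * v ≤ n) {k l : ℤ}
    (h : k ≠ 0 ∨ l ≠ 0) (ε : ℝ) (hε : |ε| ≤ 1) :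
    -(2 * q * v) ≤ n * ((k : ℝ) ^ 2 + (l : ℝ) ^ 2 - 1) - 2 * v * (ε * k + (q - 1) * ε * l) := by
  have hεb : ∀ x : ℝ, ε * x ≤ |x| := fun x => by
    calc ε * x ≤ |ε * x| := le_abs_self _
      _ = |ε| * |x| := abs_mul _ _
      _ ≤ 1 * |x| := by gcongr
      _ = _ := one_mul _
  have hk0 : |(k : ℝ)| = 0 ∨ 1 ≤ |(k : ℝ)| := by
    rcases eq_or_ne k 0 with rfl | hk
    · left; simp
    · right; rw [← Int.cast_abs]; exact_mod_cast Int.one_le_abs hk
  have hl0 : |(l : ℝ)| = 0 ∨ 1 ≤ |(l : ℝ)| := by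
    rcases eq_or_ne l 0 with rfl | hl
    · left; simp
    · right; rw [← Int.cast_abs]; exact_mod_cast Int.one_le_abs hl
  have hkl : 1 ≤ |(k : ℝ)| ∨ 1 ≤ |(l : ℝ)| := by
    rcases h with h | h
    · left; rw [← Int.cast_abs]; exact_mod_cast Int.one_le_abs h
    · right; rw [← Int.cast_abs]; exact_mod_cast Int.one_le_abs h
  have hqv : v ≤ (q - 1) * v := le_mul_of_one_le_left hv (by linarith)
  have hmain : -(2 * q * v) ≤
      n * (|(k : ℝ)| ^ 2 + |(l : ℝ)| ^ 2 - 1) - 2 * v * (|(k : ℝ)| + (q - 1) * |(l : ℝ)|) := by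
    rcases hk0 with hk | hk <;> rcases hl0 with hl | hl
    · exfalso; rcases hkl with h | h <;> linarith
    · rw [hk]
      nlinarith [mul_nonneg (sub_nonneg.mpr hl) (sub_nonneg.mpr hn),
        mul_nonneg (sub_nonneg.mpr hl) (mul_nonneg (sub_nonneg.mpr hl) (by linarith : 0 ≤ n)),
        mul_nonneg (sub_nonneg.mpr hl) (by linarith : 0 ≤ n)]
    · rw [hl]
      nlinarith [mul_nonneg (sub_nonneg.mpr hk) (sub_nonneg.mpr (hqv.trans hn)),
        mul_nonneg (sub_nonneg.mpr hk) (mul_nonneg (sub_nonneg.mpr hk) (by linarith : 0 ≤ n)),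
        mul_nonneg (sub_nonneg.mpr hk) (by linarith : 0 ≤ n)]
    · nlinarith [mul_nonneg (sub_nonneg.mpr hk) (sub_nonneg.mpr (hqv.trans hn)),
        mul_nonneg (sub_nonneg.mpr hk) (mul_nonneg (sub_nonneg.mpr hk) (by linarith : 0 ≤ n)),
        mul_nonneg (sub_nonneg.mpr hk) (by linarith : 0 ≤ n),
        mul_nonneg (sub_nonneg.mpr hl) (sub_nonneg.mpr hn),
        mul_nonneg (sub_nonneg.mpr hl) (mul_nonneg (sub_nonneg.mpr hl) (by linarith : 0 ≤ n)),
        mul_nonneg (sub_nonneg.mpr hl) (by linarith : 0 ≤ n)]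
  rw [sq_abs, sq_abs] at hmain
  have h1 := mul_le_mul_of_nonneg_left (hεb k) (by linarith : 0 ≤ 2 * v)
  have h2 := mul_le_mul_of_nonneg_left (hεb l) (mul_nonneg (by linarith : 0 ≤ 2 * v) (by linarith : 0 ≤ q - 1))
  nlinarith

end CfsgLib.PF.Sec13Reg
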