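import Cfsg.Agent.Lib.PF.Sec13RegSide
import Cfsg.Agent.Lib.PF.Constants
import Cfsg.Agent.Lib.PF.Sec9Setup
import Cfsg.Agent.Lib.Characters.DegreeBound

/-!
# The counting inequality for a pair
-/

set_option autoImplicit false
set_option linter.style.haveILetI false
set_option linter.unusedSectionVars false

namespace CfsgLib.PF.Sec13Reg

open scoped Classical ComplexConjugate
open Finset CfsgLib.Characters CfsgLib.OddChar

universe u

variable {G : Type u} [Group G] [Fintype G]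

theorem centSupp_pow {D C : Subgroup G} {a : G} (ha : a ∈ centSupp D C) {m : ℕ}
    (hm : m.Coprime (Nat.card G)) : a ^ m ∈ centSupp D C := by
  obtain ⟨haD, ha1, x, hx, hx1, hc⟩ := ha
  refine ⟨D.pow_mem haD m, fun e => ha1 ?_, x, hx, hx1, Commute.pow_left hc m⟩
  exact pow_left_inj_of_coprime hm pow_card_eq_one' (one_pow _) (by rw [e, one_pow])

theorem dade_centSupp {M W₁ U W₂ : Subgroup G} (hT : PropTypes G) (hM : IsCoatom M)
    (hP : Cfsg.IsTypePWith M W₁ U W₂) (hTI : Cfsg.IsTISubset (suppA0 M))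
    (hN : Subgroup.normalizer (suppA0 M) = M) :
    Cfsg.DadeHypothesis (centSupp ⁅M, M⁆ (Cfsg.fittingHallOf M)) M (fun _ => ⊥) := by
  obtain ⟨hW₁M, hdM, hHd, hW₂H, hWM⟩ := typeP_le hP
  set X := centSupp ⁅M, M⁆ (Cfsg.fittingHallOf M) with hX
  have hsub := centSupp_subset_suppA0 hT hM hP
  have hC : ∀ a ∈ X, Subgroup.centralizer ({a} : Set G) ≤ M := fun a ha =>
    centralizer_le_of_TI hTI hN (hsub ha) ha.2.1
  refine ⟨fun h => h.2.1 rfl, fun a ha => hdM ha.1, ?_, ?_, fun _ _ => bot_le, ?_,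
    fun _ _ => bot_inf_eq _, fun a ha => ?_, fun _ _ _ _ => ?_⟩
  · rintro m hm a ⟨ha, ha1, x, hx, hx1, hc⟩
    have hconjD : ∀ y, y ∈ (⁅M, M⁆ : Subgroup G) → m * y * m⁻¹ ∈ (⁅M, M⁆ : Subgroup G) := fun y hy =>
      (derived_subgroupOf_normal M).conj_mem ⟨y, hdM hy⟩ hy ⟨m, hm⟩
    have hconjP : ∀ y, y ∈ Cfsg.fittingHallOf M → m * y * m⁻¹ ∈ Cfsg.fittingHallOf M := fun y hy =>
      (fittingHallOf_subgroupOf_normal M).conj_mem ⟨y, hdM (hHd hy)⟩ hy ⟨m, hm⟩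
    refine ⟨hconjD a ha, fun e => ha1 ?_, m * x * m⁻¹, hconjP x hx, fun e => hx1 ?_, ?_⟩
    · calc a = m⁻¹ * (m * a * m⁻¹) * m := by group
        _ = 1 := by rw [e]; group
    · calc x = m⁻¹ * (m * x * m⁻¹) * m := by group
        _ = 1 := by rw [e]; group
    · calc m * a * m⁻¹ * (m * x * m⁻¹) = m * (a * x) * m⁻¹ := by group
        _ = m * x * m⁻¹ * (m * a * m⁻¹) := by rw [hc]; group
  · intro a ha g hg
    refine ⟨g, ?_, rfl⟩
    by_contra hgM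
    exact ha.2.1 (hTI g (by rw [hN]; exact hgM) a (hsub ha) (hsub hg))
  · intro a _ c _ x hx
    rw [Subgroup.mem_bot] at hx ⊢
    rw [hx, mul_one, mul_inv_cancel]
  · rw [bot_sup_eq]
    exact inf_eq_right.mpr (hC a ha)
  · simp

theorem sum_dadeSupp {X : Set G} {M : Subgroup G}
    (hD : Cfsg.DadeHypothesis X M (fun _ => ⊥)) (F : G → ℝ)
    (hF : ∀ g x : G, F (x * g * x⁻¹) = F g) :
    (Nat.card M : ℝ) * ∑ g ∈ univ.filter (· ∈ dadeSupp X (fun _ => ⊥)), F g =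
      (Nat.card G : ℝ) * ∑ a ∈ univ.filter (· ∈ X), F a := by
  rw [dade_sum hD F hF]
  congr 1
  refine Finset.sum_congr rfl fun a _ => ?_
  have e : univ.filter (fun u : G => u ∈ (⊥ : Subgroup G)) = {1} := by ext u; simp
  rw [e, Finset.sum_singleton, mul_one]
  simp

theorem dadeSupp_pow_iff {X : Set G} (hX : ∀ a ∈ X, ∀ m : ℕ, m.Coprime (Nat.card G) → a ^ m ∈ X)
    {g : G} {m : ℕ} (hm : m.Coprime (Nat.card G)) :
    g ^ m ∈ dadeSupp X (fun _ => ⊥) ↔ g ∈ dadeSupp X (fun _ => ⊥) := by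
  have hfwd : ∀ g, g ∈ dadeSupp X (fun _ => (⊥ : Subgroup G)) →
      g ^ m ∈ dadeSupp X (fun _ => (⊥ : Subgroup G)) := by
    rintro g ⟨a, ha, u, hu, x, e⟩
    refine ⟨a ^ m, hX a ha m hm, 1, Subgroup.one_mem _, x, ?_⟩
    rw [mul_one, ← conj_pow, e, Subgroup.mem_bot.mp hu, mul_one]
  refine ⟨fun hg => ?_, hfwd g⟩
  set s : Finset G := univ.filter (· ∈ dadeSupp X (fun _ => (⊥ : Subgroup G)))
  have himg : s.image (fun g => g ^ m) = s := by
    refine Finset.eq_of_subset_of_card_le (fun x hx => ?_) (le_of_eq ?_)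
    · obtain ⟨y, hy, rfl⟩ := Finset.mem_image.mp hx
      simp only [s, Finset.mem_filter, Finset.mem_univ, true_and] at hy ⊢
      exact hfwd y hy
    · rw [Finset.card_image_of_injOn fun a _ b _ e =>
        pow_left_inj_of_coprime hm pow_card_eq_one' pow_card_eq_one' e]
  have hmem : g ^ m ∈ s.image (fun g => g ^ m) := by
    rw [himg]; simp [s, hg]
  obtain ⟨y, hy, e⟩ := Finset.mem_image.mp hmem
  rw [← pow_left_inj_of_coprime hm pow_card_eq_one' pow_card_eq_one' e]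
  simpa [s] using hy

/-- The norm count. -/
theorem count_ineq {S T : Subgroup G} {XS XT : Set G}
    (hDS : Cfsg.DadeHypothesis XS S (fun _ => ⊥)) (hDT : Cfsg.DadeHypothesis XT T (fun _ => ⊥))
    (hS : ∀ a ∈ XS, ∀ m : ℕ, m.Coprime (Nat.card G) → a ^ m ∈ XS)
    (hT : ∀ a ∈ XT, ∀ m : ℕ, m.Coprime (Nat.card G) → a ^ m ∈ XT)
    (hdisj : ∀ a ∈ XS, ∀ b ∈ XT, ∀ x : G, x * a * x⁻¹ ≠ b) {q : ℝ} {E A : G → ℂ}
    (hEc : Cfsg.IsClassFunction G E) (hAc : Cfsg.IsClassFunction G A)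
    (hE : Val (Nat.card G) E) (hA : Val (Nat.card G) A) (hnz : ∀ g, E g = 0 → A g ≠ 0)
    (hEn : ∑ g : G, Complex.normSq (E g) = (Nat.card G : ℝ))
    (hAn : ∑ g : G, Complex.normSq (A g) = q * (Nat.card G : ℝ)) :
    (∑ a ∈ univ.filter (· ∈ XS), (Complex.normSq (E a) + Complex.normSq (A a) - 1)) / (Nat.card S : ℝ) +
      (∑ a ∈ univ.filter (· ∈ XT), (Complex.normSq (E a) + Complex.normSq (A a) - 1)) / (Nat.card T : ℝ)
      ≤ q := by
  haveI : NeZero (Nat.card G) := ⟨Nat.card_pos.ne'⟩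
  set F : G → ℝ := fun g => Complex.normSq (E g) + Complex.normSq (A g) - 1 with hF
  have hFc : ∀ g x : G, F (x * g * x⁻¹) = F g := fun g x => by simp only [hF, hEc g x, hAc g x]
  set BS := univ.filter (fun g : G => g ∈ dadeSupp XS (fun _ => (⊥ : Subgroup G))) with hBS
  set BT := univ.filter (fun g : G => g ∈ dadeSupp XT (fun _ => (⊥ : Subgroup G))) with hBT
  have hd : Disjoint BS BT := by
    rw [Finset.disjoint_left]
    intro g hg hg'
    simp only [hBS, hBT, Finset.mem_filter, Finset.mem_univ, true_and] at hg hg'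
    obtain ⟨a, ha, u, hu, x, e⟩ := hg
    obtain ⟨b, hb, v, hv, y, e'⟩ := hg'
    rw [Subgroup.mem_bot.mp hu, mul_one] at e
    rw [Subgroup.mem_bot.mp hv, mul_one] at e'
    refine hdisj a ha b hb (y * x⁻¹) ?_
    rw [← e, ← e']; group
  set D := (BS ∪ BT)ᶜ with hDdef
  have hout := card_le_sum_sq (fun g : G => pow_card_eq_one') hE hA D (fun g hg m hm => by
    simp only [hDdef, hBS, hBT, Finset.mem_compl, Finset.mem_union, Finset.mem_filter,
      Finset.mem_univ, true_and] at hg ⊢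
    rwa [dadeSupp_pow_iff hS hm, dadeSupp_pow_iff hT hm]) (fun g _ => hnz g)
  have hD0 : 0 ≤ ∑ g ∈ D, F g := by
    simp only [hF, Finset.sum_sub_distrib, Finset.sum_const, nsmul_eq_mul, mul_one]
    linarith
  have htot : ∑ g : G, F g = q * (Nat.card G : ℝ) := by
    simp only [hF, Finset.sum_sub_distrib, Finset.sum_add_distrib, Finset.sum_const, nsmul_eq_mul,
      mul_one, Finset.card_univ, ← Nat.card_eq_fintype_card, hEn, hAn]
    ring
  have hsplit : ∑ g : G, F g = ∑ g ∈ BS, F g + ∑ g ∈ BT, F g + ∑ g ∈ D, F g := by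
    rw [← Finset.sum_union hd, hDdef, Finset.sum_add_sum_compl]
  have eS := sum_dadeSupp hDS F hFc
  have eT := sum_dadeSupp hDT F hFc
  rw [← hBS] at eS
  rw [← hBT] at eT
  have hG0 : (0 : ℝ) < Nat.card G := Nat.cast_pos.mpr Nat.card_pos
  have hS0 : (0 : ℝ) < Nat.card S := Nat.cast_pos.mpr Nat.card_pos
  have hT0 : (0 : ℝ) < Nat.card T := Nat.cast_pos.mpr Nat.card_pos
  have e1 : (∑ a ∈ univ.filter (· ∈ XS), F a) / (Nat.card S : ℝ) =
      (∑ g ∈ BS, F g) / (Nat.card G : ℝ) := by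
    rw [div_eq_div_iff hS0.ne' hG0.ne']; linear_combination -eS
  have e2 : (∑ a ∈ univ.filter (· ∈ XT), F a) / (Nat.card T : ℝ) =
      (∑ g ∈ BT, F g) / (Nat.card G : ℝ) := by
    rw [div_eq_div_iff hT0.ne' hG0.ne']; linear_combination -eT
  show (∑ a ∈ univ.filter (· ∈ XS), F a) / (Nat.card S : ℝ) +
      (∑ a ∈ univ.filter (· ∈ XT), F a) / (Nat.card T : ℝ) ≤ q
  rw [e1, e2, ← add_div, div_le_iff₀ hG0]
  linarith

section Pair

variable {W₁ W₂ : Subgroup G}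

theorem family_rel {η : (↥(W₁ ⊔ W₂) →* ℂˣ) → (G → ℂ)} (hη : Cfsg.IsCyclicTIFamily W₁ W₂ η)
    {φ ψ : ↥(W₁ ⊔ W₂) →* ℂˣ} (hφ : TrivR φ) (hψ : TrivL ψ) {g : G}
    (hg : ∀ y : G, ∀ z ∈ W₁ ⊔ W₂, z ∉ W₁ → z ∉ W₂ → g ≠ y * z * y⁻¹) :
    η (φ * ψ) g = η φ g + η ψ g - 1 := by
  by_cases hφ1 : φ = 1
  · subst hφ1
    rw [show (1 : ↥(W₁ ⊔ W₂) →* ℂˣ) * ψ = ψ from one_mul ψ, hη.map_one]
    ring
  by_cases hψ1 : ψ = 1
  · subst hψ1
    rw [show φ * (1 : ↥(W₁ ⊔ W₂) →* ℂˣ) = φ from mul_one φ, hη.map_one]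
    ring
  have h0 : Cfsg.indFun (W₁ ⊔ W₂) (ctiAlpha φ ψ) g = 0 := by
    rw [CfsgLib.Induction.indFun_apply]
    refine mul_eq_zero_of_right _ (Finset.sum_eq_zero fun x _ => ?_)
    by_cases hm : x⁻¹ * g * x ∈ W₁ ⊔ W₂
    · rw [CfsgLib.Induction.extendByZero_mem _ _ hm]
      refine ctiAlpha_vanish hφ hψ _ ?_
      by_contra hc
      rw [not_or] at hc
      exact hg x _ hm hc.1 hc.2 (by group)
    · exact CfsgLib.Induction.extendByZero_notMem _ _ hm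
  have e := congrFun (hη.induced_eq φ ψ hφ1 hψ1 hφ hψ) g
  unfold ctiAlpha at h0
  rw [h0] at e
  linear_combination -e

theorem not_conj_hat (hW : Cfsg.IsSelfNormalizingCyclic W₁ W₂) {g : G} {n : ℕ} (hg : g ^ n = 1)
    (hn : (Nat.card W₁).Coprime n ∨ (Nat.card W₂).Coprime n) :
    ∀ y : G, ∀ z ∈ W₁ ⊔ W₂, z ∉ W₁ → z ∉ W₂ → g ≠ y * z * y⁻¹ := by
  intro y z hz h₁ h₂ e
  have hzn : z ^ n = 1 := by
    have e1 := conj_pow (a := y) (b := z) (i := n)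
    rw [← e, hg] at e1
    calc z ^ n = y⁻¹ * (y * z ^ n * y⁻¹) * y := by group
      _ = 1 := by rw [← e1]; group
  obtain ⟨⟨a, b⟩, hab⟩ := (ctiMul_bijective hW.2.2.1 hW.2.2.2.1).2 ⟨z, hz⟩
  have hz' : (a : G) * (b : G) = z := congrArg Subtype.val hab
  have hc : Commute (a : G) (b : G) := hW.2.2.2.1 _ a.2 _ b.2
  rw [← hz', hc.mul_pow] at hzn
  have ha : (a : G) ^ n = 1 := by
    refine Subgroup.mem_bot.mp (hW.2.2.1.le ⟨W₁.pow_mem a.2 n, ?_⟩)
    rw [eq_inv_of_mul_eq_one_left hzn]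
    exact W₂.inv_mem (W₂.pow_mem b.2 n)
  rw [ha, one_mul] at hzn
  rcases hn with h | h
  · refine h₂ ?_
    rw [← hz', pow_left_inj_of_coprime h.symm
      (orderOf_dvd_iff_pow_eq_one.mp (Subgroup.orderOf_dvd_natCard _ a.2)) (one_pow _)
      (show (a : G) ^ n = 1 ^ n by rw [ha, one_pow]), one_mul]
    exact b.2
  · refine h₁ ?_
    rw [← hz', pow_left_inj_of_coprime h.symm
      (orderOf_dvd_iff_pow_eq_one.mp (Subgroup.orderOf_dvd_natCard _ b.2)) (one_pow _)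
      (show (b : G) ^ n = 1 ^ n by rw [hzn, one_pow]), mul_one]
    exact a.2

/-- The swap of the factors. -/
noncomputable def swapW (W₁ W₂ : Subgroup G) : ↥(W₂ ⊔ W₁) ≃* ↥(W₁ ⊔ W₂) :=
  MulEquiv.subgroupCongr (sup_comm W₂ W₁)

theorem swapW_coe (w : ↥(W₂ ⊔ W₁)) : ((swapW W₁ W₂ w : ↥(W₁ ⊔ W₂)) : G) = (w : G) := rfl

theorem family_swap {η : (↥(W₁ ⊔ W₂) →* ℂˣ) → (G → ℂ)} (hη : Cfsg.IsCyclicTIFamily W₁ W₂ η)
    {η' : (↥(W₂ ⊔ W₁) →* ℂˣ) → (G → ℂ)} (hW' : Cfsg.IsSelfNormalizingCyclic W₂ W₁)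
    (hodd' : Odd (Nat.card ↥(W₂ ⊔ W₁))) (hη' : Cfsg.IsCyclicTIFamily W₂ W₁ η')
    (ω : ↥(W₁ ⊔ W₂) →* ℂˣ) : η' (ω.comp (swapW W₁ W₂).toMonoidHom) = η ω := by
  refine (family_eq_of_eqOn hW' hodd' hη' (family_signed hη ω) _ fun w h₂ h₁ => ?_).symm
  exact hη.eq_on ω (swapW W₁ W₂ w) h₁ h₂

theorem card_dK {M : Subgroup G} (h : ⁅M, M⁆ ≤ M) : Nat.card ↥(dK M) = Nat.card ↥⁅M, M⁆ :=
  Nat.card_congr (Subgroup.subgroupOfEquivOfLe h).toEquiv

theorem card_dN {M : Subgroup G} (h : ⁅M, M⁆ ≤ M) (h' : Cfsg.fittingHallOf M ≤ ⁅M, M⁆) :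
    Nat.card ↥(dN M) = Nat.card (Cfsg.fittingHallOf M) :=
  (Nat.card_congr (Subgroup.subgroupOfEquivOfLe
    (show (Cfsg.fittingHallOf M).subgroupOf M ≤ dK M from fun _ hx => h' hx)).toEquiv).trans
    (Nat.card_congr (Subgroup.subgroupOfEquivOfLe (h'.trans h)).toEquiv)

variable {S T U V : Subgroup G}

/-- Elements of the two sets are never conjugate. -/
theorem disjoint_conj (hT : PropTypes G) (hSM : IsCoatom S) (hSP : Cfsg.IsTypePWith S W₁ U W₂)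
    (hTP : Cfsg.IsTypePWith T W₂ V W₁) (hTI : Cfsg.IsTISubset (suppA0 S))
    (hN : Subgroup.normalizer (suppA0 S) = S)
    (hQ : Cfsg.IsElementaryAbelian (Nat.card W₁) (Cfsg.fittingHallOf T)) :
    ∀ a ∈ centSupp ⁅S, S⁆ (Cfsg.fittingHallOf S), ∀ b ∈ centSupp ⁅T, T⁆ (Cfsg.fittingHallOf T),
      ∀ x : G, x * a * x⁻¹ ≠ b := by
  intro a ha b hb x e
  set q := Nat.card W₁ with hqdef
  have hC := centralizer_le_of_TI hTI hN (centSupp_subset_suppA0 hT hSM hSP ha) ha.2.1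
  obtain ⟨hbT, hb1, z, hz, hz1, hzc⟩ := hb
  set z' := x⁻¹ * z * x with hz'
  have hz'C : z' ∈ Subgroup.centralizer ({a} : Set G) := by
    rw [Subgroup.mem_centralizer_singleton_iff, hz']
    subst e
    calc x⁻¹ * z * x * a = x⁻¹ * (z * (x * a * x⁻¹)) * x := by group
      _ = x⁻¹ * ((x * a * x⁻¹) * z) * x := by rw [hzc]
      _ = _ := by group
  have hz'S : z' ∈ S := hC hz'C
  have hzq : z ^ q = 1 := hQ.2 z hz
  have hz'q : z' ^ q = 1 := by
    rw [hz', show x⁻¹ * z * x = x⁻¹ * z * (x⁻¹)⁻¹ by group, conj_pow, hzq]; group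
  have hz'1 : z' ≠ 1 := fun h => hz1 (by
    calc z = x * (x⁻¹ * z * x) * x⁻¹ := by group
      _ = 1 := by rw [← hz', h]; group)
  obtain ⟨hW₁S, hdS, -, -, hWS⟩ := typeP_le hSP
  have hnD : z' ∉ ⁅S, S⁆ := fun h => hz'1 (pow_left_inj_of_coprime
    (Sec13.coprime_W₁_derived hSP).symm hz'q (one_pow _) (by
      rw [orderOf_dvd_iff_pow_eq_one.mp (Subgroup.orderOf_dvd_natCard _ h), one_pow]))
  obtain ⟨k, y, hy, hy2, hky⟩ := TILocal.exists_conj_off (typeP_TPL hSP) (g := (⟨z', hz'S⟩ : ↥S)) hnD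
  rw [← Subgroup.subgroupOf_sup hW₁S (le_sup_right.trans hWS), Subgroup.mem_subgroupOf] at hy
  rw [Subgroup.mem_subgroupOf] at hy2
  have hky' : z' = (k : G) * y * (k : G)⁻¹ := congrArg Subtype.val hky
  have hyq : (y : G) ^ q = 1 := by
    have e1 := conj_pow (a := (k : G)) (b := (y : G)) (i := q)
    rw [← hky', hz'q] at e1
    calc (y : G) ^ q = (k : G)⁻¹ * ((k : G) * (y : G) ^ q * (k : G)⁻¹) * k := by group
      _ = 1 := by rw [← e1]; group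
  haveI := hSP.selfNormalizing.2.2.2.2.1
  have hyW : (y : G) ∈ W₁ := (mem_iff_pow_card_eq_one le_sup_left hy).mpr hyq
  have hy1 : (y : G) ≠ 1 := fun h => hy2 (h ▸ W₂.one_mem)
  set a' := (k : G)⁻¹ * a * k with ha'
  have ha'D : a' ∈ ⁅S, S⁆ := by
    have := (derived_subgroupOf_normal S).conj_mem ⟨a, hdS ha.1⟩ ha.1 k⁻¹
    simpa [ha', Subgroup.mem_subgroupOf] using this
  have hcy : (y : G) * a' = a' * (y : G) := by
    have hza : z' * a = a * z' := Subgroup.mem_centralizer_singleton_iff.mp hz'C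
    rw [hky'] at hza
    calc (y : G) * a' = (k : G)⁻¹ * ((k : G) * y * (k : G)⁻¹ * a) * k := by rw [ha']; group
      _ = (k : G)⁻¹ * (a * ((k : G) * y * (k : G)⁻¹)) * k := by rw [hza]
      _ = a' * y := by rw [ha']; group
  have ha'2 : a' ∈ W₂ := TypeP.mem_W₂ hSP hyW hy1 ha'D hcy
  have hap : a ^ Nat.card W₂ = 1 := by
    have h2 : a' ^ Nat.card W₂ = 1 :=
      orderOf_dvd_iff_pow_eq_one.mp (Subgroup.orderOf_dvd_natCard _ ha'2)
    rw [show a = (k : G) * a' * (k : G)⁻¹ by rw [ha']; group, conj_pow, h2]; group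
  refine ha.2.1 ?_
  have hbp : b ^ Nat.card W₂ = 1 := by rw [← e, conj_pow, hap]; group
  have hb' : b = 1 := pow_left_inj_of_coprime (Sec13.coprime_W₁_derived hTP).symm hbp (one_pow _) (by
    rw [orderOf_dvd_iff_pow_eq_one.mp (Subgroup.orderOf_dvd_natCard _ hbT), one_pow])
  exact absurd hb' hb1

end Pair

end CfsgLib.PF.Sec13Reg
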