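import Mathlib
import Cfsg.Agent.Lib.PF.Props9
import Cfsg.Agent.Lib.PF.Props12
import Cfsg.Agent.Lib.PF.Sec13RegVanish

/-!
# Peterfalvi (13.12): the numerical group data
-/

set_option autoImplicit false
set_option linter.unusedSectionVars false
set_option linter.style.haveILetI false

namespace CfsgLib.PF.Sec13

open Subgroup CfsgLib.OddOrder
open scoped Classical

universe u

variable {G : Type u} [Group G] [Fintype G]

/-- `W₁` acts on a subgroup of `U` that it normalises with all orbits but one of size `|W₁|`. -/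
theorem card_fpf_modEq {S W₁ U W₂ X : Subgroup G} (d : Cfsg.IsTypePWith S W₁ U W₂)
    (hq : (Nat.card W₁).Prime) (hX : X ≤ U) (hn : W₁ ≤ Subgroup.normalizer (X : Set G)) :
    Nat.card X ≡ 1 [MOD Nat.card W₁] := by
  have := Fact.mk hq
  obtain ⟨w, hw, hw1⟩ := (Subgroup.bot_or_exists_ne_one W₁).resolve_left d.W₁_ne
  have h := CfsgLib.Sporadic.NormalizerCriterion.card_modEq_inf_centralizer (P := X) (x := w)
    (p := Nat.card W₁) (orderOf_dvd_iff_pow_eq_one.mp (Subgroup.orderOf_dvd_natCard _ hw))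
    fun y hy => (Subgroup.mem_normalizer_iff.mp (hn hw) y).mp hy
  have hbot : Subgroup.centralizer {w} ⊓ X = ⊥ := (Subgroup.eq_bot_iff_forall _).mpr fun z hz =>
    U_fpf d hw hw1 (hX hz.2) (Subgroup.mem_centralizer_singleton_iff.mp hz.1).symm
  rwa [hbot, Subgroup.card_bot] at h

theorem modEq_one_ge {q c : ℕ} (hc : c ≡ 1 [MOD q]) (hqodd : Odd q) (hcodd : Odd c) (hc1 : c ≠ 1) :
    2 * q + 1 ≤ c := by
  have hpos : 0 < c := hcodd.pos
  obtain ⟨m, hm⟩ : q ∣ c - 1 := (Nat.modEq_iff_dvd' hpos).mp hc.symm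
  rcases m with _ | _ | m
  · omega
  · obtain ⟨a, ha⟩ := hqodd
    obtain ⟨b, hb⟩ := hcodd
    omega
  · nlinarith [Nat.sub_add_cancel hpos]

variable (hG : Cfsg.IsMinSimpleOddOrder G)

namespace RegCtx

variable {S T W₁ W₂ U V : Subgroup G} (C : RegCtx S T W₁ W₂ U V)

include C

theorem regC_norm : W₁ ≤ Subgroup.normalizer (regC S U : Set G) := by
  intro w hw
  have hP : w ∈ Subgroup.normalizer (Cfsg.fittingHallOf S : Set G) :=
    fittingHallOf_normal S (W₁_le C.pair.left hw)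
  exact CfsgLib.OddOrder38.mem_normalizer_inf (C.pair.left.U_normal hw)
    (by
      refine Subgroup.mem_normalizer_iff.mpr fun x => ?_
      simp only [Subgroup.mem_centralizer_iff, SetLike.mem_coe]
      constructor
      · intro hx y hy
        have := hx (w⁻¹ * y * w)
          (by simpa using (Subgroup.mem_normalizer_iff.mp (inv_mem hP) y).mp hy)
        calc y * (w * x * w⁻¹) = w * ((w⁻¹ * y * w) * x) * w⁻¹ := by group
          _ = _ := by rw [this]; group
      · intro hx y hy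
        have := hx (w * y * w⁻¹) ((Subgroup.mem_normalizer_iff.mp hP y).mp hy)
        calc y * x = w⁻¹ * ((w * y * w⁻¹) * (w * x * w⁻¹)) * w := by group
          _ = _ := by rw [this]; group)

theorem regu_modEq : (regC S U).relIndex U ≡ 1 [MOD Nat.card W₁] := by
  have d := C.pair.left
  have h1 := card_fpf_modEq d C.q_prime le_rfl d.U_normal
  have h2 := card_fpf_modEq d C.q_prime inf_le_left C.regC_norm
  rw [C.card_U] at h1
  have h3 : Nat.card (regC S U) * (regC S U).relIndex U ≡ 1 * (regC S U).relIndex U [MOD Nat.card W₁] :=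
    Nat.ModEq.mul_right _ h2
  rw [one_mul] at h3
  exact h3.symm.trans h1

include hG in
theorem c_ge (hne : regC S U ≠ ⊥) : 2 * Nat.card W₁ + 1 ≤ Nat.card (regC S U) :=
  modEq_one_ge (card_fpf_modEq C.pair.left C.q_prime inf_le_left C.regC_norm)
    (hG.1.of_dvd_nat (Subgroup.card_subgroup_dvd_card _)) (hG.1.of_dvd_nat (Subgroup.card_subgroup_dvd_card _))
    fun h => hne (Subgroup.card_eq_one.mp h)

include hG in
theorem V_ge : 2 * Nat.card W₂ + 1 ≤ Nat.card V :=
  modEq_one_ge (card_fpf_modEq C.pair.right C.p_prime le_rfl C.pair.right.U_normal)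
    (hG.1.of_dvd_nat (Subgroup.card_subgroup_dvd_card _)) (hG.1.of_dvd_nat (Subgroup.card_subgroup_dvd_card _))
    fun h => C.V_ne (Subgroup.card_eq_one.mp h)

theorem coreFactor (hCF : PropCoreFactor G) :
    CoreFactor S W₁ U W₂ ⊥ (regC S U) (Nat.card W₂) := by
  obtain ⟨H₀, C₀, p, hcf⟩ := hCF S W₁ U W₂ C.pair.left_max (Or.inl C.kind)
  have h1 : p ∣ Nat.card W₂ := hcf.W₂_rel ▸ Subgroup.relIndex_dvd_card H₀ W₂
  have h2 : p = Nat.card W₂ := (Nat.prime_dvd_prime_iff_eq hcf.prime C.p_prime).mp h1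
  subst h2
  have hH : H₀ = ⊥ := by
    have h3 := card_mul_relIndex_of_le hcf.lt.le
    rw [hcf.card, C.P_card] at h3
    exact Subgroup.card_eq_one.mp (Nat.mul_right_cancel (pow_pos C.p_prime.pos _)
      (h3.trans (one_mul _).symm))
  subst hH
  have hC0 : C₀ = regC S U := by
    ext x
    rw [hcf.mem_C, regC, Subgroup.mem_inf, Subgroup.mem_centralizer_iff]
    refine and_congr_right fun _ => forall_congr' fun y => imp_congr_right fun _ => ?_
    rw [Subgroup.mem_bot, mul_inv_eq_one, mul_inv_eq_iff_eq_mul]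
    exact eq_comm
  exact hC0 ▸ hcf

include hG in
/-- `u (p - 1) ≤ p^q - 1`, and `u ∣ 31` when `(p, q) = (5, 3)`. -/
theorem u_bound (hCF : PropCoreFactor G) (hGF : PropGaloisField G) (hNG : PropNonGalois G) :
    (regC S U).relIndex U * (Nat.card W₂ - 1) ≤ Nat.card W₂ ^ Nat.card W₁ - 1 ∧
      (Nat.card W₂ = 5 → Nat.card W₁ = 3 → (regC S U).relIndex U ∣ 31) := by
  have hcf := C.coreFactor hCF
  have hp2 := C.p_prime.two_le
  have hq1 := C.q_prime.one_lt
  by_cases hgal : Galois S U ⊥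
  · obtain ⟨hdvd, -⟩ := hGF S W₁ U W₂ ⊥ _ _ C.pair.left_max (Or.inl C.kind) hcf hgal
    refine ⟨?_, fun e5 e3 => by rwa [e5, e3] at hdvd⟩
    have hd : Nat.card W₂ - 1 ∣ Nat.card W₂ ^ Nat.card W₁ - 1 := Nat.sub_one_dvd_pow_sub_one _ _
    obtain ⟨k, hk⟩ := hd
    rw [hk, Nat.mul_div_cancel_left _ (by omega)] at hdvd
    rw [hk, mul_comm]
    refine Nat.mul_le_mul_left _ (Nat.le_of_dvd (Nat.pos_of_ne_zero fun h => ?_) hdvd)
    rw [h, mul_zero] at hk
    have : Nat.card W₂ ^ 1 ≤ Nat.card W₂ ^ Nat.card W₁ := Nat.pow_le_pow_right (by omega) hq1.le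
    rw [pow_one] at this
    omega
  · obtain ⟨a, ha1, hap, haodd, hdvd, -⟩ := hNG S W₁ U W₂ ⊥ _ _ C.pair.left_max (Or.inl C.kind) hcf hgal
    refine ⟨?_, fun e5 _ => ?_⟩
    · have hale : a ≤ Nat.card W₂ := (Nat.le_of_dvd (by omega) hap).trans (Nat.sub_le _ _)
      have h1 : (regC S U).relIndex U ≤ Nat.card W₂ ^ (Nat.card W₁ - 1) :=
        (Nat.le_of_dvd (pow_pos (by omega) _) hdvd).trans (Nat.pow_le_pow_left hale _)
      refine (Nat.mul_le_mul_right _ h1).trans ?_
      rw [Nat.mul_sub_one, ← pow_succ, Nat.sub_add_cancel (by omega)]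
      have : 1 ≤ Nat.card W₂ ^ (Nat.card W₁ - 1) := Nat.one_le_pow _ _ (by omega)
      omega
    · rw [e5] at hap
      have hle := Nat.le_of_dvd (by norm_num) hap
      obtain ⟨b, hb⟩ := haodd
      interval_cases a <;> first | omega | norm_num at hap

/-- `c` and `u` are not coprime. -/
theorem not_coprime (hne : regC S U ≠ ⊥) :
    ¬ Nat.Coprime (Nat.card (regC S U)) ((regC S U).relIndex U) := fun hcop => by
  have hUc := C.kind.U_comm
  refine C.kind.normalizer_not_le fun g hg => ?_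
  have hCU : ∀ x, x ∈ regC S U ↔ x ∈ U ∧ x ^ Nat.card (regC S U) = 1 := by
    refine fun x => ⟨fun hx => ⟨hx.1, orderOf_dvd_iff_pow_eq_one.mp (Subgroup.orderOf_dvd_natCard _ hx)⟩,
      fun ⟨hx, hxc⟩ => ?_⟩
    haveI : ((regC S U).subgroupOf U).Normal :=
      ⟨fun a ha b => by rwa [hUc.1.1 b a, mul_inv_cancel_right]⟩
    have h1 := Subgroup.pow_index_mem ((regC S U).subgroupOf U) ⟨x, hx⟩
    rw [Subgroup.mem_subgroupOf] at h1
    obtain ⟨m, hm⟩ := exists_pow_eq_self_of_coprime (x := x) (n := (regC S U).relIndex U)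
      (hcop.symm.coprime_dvd_right (orderOf_dvd_of_pow_eq_one hxc))
    rw [← hm]
    exact pow_mem h1 _
  have hgC : g ∈ Subgroup.normalizer (regC S U : Set G) := by
    refine Subgroup.mem_normalizer_iff.mpr fun x => ?_
    rw [hCU, hCU, Subgroup.mem_normalizer_iff.mp hg x, conj_pow, conj_eq_one_iff]
  obtain ⟨x, hx, hx1⟩ := (Subgroup.bot_or_exists_ne_one _).resolve_left hne
  by_contra hgS
  have hF : ∀ y ∈ regC S U, y ∈ Cfsg.fittingOf S := fun y hy => by
    rw [← C.pair.left.fitting_eq]; exact Subgroup.mem_sup_right ⟨U_le C.pair.left hy.1, hy.2⟩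
  exact hx1 (C.kind.TI g (C.N_FS.symm ▸ hgS) x (hF x hx)
    (hF _ ((Subgroup.mem_normalizer_iff.mp hgC x).mp hx)))

include hG in
/-- For `q = 3`: `c ≥ 13`, or `c ≥ 7` and `p ≥ 11`. -/
theorem c_three (hCF : PropCoreFactor G) (hGF : PropGaloisField G) (hNG : PropNonGalois G)
    (hne : regC S U ≠ ⊥) (hq : Nat.card W₁ = 3) :
    13 ≤ Nat.card (regC S U) ∨ (7 ≤ Nat.card (regC S U) ∧ 11 ≤ Nat.card W₂) := by
  have d := C.pair.left
  have h1 := C.c_ge hG hne
  have h2 := card_fpf_modEq d C.q_prime inf_le_left C.regC_norm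
  obtain ⟨b, hb⟩ : Odd (Nat.card (regC S U)) := hG.1.of_dvd_nat (Subgroup.card_subgroup_dvd_card _)
  rw [hq] at h1 h2
  by_contra hcon
  rw [not_or, not_and, not_le, not_le] at hcon
  have h11 := hcon.2 (by omega)
  change Nat.card (regC S U) % 3 = 1 % 3 at h2
  have h7 : Nat.card (regC S U) = 7 := by omega
  obtain ⟨a, ha⟩ : Odd (Nat.card W₂) := hG.1.of_dvd_nat (Subgroup.card_subgroup_dvd_card _)
  have hp := C.p_prime
  have hne3 := C.ne
  have hdvd : Nat.card (regC S U) ∣ Nat.card U := Subgroup.card_dvd_of_le inf_le_left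
  have hcop := (coprime_fittingHall_U d).coprime_dvd_right hdvd
  rw [C.P_card, h7, hq] at hcop
  have : Nat.card W₂ = 5 := by
    interval_cases h : Nat.card W₂ <;>
      first | omega | (norm_num at hp; done) | (norm_num at hcop; done)
  refine C.not_coprime hne ?_
  have h31 := (C.u_bound hG hCF hGF hNG).2 this hq
  rw [h7]
  exact Nat.Coprime.coprime_dvd_right h31 (by norm_num)

end RegCtx

end CfsgLib.PF.Sec13
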