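import Mathlib
import Cfsg.Agent.Lib.PF.Sec13RegBessel

/-!
# Peterfalvi (13.12): `η_{0j} - 1` on `S_F#` and the two bounds on `H#`
-/

set_option autoImplicit false
set_option linter.unusedSectionVars false
set_option linter.style.haveILetI false

namespace CfsgLib.PF.Sec13

open CfsgLib.OddOrder CfsgLib.Characters CfsgLib.OddChar Finset
open scoped Classical ComplexConjugate

universe u

variable {G : Type u} [Group G] [Fintype G]

theorem not_agreeR_one {W₁ W₂ : Subgroup G} (hW : Cfsg.IsSelfNormalizingCyclic W₁ W₂)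
    {ν : ↥(W₁ ⊔ W₂) →* ℂˣ} (hν : TrivL ν) (hν1 : ν ≠ 1) : ¬ AgreeR W₁ W₂ ν 1 := fun h =>
  hν1 (eq_one_of_trivR_trivL hW.2.2.1 hW.2.2.2.1 (fun w hw => h w hw) hν)

namespace RegCtx

variable {S T W₁ W₂ U V : Subgroup G} (C : RegCtx S T W₁ W₂ U V)
  {μ : (↥(W₁ ⊔ W₂) →* ℂˣ) → (↥S → ℂ)} {δ : (↥(W₁ ⊔ W₂) →* ℂˣ) → ℂ}
  {η : (↥(W₁ ⊔ W₂) →* ℂˣ) → (G → ℂ)} {lam : ↥S → ℂ} {ε : ℤ} {τ₁ : (↥S → ℂ) → (G → ℂ)}
  (h : RegChars S W₁ W₂ U μ δ η lam ε τ₁) (hT : PropTypes G) (hD : PropDade G)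

include C h

theorem inner_mu {X : ↥S → ℂ} (hX : ∀ x : S, (x : G) ∉ (⁅S, S⁆ : Subgroup G) → X x = 0)
    (ν : ↥(W₁ ⊔ W₂) →* ℂˣ) :
    Cfsg.classInner X (μ ν) = (Nat.card W₁ : ℂ)⁻¹ * Cfsg.classInner X (red S μ ν) := by
  have hW := C.pair.left.selfNormalizing
  haveI := finite_linChar hW
  haveI := Fintype.ofFinite (↥(W₁ ⊔ W₂) →* ℂˣ)
  rw [h.data.red_eq hW, finsum_mem_eq_toFinset_sum, classInner_sum_right,
    Finset.sum_congr rfl (g := fun _ => Cfsg.classInner X (μ ν)) fun ν' hν' => ?_,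
    Finset.sum_const, nsmul_eq_mul, ← mul_assoc]
  · have : ({ν' | AgreeR W₁ W₂ ν ν'}.toFinset).card = Nat.card W₁ := by
      rw [← h.data.card_col hW ν, Nat.card_eq_fintype_card, Set.toFinset_card]
      exact Fintype.card_congr (Equiv.refl _)
    rw [this, inv_mul_cancel₀ (Nat.cast_ne_zero.mpr Nat.card_pos.ne'), one_mul]
  · rw [Cfsg.classInner, Cfsg.classInner]
    congr 1
    refine Finset.sum_congr rfl fun x _ => ?_
    by_cases hx : (x : G) ∈ (⁅S, S⁆ : Subgroup G)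
    · have e := congrFun (h.data.res_eq ν ν' (Set.mem_toFinset.mp hν')) ⟨x, hx⟩
      simp only [resD] at e
      rw [e]
    · rw [hX x hx, zero_mul, zero_mul]

include hT hD

/-- On `S_F#` the function `η_{0j} - ε μ` is a constant other than `1`. -/
theorem eta_const (hodd : Odd (Nat.card ↥(W₁ ⊔ W₂))) {ν : ↥(W₁ ⊔ W₂) →* ℂˣ} (hν : TrivL ν) (hν1 : ν ≠ 1) :
    ∃ e : ℤ, e ≠ 0 ∧ ∀ z : S, (z : G) ∈ Cfsg.fittingHallOf S → z ≠ 1 →
      η ν z - 1 - (ε : ℂ) * μ (tw ε ν) z = (e : ℂ) := by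
  have d := C.pair.left
  have hW := d.selfNormalizing
  have hagr := not_agreeR_one hW hν hν1
  set Ps := (Cfsg.fittingHallOf S).subgroupOf S with hPs
  haveI := C.Ps_normal
  haveI := C.Ps_comm
  set Θ : ↥S → ℂ := fun x => η ν x - (ε : ℂ) * μ (tw ε ν) x with hΘ
  have hΘgen : Cfsg.IsGeneralizedCharacter ↥S Θ := by
    have : Θ = (fun x : S => η ν x) - ε • μ (tw ε ν) := by
      funext x; simp [hΘ]
    rw [this]
    exact isGeneralizedCharacter_sub (gen_res (family_signed h.data.family ν).generalized S)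
      (isGeneralizedCharacter_zsmul
        (isGeneralizedCharacter_of_isCharacter (isCharacter_of_irr (h.data.μ_irr _))) ε)
  set D : ↥Ps → ℂ := fun y => Θ y with hDdef
  have hDgen : Cfsg.IsGeneralizedCharacter ↥Ps D := gen_res hΘgen Ps
  obtain ⟨κ₁, hκ₁⟩ : ∃ κ : Cfsg.IrrCharacter Ps, (κ : Ps → ℂ) ≠ fun _ => 1 := by
    by_contra hall
    push Not at hall
    obtain ⟨z, hz, hz1⟩ := (Subgroup.bot_or_exists_ne_one W₂).resolve_left hW.2.1
    have hzS : z ∈ S := Subgroup.commutator_le_self S (d.U_compl.1 (W₂_le_fittingHall d hz))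
    have := sum_degree_mul_irr (G := Ps) ⟨⟨z, hzS⟩, W₂_le_fittingHall d hz⟩
    rw [if_neg (fun e => hz1 (congrArg (fun t : Ps => ((t : S) : G)) e)),
      Finset.sum_congr rfl (g := fun _ => (1 : ℂ)) fun κ _ => by rw [hall κ]; simp,
      Finset.sum_const, Finset.card_univ, nsmul_eq_mul, mul_one, Nat.cast_eq_zero] at this
    haveI hne : Nonempty (Cfsg.IrrCharacter Ps) := ⟨⟨_, isIrrCharacter_one⟩⟩
    exact Fintype.card_pos.ne' this
  -- all non-principal multiplicities agree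
  have hmult : ∀ κ : Cfsg.IrrCharacter Ps, (κ : Ps → ℂ) ≠ (fun _ => 1) →
      Cfsg.classInner D (κ : Ps → ℂ) = Cfsg.classInner D (κ₁ : Ps → ℂ) := by
    intro κ hκ
    set γ := Cfsg.indFun Ps (κ : Ps → ℂ) - Cfsg.indFun Ps (κ₁ : Ps → ℂ) with hγ
    have hγ1 : γ 1 = 0 := by
      rw [hγ, Pi.sub_apply, CfsgLib.Induction.indFun_one_apply, CfsgLib.Induction.indFun_one_apply,
        CfsgLib.CharIto.degree_one_of_comm κ.2, CfsgLib.CharIto.degree_one_of_comm κ₁.2, sub_self]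
    have hγmem := zspanOn_compl_one.mpr ⟨zspan_sub (C.indP_mem κ.2 hκ) (C.indP_mem κ₁.2 hκ₁), hγ1⟩
    rw [← hγ] at hγmem
    have hγc := C.class_of_zspan hγmem.1
    have hγP : ∀ x : S, x ∉ Ps → γ x = 0 := fun x hx => by
      rw [hγ, Pi.sub_apply, CfsgLib.Induction.indFun_normal_eq_zero Ps hx,
        CfsgLib.Induction.indFun_normal_eq_zero Ps hx, sub_self]
    have hγH : ∀ x : S, (x : G) ∉ regHs S U → γ x = 0 := fun x hx => by
      by_cases hx1 : x = 1
      · rw [hx1, hγ1]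
      · exact hγP x fun hh => hx ⟨Subgroup.mem_sup_left hh, fun e => hx1 (Subtype.ext e)⟩
    have hηc : Cfsg.IsClassFunction G (η ν) := (family_signed h.data.family ν).classFunction
    have e1 : Cfsg.classInner γ (fun x : S => η ν x) =
        ((ε : ℂ) / (Nat.card W₁ : ℂ)) * Cfsg.classInner γ (red S μ (tw ε ν)) := by
      have h1 := C.pairing hT hD hγc hγH hηc
      rw [← h.ext γ hγmem] at h1
      rw [← h1, ← C.pair_eta h hagr hγmem.1, classInner_sub_right]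
      have h0 : Cfsg.classInner (τ₁ γ) (η 1) = 0 := by
        rw [C.span_inner h (k := 0) (f := (0 : ↥S → ℂ)) (fun χ hχ => ?_) hγmem.1, zero_mul]
        rw [zero_mul]
        rcases mem_calS_cases h.data hχ with hi | ⟨ω, hω, rfl⟩
        · exact h.irr_η χ hχ hi 1
        · have e := h.red_image (tw ε ω) (tw_nontriv ε hω)
          rw [tw_tw] at e
          rw [e, classInner_smul_left, h.data.classInner_colSum_η hW, if_neg (tw_nontriv ε hω), mul_zero]
      rw [h0, sub_zero]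
    have e2 : Cfsg.classInner γ Θ = 0 := by
      rw [show Θ = (fun x : S => η ν x) - (ε : ℂ) • μ (tw ε ν) from rfl, classInner_sub_right,
        classInner_smul_right, e1, C.inner_mu h (fun x hx => hγP x fun hh =>
          hx (d.U_compl.1 hh)) (tw ε ν), map_intCast]
      ring
    have hΘc : Cfsg.IsClassFunction ↥S Θ := isClassFunction_of_isGeneralizedCharacter hΘgen
    rw [hγ, classInner_sub_left, CfsgLib.Induction.classInner_indFun _ _ hΘc,
      CfsgLib.Induction.classInner_indFun _ _ hΘc, sub_eq_zero] at e2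
    rw [CfsgLib.Induction.classInner_swap D (κ : Ps → ℂ), CfsgLib.Induction.classInner_swap D (κ₁ : Ps → ℂ)]
    exact congrArg conj e2
  obtain ⟨m₁, hm₁⟩ := classInner_generalized_int hDgen (isGeneralizedCharacter_irr κ₁)
  obtain ⟨m₀, hm₀⟩ := classInner_generalized_int hDgen
    (isGeneralizedCharacter_irr (⟨fun _ => 1, isIrrCharacter_one⟩ : Cfsg.IrrCharacter Ps))
  have hval : ∀ y : Ps, y ≠ 1 → D y = ((m₀ - m₁ : ℤ) : ℂ) := by
    intro y hy
    have hsum := congrFun (classFunction_eq_sum (isClassFunction_of_isGeneralizedCharacter hDgen)) y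
    rw [hsum, Finset.sum_apply]
    set one : Cfsg.IrrCharacter Ps := ⟨fun _ => 1, isIrrCharacter_one⟩ with hone
    have e : ∀ κ : Cfsg.IrrCharacter Ps, (Cfsg.classInner D (κ : Ps → ℂ) • (κ : Ps → ℂ)) y =
        (m₁ : ℂ) * ((κ : Ps → ℂ) 1 * (κ : Ps → ℂ) y) + if κ = one then ((m₀ - m₁ : ℤ) : ℂ) else 0 := by
      intro κ
      rw [Pi.smul_apply, smul_eq_mul, CfsgLib.CharIto.degree_one_of_comm κ.2, one_mul]
      by_cases hk : κ = one
      · subst hk
        rw [hm₀, if_pos rfl, hone]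
        push_cast
        ring
      · rw [if_neg hk, add_zero, hmult κ (fun e => hk (Subtype.ext e)), hm₁]
    rw [Finset.sum_congr rfl fun κ _ => e κ, Finset.sum_add_distrib, ← Finset.mul_sum,
      sum_degree_mul_irr, if_neg hy, mul_zero, zero_add, Finset.sum_ite_eq', if_pos (mem_univ _)]
  refine ⟨m₀ - m₁ - 1, ?_, fun z hz hz1 => ?_⟩
  swap
  · have := hval ⟨z, hz⟩ fun e => hz1 (congrArg Subtype.val e)
    simp only [hDdef, hΘ] at this
    rw [Int.cast_sub (m₀ - m₁) 1, ← this, Int.cast_one]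
    ring
  -- congruence modulo `q`
  intro he
  obtain ⟨z, hz, hz1⟩ := (Subgroup.bot_or_exists_ne_one W₂).resolve_left hW.2.1
  have hzP := W₂_le_fittingHall d hz
  have hzS : z ∈ S := Subgroup.commutator_le_self S (d.U_compl.1 hzP)
  set zW : ↥(W₁ ⊔ W₂) := ⟨z, Subgroup.mem_sup_right hz⟩ with hzW
  have hνz : ν zW ≠ 1 := by
    intro e
    refine hν1 (trivL_ext hW.2.2.1 hW.2.2.2.1 hν (fun _ _ => rfl) (MonoidHom.ext fun a => ?_))
    haveI := Fact.mk C.p_prime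
    obtain ⟨k, rfl⟩ := (Submonoid.mem_powers_iff _ _).mp
      (mem_powers_of_prime_card (G := W₂) (p := Nat.card W₂) (g := ⟨z, hz⟩) (g' := a) rfl
        fun e' => hz1 (congrArg Subtype.val e'))
    rw [map_pow, map_pow, MonoidHom.comp_apply, MonoidHom.comp_apply, MonoidHom.one_apply,
      show ctiR W₁ W₂ ⟨z, hz⟩ = zW from rfl, e]
  set c₀ : ℤ := if ε = 1 then 0 else -1 with hc₀
  have hc : (ν zW : ℂ) - (ε : ℂ) * (tw ε ν zW : ℂ) = (c₀ : ℂ) := by
    rcases h.sign with e | e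
    · simp [hc₀, tw, e]
    · have h3 : (ν zW : ℂ) ^ 3 = 1 := by
        rw [← Units.val_pow_eq_pow_val, h.sign_neg e ν hagr zW hz, Units.val_one]
      have hne : (ν zW : ℂ) ≠ 0 := Units.ne_zero _
      have hne1 : (ν zW : ℂ) - 1 ≠ 0 := fun e' => hνz (Units.ext (sub_eq_zero.mp e'))
      have hz0 : (ν zW : ℂ) ^ 2 + (ν zW : ℂ) + 1 = 0 := by
        refine (mul_eq_zero.mp (?_ : ((ν zW : ℂ) - 1) * ((ν zW : ℂ) ^ 2 + (ν zW : ℂ) + 1) = 0)).resolve_left hne1
        linear_combination h3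
      simp only [hc₀, tw, e, show (-1 : ℤ) ≠ 1 by norm_num, if_false, MonoidHom.inv_apply,
        Units.val_inv_eq_inv_val, Int.cast_neg, Int.cast_one]
      field_simp
      linear_combination hz0
  set E := W₁.subgroupOf S with hE
  have hx : (⟨z, hzS⟩ : S) ∈ Subgroup.normalizer (E : Set ↥S) := by
    refine Subgroup.centralizer_le_normalizer _ (Subgroup.mem_centralizer_iff.mpr fun y hy => ?_)
    exact Subtype.ext (hW.2.2.2.1 _ hy z hz)
  have hint := mean_integral hΘgen hx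
  have hEc : Nat.card E = Nat.card W₁ := Nat.card_congr (Subgroup.subgroupOfEquivOfLe (W₁_le d)).toEquiv
  have hy1 : ∀ y : E, y ≠ 1 → Θ ((y : S) * ⟨z, hzS⟩) = (c₀ : ℂ) := by
    intro y hy
    have hyW : ((y : S) : G) ∈ W₁ := y.2
    have hmem : ((y : S) : G) * z ∈ W₁ ⊔ W₂ := mul_mem (Subgroup.mem_sup_left hyW) (Subgroup.mem_sup_right hz)
    have h1 : ((y : S) : G) * z ∉ W₁ := fun hh => hz1 (Subgroup.mem_bot.mp (hW.2.2.1.le
      ⟨by simpa using mul_mem (inv_mem hyW) hh, hz⟩))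
    have h2 : ((y : S) : G) * z ∉ W₂ := fun hh => hy (Subtype.ext (Subtype.ext (Subgroup.mem_bot.mp
      (hW.2.2.1.le ⟨hyW, by simpa using mul_mem hh (inv_mem hz)⟩))))
    simp only [hΘ]
    rw [h.data.μ_value (tw ε ν) _ (show (((y : S) * ⟨z, hzS⟩ : S) : G) ∈ W₁ ⊔ W₂ from hmem) h2,
      h.δ_one _ (tw_nontriv ε hagr), one_mul]
    have he1 := h.data.family.eq_on ν ⟨_, hmem⟩ h1 h2
    rw [show η ν (((y : S) * ⟨z, hzS⟩ : S) : G) = _ from he1]
    have hsplit : (⟨_, hmem⟩ : ↥(W₁ ⊔ W₂)) = ⟨_, Subgroup.mem_sup_left hyW⟩ * zW := rfl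
    have htw : ∀ w : ↥(W₁ ⊔ W₂), (w : G) ∈ W₁ → tw ε ν w = 1 := fun w hw => by
      unfold tw; split_ifs
      · exact hν w hw
      · rw [MonoidHom.inv_apply, hν w hw, inv_one]
    rw [hsplit, map_mul, hν _ hyW, one_mul]
    change (ν zW : ℂ) - (ε : ℂ) * (tw ε ν (⟨_, Subgroup.mem_sup_left hyW⟩ * zW) : ℂ) = _
    rw [map_mul, htw _ hyW, one_mul]
    exact hc
  rw [← Finset.add_sum_erase _ _ (mem_univ (1 : E)), OneMemClass.coe_one, one_mul,
    Finset.sum_congr rfl fun y hy => hy1 y (Finset.mem_erase.mp hy).1, Finset.sum_const,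
    Finset.card_erase_of_mem (mem_univ _), Finset.card_univ, ← Nat.card_eq_fintype_card, hEc,
    nsmul_eq_mul] at hint
  have hv : Θ ⟨z, hzS⟩ = (1 : ℂ) := by
    have h1 := hval ⟨⟨z, hzS⟩, hzP⟩ fun e => hz1 (congrArg (fun t : Ps => ((t : S) : G)) e)
    simp only [hDdef] at h1
    rw [h1, show m₀ - m₁ = 1 by omega, Int.cast_one]
  rw [hv] at hint
  obtain ⟨n, hn⟩ := int_of_integral_rat hint
    (r := (1 + ((Nat.card W₁ - 1 : ℕ) : ℚ) * c₀) / (Nat.card W₁ : ℚ)) (by push_cast; ring)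
  rw [inv_mul_eq_iff_eq_mul₀ (Nat.cast_ne_zero.mpr Nat.card_pos.ne')] at hn
  have hn' : (1 : ℤ) + ((Nat.card W₁ - 1 : ℕ) : ℤ) * c₀ = (Nat.card W₁ : ℤ) * n := by exact_mod_cast hn
  rw [Nat.cast_sub Nat.card_pos, Nat.cast_one] at hn'
  have hdvd : (Nat.card W₁ : ℤ) ∣ 1 - c₀ := ⟨n - c₀, by linear_combination hn'⟩
  have h12 : 1 - c₀ = 1 ∨ 1 - c₀ = 2 := by rw [hc₀]; split_ifs <;> norm_num
  have h3 := (three_le_card hW hodd).1
  have := Int.le_of_dvd (by omega) hdvd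
  omega

end RegCtx

end CfsgLib.PF.Sec13
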