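import Cfsg.Agent.Lib.PF.CoherentMu
import Cfsg.Agent.Lib.PF.SubcoherentP
import Cfsg.Agent.Lib.PF.Props9
import Cfsg.Agent.Lib.PF.Props12
import Cfsg.Agent.Lib.OddChar.InducedSet
import Cfsg.Agent.Lib.PF.Sec13RegBound

/-!
# The coefficients of the cyclic family on the images of `S(M_F)`

Under coherence, the coefficients of `η ν` on the images are, up to a multiple of the degree,
`ε` at one column character and zero elsewhere, with `ε` and the choice of the column uniform.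
-/

set_option autoImplicit false
set_option linter.style.haveILetI false
set_option linter.unusedSectionVars false

namespace CfsgLib.PF.Sec13Reg

open scoped Classical ComplexConjugate
open Finset CfsgLib.Characters CfsgLib.OddChar CfsgLib.Clifford

universe u

variable {G : Type u} [Group G] [Fintype G]

/-- `M'` inside `M`. -/
abbrev dK (M : Subgroup G) : Subgroup ↥M := (⁅M, M⁆ : Subgroup G).subgroupOf M

/-- `M_F` inside `M'`. -/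
abbrev dN (M : Subgroup G) : Subgroup ↥(dK M) :=
  ((Cfsg.fittingHallOf M).subgroupOf M).subgroupOf (dK M)

instance fittingHallOf_subgroupOf_normal (M : Subgroup G) :
    ((Cfsg.fittingHallOf M).subgroupOf M).Normal := by
  rw [Cfsg.fittingHallOf, Subgroup.subgroupOf,
    Subgroup.comap_map_eq_self_of_injective M.subtype_injective]
  infer_instance

theorem mem_dN {M : Subgroup G} {x : ↥(dK M)} :
    x ∈ dN M ↔ ((x : ↥M) : G) ∈ Cfsg.fittingHallOf M := Iff.rfl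

theorem fittingHall_le_typeCore {M W₁ U W₂ : Subgroup G} (hP : Cfsg.IsTypePWith M W₁ U W₂) :
    Cfsg.fittingHallOf M ≤ Cfsg.typeCore M := by
  unfold Cfsg.typeCore
  split_ifs
  · exact (typeP_le hP).2.2.1
  · exact le_rfl

/-- The hypotheses on one side. -/
structure SideCtx (M W₁ U W₂ : Subgroup G) (μ : (↥(W₁ ⊔ W₂) →* ℂˣ) → (↥M → ℂ))
    (δ : (↥(W₁ ⊔ W₂) →* ℂˣ) → ℂ) (η : (↥(W₁ ⊔ W₂) →* ℂˣ) → (G → ℂ)) (d : ℕ) : Prop where
  minSimple : Cfsg.IsMinSimpleOddOrder G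
  types : PropTypes G
  dadeProp : PropDade G
  subcoh : PropSubcoherentP G
  max : IsCoatom M
  data : Cfsg.IsTypePWith M W₁ U W₂
  ti : TIData M W₁ W₂ μ δ η
  prime : (Nat.card W₂).Prime
  TI : Cfsg.IsTISubset (suppA0 M)
  norm : Subgroup.normalizer (suppA0 M) = M
  coh : Cfsg.IsCoherent (calS M (Cfsg.fittingHallOf M) ⊥) ({1}ᶜ : Set ↥M) (tau M)
  deg : ∀ ν, ¬ AgreeR W₁ W₂ ν 1 → μ ν 1 = (d : ℂ)

variable {M W₁ U W₂ : Subgroup G} {μ : (↥(W₁ ⊔ W₂) →* ℂˣ) → (↥M → ℂ)}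
  {δ : (↥(W₁ ⊔ W₂) →* ℂˣ) → ℂ} {η : (↥(W₁ ⊔ W₂) →* ℂˣ) → (G → ℂ)} {d : ℕ}

/-- A member of `S(M_F)` is induced from a character non-trivial on `M_F`. -/
theorem exists_of_mem_calS {χ : ↥M → ℂ} (hχ : χ ∈ calS M (Cfsg.fittingHallOf M) ⊥) :
    ∃ θ : ↥(dK M) → ℂ, RelChar (dN M) θ ∧ χ = Cfsg.indFun (dK M) θ := by
  obtain ⟨⟨θ, hθ, h1, -, rfl⟩, hnot⟩ := hχ
  refine ⟨θ, ⟨hθ, ?_⟩, rfl⟩
  by_contra hall
  push Not at hall
  exact hnot ⟨θ, hθ, h1, fun a ha => hall a ha, rfl⟩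

/-- Conversely. -/
theorem mem_calS_of_rel {θ : ↥(dK M) → ℂ} (h : RelChar (dN M) θ) :
    Cfsg.indFun (dK M) θ ∈ calS M (Cfsg.fittingHallOf M) ⊥ := by
  obtain ⟨hirr, h0, hh, hne⟩ := h
  refine ⟨⟨θ, hirr, fun e => hne (by rw [e]), fun a ha => ?_, rfl⟩, ?_⟩
  · have : a = 1 := by
      refine Subtype.ext (Subtype.ext ?_)
      simpa [Subgroup.mem_subgroupOf] using ha
    rw [this]
  · rintro ⟨θ', hirr', -, hker, e⟩
    haveI : (dK M).Normal := derived_subgroupOf_normal M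
    obtain ⟨x, hx⟩ := conjChar_of_indFun_eq (derived_subgroupOf_normal M) hirr hirr' e
    refine hne ?_
    rw [← hx, conjChar_apply_one]
    exact hker _ ((fittingHallOf_subgroupOf_normal M).conj_mem _ hh x)

theorem rel_of_ti (ti : TIData M W₁ W₂ μ δ η) (hP : Cfsg.IsTypePWith M W₁ U W₂) {ν : ↥(W₁ ⊔ W₂) →* ℂˣ}
    (hν : ¬ AgreeR W₁ W₂ ν 1) : RelChar (dN M) (resD M (μ ν)) := by
  refine ⟨ti.res_irr ν, ?_⟩
  by_contra hall
  push Not at hall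
  obtain ⟨hW₁M, hdM, hHd, hW₂H, hWM⟩ := typeP_le hP
  have hW := hP.selfNormalizing
  refine hν fun w hw => ?_
  obtain ⟨a, ha, ha1⟩ := (Subgroup.bot_or_exists_ne_one W₁).resolve_left hW.1
  have hwM : (w : G) ∈ M := hWM w.2
  have hwK : (w : G) ∈ (⁅M, M⁆ : Subgroup G) := hHd (hW₂H hw)
  have h2 : μ ν ⟨w, hwM⟩ = μ ν 1 :=
    hall ⟨⟨(w : G), hwM⟩, hwK⟩ (show (w : G) ∈ Cfsg.fittingHallOf M from hW₂H hw)
  have h4 := char_translate (isCharacter_of_irr (ti.μ_irr ν)) h2 ⟨a, hW₁M ha⟩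
  have ha0 : a ∈ W₁ ⊔ W₂ := Subgroup.mem_sup_left ha
  have ha20 : a ∉ W₂ := fun hh => ha1 (Subgroup.mem_bot.mp (hW.2.2.1.le ⟨ha, hh⟩))
  have ha' : a * (w : G) ∈ W₁ ⊔ W₂ := Subgroup.mul_mem _ ha0 w.2
  have ha2' : a * (w : G) ∉ W₂ := fun hh => ha20 (by
    have := W₂.mul_mem hh (W₂.inv_mem hw)
    rwa [mul_inv_cancel_right] at this)
  change μ ν (⟨a, hW₁M ha⟩ * ⟨(w : G), hwM⟩) = μ ν ⟨a, hW₁M ha⟩ at h4
  rw [ti.μ_value ν _ ha' ha2', ti.μ_value ν _ ha0 ha20] at h4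
  have hδ0 : δ ν ≠ 0 := by rcases ti.δ_sign ν with r | r <;> simp [r]
  have h5 := mul_left_cancel₀ hδ0 h4
  change (ν ((⟨a, ha0⟩ : ↥(W₁ ⊔ W₂)) * w) : ℂ) = (ν ⟨a, ha0⟩ : ℂ) at h5
  rw [map_mul, Units.val_mul, mul_eq_left₀ (Units.ne_zero _), Units.val_eq_one] at h5
  rw [h5, MonoidHom.one_apply]

theorem SideCtx.red_mem_rel (h : SideCtx M W₁ U W₂ μ δ η d) {ν : ↥(W₁ ⊔ W₂) →* ℂˣ}
    (hν : ¬ AgreeR W₁ W₂ ν 1) : RelChar (dN M) (resD M (μ ν)) :=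
  rel_of_ti h.ti h.data hν

theorem SideCtx.red_mem (h : SideCtx M W₁ U W₂ μ δ η d) {ν : ↥(W₁ ⊔ W₂) →* ℂˣ}
    (hν : ¬ AgreeR W₁ W₂ ν 1) : red M μ ν ∈ calS M (Cfsg.fittingHallOf M) ⊥ :=
  mem_calS_of_rel (h.red_mem_rel hν)

theorem red_congr (h : TIData M W₁ W₂ μ δ η) {ν ν' : ↥(W₁ ⊔ W₂) →* ℂˣ}
    (e : AgreeR W₁ W₂ ν ν') : red M μ ν = red M μ ν' := by
  rw [red, red, h.res_eq _ _ e]

theorem colSum_congr {ν ν' : ↥(W₁ ⊔ W₂) →* ℂˣ} (e : AgreeR W₁ W₂ ν ν') :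
    colSum η ν = colSum η ν' := by
  have : {x | AgreeR W₁ W₂ ν x} = {x | AgreeR W₁ W₂ ν' x} :=
    Set.ext fun x => ⟨fun hx => e.symm.trans hx, fun hx => e.trans hx⟩
  rw [colSum, colSum, this]

theorem agreeR_of_red_eq (h : TIData M W₁ W₂ μ δ η) (hW : Cfsg.IsSelfNormalizingCyclic W₁ W₂)
    {ν ν' : ↥(W₁ ⊔ W₂) →* ℂˣ} (e : red M μ ν = red M μ ν') : AgreeR W₁ W₂ ν ν' := by
  by_contra hne
  have h1 := congrArg (fun f => Cfsg.classInner f (μ ν')) e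
  simp only [h.classInner_red_μ hW, if_neg hne, if_pos (AgreeR.refl ν')] at h1
  exact zero_ne_one h1

theorem not_agreeR_one_inv {ν : ↥(W₁ ⊔ W₂) →* ℂˣ} (hν : ¬ AgreeR W₁ W₂ ν 1) :
    ¬ AgreeR W₁ W₂ ν⁻¹ 1 := fun e => hν (by
  have e' := e.inv
  rwa [linInv, linInv_one] at e')

theorem SideCtx.red_not_irr (h : SideCtx M W₁ U W₂ μ δ η d) (ν : ↥(W₁ ⊔ W₂) →* ℂˣ) :
    ¬ Cfsg.IsIrrCharacter ↥M (red M μ ν) := by
  intro hi
  have h1 := classInner_irr_self hi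
  rw [h.ti.classInner_red_red h.data.selfNormalizing, if_pos (AgreeR.refl ν)] at h1
  have h3 := (three_le_card h.data.selfNormalizing (odd_W h.minSimple h.data)).1
  have : Nat.card W₁ = 1 := by exact_mod_cast h1
  omega

theorem SideCtx.δ_eq (h : SideCtx M W₁ U W₂ μ δ η d) {ν ν' : ↥(W₁ ⊔ W₂) →* ℂˣ}
    (hν : ¬ AgreeR W₁ W₂ ν 1) (hν' : ¬ AgreeR W₁ W₂ ν' 1) : δ ν = δ ν' := by
  have hW := h.data.selfNormalizing
  obtain ⟨φ, ψ, hφ, hψ, e⟩ := exists_trivR_mul_trivL hW.2.2.1 hW.2.2.2.1 ν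
  obtain ⟨φ', ψ', hφ', hψ', e'⟩ := exists_trivR_mul_trivL hW.2.2.1 hW.2.2.2.1 ν'
  have a1 : AgreeR W₁ W₂ ν ψ := fun w hw => by rw [← e, MonoidHom.mul_apply, hφ w hw, one_mul]
  have a2 : AgreeR W₁ W₂ ν' ψ' := fun w hw => by rw [← e', MonoidHom.mul_apply, hφ' w hw, one_mul]
  have n1 : ¬ AgreeR W₁ W₂ ψ 1 := fun r => hν (a1.trans r)
  have n2 : ¬ AgreeR W₁ W₂ ψ' 1 := fun r => hν' (a2.trans r)
  rw [h.ti.δ_col _ _ a1, h.ti.δ_col _ _ a2,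
    (h.ti.tau_row ψ ψ' (fun w hw => by rw [hψ w hw, hψ' w hw]) n1 n2
      (by rw [h.deg _ n1, h.deg _ n2])).1]

theorem SideCtx.exists_col (h : SideCtx M W₁ U W₂ μ δ η d) :
    ∃ ν : ↥(W₁ ⊔ W₂) →* ℂˣ, ¬ AgreeR W₁ W₂ ν 1 := by
  have hW := h.data.selfNormalizing
  haveI := finite_linChar hW
  haveI : Nontrivial {ψ : ↥(W₁ ⊔ W₂) →* ℂˣ // TrivL ψ} :=
    Finite.one_lt_card_iff_nontrivial.mp (by rw [card_trivL hW]; exact h.prime.one_lt)
  obtain ⟨⟨ψ, hψ⟩, hne⟩ :=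
    exists_ne (⟨1, fun w _ => rfl⟩ : {ψ : ↥(W₁ ⊔ W₂) →* ℂˣ // TrivL ψ})
  exact ⟨ψ, fun hag => hne (Subtype.ext
    (eq_one_of_trivR_trivL hW.2.2.1 hW.2.2.2.1 (fun w hw => hag w hw) hψ))⟩

theorem inner_η_colSum (h : TIData M W₁ W₂ μ δ η) (hW : Cfsg.IsSelfNormalizingCyclic W₁ W₂)
    (ν ω : ↥(W₁ ⊔ W₂) →* ℂˣ) :
    Cfsg.classInner (η ν) (colSum η ω) = if AgreeR W₁ W₂ ω ν then 1 else 0 := by
  rw [classInner_conj_symm, h.classInner_colSum_η hW]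
  split_ifs <;> simp

/-- The coefficients, uniformly. -/
theorem SideCtx.exists_coeff (h : SideCtx M W₁ U W₂ μ δ η d) :
    ∃ τ₁ : (↥M → ℂ) → (G → ℂ),
      Cfsg.IsLinearIsometryOn (Cfsg.zspan (calS M (Cfsg.fittingHallOf M) ⊥)) τ₁ ∧
      (∀ α ∈ Cfsg.zspanOn (calS M (Cfsg.fittingHallOf M) ⊥) {1}ᶜ, τ₁ α = tau M α) ∧
      ∃ (ε : ℤ) (c : (↥(W₁ ⊔ W₂) →* ℂˣ) → (↥(W₁ ⊔ W₂) →* ℂˣ)),
        (ε = 1 ∨ ε = -1) ∧ (c = (fun ν => ν) ∨ c = (fun ν => ν⁻¹)) ∧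
        ∀ ν, ∃ kk : ℂ, ∀ χ ∈ calS M (Cfsg.fittingHallOf M) ⊥,
          Cfsg.classInner (η ν) (τ₁ χ) =
            (if ¬ AgreeR W₁ W₂ ν 1 ∧ χ = red M μ (c ν) then (ε : ℂ) else 0) + kk * χ 1 := by
  obtain ⟨-, τ₁, hiso, hext⟩ := h.coh
  refine ⟨τ₁, hiso, hext, ?_⟩
  set T := calS M (Cfsg.fittingHallOf M) ⊥ with hTdef
  obtain ⟨R, hsys, hirr, hredR⟩ := h.subcoh M W₁ U W₂ h.max h.data μ δ η h.ti
  have hW := h.data.selfNormalizing
  have hcore := fittingHall_le_typeCore h.data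
  have hsub : T ⊆ calS M (Cfsg.typeCore M) ⊥ := by
    rintro χ ⟨hχ, hnot⟩
    refine ⟨hχ, fun hin => hnot ?_⟩
    obtain ⟨θ, hθ, h1, hker, rfl⟩ := hin
    exact ⟨θ, hθ, h1, fun a ha => hker a (hcore ha), rfl⟩
  have hclosed : ∀ χ ∈ T, Cfsg.conjFun χ ∈ T := by
    intro χ hχ
    obtain ⟨θ, hθ, rfl⟩ := exists_of_mem_calS hχ
    rw [conjFun_indFun]
    obtain ⟨hi, a, ha, hne⟩ := hθ
    refine mem_calS_of_rel ⟨conjFun_irr hi, a, ha, fun e => hne ?_⟩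
    exact (starRingEnd ℂ).injective e
  have hc : CoherentPart M W₁ W₂ μ δ η R T τ₁ :=
    ⟨hsys, hirr, hredR, hsub, hclosed, hiso, hext⟩
  obtain ⟨ν₁, hν₁⟩ := h.exists_col
  obtain ⟨δz, hδz, hδzc⟩ : ∃ δz : ℤ, (δz = 1 ∨ δz = -1) ∧ (δz : ℂ) = δ ν₁ := by
    rcases h.ti.δ_sign ν₁ with r | r
    · exact ⟨1, Or.inl rfl, by simp [r]⟩
    · exact ⟨-1, Or.inr rfl, by simp [r]⟩
  have hδ : ∀ ν, ¬ AgreeR W₁ W₂ ν 1 → δ ν = (δz : ℂ) := fun ν hν => by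
    rw [hδzc]; exact h.δ_eq hν hν₁
  have hδconj : ∀ ν, conj (δ ν) = δ ν := fun ν => by
    rcases h.ti.δ_sign ν with r | r <;> rw [r] <;> simp
  have hδne : ∀ ν, δ ν ≠ 0 := fun ν => by rcases h.ti.δ_sign ν with r | r <;> rw [r] <;> simp
  -- irreducible members and the columns of the others
  have hirr0 : ∀ χ ∈ T, Cfsg.IsIrrCharacter ↥M χ → ∀ ν, Cfsg.classInner (η ν) (τ₁ χ) = 0 := by
    intro χ hχ hi ν
    rw [classInner_conj_symm, hc.inner_tau1_zero h.ti hχ fun ω _ e => absurd (e ▸ hi) (h.red_not_irr ω),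
      map_zero]
  by_cases hfur : ∀ ν, ¬ AgreeR W₁ W₂ ν 1 → ∃ ψ ∈ T, ψ ≠ red M μ ν ∧ ψ ≠ red M μ ν⁻¹
  · have hdich : ∀ ν, ¬ AgreeR W₁ W₂ ν 1 →
        τ₁ (red M μ ν) = δ ν • colSum η ν ∨ τ₁ (red M μ ν) = -(δ ν • colSum η ν⁻¹) := fun ν hν => by
      obtain ⟨ψ, hψ, h1, h2⟩ := hfur ν hν
      exact hc.tau1_red h.ti h.minSimple h.types h.dadeProp h.max h.data hν (h.red_mem hν) hψ h1 h2
    by_cases hall : ∀ ν, ¬ AgreeR W₁ W₂ ν 1 → τ₁ (red M μ ν) = δ ν • colSum η ν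
    · refine ⟨δz, fun ν => ν, hδz, Or.inl rfl, fun ν => ⟨0, fun χ hχ => ?_⟩⟩
      rw [zero_mul, add_zero]
      rcases mem_calS_cases h.ti hχ with hi | ⟨ω, hω, rfl⟩
      · rw [hirr0 χ hχ hi, if_neg fun (e : ¬ AgreeR W₁ W₂ ν 1 ∧ χ = red M μ ν) =>
          h.red_not_irr ν (e.2 ▸ hi)]
      · rw [hall ω hω, classInner_smul_right, hδconj, inner_η_colSum h.ti hW]
        by_cases hag : AgreeR W₁ W₂ ω ν
        · rw [if_pos hag, if_pos ⟨fun r => hω (hag.trans r), red_congr h.ti hag⟩, mul_one, hδ ω hω]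
        · rw [if_neg hag, if_neg fun e => hag (agreeR_of_red_eq h.ti hW e.2), mul_zero]
    · push Not at hall
      obtain ⟨ν₀, hν₀, hnf⟩ := hall
      have hsec₀ := (hdich ν₀ hν₀).resolve_left hnf
      have hν₀' := not_agreeR_one_inv hν₀
      have hcols : ∀ ν, ¬ AgreeR W₁ W₂ ν 1 → AgreeR W₁ W₂ ν₀ ν ∨ AgreeR W₁ W₂ ν₀⁻¹ ν := by
        intro ν hν
        by_contra hcon
        rw [not_or] at hcon
        exact hnf (hc.tau1_red_pos h.ti h.minSimple h.types h.dadeProp h.max h.data hν₀ hν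
          (h.red_mem hν₀) (h.red_mem hν) hcon.1 hcon.2 (by rw [h.deg _ hν₀, h.deg _ hν]))
      have hne : ¬ AgreeR W₁ W₂ ν₀ ν₀⁻¹ := fun e =>
        hν₀ (agreeR_self_inv (odd_W h.minSimple h.data) e)
      have hsec₁ : τ₁ (red M μ ν₀⁻¹) = -(δ ν₀⁻¹ • colSum η ν₀) := by
        rcases hdich ν₀⁻¹ hν₀' with r | r
        · exfalso
          have horth : Cfsg.classInner (τ₁ (red M μ ν₀)) (τ₁ (red M μ ν₀⁻¹)) = 0 := by
            rw [hiso.2.2.1 _ (zspan_of_mem (h.red_mem hν₀)) _ (zspan_of_mem (h.red_mem hν₀')),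
              h.ti.classInner_red_red hW, if_neg hne]
          rw [hsec₀, r, classInner_neg_left, classInner_smul_left, classInner_smul_right,
            h.ti.classInner_colSum_colSum hW, if_pos (AgreeR.refl _), neg_eq_zero, hδconj] at horth
          simp [hδne, Nat.card_pos.ne'] at horth
        · rwa [linInv] at r
      have hsec : ∀ ν, ¬ AgreeR W₁ W₂ ν 1 → τ₁ (red M μ ν) = -(δ ν • colSum η ν⁻¹) := by
        intro ν hν
        rcases hcols ν hν with e | e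
        · rw [← red_congr h.ti e, hsec₀, ← h.ti.δ_col _ _ e, colSum_congr e.inv]
        · have e' := e.inv
          rw [linInv] at e'
          rw [← red_congr h.ti e, hsec₁, ← h.ti.δ_col _ _ e, colSum_congr e']
      refine ⟨-δz, fun ν => ν⁻¹, by omega, Or.inr rfl, fun ν => ⟨0, fun χ hχ => ?_⟩⟩
      rw [zero_mul, add_zero]
      rcases mem_calS_cases h.ti hχ with hi | ⟨ω, hω, rfl⟩
      · rw [hirr0 χ hχ hi, if_neg fun (e : ¬ AgreeR W₁ W₂ ν 1 ∧ χ = red M μ ν⁻¹) =>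
          h.red_not_irr ν⁻¹ (e.2 ▸ hi)]
      · rw [hsec ω hω, classInner_neg_right, classInner_smul_right, hδconj, inner_η_colSum h.ti hW]
        by_cases hag : AgreeR W₁ W₂ ω⁻¹ ν
        · have hag' := hag.inv
          rw [linInv] at hag'
          rw [if_pos hag, if_pos ⟨fun r => not_agreeR_one_inv hω (hag.trans r), red_congr h.ti hag'⟩,
            mul_one, hδ ω hω, Int.cast_neg]
        · have : ¬ AgreeR W₁ W₂ ω ν⁻¹ := fun r => hag (by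
            have := r.inv; rwa [linInv] at this)
          rw [if_neg hag, if_neg fun e => this (agreeR_of_red_eq h.ti hW e.2), mul_zero, neg_zero]
  · push Not at hfur
    obtain ⟨ν₀, hν₀, honly⟩ := hfur
    have honly' : ∀ χ ∈ T, χ = red M μ ν₀ ∨ χ = red M μ ν₀⁻¹ := fun χ hχ => by
      by_cases e : χ = red M μ ν₀
      · exact Or.inl e
      · exact Or.inr (honly χ hχ e)
    have hν₀' := not_agreeR_one_inv hν₀
    have hne : ¬ AgreeR W₁ W₂ ν₀ ν₀⁻¹ := fun e =>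
      hν₀ (agreeR_self_inv (odd_W h.minSimple h.data) e)
    set χ₀ := red M μ ν₀ with hχ₀
    have hχ₀T : χ₀ ∈ T := h.red_mem hν₀
    have hconj : Cfsg.conjFun χ₀ = red M μ ν₀⁻¹ := h.ti.conj_red hW ν₀
    have hdiff : τ₁ χ₀ - τ₁ (red M μ ν₀⁻¹) = ∑ α ∈ R χ₀, α := by
      have hd : χ₀ - Cfsg.conjFun χ₀ ∈ Cfsg.zspanOn T {1}ᶜ :=
        ⟨zspan_sub (zspan_of_mem hχ₀T) (zspan_of_mem (hclosed _ hχ₀T)),
          (sys_sub_conj_mem hsys (hsub hχ₀T)).2⟩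
      rw [← hsys.sum_eq χ₀ (hsub hχ₀T), ← hext _ hd, isometry_sub hiso (zspan_of_mem hχ₀T)
        (zspan_of_mem (hclosed _ hχ₀T)) hd.1, hconj]
    have hcoef : ∀ ν, Cfsg.classInner (η ν) (τ₁ χ₀) - Cfsg.classInner (η ν) (τ₁ (red M μ ν₀⁻¹)) =
        (if AgreeR W₁ W₂ ν₀ ν then δ ν₀ else 0) - (if AgreeR W₁ W₂ ν₀⁻¹ ν then δ ν₀ else 0) := by
      intro ν
      rw [← classInner_sub_right, hdiff, classInner_sum_right]
      have hzero : ∀ α ∈ R χ₀, ∀ β ∈ R χ₀, β = δ ν₀ • η ν ∨ β = -(δ ν₀ • η ν) → α ≠ β →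
          Cfsg.classInner (η ν) α = 0 := by
        intro α hα β hβ hor hne'
        have hz := hsys.orthonormal χ₀ (hsub hχ₀T) β hβ α hα
        rw [if_neg (fun e => hne' e.symm)] at hz
        rcases hor with r | r <;> rw [r] at hz <;>
          simp [classInner_neg_left, classInner_smul_left, hδne] at hz <;> exact hz
      by_cases h1 : AgreeR W₁ W₂ ν₀ ν
      · have h2 : ¬ AgreeR W₁ W₂ ν₀⁻¹ ν := fun r => hne (h1.trans r.symm)
        have hmem : δ ν₀ • η ν ∈ R χ₀ := (hredR ν₀ hν₀ _).mpr ⟨ν, h1, Or.inl rfl⟩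
        rw [if_pos h1, if_neg h2, sub_zero, Finset.sum_eq_single _
          (fun α hα hne' => hzero α hα _ hmem (Or.inl rfl) hne') (fun hn => absurd hmem hn),
          classInner_smul_right, hδconj, h.ti.family.orthonormal, if_pos rfl, mul_one]
      by_cases h2 : AgreeR W₁ W₂ ν₀⁻¹ ν
      · have h2' := h2.inv
        rw [linInv] at h2'
        have hmem : -(δ ν₀ • η ν) ∈ R χ₀ :=
          (hredR ν₀ hν₀ _).mpr ⟨ν⁻¹, h2', Or.inr (by rw [linInv])⟩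
        rw [if_neg h1, if_pos h2, Finset.sum_eq_single _
          (fun α hα hne' => hzero α hα _ hmem (Or.inr rfl) hne') (fun hn => absurd hmem hn),
          classInner_neg_right, classInner_smul_right, hδconj, h.ti.family.orthonormal, if_pos rfl,
          mul_one, zero_sub]
      · rw [if_neg h1, if_neg h2, sub_zero]
        refine Finset.sum_eq_zero fun α hα => ?_
        obtain ⟨ω', hag, r | r⟩ := (hredR ν₀ hν₀ α).mp hα <;> subst r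
        · rw [classInner_smul_right, h.ti.family.orthonormal, if_neg, mul_zero]
          rintro rfl
          exact h1 hag
        · rw [classInner_neg_right, classInner_smul_right, h.ti.family.orthonormal, if_neg, mul_zero,
            neg_zero]
          rintro rfl
          exact h2 hag.inv
    have hdeg₀ : χ₀ 1 = red M μ ν₀⁻¹ 1 := by
      rw [hχ₀, red, red, CfsgLib.Induction.indFun_one_apply, CfsgLib.Induction.indFun_one_apply]
      show _ * μ ν₀ 1 = _ * μ ν₀⁻¹ 1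
      rw [h.deg _ hν₀, h.deg _ hν₀']
    have hdeg0 : χ₀ 1 ≠ 0 := fun e => sys_ne_zero hsys (hsub hχ₀T)
      (CfsgLib.NormalAvg.eq_zero_of_degree_zero (hsys.isCharacter _ (hsub hχ₀T)) e)
    have hχne : χ₀ ≠ red M μ ν₀⁻¹ := fun e => hne (agreeR_of_red_eq h.ti hW e)
    refine ⟨δz, fun ν => ν, hδz, Or.inl rfl, fun ν => ?_⟩
    have hc' := hcoef ν
    by_cases h1 : AgreeR W₁ W₂ ν₀ ν
    · have hn : ¬ AgreeR W₁ W₂ ν 1 := fun r => hν₀ (h1.trans r)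
      have h2 : ¬ AgreeR W₁ W₂ ν₀⁻¹ ν := fun r => hne (h1.trans r.symm)
      rw [if_pos h1, if_neg h2, sub_zero, hδ ν₀ hν₀] at hc'
      refine ⟨Cfsg.classInner (η ν) (τ₁ (red M μ ν₀⁻¹)) / χ₀ 1, fun χ hχ => ?_⟩
      rcases honly' χ hχ with rfl | rfl
      · rw [if_pos ⟨hn, red_congr h.ti h1⟩, div_mul_cancel₀ _ hdeg0]
        linear_combination hc'
      · rw [if_neg fun e => hχne ((red_congr h.ti h1).trans e.2.symm), ← hdeg₀,
          div_mul_cancel₀ _ hdeg0, zero_add]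
    by_cases h2 : AgreeR W₁ W₂ ν₀⁻¹ ν
    · have hn : ¬ AgreeR W₁ W₂ ν 1 := fun r => hν₀' (h2.trans r)
      rw [if_neg h1, if_pos h2, zero_sub, hδ ν₀ hν₀] at hc'
      refine ⟨Cfsg.classInner (η ν) (τ₁ χ₀) / χ₀ 1, fun χ hχ => ?_⟩
      rcases honly' χ hχ with rfl | rfl
      · rw [if_neg fun e => hχne (e.2.trans (red_congr h.ti h2).symm), div_mul_cancel₀ _ hdeg0,
          zero_add]
      · rw [if_pos ⟨hn, red_congr h.ti h2⟩, ← hdeg₀, div_mul_cancel₀ _ hdeg0]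
        linear_combination -hc'
    · rw [if_neg h1, if_neg h2, sub_zero, sub_eq_zero] at hc'
      refine ⟨Cfsg.classInner (η ν) (τ₁ χ₀) / χ₀ 1, fun χ hχ => ?_⟩
      rcases honly' χ hχ with rfl | rfl
      · rw [if_neg fun e => h1 (agreeR_of_red_eq h.ti hW e.2), div_mul_cancel₀ _ hdeg0, zero_add]
      · rw [if_neg fun e => h2 (agreeR_of_red_eq h.ti hW e.2), ← hdeg₀, div_mul_cancel₀ _ hdeg0,
          zero_add, hc']

end CfsgLib.PF.Sec13Reg
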