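import Cfsg.Agent.Lib.PF.Sec13RegCount

/-!
# The counting inequality for the two sides of a pair
-/

set_option autoImplicit false
set_option linter.style.haveILetI false
set_option linter.unusedSectionVars false

namespace CfsgLib.PF.Sec13Reg

open scoped Classical ComplexConjugate
open Finset CfsgLib.Characters CfsgLib.OddChar

universe u

variable {G : Type u} [Group G] [Fintype G]

theorem sum_normSq_eq_of_inner {f : G → ℂ} {n : ℕ} (h : Cfsg.classInner f f = (n : ℂ)) :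
    ∑ g : G, Complex.normSq (f g) = (n : ℝ) * (Nat.card G : ℝ) := by
  rw [Cfsg.classInner, inv_mul_eq_iff_eq_mul₀ (Nat.cast_ne_zero.mpr Nat.card_pos.ne')] at h
  refine Complex.ofReal_injective ?_
  push_cast
  rw [Finset.sum_congr rfl fun g _ => (Complex.mul_conj (f g)).symm, h, mul_comm]

variable {S T W₁ W₂ U V : Subgroup G}

/-- The count for a pair, with `u`, `v` the degrees of the column characters. -/
theorem pair_count
    {μ : (↥(W₁ ⊔ W₂) →* ℂˣ) → (↥S → ℂ)} {δ : (↥(W₁ ⊔ W₂) →* ℂˣ) → ℂ}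
    {η : (↥(W₁ ⊔ W₂) →* ℂˣ) → (G → ℂ)} {μ' : (↥(W₂ ⊔ W₁) →* ℂˣ) → (↥T → ℂ)}
    {δ' : (↥(W₂ ⊔ W₁) →* ℂˣ) → ℂ} {η' : (↥(W₂ ⊔ W₁) →* ℂˣ) → (G → ℂ)} {u v : ℕ}
    (hS : SideCtx S W₁ U W₂ μ δ η u) (hT : SideCtx T W₂ V W₁ μ' δ' η' v)
    (hQ : Cfsg.IsElementaryAbelian (Nat.card W₁) (Cfsg.fittingHallOf T))
    (hv : ((Nat.card W₁ : ℝ) - 1) * v ≤ (Nat.card (Cfsg.fittingHallOf T) : ℝ) - 1) :
    ((Nat.card ↥⁅S, S⁆ : ℝ) * (Nat.card W₁ : ℝ) ^ 2 -
        (Nat.card W₁ : ℝ) ^ 2 * (u : ℝ) ^ 2 -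
        4 / 3 * ((Nat.card W₁ : ℝ) * u) ^ 2 / ((Nat.card (Cfsg.fittingHallOf S) : ℝ) - 1) -
        2 * ((Nat.card W₁ : ℝ) * u)) / (Nat.card S : ℝ) +
      ((Nat.card ↥⁅T, T⁆ : ℝ) * (Nat.card W₁ : ℝ) -
        (((Nat.card W₁ : ℝ) - 1) ^ 2 + 1) * (v : ℝ) ^ 2 - 2 * (Nat.card W₁ : ℝ) * v) /
        (Nat.card T : ℝ) ≤ (Nat.card W₁ : ℝ) := by
  have hW := hS.data.selfNormalizing
  have hW' := hT.data.selfNormalizing
  obtain ⟨-, -, hdisj, hcomm, -, -⟩ := id hW
  obtain ⟨hW₁S, hdS, hHS, hW₂S, hWS⟩ := typeP_le hS.data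
  obtain ⟨hW₂T, hdT, hHT, hW₁T, hWT⟩ := typeP_le hT.data
  have hodd := odd_W hS.minSimple hS.data
  have hodd' := odd_W hT.minSimple hT.data
  set q := Nat.card W₁ with hqdef
  have hqp : q.Prime := hT.prime
  haveI : NeZero (Nat.card G) := ⟨Nat.card_pos.ne'⟩
  haveI := finite_linChar hW
  haveI := Fintype.ofFinite (↥(W₁ ⊔ W₂) →* ℂˣ)
  set e := (swapW W₁ W₂).toMonoidHom with he
  let Row := {φ : ↥(W₁ ⊔ W₂) →* ℂˣ // TrivR φ}
  let one : Row := ⟨1, fun _ _ => rfl⟩
  let κ := {x : Row // x ≠ one}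
  have hκ : Fintype.card κ + 1 = q := by
    rw [Fintype.card_subtype_compl, Fintype.card_subtype_eq, Nat.sub_add_cancel
      (Fintype.card_pos_iff.mpr ⟨one⟩), ← Nat.card_eq_fintype_card, card_trivR hW]
  haveI : Nonempty κ := Fintype.card_pos_iff.mp (by have := hqp.two_le; omega)
  let j0 : κ := Classical.arbitrary κ
  set φ : ↥(W₁ ⊔ W₂) →* ℂˣ := j0.1.1 with hφdef
  obtain ⟨ψ, hψ, hψn⟩ : ∃ ψ : ↥(W₁ ⊔ W₂) →* ℂˣ, TrivL ψ ∧ ¬ AgreeR W₁ W₂ ψ 1 := by
    obtain ⟨ν, hν⟩ := hS.exists_col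
    obtain ⟨a, b, ha, hb, rfl⟩ := exists_trivR_mul_trivL hdisj hcomm ν
    exact ⟨b, hb, fun r => hν fun w hw => by rw [MonoidHom.mul_apply, ha w hw, one_mul, r w hw]⟩
  have hψ1 : ψ ≠ 1 := fun r => hψn (by rw [r]; exact AgreeR.refl 1)
  have hjag : ∀ j : κ, AgreeR W₁ W₂ j.1.1 1 := fun j w hw => by
    rw [j.1.2 w hw, MonoidHom.one_apply]
  have hjn : ∀ j : κ, ¬ AgreeR W₂ W₁ (j.1.1.comp e) 1 := by
    intro j r
    refine j.2 (Subtype.ext (eq_one_of_trivR_trivL hdisj hcomm j.1.2 fun w hw => ?_))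
    have := r ((swapW W₁ W₂).symm w) hw
    simpa [e] using this
  have hjinj : ∀ i j : κ, AgreeR W₂ W₁ (i.1.1.comp e) (j.1.1.comp e) → i = j := by
    intro i j r
    refine Subtype.ext (Subtype.ext (trivR_ext hdisj hcomm i.1.2 j.1.2 (MonoidHom.ext fun a => ?_)))
    have := r ((swapW W₁ W₂).symm (ctiL W₁ W₂ a)) a.2
    simpa [e] using this
  have hσex : ∀ j : κ, ∃ σ : ℂ ≃+* ℂ, ∀ g, η j.1.1 g = σ (η φ g) := by
    intro j
    obtain ⟨σ, hσ⟩ := exists_conj_col (W₁ := W₂) (W₂ := W₁) hqp (hjn j0) (hjn j)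
    refine ⟨σ, fun g => ?_⟩
    have hfm := congrFun (family_map hW hodd hS.ti.family σ φ) g
    rw [hfm]
    have htr : TrivR ((Units.map σ.toMonoidHom).comp φ) := fun w hw => by
      rw [MonoidHom.comp_apply, show φ w = 1 from j0.1.2 w hw, map_one]
    have heq : (Units.map σ.toMonoidHom).comp φ = j.1.1 := by
      refine trivR_ext hdisj hcomm htr j.1.2 (MonoidHom.ext fun a => ?_)
      have := hσ ((swapW W₁ W₂).symm (ctiL W₁ W₂ a)) a.2
      simpa [e] using this
    rw [heq]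
  choose σ hσ using hσex
  set A : G → ℂ := fun g => η ψ g + ∑ j : κ, η (j.1.1 * ψ) g with hAdef
  have hηval : ∀ ν, Val (Nat.card G) (η ν) := fun ν =>
    val_signed dvd_rfl (hS.ti.family.irr_or_neg ν)
  have hAval : Val (Nat.card G) A := (hηval ψ).add (Val.sum _ fun j _ => hηval _)
  have hAeq : ∀ g, (∀ y : G, ∀ z ∈ W₁ ⊔ W₂, z ∉ W₁ → z ∉ W₂ → g ≠ y * z * y⁻¹) →
      A g = (q : ℂ) * η ψ g - ((q : ℂ) - 1) + ∑ j : κ, η j.1.1 g := by
    intro g hg
    simp only [hAdef, family_rel hS.ti.family (Subtype.prop _) hψ hg, Finset.sum_sub_distrib,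
      Finset.sum_add_distrib, Finset.sum_const, Finset.card_univ, nsmul_eq_mul, mul_one]
    have hc : (Fintype.card κ : ℂ) = (q : ℂ) - 1 := by rw [← hκ]; push_cast; ring
    rw [hc]
    ring
  have hηc : ∀ ν, Cfsg.IsClassFunction G (η ν) := fun ν =>
    (family_signed hS.ti.family ν).classFunction
  have hAc : Cfsg.IsClassFunction G A := fun g x => by simp only [hAdef, hηc _ g x]
  have hnz : ∀ g, η φ g = 0 → A g ≠ 0 := by
    intro g h0
    by_cases hg : ∀ y : G, ∀ z ∈ W₁ ⊔ W₂, z ∉ W₁ → z ∉ W₂ → g ≠ y * z * y⁻¹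
    · intro hA0
      rw [hAeq g hg, Finset.sum_eq_zero fun j _ => by rw [hσ j g, h0, map_zero], add_zero] at hA0
      exact int_not_mid hqp.two_le _ ((hηval ψ).integral g) hA0
    · push Not at hg
      obtain ⟨y, z, hz, h₁, h₂, rfl⟩ := hg
      rw [hηc φ z y] at h0
      exact absurd ((hS.ti.family.eq_on φ ⟨z, hz⟩ h₁ h₂).symm.trans h0) (Units.ne_zero _)
  have hEn : ∑ g : G, Complex.normSq (η φ g) = (Nat.card G : ℝ) := by
    rw [sum_normSq_eq_of_inner (n := 1) (by rw [hS.ti.family.orthonormal, if_pos rfl, Nat.cast_one]),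
      Nat.cast_one, one_mul]
  have hAn : ∑ g : G, Complex.normSq (A g) = (q : ℝ) * (Nat.card G : ℝ) := by
    refine sum_normSq_eq_of_inner ?_
    have hA' : A = η ψ + ∑ j : κ, η (j.1.1 * ψ) := by
      funext g; simp only [hAdef, Pi.add_apply, Finset.sum_apply]
    have hne : ∀ j : κ, j.1.1 * ψ ≠ ψ := fun j r => j.2 (Subtype.ext (MonoidHom.ext fun w =>
      mul_eq_right.mp (((MonoidHom.mul_apply _ _ w).symm.trans (DFunLike.congr_fun r w)))))
    have hij : ∀ i j : κ, i.1.1 * ψ = j.1.1 * ψ → i = j := fun i j r =>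
      Subtype.ext (Subtype.ext (MonoidHom.ext fun w => mul_right_cancel (((MonoidHom.mul_apply _ _ w).symm.trans
        (DFunLike.congr_fun r w)).trans (MonoidHom.mul_apply _ _ w))))
    rw [hA', classInner_add_left, classInner_add_right, classInner_add_right, classInner_sum_left,
      classInner_sum_left, classInner_sum_right]
    simp only [classInner_sum_right, hS.ti.family.orthonormal]
    have hne' : ∀ j : κ, ψ ≠ j.1.1 * ψ := fun j r => hne j r.symm
    have hiff : ∀ i j : κ, (i.1.1 * ψ = j.1.1 * ψ) = (i = j) := fun i j =>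
      propext ⟨hij i j, fun r => by rw [r]⟩
    simp only [hne, hne', hiff, if_false, if_true, Finset.sum_const_zero, add_zero, zero_add]
    rw [Finset.sum_congr rfl (g := fun _ => (1 : ℂ)) fun i _ =>
      (Finset.sum_eq_single i (fun j _ h => if_neg (Ne.symm h)) (by simp)).trans (if_pos rfl),
      Finset.sum_const, Finset.card_univ, nsmul_eq_mul, mul_one, ← hκ]
    push_cast
    ring
  have hcount := count_ineq (dade_centSupp hS.types hS.max hS.data hS.TI hS.norm)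
    (dade_centSupp hT.types hT.max hT.data hT.TI hT.norm) (fun a ha m hm => centSupp_pow ha hm)
    (fun a ha m hm => centSupp_pow ha hm)
    (disjoint_conj hS.types hS.max hS.data hT.data hS.TI hS.norm hQ) (hηc φ) hAc (hηval φ) hAval
    hnz hEn hAn
  rw [sum_centSupp hdS hHS, sum_centSupp hdT hHT] at hcount
  refine le_trans (add_le_add ?_ ?_) hcount
  · -- the side of `S`
    obtain ⟨ε, Z, hε, hZ, hZinj, hZc, hcc⟩ := hS.family_decomp
    gcongr
    have hvalK : ∀ f : G → ℂ, Val (Nat.card G) f →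
        Val (Nat.card G) (fun x : ↥(dK S) => f ((x : ↥S) : G)) := fun f hf =>
      (hf.comp S.subtype).comp (dK S).subtype
    have hKdvd : Nat.card ↥(dK S) ∣ Nat.card G :=
      (Subgroup.card_subgroup_dvd_card _).trans (Subgroup.card_subgroup_dvd_card _)
    have hN : dN S ≠ ⊥ := fun hb => by
      have := card_dN hdS hHS
      rw [hb, Subgroup.card_bot] at this
      exact hS.prime.ne_one (Nat.eq_one_of_dvd_one (this ▸ Subgroup.card_dvd_of_le hW₂S))
    have hrel : ∀ x : ↥(dK S), A ((x : ↥S) : G) = (q : ℂ) * η ψ ((x : ↥S) : G) - ((q : ℂ) - 1) +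
        ∑ j : κ, η j.1.1 ((x : ↥S) : G) := fun x => hAeq _ (not_conj_hat hW
      (orderOf_dvd_iff_pow_eq_one.mp (Subgroup.orderOf_dvd_natCard ⁅S, S⁆ x.2))
      (Or.inl (Sec13.coprime_W₁_derived hS.data)))
    obtain ⟨k, l, hkl, hb⟩ := side_bound (ι := Unit) (κ := κ) (Z := fun _ => Z ψ) hKdvd hN
      (fun _ => (hZ ψ hψn).1) (fun a b _ => Subsingleton.elim a b) (fun _ => (hZ ψ hψn).2) hqp.two_le
      hκ (hvalK _ (hηval φ)) (hvalK _ (hηval ψ)) (hvalK _ hAval)
      (Ej := fun j (x : ↥(dK S)) => η j.1.1 ((x : ↥S) : G)) (fun j x => hσ j _) hrel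
      (c := fun _ => 0) (e := fun _ => ε) (d := fun _ => (q : ℤ) * ε) (cj := fun _ _ => 0)
      (fun _ => rfl) (fun _ => by simp)
      (by convert hcc φ using 1; funext x; simp [comb, if_pos (hjag j0), hφdef])
      (by convert hcc ψ using 1; funext x; simp [comb, if_neg hψn])
      (fun j => by convert hcc j.1.1 using 1; funext x; simp [comb, if_pos (hjag j)])
    refine le_trans ?_ hb
    have hn : (0 : ℝ) < (Nat.card (Cfsg.fittingHallOf S) : ℝ) - 1 := by
      rw [sub_pos, Nat.one_lt_cast, ← card_dN hdS hHS]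
      exact (Subgroup.one_lt_card_iff_ne_bot _).mpr hN
    have hεr : |(ε : ℝ)| ≤ 1 := by rcases hε with r | r <;> simp [r]
    have hbr := bracket_one hn (mul_nonneg (Nat.cast_nonneg q) (Nat.cast_nonneg u)) hkl (ε : ℝ) hεr
    rw [card_dK hdS, card_dN hdS hHS]
    have hε2 : (ε : ℝ) ^ 2 = 1 := by rcases hε with r | r <;> simp [r]
    simp only [Finset.univ_unique, Finset.sum_singleton]
    push_cast
    simp only [mul_pow, hε2, mul_one] at hbr ⊢
    linarith
  · -- the side of `T`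
    obtain ⟨ε, Z, hε, hZ, hZinj, hZc, hcc⟩ := hT.family_decomp
    gcongr
    have hvalK : ∀ f : G → ℂ, Val (Nat.card G) f →
        Val (Nat.card G) (fun x : ↥(dK T) => f ((x : ↥T) : G)) := fun f hf =>
      (hf.comp T.subtype).comp (dK T).subtype
    have hKdvd : Nat.card ↥(dK T) ∣ Nat.card G :=
      (Subgroup.card_subgroup_dvd_card _).trans (Subgroup.card_subgroup_dvd_card _)
    have hN : dN T ≠ ⊥ := fun hb => by
      have := card_dN hdT hHT
      rw [hb, Subgroup.card_bot] at this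
      exact hqp.ne_one (Nat.eq_one_of_dvd_one (this ▸ Subgroup.card_dvd_of_le hW₁T))
    have hrel : ∀ x : ↥(dK T), A ((x : ↥T) : G) = (q : ℂ) * η ψ ((x : ↥T) : G) - ((q : ℂ) - 1) +
        ∑ j : κ, η j.1.1 ((x : ↥T) : G) := fun x => hAeq _ (not_conj_hat hW
      (orderOf_dvd_iff_pow_eq_one.mp (Subgroup.orderOf_dvd_natCard ⁅T, T⁆ x.2))
      (Or.inr (Sec13.coprime_W₁_derived hT.data)))
    have hsw : ∀ ν, η' (ν.comp e) = η ν := fun ν =>
      family_swap hS.ti.family hW' hodd' hT.ti.family ν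
    have hψag : AgreeR W₂ W₁ (ψ.comp e) 1 := fun w hw => by
      rw [MonoidHom.comp_apply, MonoidHom.one_apply, hψ _ hw]
    obtain ⟨k, l, hkl, hb⟩ := side_bound (ι := κ) (κ := κ) (Z := fun j => Z (j.1.1.comp e)) hKdvd hN
      (fun j => (hZ _ (hjn j)).1)
      (fun i j r => hjinj i j (hZinj _ _ (hjn i) r)) (fun j => (hZ _ (hjn j)).2) hqp.two_le
      hκ (hvalK _ (hηval φ)) (hvalK _ (hηval ψ)) (hvalK _ hAval)
      (Ej := fun j (x : ↥(dK T)) => η j.1.1 ((x : ↥T) : G)) (fun j x => hσ j _) hrel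
      (c := fun i => if i = j0 then ε else 0) (e := fun _ => 0) (d := fun _ => ε)
      (cj := fun j i => if i = j then ε else 0)
      (fun j => by simp +zetaDelta) (fun i => by simp +zetaDelta)
      (by
        have h1 := hcc (φ.comp e)
        rw [hsw] at h1
        convert h1 using 1
        funext x
        simp only [Pi.sub_apply, comb, if_neg (show ¬ AgreeR W₂ W₁ (φ.comp e) 1 from hjn j0)]
        simp +zetaDelta)
      (by
        have h1 := hcc (ψ.comp e)
        rw [hsw] at h1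
        convert h1 using 1
        funext x
        simp [comb, if_pos hψag])
      (fun j => by
        have h1 := hcc (j.1.1.comp e)
        rw [hsw] at h1
        convert h1 using 1
        funext x
        simp only [Pi.sub_apply, comb, if_neg (hjn j)]
        simp +zetaDelta)
    refine le_trans ?_ hb
    have hεr : |(ε : ℝ)| ≤ 1 := by rcases hε with r | r <;> simp [r]
    have hq2 : (2 : ℝ) ≤ (q : ℝ) := by exact_mod_cast hqp.two_le
    have hbr := bracket_many hq2 (Nat.cast_nonneg v) hv hkl (ε : ℝ) hεr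
    rw [card_dK hdT, card_dN hdT hHT]
    have hε2 : (ε : ℤ) ^ 2 = 1 := by rcases hε with r | r <;> simp [r]
    have hε2' : (ε : ℝ) ^ 2 = 1 := by exact_mod_cast hε2
    have hc : (Fintype.card κ : ℝ) = (q : ℝ) - 1 := by rw [← hκ]; push_cast; ring
    simp only [ite_pow, hε2, zero_pow two_ne_zero, Finset.sum_const, Finset.card_univ, nsmul_eq_mul]
    rw [Finset.sum_eq_single j0 (fun b _ hb => if_neg hb) (by simp), if_pos rfl,
      Finset.sum_eq_single j0 (fun b _ hb => if_neg hb) (by simp), if_pos rfl]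
    push_cast
    simp only [hc, mul_pow, hε2', mul_one]
    linarith

end CfsgLib.PF.Sec13Reg
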