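import Cfsg.Agent.Lib.PF.Sec13RegImages
import Cfsg.Agent.Lib.PF.Sec13Facts

/-!
# The cyclic family on `M'`: column characters plus functions constant on cosets of `M_F`
-/

set_option autoImplicit false
set_option linter.style.haveILetI false
set_option linter.unusedSectionVars false

namespace CfsgLib.PF.Sec13Reg

open scoped Classical ComplexConjugate
open Finset CfsgLib.Characters CfsgLib.OddChar

universe u

variable {G : Type u} [Group G] [Fintype G]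

theorem centralizer_le_of_TI {X : Set G} {M : Subgroup G} (hTI : Cfsg.IsTISubset X)
    (hN : Subgroup.normalizer X = M) {x : G} (hx : x ∈ X) (hx1 : x ≠ 1) :
    Subgroup.centralizer ({x} : Set G) ≤ M := by
  intro c hc
  by_contra hcM
  refine hx1 (hTI c (hN ▸ hcM) x hx ?_)
  rw [Subgroup.mem_centralizer_singleton_iff.mp hc, mul_inv_cancel_right]
  exact hx

theorem centSupp_subset_suppA0 (hT : PropTypes G) {M W₁ U W₂ : Subgroup G} (hM : IsCoatom M)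
    (hP : Cfsg.IsTypePWith M W₁ U W₂) :
    centSupp ⁅M, M⁆ (Cfsg.fittingHallOf M) ⊆ suppA0 M := by
  rintro a ⟨ha, ha1, x, hx, hx1, hc⟩
  refine Or.inl ?_
  rw [suppA_eq_centSupp hT hM hP]
  exact ⟨ha, ha1, x, fittingHall_le_typeCore hP hx, hx1, hc⟩

theorem mem_xSet_iff {M : Subgroup G} (hdM : ⁅M, M⁆ ≤ M) (hHd : Cfsg.fittingHallOf M ≤ ⁅M, M⁆)
    (x : ↥(dK M)) :
    x ∈ xSet (dN M) ↔ ((x : ↥M) : G) ∈ centSupp ⁅M, M⁆ (Cfsg.fittingHallOf M) := by
  rw [mem_xSet]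
  constructor
  · rintro ⟨hx1, h, hh, hh1, hc⟩
    exact ⟨x.2, fun e => hx1 (Subtype.ext (Subtype.ext e)), ((h : ↥M) : G), hh,
      fun e => hh1 (Subtype.ext (Subtype.ext e)), congrArg (fun z : ↥(dK M) => ((z : ↥M) : G)) hc⟩
  · rintro ⟨-, hx1, y, hy, hy1, hc⟩
    refine ⟨fun e => hx1 (by rw [e]; rfl), ⟨⟨y, hdM (hHd hy)⟩, hHd hy⟩, hy,
      fun e => hy1 (congrArg (fun z : ↥(dK M) => ((z : ↥M) : G)) e), Subtype.ext (Subtype.ext hc)⟩

theorem sum_centSupp {M : Subgroup G} (hdM : ⁅M, M⁆ ≤ M) (hHd : Cfsg.fittingHallOf M ≤ ⁅M, M⁆)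
    {R : Type*} [AddCommMonoid R] (F : G → R) :
    ∑ g ∈ univ.filter (· ∈ centSupp ⁅M, M⁆ (Cfsg.fittingHallOf M)), F g =
      ∑ x ∈ xSet (dN M), F ((x : ↥M) : G) := by
  symm
  refine Finset.sum_bij (fun (x : ↥(dK M)) _ => ((x : ↥M) : G)) ?_ ?_ ?_ (fun _ _ => rfl)
  · intro x hx
    simpa using (mem_xSet_iff hdM hHd x).mp hx
  · intro a _ b _ h
    exact Subtype.ext (Subtype.ext h)
  · intro g hg
    have hg' : g ∈ centSupp ⁅M, M⁆ (Cfsg.fittingHallOf M) := by simpa using hg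
    exact ⟨⟨⟨g, hdM hg'.1⟩, hg'.1⟩, (mem_xSet_iff hdM hHd _).mpr hg', rfl⟩

variable {M W₁ U W₂ : Subgroup G} {μ : (↥(W₁ ⊔ W₂) →* ℂˣ) → (↥M → ℂ)}
  {δ : (↥(W₁ ⊔ W₂) →* ℂˣ) → ℂ} {η : (↥(W₁ ⊔ W₂) →* ℂˣ) → (G → ℂ)} {d : ℕ}

/-- Adjointness for differences of induced characters. -/
theorem SideCtx.tau_inner (h : SideCtx M W₁ U W₂ μ δ η d) {α : ↥M → ℂ}
    (hα : Cfsg.IsClassFunction ↥M α)
    (hsupp : ∀ x : ↥M, (x : G) ∉ suppA0 M → α x = 0) {θ : G → ℂ}
    (hθ : Cfsg.IsClassFunction G θ) :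
    Cfsg.classInner (tau M α) θ = Cfsg.classInner α (fun x : ↥M => θ x) := by
  refine dade_adjoint (dade h.types h.dadeProp h.max h.data) hα hsupp hθ fun a ha => ?_
  have hle := centralizer_le_of_TI h.TI h.norm ha
    (fun e => (dade h.types h.dadeProp h.max h.data).one_not_mem (e ▸ ha))
  have hR : Cfsg.supportR M (a : G) = ⊥ := by
    rw [Cfsg.supportR, dif_neg fun hh => hh.1 hle]
  simp [hR]

/-- The restriction of each member of the family to `M'`. -/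
theorem SideCtx.family_decomp (h : SideCtx M W₁ U W₂ μ δ η d) :
    ∃ (ε : ℤ) (Z : (↥(W₁ ⊔ W₂) →* ℂˣ) → (↥(dK M) → ℂ)), (ε = 1 ∨ ε = -1) ∧
      (∀ ν, ¬ AgreeR W₁ W₂ ν 1 → RelChar (dN M) (Z ν) ∧ Z ν 1 = (d : ℂ)) ∧
      (∀ ν ν', ¬ AgreeR W₁ W₂ ν 1 → Z ν = Z ν' → AgreeR W₁ W₂ ν ν') ∧
      (∀ ν ν', AgreeR W₁ W₂ ν ν' → Z ν = Z ν') ∧
      ∀ ν, CosetConst (dN M) (fun x => η ν ((x : ↥M) : G) -
        (if AgreeR W₁ W₂ ν 1 then 0 else (ε : ℂ) * Z ν x)) := by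
  obtain ⟨τ₁, hiso, hext, ε, c, hε, hc, hcoef⟩ := h.exists_coeff
  have hW := h.data.selfNormalizing
  obtain ⟨hW₁M, hdM, hHd, hW₂H, hWM⟩ := typeP_le h.data
  set T := calS M (Cfsg.fittingHallOf M) ⊥ with hTdef
  have hcn : ∀ ν, ¬ AgreeR W₁ W₂ ν 1 → ¬ AgreeR W₁ W₂ (c ν) 1 := fun ν hν => by
    rcases hc with rfl | rfl
    · exact hν
    · exact not_agreeR_one_inv hν
  have hcc : ∀ ν ν', AgreeR W₁ W₂ (c ν) (c ν') ↔ AgreeR W₁ W₂ ν ν' := fun ν ν' => by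
    rcases hc with rfl | rfl
    · exact Iff.rfl
    · exact ⟨fun r => by have := r.inv; rwa [linInv, linInv] at this, fun r => r.inv⟩
  have hindex : (dK M).index = Nat.card W₁ := CfsgLib.OddOrder.IsComplIn.relIndex_left h.data.W₁_compl
  refine ⟨ε, fun ν => resD M (μ (c ν)), hε, fun ν hν => ⟨h.red_mem_rel (hcn ν hν), h.deg _ (hcn ν hν)⟩,
    fun ν ν' _ e => (hcc ν ν').mp (agreeR_of_red_eq h.ti hW (by rw [red, red]; exact congrArg _ e)),
    fun ν ν' e => h.ti.res_eq _ _ ((hcc ν ν').mpr e), fun ν => ?_⟩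
  obtain ⟨kk, hkk⟩ := hcoef ν
  set a : ℂ := if AgreeR W₁ W₂ ν 1 then 0 else (ε : ℂ) / (Nat.card W₁ : ℂ) with ha
  set z : ↥M → ℂ := a • red M μ (c ν) with hz
  set θM : ↥M → ℂ := fun x => η ν x with hθM
  have hηc : Cfsg.IsClassFunction G (η ν) := (family_signed h.ti.family ν).classFunction
  set f : ↥M → ℂ := θM - z with hf
  have hfc : Cfsg.IsClassFunction ↥M f := isClassFunction_sub (fun x y => hηc (x : G) (y : G))
    (isClassFunction_smul (CfsgLib.Induction.isClassFunction_indFun _ _) a)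
  obtain ⟨ν₁, hν₁⟩ := h.exists_col
  set χ₀ := red M μ ν₁ with hχ₀
  have hχ₀T : χ₀ ∈ T := h.red_mem hν₁
  have hchar : ∀ χ ∈ T, Cfsg.IsCharacter ↥M χ := fun χ hχ => by
    obtain ⟨θ, hθ, rfl⟩ := exists_of_mem_calS hχ
    exact CfsgLib.Induction.isCharacter_indFun _ (isCharacter_of_irr hθ.1)
  have hred1 : χ₀ 1 = ((Nat.card W₁ * d : ℕ) : ℂ) := by
    rw [hχ₀, red, CfsgLib.Induction.indFun_one_apply, hindex]
    show _ * μ ν₁ 1 = _
    rw [h.deg _ hν₁, Nat.cast_mul]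
  have hzin : ∀ χ ∈ T, Cfsg.classInner z χ =
      (if ¬ AgreeR W₁ W₂ ν 1 ∧ χ = red M μ (c ν) then (ε : ℂ) else 0) := by
    intro χ hχ
    rw [hz, classInner_smul_left]
    by_cases hν : AgreeR W₁ W₂ ν 1
    · rw [ha, if_pos hν, zero_mul, if_neg fun e => e.1 hν]
    · rw [ha, if_neg hν]
      by_cases he : χ = red M μ (c ν)
      · rw [if_pos ⟨hν, he⟩, he, h.ti.classInner_red_red hW, if_pos (AgreeR.refl _),
          div_mul_cancel₀ _ (Nat.cast_ne_zero.mpr Nat.card_pos.ne')]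
      · rw [if_neg fun e => he e.2]
        obtain ⟨θ, hθ, rfl⟩ := exists_of_mem_calS hχ
        refine mul_eq_zero_of_right _ ?_
        exact indFun_inner_eq_zero (derived_subgroupOf_normal M) (h.red_mem_rel (hcn ν hν)).1 hθ.1
          (fun e => he e.symm)
  have hprop : ∀ χ ∈ T, χ₀ 1 * (Cfsg.classInner θM χ - Cfsg.classInner (η ν) (τ₁ χ)) =
      χ 1 * (Cfsg.classInner θM χ₀ - Cfsg.classInner (η ν) (τ₁ χ₀)) := by
    intro χ hχ
    obtain ⟨m₀, hm₀⟩ := exists_degree (hchar χ₀ hχ₀T)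
    obtain ⟨m, hm⟩ := exists_degree (hchar χ hχ)
    set α := (m₀ : ℤ) • χ - (m : ℤ) • χ₀ with hα
    have hαT : α ∈ Cfsg.zspanOn T {1}ᶜ := zspanOn_map hχ hχ₀T _ _ (by
      rw [hm₀, hm]; push_cast; ring)
    have hvan : ∀ χ ∈ T, ∀ x : ↥M, (x : G) ∉ suppA0 M → x ≠ 1 → χ x = 0 := by
      intro χ hχ x hx hx1
      obtain ⟨θ, hθ, rfl⟩ := exists_of_mem_calS hχ
      obtain ⟨a, ha, hne⟩ := hθ.2
      exact calS_core_vanish h.types h.max h.data hθ.1
        ⟨a, fittingHall_le_typeCore h.data ha, hne⟩ (fun r => hx (Or.inl r)) hx1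
    have hαc : Cfsg.IsClassFunction ↥M α := by
      intro x y
      simp only [hα, CfsgLib.OddChar.zsmul_eq_smul, Pi.sub_apply, Pi.smul_apply,
        isClassFunction_of_isCharacter (hchar χ hχ) x y,
        isClassFunction_of_isCharacter (hchar χ₀ hχ₀T) x y]
    have hαA : ∀ x : ↥M, (x : G) ∉ suppA0 M → α x = 0 := by
      intro x hx
      by_cases hx1 : x = 1
      · rw [hx1]; exact hαT.2 1 (by simp)
      · simp only [hα, CfsgLib.OddChar.zsmul_eq_smul, Pi.sub_apply, Pi.smul_apply,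
          hvan χ hχ x hx hx1, hvan χ₀ hχ₀T x hx hx1, smul_zero, sub_zero]
    have e := h.tau_inner hαc hαA hηc
    rw [← hext α hαT, hα, isometry_sub hiso (zspan_zsmul _ (zspan_of_mem hχ))
      (zspan_zsmul _ (zspan_of_mem hχ₀T)) hαT.1, hiso.2.1 _ (zspan_of_mem hχ),
      hiso.2.1 _ (zspan_of_mem hχ₀T)] at e
    have e' := congrArg (starRingEnd ℂ) e
    rw [← classInner_conj_symm, ← classInner_conj_symm] at e'
    simp only [classInner_sub_right, classInner_zsmul_right, Int.cast_natCast] at e'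
    rw [hm₀, hm]
    linear_combination -e'
  set lam : ℂ := (Cfsg.classInner θM χ₀ - Cfsg.classInner (η ν) (τ₁ χ₀)) / χ₀ 1 + kk with hlam
  have hdpos : 0 < d := by
    obtain ⟨n, hn0, hn⟩ := irr_exists_degree (h.ti.μ_irr ν₁)
    rw [h.deg _ hν₁, Nat.cast_inj] at hn
    omega
  have hχ₀0 : χ₀ 1 ≠ 0 := by
    rw [hred1, Nat.cast_ne_zero]
    exact (Nat.mul_pos Nat.card_pos hdpos).ne'
  have key : ∀ θ : ↥(dK M) → ℂ, RelChar (dN M) θ →
      Cfsg.classInner (fun x : ↥(dK M) => f x) θ = (lam * (Nat.card W₁ : ℂ)) * θ 1 := by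
    intro θ hθ
    have hmem := mem_calS_of_rel hθ
    rw [← CfsgLib.Induction.classInner_indFun_right _ _ hfc, hf, classInner_sub_left, hzin _ hmem]
    have h1 := hkk _ hmem
    have h2 := hprop _ hmem
    have hdeg : Cfsg.indFun (dK M) θ 1 = (Nat.card W₁ : ℂ) * θ 1 := by
      rw [CfsgLib.Induction.indFun_one_apply, hindex]
    refine mul_left_cancel₀ hχ₀0 ?_
    rw [hlam]
    field_simp
    rw [h1, hdeg] at h2
    linear_combination h2
  have hres := cosetConst_of_orth (N := dN M) (f := fun x : ↥(dK M) => f x)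
    (fun x y => hfc (x : ↥M) (y : ↥M)) _ key
  convert hres using 1
  funext x
  simp only [hf, hθM, hz, Pi.sub_apply, Pi.smul_apply, smul_eq_mul]
  congr 1
  by_cases hν : AgreeR W₁ W₂ ν 1
  · rw [if_pos hν, ha, if_pos hν, zero_mul]
  · rw [if_neg hν, ha, if_neg hν]
    have hval : red M μ (c ν) (x : ↥M) = (Nat.card W₁ : ℂ) * resD M (μ (c ν)) x := by
      haveI := finite_linChar hW
      haveI := Fintype.ofFinite (↥(W₁ ⊔ W₂) →* ℂˣ)
      have hconst : ∀ ω ∈ {ω | AgreeR W₁ W₂ (c ν) ω}.toFinset,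
          μ ω (x : ↥M) = resD M (μ (c ν)) x := fun ω hω =>
        (congrFun (h.ti.res_eq _ _ (Set.mem_toFinset.mp hω)) x).symm
      rw [h.ti.red_eq hW, finsum_mem_eq_toFinset_sum, Finset.sum_apply,
        Finset.sum_congr rfl hconst,
        Finset.sum_const, nsmul_eq_mul, ← h.ti.card_col hW (c ν), Nat.card_eq_fintype_card,
        Set.toFinset_card]
      rfl
    rw [hval]
    field_simp

end CfsgLib.PF.Sec13Reg
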