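import Cfsg.Agent.Lib.Characters.Galois
import Cfsg.Agent.Lib.Characters.Values
import Cfsg.Agent.Lib.Characters.Generalized
import Cfsg.Agent.Lib.KGV.CharTools

/-!
# Cyclotomic-valued functions on a finite group

`Val N a`: the values of `a` are cyclotomic integers of level `N` and `a` intertwines the field
automorphisms with the power maps.  Two such functions without common zero have squared absolute
values summing to at least the number of points, over any set closed under the power maps.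
-/

set_option autoImplicit false
set_option linter.style.haveILetI false

namespace CfsgLib.PF.Sec13Reg

open scoped Classical ComplexConjugate
open Finset CfsgLib.KGV CfsgLib.Characters

/-- An element of the `N`-th root field fixed by all the automorphisms is rational. -/
theorem rat_of_fixed {N : ℕ} [NeZero N] {x : ℂ} (hx : x ∈ rootField N)
    (hfix : ∀ (m : ℕ) (σ : ℂ ≃+* ℂ), m.Coprime N → (∀ w : ℂ, w ^ N = 1 → σ w = w ^ m) → σ x = x) :
    ∃ r : ℚ, x = (r : ℂ) := by
  have hζ := Complex.isPrimitiveRoot_exp N (NeZero.ne N)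
  set ζ : ℂ := Complex.exp (2 * Real.pi * Complex.I / N)
  let K : IntermediateField ℚ ℂ := IntermediateField.adjoin ℚ {ζ}
  have : IsCyclotomicExtension {N} ℚ K := CfsgLib.CharGalois.isCyclotomic_adjoin hζ
  have : FiniteDimensional ℚ K := IsCyclotomicExtension.finiteDimensional {N} ℚ K
  have : IsGalois ℚ K := IsCyclotomicExtension.isGalois {N} ℚ K
  have hle : rootField N ≤ K := IntermediateField.adjoin_le_iff.mpr fun z (hz : z ^ N = 1) => by
    obtain ⟨j, -, hj⟩ := hζ.eq_pow_of_pow_eq_one hz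
    exact hj ▸ pow_mem (IntermediateField.mem_adjoin_simple_self ℚ ζ) j
  have ha : (⟨x, hle hx⟩ : K) ∈ (⊥ : IntermediateField ℚ K) := by
    rw [IsGalois.mem_bot_iff_fixed]
    intro τ
    obtain ⟨σ, hσ⟩ := CfsgLib.CharGalois.exists_extension K τ.toRingEquiv
    set u := (IsCyclotomicExtension.zeta_spec N ℚ K).autToPow ℚ τ
    have hroot : ∀ w : ℂ, w ^ N = 1 → σ w = w ^ ((u : ZMod N).val) := by
      intro w hw
      have hwK : w ∈ K := hle (mem_rootField_of_pow_eq_one hw)
      have h1 := hσ ⟨w, hwK⟩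
      have h2 := CfsgLib.CharGalois.autToPow_spec' N τ (z := (⟨w, hwK⟩ : K)) (Subtype.ext hw)
      rw [show τ.toRingEquiv ⟨w, hwK⟩ = τ ⟨w, hwK⟩ from rfl, h2] at h1
      exact h1
    have h3 := hσ ⟨x, hle hx⟩
    rw [show ((⟨x, hle hx⟩ : K) : ℂ) = x from rfl,
      hfix _ σ (ZMod.val_coe_unit_coprime u) hroot] at h3
    exact Subtype.ext h3.symm
  obtain ⟨r, hr⟩ := IntermediateField.mem_bot.1 ha
  have h2 : ((algebraMap ℚ K r : K) : ℂ) = x := congrArg Subtype.val hr
  exact ⟨r, by rw [← h2]; simp⟩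

/-- An integral such element is an integer. -/
theorem int_of_fixed {N : ℕ} [NeZero N] {x : ℂ} (hx : x ∈ rootField N) (hi : IsIntegral ℤ x)
    (hfix : ∀ (m : ℕ) (σ : ℂ ≃+* ℂ), m.Coprime N → (∀ w : ℂ, w ^ N = 1 → σ w = w ^ m) → σ x = x) :
    ∃ z : ℤ, x = (z : ℂ) := by
  obtain ⟨r, rfl⟩ := rat_of_fixed hx hfix
  obtain ⟨z, hz⟩ := exists_int_of_isIntegral_rat hi
  exact ⟨z, by rw [← hz]; simp⟩

variable {X : Type*} [Group X]

/-- Cyclotomic-valued functions compatible with the power maps. -/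
structure Val (N : ℕ) (a : X → ℂ) : Prop where
  mem : ∀ g, a g ∈ rootField N
  integral : ∀ g, IsIntegral ℤ (a g)
  map : ∀ m : ℕ, m.Coprime N → ∀ σ : ℂ ≃+* ℂ, (∀ z : ℂ, z ^ N = 1 → σ z = z ^ m) →
    ∀ g, σ (a g) = a (g ^ m)

variable {N : ℕ} {a b : X → ℂ}

theorem val_const (n : ℤ) : Val N (fun _ : X => (n : ℂ)) where
  mem _ := intCast_mem _ n
  integral _ := isIntegral_algebraMap (R := ℤ) (A := ℂ) (x := n)
  map _ _ σ _ _ := map_intCast σ n

theorem Val.add (ha : Val N a) (hb : Val N b) : Val N (fun g => a g + b g) where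
  mem g := add_mem (ha.mem g) (hb.mem g)
  integral g := (ha.integral g).add (hb.integral g)
  map m hm σ hσ g := by rw [map_add, ha.map m hm σ hσ, hb.map m hm σ hσ]

theorem Val.mul_int (ha : Val N a) (n : ℤ) : Val N (fun g => (n : ℂ) * a g) where
  mem g := mul_mem (intCast_mem _ n) (ha.mem g)
  integral g := (isIntegral_algebraMap (R := ℤ) (A := ℂ) (x := n)).mul (ha.integral g)
  map m hm σ hσ g := by rw [map_mul, map_intCast, ha.map m hm σ hσ]

theorem Val.sum {ι : Type*} (s : Finset ι) {f : ι → X → ℂ} (h : ∀ i ∈ s, Val N (f i)) :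
    Val N (fun g => ∑ i ∈ s, f i g) where
  mem g := sum_mem fun i hi => (h i hi).mem g
  integral g := IsIntegral.sum _ fun i hi => (h i hi).integral g
  map m hm σ hσ g := by
    rw [map_sum]
    exact Finset.sum_congr rfl fun i hi => (h i hi).map m hm σ hσ g

theorem Val.congr (ha : Val N a) (e : ∀ g, b g = a g) : Val N b := by
  rw [funext e]; exact ha

/-- Characters have this property, at any multiple of the group order. -/
theorem val_char [Finite X] (hN : Nat.card X ∣ N) {χ : X → ℂ} (h : Cfsg.IsCharacter X χ) :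
    Val N χ where
  mem g := rootField_mono hN (char_mem_rootField h g)
  integral g := char_isIntegral h g
  map _ _ σ hσ g := CfsgLib.CharGalois.map_char_eq_pow h σ (fun z hz => hσ z (by
    obtain ⟨k, rfl⟩ := hN
    rw [pow_mul, hz, one_pow])) g

theorem val_signed [Finite X] (hN : Nat.card X ∣ N) {χ : X → ℂ}
    (h : Cfsg.IsIrrCharacter X χ ∨ Cfsg.IsIrrCharacter X (-χ)) : Val N χ := by
  rcases h with h | h
  · exact val_char hN (isCharacter_of_irr h)
  · exact ((val_char hN (isCharacter_of_irr h)).mul_int (-1)).congr fun g => by simp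

/-- Pullback along a homomorphism. -/
theorem Val.comp {Y : Type*} [Group Y] (ha : Val N a) (f : Y →* X) : Val N (fun y => a (f y)) where
  mem y := ha.mem _
  integral y := ha.integral _
  map m hm σ hσ y := by rw [ha.map m hm σ hσ, map_pow]

theorem pow_left_inj_of_coprime {g g' : X} {m : ℕ} (hm : m.Coprime N) (hg : g ^ N = 1)
    (hg' : g' ^ N = 1) (e : g ^ m = g' ^ m) : g = g' := by
  obtain rfl | hN := Nat.eq_zero_or_pos N
  · rw [(Nat.coprime_zero_right m).mp hm, pow_one, pow_one] at e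
    exact e
  obtain ⟨k, hk⟩ : ∃ k, m * k ≡ 1 [MOD N] := by
    rcases Nat.eq_or_lt_of_le hN with h | h
    · exact ⟨0, by rw [← h]; exact Nat.modEq_one⟩
    · obtain ⟨k, -, hk⟩ := Nat.exists_mul_mod_eq_one_of_coprime hm h
      exact ⟨k, by rw [Nat.ModEq, hk, Nat.mod_eq_of_lt h]⟩
  have hr : ∀ x : X, x ^ N = 1 → (x ^ m) ^ k = x := fun x hx => by
    rw [← pow_mul, pow_eq_pow_iff_modEq.mpr (hk.of_dvd (orderOf_dvd_of_pow_eq_one hx)), pow_one]
  rw [← hr g hg, e, hr g' hg']

theorem Val.conj_eq [NeZero N] (ha : Val N a) (g : X) : conj (a g) = a (g ^ (N - 1)) := by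
  have h1 : (N - 1).Coprime N := by
    rcases Nat.exists_eq_succ_of_ne_zero (NeZero.ne N) with ⟨k, rfl⟩
    simp
  have h := ha.map (N - 1) h1 (starRingAut : ℂ ≃+* ℂ) (fun z hz => by
    have hz0 : z ≠ 0 := by rintro rfl; simp [zero_pow (NeZero.ne N)] at hz
    rw [starRingAut_apply, ← starRingEnd_apply,
      ← Complex.inv_eq_conj (Complex.norm_eq_one_of_pow_eq_one hz (NeZero.ne N)), pow_sub₀ _ hz0
        (Nat.one_le_iff_ne_zero.mpr (NeZero.ne N)), hz, one_mul, pow_one]) g
  simpa [starRingAut_apply] using h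

/-- Sums of squares over a set closed under the power maps are rational. -/
theorem exists_rat_sum_sq [NeZero N] (hX : ∀ g : X, g ^ N = 1) (ha : Val N a) (s : Finset X)
    (hs : ∀ g ∈ s, ∀ m : ℕ, m.Coprime N → g ^ m ∈ s) :
    ∃ r : ℚ, ∑ g ∈ s, a g * conj (a g) = (r : ℂ) := by
  refine rat_of_fixed (N := N) (sum_mem fun g _ => mul_mem (ha.mem g)
    (conj_mem_rootField (ha.mem g))) fun m σ hm hσ => ?_
  have himg : s.image (fun g => g ^ m) = s := by
    refine Finset.eq_of_subset_of_card_le (fun x hx => ?_) (le_of_eq ?_)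
    · obtain ⟨g, hg, rfl⟩ := Finset.mem_image.mp hx
      exact hs g hg m hm
    · rw [Finset.card_image_of_injOn fun g _ g' _ e => pow_left_inj_of_coprime hm (hX g) (hX g') e]
  rw [map_sum]
  conv_rhs => rw [← himg, Finset.sum_image fun g _ g' _ e =>
    pow_left_inj_of_coprime hm (hX g) (hX g') e]
  refine Finset.sum_congr rfl fun g _ => ?_
  rw [map_mul, ha.conj_eq, ha.map m hm σ hσ, ha.map m hm σ hσ, ha.conj_eq (g ^ m), ← pow_mul,
    ← pow_mul, mul_comm (N - 1) m]

/-- Two such functions without common zero. -/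
theorem card_le_sum_sq [NeZero N] (hX : ∀ g : X, g ^ N = 1) (ha : Val N a) (hb : Val N b)
    (s : Finset X) (hs : ∀ g ∈ s, ∀ m : ℕ, m.Coprime N → g ^ m ∈ s)
    (hab : ∀ g ∈ s, a g = 0 → b g ≠ 0) :
    (s.card : ℝ) ≤ ∑ g ∈ s, (Complex.normSq (a g) + Complex.normSq (b g)) := by
  have hne : ∀ g : X, ∀ m : ℕ, m.Coprime N → (a (g ^ m) = 0 ↔ a g = 0) := fun g m hm => by
    obtain ⟨σ, hσ⟩ := CfsgLib.CharGalois.exists_autComplex N hm
    rw [← ha.map m hm σ hσ, map_eq_zero]
  have key : ∀ (f : X → ℂ), Val N f → ∀ t : Finset X,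
      (∀ g ∈ t, ∀ m : ℕ, m.Coprime N → g ^ m ∈ t) → (∀ g ∈ t, f g ≠ 0) →
      (t.card : ℝ) ≤ ∑ g ∈ t, Complex.normSq (f g) := by
    intro f hf t ht hnz
    obtain ⟨r, hr⟩ := exists_rat_sum_sq hX hf t ht
    have h := card_ne_zero_le_sum_normSq t (N := N) (NeZero.pos N) f (fun g _ => hf.mem g)
      (fun g _ => hf.integral g) r hr
    rw [Finset.filter_true_of_mem hnz] at h
    have h' : ((∑ g ∈ t, Complex.normSq (f g) : ℝ) : ℂ) = ((r : ℝ) : ℂ) := by
      rw [Complex.ofReal_ratCast, ← hr, Complex.ofReal_sum]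
      exact Finset.sum_congr rfl fun g _ => (Complex.mul_conj _).symm
    rw [Complex.ofReal_injective h']
    exact h
  have h1 := key a ha (s.filter fun g => a g ≠ 0) (fun g hg m hm => by
    rw [Finset.mem_filter] at hg ⊢
    exact ⟨hs g hg.1 m hm, fun h => hg.2 ((hne g m hm).mp h)⟩) (fun g hg => (Finset.mem_filter.mp hg).2)
  have h2 := key b hb (s.filter fun g => ¬ a g ≠ 0) (fun g hg m hm => by
    rw [Finset.mem_filter, not_not] at hg ⊢
    exact ⟨hs g hg.1 m hm, (hne g m hm).mpr hg.2⟩) (fun g hg => by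
      rw [Finset.mem_filter, not_not] at hg
      exact hab g hg.1 hg.2)
  rw [Finset.sum_add_distrib]
  have h3 := Finset.card_filter_add_card_filter_not (s := s) (fun g => a g ≠ 0)
  have h4 : ∑ g ∈ s.filter (fun g => a g ≠ 0), Complex.normSq (a g) ≤
      ∑ g ∈ s, Complex.normSq (a g) :=
    Finset.sum_le_sum_of_subset_of_nonneg (Finset.filter_subset _ _) fun g _ _ => Complex.normSq_nonneg _
  have h5 : ∑ g ∈ s.filter (fun g => ¬ a g ≠ 0), Complex.normSq (b g) ≤
      ∑ g ∈ s, Complex.normSq (b g) :=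
    Finset.sum_le_sum_of_subset_of_nonneg (Finset.filter_subset _ _) fun g _ _ => Complex.normSq_nonneg _
  have h6 : (s.card : ℝ) = ((s.filter fun g => a g ≠ 0).card : ℝ) +
      ((s.filter fun g => ¬ a g ≠ 0).card : ℝ) := by exact_mod_cast h3.symm
  linarith

end CfsgLib.PF.Sec13Reg
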