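import Cfsg.Agent.Lib.PF.Sec12Pairs
import Cfsg.Agent.Lib.Characters.Counting
import Cfsg.Agent.Lib.OddChar.OrthProj

/-!
# Peterfalvi §14: algebra of real virtual characters

Parity of the inner product of real virtual characters of a group of odd order, orthogonality of
non-real signed irreducible characters, and the Cauchy–Schwarz bound for the mass of a function on a
set.
-/

set_option autoImplicit false
set_option linter.unusedSectionVars false

namespace CfsgLib.PF.Sec14

open scoped Classical ComplexConjugate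
open Finset CfsgLib.Characters CfsgLib.OddChar

universe u

variable {X : Type u} [Group X] [Fintype X]

theorem conjFun_apply' (f : X → ℂ) (x : X) : Cfsg.conjFun f x = conj (f x) := rfl

theorem classInner_zero_right' (f : X → ℂ) : Cfsg.classInner f (0 : X → ℂ) = 0 := by
  simp [Cfsg.classInner]

theorem classInner_zero_left' (f : X → ℂ) : Cfsg.classInner (0 : X → ℂ) f = 0 := by
  simp [Cfsg.classInner]

/-- In a group of odd order no irreducible character but the principal one is real. -/
theorem conjIrr_ne (hodd : Odd (Nat.card X)) {χ : Cfsg.IrrCharacter X} (h : χ ≠ principalIrr X) :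
    CfsgLib.BrauerPerm.conjIrr χ ≠ χ := fun e =>
  h (real_irr_eq_one hodd χ (CfsgLib.BrauerPerm.conjIrr_eq_self_iff χ |>.mp e))

/-- The inner product of two real virtual characters, one orthogonal to `1`, is even. -/
theorem even_inner (hodd : Odd (Nat.card X)) {f g : X → ℂ}
    (hf : Cfsg.IsGeneralizedCharacter X f) (hg : Cfsg.IsGeneralizedCharacter X g)
    (hfr : Cfsg.conjFun f = f) (hgr : Cfsg.conjFun g = g)
    (hf1 : Cfsg.classInner f (fun _ => 1) = 0) :
    ∃ n : ℤ, Cfsg.classInner f g = 2 * n := by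
  choose a ha using fun χ : Cfsg.IrrCharacter X =>
    classInner_generalized_int hf (isGeneralizedCharacter_irr χ)
  choose b hb using fun χ : Cfsg.IrrCharacter X =>
    classInner_generalized_int hg (isGeneralizedCharacter_irr χ)
  have hval : Cfsg.classInner f g = ((∑ χ, a χ * b χ : ℤ) : ℂ) := by
    rw [classInner_eq_sum_mul (isClassFunction_of_isGeneralizedCharacter hg)]
    push_cast
    exact Finset.sum_congr rfl fun χ _ => by simp [ha, hb]
  have hconj : ∀ (k : X → ℂ) (c : Cfsg.IrrCharacter X → ℤ), Cfsg.conjFun k = k →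
      (∀ χ : Cfsg.IrrCharacter X, Cfsg.classInner k (χ : X → ℂ) = c χ) →
      ∀ χ, c (CfsgLib.BrauerPerm.conjIrr χ) = c χ := by
    intro k c hk hc χ
    have h1 : Cfsg.classInner k ((CfsgLib.BrauerPerm.conjIrr χ : Cfsg.IrrCharacter X) : X → ℂ) =
        conj (Cfsg.classInner k (χ : X → ℂ)) := by
      conv_lhs => rw [← hk]
      simp only [Cfsg.classInner, CfsgLib.BrauerPerm.conjIrr, Cfsg.conjFun, map_mul, map_inv₀,
        map_natCast, map_sum, Complex.conj_conj]
    rw [hc, hc, map_intCast] at h1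
    exact_mod_cast h1
  obtain ⟨n, hn⟩ : (2 : ℤ) ∣ ∑ χ, a χ * b χ := by
    refine (ZMod.intCast_zmod_eq_zero_iff_dvd _ 2).mp ?_
    push_cast
    refine Finset.sum_involution (fun χ _ => CfsgLib.BrauerPerm.conjIrr χ) ?_ ?_
      (fun _ _ => Finset.mem_univ _) ?_
    · intro χ _
      rw [hconj f a hfr ha χ, hconj g b hgr hb χ]
      exact CharTwo.add_self_eq_zero _
    · intro χ _ hne he
      refine hne ?_
      have : χ = principalIrr X := by
        by_contra h
        exact conjIrr_ne hodd h he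
      have h0 : a χ = 0 := by
        have h2 := ha χ
        rw [this] at h2
        have h3 : Cfsg.classInner f (fun _ => 1) = (a (principalIrr X) : ℂ) := by
          rw [← h2]; rfl
        rw [hf1] at h3
        rw [this]
        exact_mod_cast h3.symm
      simp [h0]
    · intro χ _
      exact Subtype.ext (funext fun x => by simp [CfsgLib.BrauerPerm.conjIrr])
  exact ⟨n, by rw [hval, hn]; push_cast; ring⟩

/-- A non-principal signed irreducible character is orthogonal to its conjugate. -/
theorem signed_conj_orth (hodd : Odd (Nat.card X)) {σ : X → ℂ} (h : IsSigned σ)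
    (h1 : Cfsg.classInner σ (fun _ => 1) = 0) : Cfsg.classInner σ (Cfsg.conjFun σ) = 0 := by
  obtain ⟨χ, ε, hε, rfl⟩ := h.exists_irr
  have hε0 : ε ≠ 0 := by rcases hε with rfl | rfl <;> norm_num
  have hne : χ ≠ principalIrr X := fun e => by
    rw [classInner_smul_left, e] at h1
    have h2 : Cfsg.classInner ((principalIrr X : Cfsg.IrrCharacter X) : X → ℂ) (fun _ => 1) = 1 :=
      classInner_irr_self (principalIrr X).2
    rw [h2, mul_one] at h1
    exact hε0 h1
  have e : Cfsg.conjFun (ε • (χ : X → ℂ)) =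
      ε • ((CfsgLib.BrauerPerm.conjIrr χ : Cfsg.IrrCharacter X) : X → ℂ) := funext fun x => by
    rcases hε with rfl | rfl <;> simp [Cfsg.conjFun, CfsgLib.BrauerPerm.conjIrr]
  rw [e, classInner_smul_left, classInner_smul_right,
    classInner_irr_ne χ.2 (CfsgLib.BrauerPerm.conjIrr χ).2
      fun h => conjIrr_ne hodd hne (Subtype.ext h.symm),
    mul_zero, mul_zero]

/-- The mass of `χ` on a set: the part of `classInner χ χ` living there. -/
noncomputable def massOn (s : Finset X) (χ : X → ℂ) : ℝ :=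
  (Nat.card X : ℝ)⁻¹ * ∑ x ∈ s, Complex.normSq (χ x)

theorem massOn_nonneg (s : Finset X) (χ : X → ℂ) : 0 ≤ massOn s χ :=
  mul_nonneg (by positivity) (Finset.sum_nonneg fun x _ => Complex.normSq_nonneg _)

theorem massOn_le_norm (s : Finset X) (χ : X → ℂ) : massOn s χ ≤ (Cfsg.classInner χ χ).re := by
  rw [classInner_self_real, Complex.ofReal_re]
  refine mul_le_mul_of_nonneg_left ?_ (by positivity)
  exact Finset.sum_le_univ_sum_of_nonneg fun x => Complex.normSq_nonneg _

theorem massOn_union {s t : Finset X} (h : Disjoint s t) (χ : X → ℂ) :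
    massOn (s ∪ t) χ = massOn s χ + massOn t χ := by
  rw [massOn, massOn, massOn, Finset.sum_union h, mul_add]

/-- Cauchy–Schwarz: the mass on the support of `f` bounds the inner product with `f`. -/
theorem normSq_inner_le (s : Finset X) {χ f : X → ℂ} (hf : ∀ x ∉ s, f x = 0) :
    Complex.normSq (Cfsg.classInner χ f) ≤ massOn s χ * (Cfsg.classInner f f).re := by
  have hs : Cfsg.classInner χ f = (Nat.card X : ℂ)⁻¹ * ∑ x ∈ s, χ x * conj (f x) := by
    rw [Cfsg.classInner]
    congr 1
    exact (Finset.sum_subset (Finset.subset_univ s) fun x _ hx => by simp [hf x hx]).symm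
  have hff : (Cfsg.classInner f f).re = (Nat.card X : ℝ)⁻¹ * ∑ x ∈ s, Complex.normSq (f x) := by
    rw [classInner_self_real, Complex.ofReal_re]
    congr 1
    exact (Finset.sum_subset (Finset.subset_univ s) fun x _ hx => by simp [hf x hx]).symm
  have hsum : ‖∑ x ∈ s, χ x * conj (f x)‖ ≤ ∑ x ∈ s, ‖χ x‖ * ‖f x‖ :=
    (norm_sum_le _ _).trans (le_of_eq (Finset.sum_congr rfl fun x _ => by
      rw [norm_mul, Complex.norm_conj]))
  have hcs := Finset.sum_mul_sq_le_sq_mul_sq s (fun x => ‖χ x‖) (fun x => ‖f x‖)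
  rw [hs, hff, massOn, map_mul, map_inv₀, Complex.normSq_natCast]
  simp only [Complex.normSq_eq_norm_sq]
  have h2 : ‖∑ x ∈ s, χ x * conj (f x)‖ ^ 2 ≤ (∑ x ∈ s, ‖χ x‖ ^ 2) * ∑ x ∈ s, ‖f x‖ ^ 2 :=
    le_trans (pow_le_pow_left₀ (norm_nonneg _) hsum 2) hcs
  have hN : 0 ≤ ((Nat.card X : ℝ) * Nat.card X)⁻¹ := by positivity
  calc ((Nat.card X : ℝ) * Nat.card X)⁻¹ * ‖∑ x ∈ s, χ x * conj (f x)‖ ^ 2
      ≤ ((Nat.card X : ℝ) * Nat.card X)⁻¹ * ((∑ x ∈ s, ‖χ x‖ ^ 2) * ∑ x ∈ s, ‖f x‖ ^ 2) :=
        mul_le_mul_of_nonneg_left h2 hN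
    _ = _ := by rw [mul_inv]; ring

/-- Functions with disjoint supports are orthogonal. -/
theorem classInner_eq_zero_of_disjoint {f g : X → ℂ} (h : ∀ x, f x = 0 ∨ g x = 0) :
    Cfsg.classInner f g = 0 := by
  rw [Cfsg.classInner, Finset.sum_eq_zero fun x _ => ?_, mul_zero]
  rcases h x with e | e <;> simp [e]

end CfsgLib.PF.Sec14
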