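import Mathlib

/-!
# Peterfalvi §14: arithmetic

Bounds on the orders `u`, `v` of the complements of a pair, as used in the final configuration.
-/

set_option autoImplicit false

namespace CfsgLib.PF.Sec14

open Finset

/-- `1 + p + ⋯ + p^(q-1)`. -/
def geo (p q : ℕ) : ℕ := ∑ i ∈ range q, p ^ i

theorem geo_mul (p q : ℕ) : geo p q * (p - 1) + 1 = p ^ q ∨ p = 0 := by
  rcases Nat.eq_zero_or_pos p with h | h
  · exact Or.inr h
  · left
    obtain ⟨k, rfl⟩ : ∃ k, p = k + 1 := ⟨p - 1, by omega⟩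
    exact geom_sum_mul_add k q

theorem geo_mul' {p : ℕ} (q : ℕ) (hp : 0 < p) : geo p q * (p - 1) + 1 = p ^ q :=
  (geo_mul p q).resolve_right (by omega)

theorem pow_le_geo {p q : ℕ} (hq : 0 < q) : p ^ (q - 1) ≤ geo p q :=
  single_le_sum (f := fun i => p ^ i) (fun _ _ => Nat.zero_le _) (mem_range.mpr (by omega))

theorem geo_modEq_one {p q : ℕ} (hq : 0 < q) : geo p q ≡ 1 [MOD p] := by
  obtain ⟨k, rfl⟩ : ∃ k, q = k + 1 := ⟨q - 1, by omega⟩
  rw [geo, sum_range_succ', pow_zero]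
  have : p ∣ ∑ i ∈ range k, p ^ (i + 1) :=
    dvd_sum fun i _ => dvd_pow_self p (Nat.succ_ne_zero i)
  exact (Nat.modEq_zero_iff_dvd.mpr this).add_right 1

theorem geo_odd {p q : ℕ} (hp : Odd p) (hq : Odd q) : Odd (geo p q) := by
  rw [geo, Finset.odd_sum_iff_odd_card_odd, Finset.filter_true_of_mem (fun i _ => hp.pow)]
  simpa using hq

/-- The prime divisors of `1 + p + ⋯ + p^(q-1)`. -/
theorem prime_dvd_geo {p q r : ℕ} (hp : 0 < p) (hq : q.Prime) (hr : r.Prime) (h : r ∣ geo p q) :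
    r = q ∨ (r % q = 1 ∧ ¬ r ∣ p - 1) := by
  have : Fact r.Prime := ⟨hr⟩
  by_cases hrp : r ∣ p - 1
  · left
    have h1 : (p : ZMod r) = 1 := by
      have h2 := (ZMod.natCast_eq_zero_iff (p - 1) r).mpr hrp
      rw [Nat.cast_sub (by omega), Nat.cast_one, sub_eq_zero] at h2
      exact h2
    have h2 : (geo p q : ZMod r) = (q : ZMod r) := by simp [geo, h1]
    rw [(ZMod.natCast_eq_zero_iff (geo p q) r).mpr h, eq_comm, ZMod.natCast_eq_zero_iff] at h2
    exact (Nat.prime_dvd_prime_iff_eq hr hq).mp h2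
  · right
    refine ⟨?_, hrp⟩
    have h0 : (p : ZMod r) ^ q = 1 := by
      have h2 := congrArg (Nat.cast : ℕ → ZMod r) (geo_mul' q hp)
      push_cast at h2
      rw [(ZMod.natCast_eq_zero_iff (geo p q) r).mpr h, zero_mul, zero_add] at h2
      exact h2.symm
    have hp1 : (p : ZMod r) ≠ 1 := by
      intro h1
      apply hrp
      rw [← ZMod.natCast_eq_zero_iff, Nat.cast_sub (by omega), h1, Nat.cast_one, sub_self]
    have hp0 : (p : ZMod r) ≠ 0 := by
      intro h1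
      rw [h1, zero_pow hq.ne_zero] at h0
      exact zero_ne_one h0
    have : Fact q.Prime := ⟨hq⟩
    have h3 : orderOf (p : ZMod r) = q := orderOf_eq_prime h0 hp1
    have h4 : q ∣ r - 1 := h3 ▸ ZMod.orderOf_dvd_card_sub_one hp0
    obtain ⟨k, hk⟩ := h4
    have h5 : r = q * k + 1 := by have := hr.two_le; omega
    rw [h5, Nat.mul_add_mod, Nat.mod_eq_of_lt hq.one_lt]

/-- The complementary divisor of a divisor of `1 + p + ⋯ + p^(q-1)`. -/
theorem geo_cofactor {p q d : ℕ} (hp : Odd p) (hq : q.Prime) (hq2 : Odd q) (hd : d ∣ geo p q)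
    (hne : d ≠ geo p q) :
    ∃ m, geo p q = d * m ∧ Odd m ∧ q ≤ m ∧ (q ∣ m ∧ q ∣ p - 1 ∨ 2 * q + 1 ≤ m) := by
  obtain ⟨m, hm⟩ := hd
  have hm1 : m ≠ 1 := fun h => hne (by rw [hm, h, mul_one])
  have hodd : Odd m := (hm ▸ geo_odd hp hq2).of_dvd_nat (dvd_mul_left m d)
  obtain ⟨r, hr, hrm⟩ := Nat.exists_prime_and_dvd hm1
  have hr2 : r ∣ geo p q := hrm.trans (hm ▸ dvd_mul_left m d)
  have hle : r ≤ m := Nat.le_of_dvd hodd.pos hrm
  have hro : r % 2 = 1 := Nat.odd_iff.mp (hodd.of_dvd_nat hrm)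
  by_cases hrp : r ∣ p - 1
  · rcases prime_dvd_geo hp.pos hq hr hr2 with rfl | ⟨-, h⟩
    · exact ⟨m, hm, hodd, hle, Or.inl ⟨hrm, hrp⟩⟩
    · exact absurd hrp h
  · rcases prime_dvd_geo hp.pos hq hr hr2 with rfl | ⟨h, -⟩
    · exfalso
      have : Fact r.Prime := ⟨hr⟩
      apply hrp
      have h2 := congrArg (Nat.cast : ℕ → ZMod r) (geo_mul' r hp.pos)
      push_cast at h2
      rw [(ZMod.natCast_eq_zero_iff (geo p r) r).mpr hr2, zero_mul, zero_add, ZMod.pow_card] at h2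
      rw [← ZMod.natCast_eq_zero_iff, Nat.cast_sub hp.pos, ← h2, Nat.cast_one, sub_self]
    · have h2 := Nat.div_add_mod r q
      have hk : 2 ≤ r / q := by
        by_contra hlt
        have hq1 := Nat.odd_iff.mp hq2
        have := hr.two_le
        interval_cases h3 : r / q <;> omega
      have : q * 2 ≤ q * (r / q) := Nat.mul_le_mul_left q hk
      exact ⟨m, hm, hodd, by omega, Or.inr (by omega)⟩

/-- What is known about the order of a complement. -/
def Orders (p q u : ℕ) : Prop :=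
  1 < u ∧ u % q = 1 ∧
    ((u ∣ geo p q ∧ u.Coprime (p - 1)) ∨
      ∃ a : ℕ, 1 < a ∧ Odd a ∧ a ∣ p - 1 ∧ u ∣ a ^ (q - 1))

theorem nonGalois_bound {p q u a : ℕ} (hp : Odd p) (hp1 : 1 < p) (ha : Odd a) (had : a ∣ p - 1)
    (hu : u ∣ a ^ (q - 1)) : u * 2 ^ (q - 1) ≤ (p - 1) ^ (q - 1) := by
  have h2a : 2 * a ∣ p - 1 := by
    refine Nat.Coprime.mul_dvd_of_dvd_of_dvd (Nat.coprime_two_left.mpr ha) ?_ had
    have := Nat.odd_iff.mp hp
    omega
  have h2 : 2 * a ≤ p - 1 := Nat.le_of_dvd (by omega) h2a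
  have h3 : u ≤ a ^ (q - 1) := Nat.le_of_dvd (pow_pos ha.pos _) hu
  calc u * 2 ^ (q - 1) ≤ a ^ (q - 1) * 2 ^ (q - 1) := Nat.mul_le_mul_right _ h3
    _ = (2 * a) ^ (q - 1) := by rw [mul_pow]; ring
    _ ≤ (p - 1) ^ (q - 1) := Nat.pow_le_pow_left h2 _

theorem two_pow_ge {q : ℕ} (hq : 3 ≤ q) : q ≤ 2 ^ (q - 1) := by
  have : q - 1 < 2 ^ (q - 1) := Nat.lt_two_pow_self
  omega

theorem two_pow_ge' {p : ℕ} (hp : 5 ≤ p) : 2 * p + 1 ≤ 2 ^ (p - 1) := by
  induction p, hp using Nat.le_induction with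
  | base => norm_num
  | succ n hn ih =>
    rw [Nat.add_sub_cancel, show (2 : ℕ) ^ n = 2 * 2 ^ (n - 1) by
      rw [← pow_succ', Nat.sub_add_cancel (by omega)]]
    omega

/-- `u` is the whole of `1 + p + ⋯ + p^(q-1)` or at most a `q`-th of it. -/
theorem orders_left {p q u : ℕ} (hp : Odd p) (hp1 : 1 < p) (hq : q.Prime) (hq3 : 3 ≤ q)
    (hu : Orders p q u) : u = geo p q ∨ u * q ≤ geo p q := by
  have hq2 : Odd q := hq.odd_of_ne_two (by omega)
  rcases hu.2.2 with ⟨hd, -⟩ | ⟨a, -, ha, had, hua⟩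
  · refine or_iff_not_imp_left.mpr fun hne => ?_
    obtain ⟨m, hm, -, hle, -⟩ := geo_cofactor hp hq hq2 hd hne
    exact hm ▸ Nat.mul_le_mul_left u hle
  · right
    calc u * q ≤ u * 2 ^ (q - 1) := Nat.mul_le_mul_left u (two_pow_ge hq3)
      _ ≤ (p - 1) ^ (q - 1) := nonGalois_bound hp hp1 ha had hua
      _ ≤ p ^ (q - 1) := Nat.pow_le_pow_left (Nat.sub_le p 1) _
      _ ≤ geo p q := pow_le_geo hq.pos

/-- `v` is the whole of `1 + q + ⋯ + q^(p-1)` or at most a `(2p+1)`-th of it. -/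
theorem orders_right {p q v : ℕ} (hp : p.Prime) (hq : Odd q) (hq1 : 1 < q) (hqp : q < p)
    (hp5 : 5 ≤ p) (hv : Orders q p v) : v = geo q p ∨ v * (2 * p + 1) ≤ geo q p := by
  have hp2 : Odd p := hp.odd_of_ne_two (by omega)
  rcases hv.2.2 with ⟨hd, -⟩ | ⟨a, -, ha, had, hua⟩
  · refine or_iff_not_imp_left.mpr fun hne => ?_
    obtain ⟨m, hm, -, -, h⟩ := geo_cofactor hq hp hp2 hd hne
    rcases h with ⟨-, h⟩ | h
    · have := Nat.le_of_dvd (by omega) h
      omega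
    · exact hm ▸ Nat.mul_le_mul_left v h
  · right
    calc v * (2 * p + 1) ≤ v * 2 ^ (p - 1) := Nat.mul_le_mul_left v (two_pow_ge' hp5)
      _ ≤ (q - 1) ^ (p - 1) := nonGalois_bound hq hq1 ha had hua
      _ ≤ q ^ (p - 1) := Nat.pow_le_pow_left (Nat.sub_le q 1) _
      _ ≤ geo q p := pow_le_geo hp.pos

/-- In the Galois case `u = 1 + p + ⋯ + p^(q-1)` forces `q ∤ p - 1`. -/
theorem not_dvd_of_eq_geo {p q u : ℕ} (hp : Odd p) (hp1 : 1 < p) (hq : q.Prime) (hq3 : 3 ≤ q)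
    (hu : Orders p q u) (heq : u = geo p q) : u.Coprime (p - 1) := by
  rcases hu.2.2 with ⟨-, h⟩ | ⟨a, -, ha, had, hua⟩
  · exact h
  · exfalso
    have h1 := nonGalois_bound hp hp1 ha had hua
    have h2 : p ^ (q - 1) ≤ u := heq ▸ pow_le_geo hq.pos
    have h3 : (p - 1) ^ (q - 1) ≤ p ^ (q - 1) := Nat.pow_le_pow_left (Nat.sub_le p 1) _
    have h4 : 3 ≤ 2 ^ (q - 1) := (le_trans hq3 (two_pow_ge hq3))
    have h5 : u * 3 ≤ u * 2 ^ (q - 1) := Nat.mul_le_mul_left u h4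
    have := hu.1
    omega

/-- The weighted sum that the norms of the columns of the table bound. -/
noncomputable def mass (p q u v : ℕ) : ℝ :=
  (p : ℝ) * u / ((p : ℝ) ^ q - 1) + (q : ℝ) * v / ((q : ℝ) ^ p - 1)

theorem frac_le {p q u m : ℕ} (hp : 1 < p) (hq : 0 < q) (hm : 0 < m) (h : u * m ≤ geo p q) :
    (p : ℝ) * u / ((p : ℝ) ^ q - 1) ≤ (p : ℝ) / ((p : ℝ) - 1) / m := by
  have hp' : (1 : ℝ) < p := by exact_mod_cast hp
  have hg : (geo p q : ℝ) * ((p : ℝ) - 1) + 1 = (p : ℝ) ^ q := by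
    have := congrArg (Nat.cast : ℕ → ℝ) (geo_mul' q (by omega : 0 < p))
    push_cast [Nat.cast_sub hp.le] at this
    exact this
  have h' : (u : ℝ) * m ≤ geo p q := by exact_mod_cast h
  have h0 : (0 : ℝ) < (p : ℝ) ^ q - 1 := sub_pos.mpr (one_lt_pow₀ hp' hq.ne')
  have hm' : (0 : ℝ) < m := by exact_mod_cast hm
  rw [div_div, div_le_div_iff₀ h0 (mul_pos (by linarith) hm')]
  have : (p : ℝ) * (((u : ℝ) * m) * ((p : ℝ) - 1)) ≤ (p : ℝ) * ((geo p q : ℝ) * ((p : ℝ) - 1)) := by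
    have : (0 : ℝ) ≤ (p : ℝ) := by linarith
    have : (0 : ℝ) ≤ (p : ℝ) - 1 := by linarith
    gcongr
  nlinarith

theorem frac_nonneg {p q u : ℕ} (hp : 1 < p) : 0 ≤ (p : ℝ) * u / ((p : ℝ) ^ q - 1) := by
  have hp' : (1 : ℝ) ≤ p := by exact_mod_cast hp.le
  exact div_nonneg (by positivity) (sub_nonneg.mpr (one_le_pow₀ hp'))

theorem le_geo_of_orders {p q u : ℕ} (hp : Odd p) (hp1 : 1 < p) (hq : q.Prime) (hq3 : 3 ≤ q)
    (hu : Orders p q u) : u ≤ geo p q := by
  rcases orders_left hp hp1 hq hq3 hu with h | h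
  · exact h.le
  · exact le_trans (Nat.le_mul_of_pos_right u hq.pos) h

theorem ratio_five {p : ℕ} (hp : 5 ≤ p) : (p : ℝ) / ((p : ℝ) - 1) ≤ 5 / 4 := by
  have : (5 : ℝ) ≤ p := by exact_mod_cast hp
  rw [div_le_div_iff₀ (by linarith) (by norm_num)]
  linarith

theorem ratio_three {q : ℕ} (hq : 3 ≤ q) : (q : ℝ) / ((q : ℝ) - 1) ≤ 3 / 2 := by
  have : (3 : ℝ) ≤ q := by exact_mod_cast hq
  rw [div_le_div_iff₀ (by linarith) (by norm_num)]
  linarith

section Pair

variable {p q u v : ℕ} (hp : p.Prime) (hq : q.Prime) (hq3 : 3 ≤ q) (hqp : q < p)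
include hp hq hq3 hqp

theorem p_ge_five : 5 ≤ p := by
  have h1 := Nat.odd_iff.mp (hp.odd_of_ne_two (by omega))
  have h2 := Nat.odd_iff.mp (hq.odd_of_ne_two (by omega))
  omega

/-- If the mass is at least one, one of the two complements is as large as possible. -/
theorem or_of_mass (hu : Orders p q u) (hv : Orders q p v) (h : 1 ≤ mass p q u v) :
    u = geo p q ∨ v = geo q p := by
  have hp5 := p_ge_five hp hq hq3 hqp
  have hpo : Odd p := hp.odd_of_ne_two (by omega)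
  have hqo : Odd q := hq.odd_of_ne_two (by omega)
  by_contra hne
  push Not at hne
  have h1 : u * q ≤ geo p q := (orders_left hpo (by omega) hq hq3 hu).resolve_left hne.1
  have h2 : v * (2 * p + 1) ≤ geo q p :=
    (orders_right hp hqo (by omega) hqp hp5 hv).resolve_left hne.2
  have a1 : (p : ℝ) * u / ((p : ℝ) ^ q - 1) ≤ 5 / 4 / 3 :=
    (frac_le (by omega) hq.pos (m := 3) (by norm_num)
      (le_trans (Nat.mul_le_mul_left u hq3) h1)).trans
      (div_le_div_of_nonneg_right (ratio_five hp5) (by norm_num))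
  have a2 : (q : ℝ) * v / ((q : ℝ) ^ p - 1) ≤ 3 / 2 / 11 :=
    (frac_le (by omega) hp.pos (m := 11) (by norm_num)
      (le_trans (Nat.mul_le_mul_left v (by omega)) h2)).trans
      (div_le_div_of_nonneg_right (ratio_three hq3) (by norm_num))
  unfold mass at h
  linarith

/-- If the mass is at least `61/31`, both complements are as large as possible. -/
theorem both_of_mass (hu : Orders p q u) (hv : Orders q p v) (h : 61 / 31 ≤ mass p q u v) :
    u = geo p q ∧ v = geo q p := by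
  have hp5 := p_ge_five hp hq hq3 hqp
  have hpo : Odd p := hp.odd_of_ne_two (by omega)
  have hqo : Odd q := hq.odd_of_ne_two (by omega)
  have b1 : (p : ℝ) * u / ((p : ℝ) ^ q - 1) ≤ 5 / 4 :=
    (frac_le (by omega) hq.pos (m := 1) one_pos
      (by simpa using le_geo_of_orders hpo (by omega) hq hq3 hu)).trans
      (by simpa using ratio_five hp5)
  have b2 : (q : ℝ) * v / ((q : ℝ) ^ p - 1) ≤ 3 / 2 :=
    (frac_le (by omega) hp.pos (m := 1) one_pos
      (by simpa using le_geo_of_orders hqo (by omega) hp (by omega) hv)).trans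
      (by simpa using ratio_three hq3)
  unfold mass at h
  constructor <;> by_contra hne
  · have h1 : u * q ≤ geo p q := (orders_left hpo (by omega) hq hq3 hu).resolve_left hne
    have a1 : (p : ℝ) * u / ((p : ℝ) ^ q - 1) ≤ 5 / 4 / 3 :=
      (frac_le (by omega) hq.pos (m := 3) (by norm_num)
        (le_trans (Nat.mul_le_mul_left u hq3) h1)).trans
        (div_le_div_of_nonneg_right (ratio_five hp5) (by norm_num))
    linarith
  · have h2 : v * (2 * p + 1) ≤ geo q p :=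
      (orders_right hp hqo (by omega) hqp hp5 hv).resolve_left hne
    have a2 : (q : ℝ) * v / ((q : ℝ) ^ p - 1) ≤ 3 / 2 / 11 :=
      (frac_le (by omega) hp.pos (m := 11) (by norm_num)
        (le_trans (Nat.mul_le_mul_left v (by omega)) h2)).trans
        (div_le_div_of_nonneg_right (ratio_three hq3) (by norm_num))
    linarith

end Pair

end CfsgLib.PF.Sec14
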