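import Cfsg.Agent.Lib.PF.Sec14Type1

/-!
# Peterfalvi §14: Bessel's inequality for the bridges

The coefficients of the bridge of a Frobenius subgroup `L` of Type I along the cyclic family, along the
pair of characters `x φ`, `conj (x φ)`, along further orthonormal vectors and along one more vector of
known norm, and of any other function along the characters `x χ`.
-/

set_option autoImplicit false
set_option linter.unusedSectionVars false

namespace CfsgLib.PF.Sec14

open scoped Classical ComplexConjugate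
open Finset CfsgLib.Characters CfsgLib.OddChar

universe u

section Basic

variable {X : Type u} [Group X] [Fintype X]

/-- Two orthonormal families orthogonal to each other make one. -/
theorem orth_sum {ι κ : Type*} {v : ι → X → ℂ} {w : κ → X → ℂ}
    (hv : ∀ i j, Cfsg.classInner (v i) (v j) = if i = j then 1 else 0)
    (hw : ∀ i j, Cfsg.classInner (w i) (w j) = if i = j then 1 else 0)
    (hvw : ∀ i k, Cfsg.classInner (v i) (w k) = 0) :
    ∀ i j, Cfsg.classInner (Sum.elim v w i) (Sum.elim v w j) = if i = j then 1 else 0 := by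
  rintro (i | i) (j | j)
  · simp [hv]
  · simp [hvw]
  · simp [classInner_conj_symm (v j) (w i), hvw]
  · simp [hw]

/-- Bessel's inequality with one further vector, orthogonal to an orthonormal family. -/
theorem bessel_extra {ι : Type*} [Fintype ι] {v : ι → X → ℂ}
    (hv : ∀ i j, Cfsg.classInner (v i) (v j) = if i = j then 1 else 0) (f V : X → ℂ) {Q : ℝ}
    (hV : Cfsg.classInner V V = (Q : ℂ)) (hVv : ∀ i, Cfsg.classInner V (v i) = 0) :
    ∑ i, Complex.normSq (Cfsg.classInner f (v i)) + Complex.normSq (Cfsg.classInner f V) / Q ≤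
      (Cfsg.classInner f f).re := by
  set c : ℂ := Cfsg.classInner f V / (Q : ℂ) with hc
  have h := Sec12.bessel v (fun i j => by convert hv i j) (f - c • V)
  have e1 : ∀ i, Cfsg.classInner (f - c • V) (v i) = Cfsg.classInner f (v i) := fun i => by
    rw [classInner_sub_left, classInner_smul_left, hVv, mul_zero, sub_zero]
  have e2 : Cfsg.classInner (f - c • V) (f - c • V) =
      Cfsg.classInner f f - ((Complex.normSq (Cfsg.classInner f V) / Q : ℝ) : ℂ) := by
    rw [classInner_sub_left, classInner_sub_right, classInner_sub_right, classInner_smul_left,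
      classInner_smul_left, classInner_smul_right, classInner_smul_right, hV,
      classInner_conj_symm f V, hc, Complex.ofReal_div, Complex.normSq_eq_conj_mul_self, map_div₀,
      Complex.conj_ofReal]
    by_cases hQ : (Q : ℂ) = 0
    · simp [hQ]
    · field_simp
      ring
  simp only [e1] at h
  rw [e2, Complex.sub_re, Complex.ofReal_re] at h
  linarith

/-- A signed character and its conjugate, as a family. -/
def conjPair (σ : X → ℂ) : Bool → X → ℂ := fun b => if b then σ else Cfsg.conjFun σ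

theorem conjPair_orth {σ : X → ℂ} (hσ : IsSigned σ)
    (h : Cfsg.classInner σ (Cfsg.conjFun σ) = 0) :
    ∀ i j, Cfsg.classInner (conjPair σ i) (conjPair σ j) = if i = j then 1 else 0 := by
  intro i j
  have h' : Cfsg.classInner (Cfsg.conjFun σ) σ = 0 := by rw [classInner_conj_symm, h, map_zero]
  cases i <;> cases j <;> simp [conjPair, h, h', hσ.norm_one, (conjFun_signed hσ).norm_one]

/-- Conjugation moving `β` along a pair forces a non-zero coefficient at the pair. -/
theorem conjPair_ge {β σ : X → ℂ} (hσ : IsSigned σ)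
    (ho : Cfsg.classInner σ (Cfsg.conjFun σ) = 0)
    (hc : Cfsg.conjFun β = β + σ - Cfsg.conjFun σ) {k : ℤ} (hk : Cfsg.classInner β σ = k) :
    1 ≤ ∑ b, Complex.normSq (Cfsg.classInner β (conjPair σ b)) := by
  have h' : Cfsg.classInner (Cfsg.conjFun σ) σ = 0 := by rw [classInner_conj_symm, ho, map_zero]
  have e : Cfsg.classInner β (Cfsg.conjFun σ) = ((k + 1 : ℤ) : ℂ) := by
    have h := classInner_conjFun (Cfsg.conjFun β) σ
    rw [conjFun_conjFun, hc, classInner_sub_left, classInner_add_left, hk, hσ.norm_one, h'] at h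
    rw [h]
    simp
  have h0 : (1 : ℤ) ≤ k * k + (k + 1) * (k + 1) := by
    rcases le_or_gt 0 k with h1 | h1 <;> nlinarith
  have h1 : ((1 : ℤ) : ℝ) ≤ ((k * k + (k + 1) * (k + 1) : ℤ) : ℝ) := by exact_mod_cast h0
  rw [Fintype.sum_bool, show conjPair σ true = σ from rfl,
    show conjPair σ false = Cfsg.conjFun σ from rfl, hk, e, Complex.normSq_intCast,
    Complex.normSq_intCast]
  push_cast at h1 ⊢
  linarith

/-- A non-zero integer has squared modulus at least one. -/
theorem one_le_normSq_int {k : ℤ} (hk : k ≠ 0) : (1 : ℝ) ≤ Complex.normSq (k : ℂ) := by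
  have h : (1 : ℤ) ≤ k * k := by
    have := mul_self_pos.mpr hk
    omega
  have h' : ((1 : ℤ) : ℝ) ≤ ((k * k : ℤ) : ℝ) := by exact_mod_cast h
  rw [Complex.normSq_intCast]
  push_cast at h'
  linarith

end Basic

variable {G : Type u} [Group G] [Fintype G]

section Family

variable {W₁ W₂ : Subgroup G} (hW : Cfsg.IsSelfNormalizingCyclic W₁ W₂)
  {η : (↥(W₁ ⊔ W₂) →* ℂˣ) → (G → ℂ)} (hη : Cfsg.IsCyclicTIFamily W₁ W₂ η)
  [Fintype (↥(W₁ ⊔ W₂) →* ℂˣ)]

include hη

omit [Fintype (↥(W₁ ⊔ W₂) →* ℂˣ)] in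
theorem family_inner_one {ω : ↥(W₁ ⊔ W₂) →* ℂˣ} (hω : ω ≠ 1) :
    Cfsg.classInner (η ω) (fun _ => 1) = 0 := by
  rw [← hη.map_one, hη.orthonormal, if_neg hω]

theorem family_sum_ge_one {f : G → ℂ} (h1 : Cfsg.classInner f (fun _ => 1) = 1) :
    1 ≤ ∑ ω, Complex.normSq (Cfsg.classInner f (η ω)) := by
  refine le_trans ?_ (Finset.single_le_sum (f := fun ω => Complex.normSq (Cfsg.classInner f (η ω)))
    (fun ω _ => Complex.normSq_nonneg _) (mem_univ 1))
  simp only [hη.map_one, h1, map_one, le_refl]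

include hW

/-- A row of non-zero integral coefficients. -/
theorem family_sum_ge_row {f : G → ℂ} (h1 : Cfsg.classInner f (fun _ => 1) = 1)
    (hrow : ∀ ω, TrivL ω → ω ≠ 1 → ∃ n : ℤ, n ≠ 0 ∧ Cfsg.classInner f (η ω) = n) :
    (Nat.card W₂ : ℝ) ≤ ∑ ω, Complex.normSq (Cfsg.classInner f (η ω)) := by
  have hc : (univ.filter fun ω : ↥(W₁ ⊔ W₂) →* ℂˣ => TrivL ω).card = Nat.card W₂ := by
    rw [← card_trivL hW, Nat.card_eq_fintype_card, Fintype.card_subtype]
  refine le_trans ?_ (Finset.sum_le_sum_of_subset_of_nonneg (Finset.subset_univ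
    (univ.filter fun ω : ↥(W₁ ⊔ W₂) →* ℂˣ => TrivL ω)) fun ω _ _ => Complex.normSq_nonneg _)
  rw [← hc, ← nsmul_one, ← Finset.sum_const]
  refine Finset.sum_le_sum fun ω hω => ?_
  by_cases hω1 : ω = 1
  · simp only [hω1, hη.map_one, h1, map_one, le_refl]
  · obtain ⟨n, hn0, hn⟩ := hrow ω (mem_filter.mp hω).2 hω1
    rw [hn]
    exact one_le_normSq_int hn0

end Family

section Frob

variable (hG : Cfsg.IsMinSimpleOddOrder G) {L : Subgroup G} (hL : IsCoatom L) (hI : OfTypeI L)
  (hF : IsFrobF L) {I : Finset (↥L → ℂ)} {φ : ↥L → ℂ} {w : (↥L → ℂ) → ℕ}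
  {x : (↥L → ℂ) → (G → ℂ)} (d : FrobData L I φ w x)

/-- The characters `x χ` as a family. -/
def xFam (x : (↥L → ℂ) → (G → ℂ)) (I : Finset (↥L → ℂ)) : ↥I → G → ℂ := fun χ => x χ

include d

theorem xFam_orth : ∀ i j, Cfsg.classInner (xFam x I i) (xFam x I j) = if i = j then 1 else 0 := by
  rintro ⟨χ, hχ⟩ ⟨χ', hχ'⟩
  by_cases h : χ = χ'
  · subst h
    rw [if_pos rfl]
    exact (d.x_signed χ hχ).norm_one
  · rw [if_neg fun e => h (congrArg Subtype.val e)]
    exact d.x_orth χ hχ χ' hχ' h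

/-- Proportional coefficients along the `x χ`. -/
theorem xFam_sum {f : G → ℂ} {k : ℤ}
    (hk : ∀ χ ∈ I, Cfsg.classInner f (x χ) = ((w χ * k : ℤ) : ℂ)) :
    ∑ χ : ↥I, Complex.normSq (Cfsg.classInner f (xFam x I χ)) =
      (k : ℝ) ^ 2 * (((Nat.card (Cfsg.fittingHallOf L) : ℝ) - 1) /
        ((Cfsg.fittingHall ↥L).index : ℝ)) := by
  have he : (0 : ℝ) < ((Cfsg.fittingHall ↥L).index : ℝ) :=
    Nat.cast_pos.mpr (Nat.pos_of_ne_zero Subgroup.index_ne_zero_of_finite)
  have hs := congrArg (Nat.cast : ℕ → ℝ) d.sum_sq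
  rw [← CfsgLib.OddOrder.card_fittingHallOf] at hs
  push_cast at hs
  calc ∑ χ : ↥I, Complex.normSq (Cfsg.classInner f (xFam x I χ))
      = ∑ χ : ↥I, (k : ℝ) ^ 2 * ((w χ : ℝ) ^ 2) := Finset.sum_congr rfl fun χ _ => by
        rw [show xFam x I χ = x χ from rfl, hk χ χ.2, Complex.normSq_intCast]
        push_cast
        ring
    _ = _ := by
        rw [← Finset.mul_sum, Finset.sum_coe_sort I (fun χ => (w χ : ℝ) ^ 2), ← hs]
        field_simp
        ring

theorem xFam_sum_ge {f : G → ℂ} {k : ℤ} (hk0 : k ≠ 0)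
    (hk : ∀ χ ∈ I, Cfsg.classInner f (x χ) = ((w χ * k : ℤ) : ℂ)) :
    ((Nat.card (Cfsg.fittingHallOf L) : ℝ) - 1) / ((Cfsg.fittingHall ↥L).index : ℝ) ≤
      ∑ χ : ↥I, Complex.normSq (Cfsg.classInner f (xFam x I χ)) := by
  rw [xFam_sum d hk]
  refine le_mul_of_one_le_left (div_nonneg (sub_nonneg.mpr (Nat.one_le_cast.mpr Nat.card_pos))
    (Nat.cast_nonneg _)) ?_
  have : (1 : ℤ) ≤ k ^ 2 := by
    rw [pow_two]; have := mul_self_pos.mpr hk0; omega
  exact_mod_cast this

include hG hL hI hF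

/-- Bessel for `β_L`: the cyclic family, the pair at `φ`, further vectors, one more of norm `Q`. -/
theorem betaI_bessel {W₁ W₂ : Subgroup G} [Fintype (↥(W₁ ⊔ W₂) →* ℂˣ)]
    (hW : Cfsg.IsSelfNormalizingCyclic W₁ W₂)
    (hcop : (Nat.card ↥(W₁ ⊔ W₂)).Coprime (Nat.card (Cfsg.fittingHallOf L)))
    {η : (↥(W₁ ⊔ W₂) →* ℂˣ) → (G → ℂ)} (hη : Cfsg.IsCyclicTIFamily W₁ W₂ η)
    (hηc : ∀ ω, η ω⁻¹ = Cfsg.conjFun (η ω)) {J : Type*} [Fintype J] (v : J → G → ℂ)
    (hv : ∀ i j, Cfsg.classInner (v i) (v j) = if i = j then 1 else 0)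
    (hvη : ∀ j ω, Cfsg.classInner (η ω) (v j) = 0)
    (hvx : ∀ j, ∀ χ ∈ I, Cfsg.classInner (x χ) (v j) = 0)
    {V : G → ℂ} {Q : ℝ} (hV : Cfsg.classInner V V = (Q : ℂ))
    (hVη : ∀ ω, Cfsg.classInner V (η ω) = 0) (hVx : ∀ χ ∈ I, Cfsg.classInner V (x χ) = 0)
    (hVv : ∀ j, Cfsg.classInner V (v j) = 0) :
    ∑ ω, Complex.normSq (Cfsg.classInner (tau L (bridgeI L φ)) (η ω)) + 1 +
        ∑ j, Complex.normSq (Cfsg.classInner (tau L (bridgeI L φ)) (v j)) +
        Complex.normSq (Cfsg.classInner (tau L (bridgeI L φ)) V) / Q ≤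
      ((Cfsg.fittingHall ↥L).index : ℝ) + 1 := by
  obtain ⟨hgen, hnorm, -, hc⟩ := betaI_props hG hL hI hF d
  rw [d.x_conj φ d.φ_mem] at hc
  have hσ := d.x_signed φ d.φ_mem
  have ho := x_conj_orth hG hL hI hF d d.φ_mem
  have hxc : Cfsg.conjFun (x φ) = x (Cfsg.conjFun φ) := (d.x_conj φ d.φ_mem).symm
  obtain ⟨k, hk⟩ := classInner_generalized_int hgen hσ.generalized
  have hη0 : ∀ ω, ∀ χ ∈ I, Cfsg.classInner (η ω) (x χ) = 0 := fun ω χ hχ => by
    rw [classInner_conj_symm, x_eta_orth hG hL hI hF d hW hcop hη hηc hχ ω, map_zero]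
  have hpv : ∀ b j, Cfsg.classInner (conjPair (x φ) b) (v j) = 0 := fun b j => by
    cases b
    · show Cfsg.classInner (Cfsg.conjFun (x φ)) _ = 0
      rw [hxc]; exact hvx j _ (d.conj_mem φ d.φ_mem)
    · exact hvx j φ d.φ_mem
  have hηp : ∀ ω b, Cfsg.classInner (η ω) (conjPair (x φ) b) = 0 := fun ω b => by
    cases b
    · show Cfsg.classInner _ (Cfsg.conjFun (x φ)) = 0
      rw [hxc]; exact hη0 ω _ (d.conj_mem φ d.φ_mem)
    · exact hη0 ω φ d.φ_mem
  have hVp : ∀ b, Cfsg.classInner V (conjPair (x φ) b) = 0 := fun b => by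
    cases b
    · show Cfsg.classInner _ (Cfsg.conjFun (x φ)) = 0
      rw [hxc]; exact hVx _ (d.conj_mem φ d.φ_mem)
    · exact hVx φ d.φ_mem
  have hall := orth_sum (v := η) (w := Sum.elim (conjPair (x φ)) v)
    (fun i j => by convert hη.orthonormal i j)
    (fun i j => by
      convert orth_sum (v := conjPair (x φ)) (w := v)
        (fun i j => by convert conjPair_orth hσ ho i j) (fun i j => by convert hv i j) hpv i j)
    (fun ω i => by rcases i with b | j <;> [exact hηp ω b; exact hvη j ω])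
  have hVall : ∀ i, Cfsg.classInner V (Sum.elim η (Sum.elim (conjPair (x φ)) v) i) = 0 := by
    rintro (ω | b | j)
    exacts [hVη ω, hVp b, hVv j]
  have hB := bessel_extra (fun i j => by convert hall i j) (tau L (bridgeI L φ)) V hV hVall
  rw [hnorm, Fintype.sum_sum_type, Fintype.sum_sum_type] at hB
  simp only [Sum.elim_inl, Sum.elim_inr, Complex.add_re, Complex.natCast_re, Complex.one_re] at hB
  have := conjPair_ge hσ ho hc hk
  linarith

end Frob

end CfsgLib.PF.Sec14
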