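import Cfsg.Agent.Lib.PF.Sec14Arith

/-!
# Peterfalvi §14: the norm budgets leave no room for a small `u`
-/

set_option autoImplicit false

namespace CfsgLib.PF.Sec14

open Finset

theorem exp_step {q : ℕ} (hq : 0 < q) : (q + 1) ^ q ≤ 3 * q ^ q := by
  have hq' : (0 : ℝ) < q := by exact_mod_cast hq
  have h1 : (((q : ℝ) + 1) / q) ^ q ≤ 3 := by
    have h2 : ((q : ℝ) + 1) / q ≤ Real.exp (1 / q) := by
      have := Real.add_one_le_exp (1 / (q : ℝ))
      calc ((q : ℝ) + 1) / q = 1 / q + 1 := by field_simp; ring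
        _ ≤ _ := this
    calc (((q : ℝ) + 1) / q) ^ q ≤ Real.exp (1 / q) ^ q := pow_le_pow_left₀ (by positivity) h2 q
      _ = Real.exp 1 := by rw [← Real.exp_nat_mul]; field_simp
      _ ≤ 3 := Real.exp_one_lt_three.le
  rw [div_pow, div_le_iff₀ (by positivity)] at h1
  exact_mod_cast h1

/-- `9 p^q ≤ 5 q^p` for `3 ≤ q`, `q + 2 ≤ p`. -/
theorem pow_cmp {p q : ℕ} (hq3 : 3 ≤ q) (hq : Odd q) (hqp : q + 2 ≤ p) :
    9 * p ^ q ≤ 5 * q ^ p := by
  induction p, hqp using Nat.le_induction with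
  | base =>
    rcases Nat.lt_or_ge q 5 with h | h
    · have : q = 3 := by have := Nat.odd_iff.mp hq; omega
      subst this
      norm_num
    · have h1 : (q + 2) ^ q * q ^ q ≤ (q + 1) ^ q * (q + 1) ^ q := by
        rw [← mul_pow, ← mul_pow]
        exact Nat.pow_le_pow_left (by nlinarith) q
      have h2 : (q + 1) ^ q * (q + 1) ^ q ≤ (3 * q ^ q) * (3 * q ^ q) :=
        Nat.mul_le_mul (exp_step (by omega)) (exp_step (by omega))
      have h3 : 0 < q ^ q := pow_pos (by omega) q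
      have h4 : (q + 2) ^ q ≤ 9 * q ^ q := Nat.le_of_mul_le_mul_right (by linarith) h3
      have h5 : 81 ≤ 5 * q ^ 2 := by nlinarith
      rw [pow_add]
      calc 9 * (q + 2) ^ q ≤ 81 * q ^ q := by linarith
        _ ≤ 5 * q ^ 2 * q ^ q := Nat.mul_le_mul_right _ h5
        _ = _ := by ring
  | succ n hn ih =>
    have h1 : (n + 1) ^ q * q ^ q ≤ (q + 1) ^ q * n ^ q := by
      rw [← mul_pow, ← mul_pow]
      exact Nat.pow_le_pow_left (by nlinarith) q
    have h2 : (n + 1) ^ q * q ^ q ≤ (q * n ^ q) * q ^ q :=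
      calc (n + 1) ^ q * q ^ q ≤ (q + 1) ^ q * n ^ q := h1
        _ ≤ 3 * q ^ q * n ^ q := Nat.mul_le_mul_right _ (exp_step (by omega))
        _ ≤ q * q ^ q * n ^ q := by gcongr
        _ = _ := by ring
    have h4 : (n + 1) ^ q ≤ q * n ^ q := Nat.le_of_mul_le_mul_right h2 (pow_pos (by omega) q)
    rw [pow_succ]
    calc 9 * (n + 1) ^ q ≤ q * (9 * n ^ q) := by linarith
      _ ≤ q * (5 * q ^ n) := Nat.mul_le_mul_left q ih
      _ = _ := by ring

theorem sq_lt_pow {p q : ℕ} (hq3 : 3 ≤ q) (hp : 5 ≤ p) : p ^ 2 < q ^ (p - 2) := by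
  refine lt_of_lt_of_le ?_ (Nat.pow_le_pow_left hq3 _)
  induction p, hp using Nat.le_induction with
  | base => norm_num
  | succ n hn ih =>
    have h1 : n + 1 - 2 = (n - 2) + 1 := by omega
    rw [h1, pow_succ 3]
    nlinarith

theorem sq_lt_pow' {p q : ℕ} (hq3 : 3 ≤ q) (hp : 7 ≤ p) : p ^ 2 < q ^ (p - 3) := by
  refine lt_of_lt_of_le ?_ (Nat.pow_le_pow_left hq3 _)
  induction p, hp using Nat.le_induction with
  | base => norm_num
  | succ n hn ih =>
    have h1 : n + 1 - 3 = (n - 3) + 1 := by omega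
    rw [h1, pow_succ 3]
    nlinarith

theorem modEq_one_of_primes {n a : ℕ} (ha : a ≠ 0)
    (h : ∀ r : ℕ, r.Prime → r ∣ a → r % n = 1) : a ≡ 1 [MOD n] := by
  induction a using induction_on_primes with
  | zero => exact absurd rfl ha
  | one => rfl
  | prime_mul r b hr ih =>
    have h1 : r ≡ 1 [MOD n] := by
      rcases Nat.eq_zero_or_pos n with rfl | hn
      · have := h r hr (dvd_mul_right r b)
        rw [Nat.mod_zero] at this
        rw [this]
      · have h2 := h r hr (dvd_mul_right r b)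
        unfold Nat.ModEq
        rw [h2]
        rcases eq_or_ne n 1 with rfl | hn1
        · simp [Nat.mod_one] at h2
        · rw [Nat.mod_eq_of_lt (by omega)]
    have h2 := h1.mul (ih (right_ne_zero_of_mul ha) fun s hs hsb =>
      h s hs (hsb.mul_left r))
    simpa using h2

section Pair

variable {p q u v : ℕ} (hp : p.Prime) (hq : q.Prime) (hq3 : 3 ≤ q) (hqp : q < p)
include hp hq hq3 hqp

theorem q_add_two_le : q + 2 ≤ p := by
  have h1 := Nat.odd_iff.mp (hp.odd_of_ne_two (by omega))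
  have h2 := Nat.odd_iff.mp (hq.odd_of_ne_two (by omega))
  omega

/-- The prime divisors of `1 + q + ⋯ + q^(p-1)` are `1` modulo `p`. -/
theorem prime_dvd_geo_right {r : ℕ} (hr : r.Prime) (h : r ∣ geo q p) : r % p = 1 := by
  rcases prime_dvd_geo hq.pos hp hr h with rfl | ⟨h1, -⟩
  · exfalso
    have : Fact r.Prime := ⟨hr⟩
    have h2 := congrArg (Nat.cast : ℕ → ZMod r) (geo_mul' r hq.pos)
    push_cast at h2
    rw [(ZMod.natCast_eq_zero_iff (geo q r) r).mpr h, zero_mul, zero_add, ZMod.pow_card] at h2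
    have h3 : r ∣ q - 1 := by
      rw [← ZMod.natCast_eq_zero_iff, Nat.cast_sub hq.pos, ← h2, Nat.cast_one, sub_self]
    have := Nat.le_of_dvd (by omega) h3
    omega
  · exact h1

theorem orders_five (hu : Orders p q u) (h5 : p = 5) : u = geo p q := by
  have hq' : q = 3 := by
    have := q_add_two_le hp hq hq3 hqp
    omega
  subst h5
  subst hq'
  rcases hu.2.2 with ⟨hd, -⟩ | ⟨a, ha1, hao, had, -⟩
  · have h31 : geo 5 3 = 31 := by decide
    rw [h31] at hd ⊢
    exact ((Nat.dvd_prime (by norm_num)).mp hd).resolve_left (by have := hu.1; omega)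
  · have := Nat.le_of_dvd (by norm_num) had
    interval_cases a <;> simp_all (config := { decide := true })

/-- A core of order at most `p u` cannot contain a maximal `V` unless `u` is maximal. -/
theorem small_right_absurd (hu : Orders p q u) (hne : u ≠ geo p q)
    (h : geo q p ≤ p * (u - 1) + p * q + 1) : False := by
  have hp5 := p_ge_five hp hq hq3 hqp
  have hpo : Odd p := hp.odd_of_ne_two (by omega)
  have hqo : Odd q := hq.odd_of_ne_two (by omega)
  have h1 : u * q ≤ geo p q := (orders_left hpo (by omega) hq hq3 hu).resolve_left hne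
  have h2 : q ^ (p - 1) ≤ geo q p := pow_le_geo hp.pos
  have h3 : p * (u - 1) + p ≤ p * u := by rw [← Nat.mul_add_one, Nat.sub_add_cancel hu.1.le]
  have h4 : q ^ p = q ^ (p - 1) * q := by rw [← pow_succ, Nat.sub_add_cancel hp.pos]
  have h5 : q ^ p + p * q ≤ p * geo p q + p * q * q + q := by
    have : (q ^ (p - 1) + p) * q ≤ (p * u + p * q + 1) * q := Nat.mul_le_mul_right q (by omega)
    have : p * (u * q) ≤ p * geo p q := Nat.mul_le_mul_left p h1
    nlinarith
  have h6 : geo p q * (p - 1) + 1 = p ^ q := geo_mul' q hp.pos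
  have h7 : 4 * (p * geo p q) ≤ 5 * (geo p q * (p - 1)) := by
    obtain ⟨c, rfl⟩ : ∃ c, p = c + 5 := ⟨p - 5, by omega⟩
    rw [show c + 5 - 1 = c + 4 by omega]
    nlinarith
  have h8 := pow_cmp hq3 hqo (q_add_two_le hp hq hq3 hqp)
  rcases Nat.lt_or_ge q 5 with hq5 | hq5
  · have : q = 3 := by have := Nat.odd_iff.mp hqo; omega
    subst this
    nlinarith [Nat.mul_le_mul (Nat.mul_le_mul hp5 hp5) (le_refl p)]
  · have h9 : p ^ 5 ≤ p ^ q := Nat.pow_le_pow_right hp.pos hq5
    have h10 : q * q ≤ p * p := Nat.mul_le_mul hqp.le hqp.le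
    have h11 : 25 * (p * q * q) ≤ p ^ 5 := by
      have h12 : p * q * q ≤ p ^ 3 := by
        calc p * q * q ≤ p * p * p := by gcongr
          _ = p ^ 3 := by ring
      have h13 : 25 * p ^ 3 ≤ p ^ 2 * p ^ 3 := by gcongr; nlinarith
      calc 25 * (p * q * q) ≤ 25 * p ^ 3 := by linarith
        _ ≤ p ^ 2 * p ^ 3 := h13
        _ = p ^ 5 := by ring
    nlinarith

end Pair

theorem budget_three_galois {p u h : ℕ} (hp : p.Prime) (hp5 : 5 ≤ p) (huh : u ∣ h) (h1 : 1 < h)
    (hodd : Odd h) (hmod : h ≡ 1 [MOD p * 3]) (hu1 : 1 < u) (hu3 : u % 3 = 1)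
    (hd : u ∣ geo p 3) (hne : u ≠ geo p 3) (hcop : u.Coprime (p - 1))
    (hb : u * (h - 1) + p * (p ^ 3 - 1) ≤ u * (p * (p - 1 + p * 3 * (3 - 1)))) : False := by
  have hpo : Odd p := hp.odd_of_ne_two (by omega)
  have hq : Nat.Prime 3 := Nat.prime_three
  have hqo : Odd 3 := ⟨1, rfl⟩
  have hgeo : geo p 3 = p * p + p + 1 := by
    simp [geo, Finset.sum_range_succ]; ring
  have hmodp : h ≡ 1 [MOD p] := hmod.of_dvd (dvd_mul_right p 3)
  have hmod3 : h ≡ 1 [MOD 3] := hmod.of_dvd (dvd_mul_left 3 p)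
  have hp3 : p % 3 ≠ 0 := fun h0 => by
    have := (Nat.prime_dvd_prime_iff_eq Nat.prime_three hp).mp (Nat.dvd_of_mod_eq_zero h0)
    omega
  obtain ⟨l, hl⟩ := huh
  have hlo : l % 2 = 1 := Nat.odd_iff.mp (hodd.of_dvd_nat ⟨u, by rw [hl]; ring⟩)
  have hl3 : l % 3 = 1 := by
    have h0 : (u * l) % 3 = 1 := by rw [← hl]; exact hmod3
    rw [Nat.mul_mod, hu3, one_mul, Nat.mod_mod] at h0
    exact h0
  obtain ⟨m, hm, hmo, hle, hcase⟩ := geo_cofactor hpo hq hqo hd hne
  have hmo' := Nat.odd_iff.mp hmo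
  have hk : p ^ 3 - 1 = u * m * (p - 1) := by
    rw [← hm]; have := geo_mul' 3 hp.pos; omega
  rw [hk] at hb
  have hb' : (h - 1) + p * m * (p - 1) ≤ p * (p - 1 + p * 3 * 2) := by
    have h0 : u * ((h - 1) + p * m * (p - 1)) ≤ u * (p * (p - 1 + p * 3 * 2)) := by
      calc u * ((h - 1) + p * m * (p - 1)) = u * (h - 1) + p * (u * m * (p - 1)) := by ring
        _ ≤ _ := hb
    exact Nat.le_of_mul_le_mul_left h0 (by have := hu1; omega)
  obtain ⟨c, rfl⟩ : ∃ c, p = c + 1 := ⟨p - 1, by omega⟩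
  rw [Nat.add_sub_cancel] at hb' hcase hcop
  have hm8 : m ≤ 8 := by
    by_contra hlt
    have : (c + 1) * 9 * c ≤ (c + 1) * m * c := by gcongr; omega
    nlinarith
  rw [hgeo] at hm
  by_cases hp1 : (c + 1) % 3 = 1
  · have h3c : 3 ∣ c := by omega
    have h3m : 3 ∣ m := by
      have h0 : 3 ∣ u * m := by
        rw [← hm]
        obtain ⟨d, rfl⟩ := h3c
        exact ⟨3 * d * d + 3 * d + 1, by ring⟩
      exact (Nat.Prime.dvd_mul Nat.prime_three).mp h0 |>.resolve_left (by omega)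
    have hm3 : m = 3 := by omega
    subst hm3
    have hl11 : l ≤ 11 := by
      by_contra hlt
      have : u * 12 ≤ h := by rw [hl]; exact Nat.mul_le_mul_left u (by omega)
      nlinarith [Nat.sub_add_cancel h1.le]
    have hl3p : l ≡ 3 [MOD c + 1] := by
      have h0 : u * 3 ≡ 1 [MOD c + 1] := by
        rw [← hm, ← hgeo]; exact geo_modEq_one (by norm_num)
      have h2 : u * 3 * l ≡ 3 [MOD c + 1] := by
        rw [show u * 3 * l = 3 * h by rw [hl]; ring]
        simpa using hmodp.mul_left 3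
      exact (by simpa using h0.mul_right l : u * 3 * l ≡ l [MOD c + 1]).symm.trans h2
    have hl17 : l = 1 ∨ l = 7 := by omega
    rcases hl17 with rfl | rfl
    · have := Nat.le_of_dvd (by norm_num) ((Nat.modEq_iff_dvd' (by norm_num)).mp hl3p)
      omega
    · have := Nat.le_of_dvd (by norm_num) ((Nat.modEq_iff_dvd' (by norm_num)).mp hl3p.symm)
      omega
  · have hm7 : m = 7 := by
      rcases hcase with ⟨-, h0⟩ | h0
      · omega
      · have h9 : m % 3 = 1 := by
          have h0 : (u * m) % 3 = 1 := by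
            rw [← hm]
            have : (c + 1) % 3 = 2 := by omega
            simp [Nat.add_mod, Nat.mul_mod, this]
          rw [Nat.mul_mod, hu3, one_mul, Nat.mod_mod] at h0
          exact h0
        omega
    subst hm7
    have hle6 : h - 1 ≤ 6 * (c + 1) := by nlinarith
    have hdvd : (c + 1) * 3 ∣ h - 1 := (Nat.modEq_iff_dvd' h1.le).mp hmod.symm
    have hh : h = 6 * (c + 1) + 1 := by
      obtain ⟨k, hk⟩ := hdvd
      have hk2 : k ≤ 2 := by nlinarith
      have := Nat.odd_iff.mp hodd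
      have := Nat.odd_iff.mp hpo
      interval_cases k <;> omega
    have h31 : u ∣ 31 := by
      have e : 36 * (u * 7) = (6 * (c + 1) + 5) * h + 31 := by rw [← hm, hh]; ring
      have hd1 : u ∣ 36 * (u * 7) := Dvd.intro _ (by ring : u * (36 * 7) = 36 * (u * 7))
      rw [e] at hd1
      exact (Nat.dvd_add_right (Dvd.intro _ (by rw [hl]; ring : u * ((6 * (c + 1) + 5) * l) =
        (6 * (c + 1) + 5) * h))).mp hd1
    have h31' : u = 31 :=
      ((Nat.dvd_prime (by norm_num)).mp h31).resolve_left (by have := hu1; omega)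
    subst h31'
    have : c ≤ 14 := by nlinarith
    have : 13 ≤ c := by nlinarith
    interval_cases c <;> omega

theorem budget_three_nonGalois {p u h : ℕ} (hp : p.Prime) (hp5 : 5 ≤ p) (huh : u ∣ h) (h1 : 1 < h)
    (hodd : Odd h) (hmod : h ≡ 1 [MOD p * 3]) (hu1 : 1 < u) (hu3 : u % 3 = 1) {a : ℕ}
    (hao : Odd a) (had : a ∣ p - 1) (hua : u ∣ a ^ (3 - 1))
    (hb : u * (h - 1) + p * (p ^ 3 - 1) ≤ u * (p * (p - 1 + p * 3 * (3 - 1)))) : False := by
  have hpo : Odd p := hp.odd_of_ne_two (by omega)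
  have hgeo : geo p 3 = p * p + p + 1 := by
    simp [geo, Finset.sum_range_succ]; ring
  have hmodp : h ≡ 1 [MOD p] := hmod.of_dvd (dvd_mul_right p 3)
  have hmod3 : h ≡ 1 [MOD 3] := hmod.of_dvd (dvd_mul_left 3 p)
  have hp3 : p % 3 ≠ 0 := fun h0 => by
    have := (Nat.prime_dvd_prime_iff_eq Nat.prime_three hp).mp (Nat.dvd_of_mod_eq_zero h0)
    omega
  obtain ⟨l, hl⟩ := huh
  have hlo : l % 2 = 1 := Nat.odd_iff.mp (hodd.of_dvd_nat ⟨u, by rw [hl]; ring⟩)
  have hl3 : l % 3 = 1 := by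
    have h0 : (u * l) % 3 = 1 := by rw [← hl]; exact hmod3
    rw [Nat.mul_mod, hu3, one_mul, Nat.mod_mod] at h0
    exact h0
  have ha2 : 2 * a ≤ p - 1 := by
    refine Nat.le_of_dvd (by omega) (Nat.Coprime.mul_dvd_of_dvd_of_dvd
      (Nat.coprime_two_left.mpr hao) ?_ had)
    have := Nat.odd_iff.mp hpo
    omega
  have ha4 : 2 * a = p - 1 ∨ 4 * a ≤ p - 1 := by
    obtain ⟨j, hj⟩ := had
    have h0 : 2 ∣ j := by
      have h2 : 2 ∣ a * j := by rw [← hj]; have := Nat.odd_iff.mp hpo; omega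
      exact (Nat.prime_two.dvd_mul.mp h2).resolve_left fun hh => by
        have := Nat.odd_iff.mp hao; omega
    obtain ⟨i, rfl⟩ := h0
    rcases Nat.lt_or_ge i 2 with hi | hi
    · interval_cases i <;> omega
    · right; nlinarith
  rw [show (3 : ℕ) - 1 = 2 by norm_num] at hua hb
  have hua' : u ≤ a ^ 2 := Nat.le_of_dvd (pow_pos hao.pos _) hua
  obtain ⟨c, rfl⟩ : ∃ c, p = c + 1 := ⟨p - 1, by omega⟩
  rw [Nat.add_sub_cancel] at ha4 ha2 hb
  have hcube : (c + 1) ^ 3 - 1 = c * (c * c + 3 * c + 3) := by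
    rw [show (c + 1) ^ 3 = c * (c * c + 3 * c + 3) + 1 by ring, Nat.add_sub_cancel]
  rw [hcube] at hb
  by_cases hua2 : u = a ^ 2 ∧ 2 * a = c
  · obtain ⟨hu', ha'⟩ := hua2
    have h4u : 4 * u = c * c := by rw [hu', ← ha']; ring
    have hb' : c * (h - 1) + 4 * (c + 1) * (c * c + 3 * c + 3) ≤
        c * ((c + 1) * (c + (c + 1) * 3 * 2)) := by
      have h0 : 0 < c := by omega
      refine Nat.le_of_mul_le_mul_left ?_ h0
      calc c * (c * (h - 1) + 4 * (c + 1) * (c * c + 3 * c + 3))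
          = 4 * (u * (h - 1) + (c + 1) * (c * (c * c + 3 * c + 3))) := by
            rw [show c * (c * (h - 1) + 4 * (c + 1) * (c * c + 3 * c + 3)) =
              (c * c) * (h - 1) + 4 * ((c + 1) * (c * (c * c + 3 * c + 3))) by ring, ← h4u]
            ring
        _ ≤ 4 * (u * ((c + 1) * (c + (c + 1) * 3 * 2))) := Nat.mul_le_mul_left 4 hb
        _ = _ := by rw [← mul_assoc, h4u]; ring
    have hl11 : l ≤ 11 := by
      by_contra hlt
      have : u * 12 ≤ h := by rw [hl]; exact Nat.mul_le_mul_left u (by omega)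
      nlinarith [Nat.sub_add_cancel h1.le]
    have hl4 : l ≡ 4 [MOD c + 1] := by
      have h0 : c * c ≡ 1 [MOD c + 1] := by
        have e : c * c + (c + 1) * 1 = 1 + (c + 1) * c := by ring
        have h9 := congrArg (· % (c + 1)) e
        simpa [Nat.ModEq, Nat.add_mul_mod_self_left, Nat.add_mod_right] using h9
      have h2 : c * c * l ≡ 4 [MOD c + 1] := by
        rw [show c * c * l = 4 * h by rw [← h4u, hl]; ring]
        simpa using hmodp.mul_left 4
      exact (by simpa using h0.mul_right l : c * c * l ≡ l [MOD c + 1]).symm.trans h2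
    have hl17 : l = 1 ∨ l = 7 := by omega
    rcases hl17 with rfl | rfl
    · have := Nat.le_of_dvd (by norm_num) ((Nat.modEq_iff_dvd' (by norm_num)).mp hl4)
      omega
    · have := Nat.le_of_dvd (by norm_num) ((Nat.modEq_iff_dvd' (by norm_num)).mp hl4.symm)
      omega
  · have h12 : 12 * u ≤ c * c := by
      rcases ha4 with ha' | ha'
      · have hu' : u ≠ a ^ 2 := fun h0 => hua2 ⟨h0, ha'⟩
        obtain ⟨j, hj⟩ := hua
        have hjo := Nat.odd_iff.mp
          ((hao.pow : Odd (a ^ 2)).of_dvd_nat (hj ▸ dvd_mul_left j u : j ∣ a ^ 2))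
        have : 3 ≤ j := by
          by_contra hlt
          interval_cases j <;> omega
        nlinarith
      · nlinarith
    have : (c + 1) * (c * (c * c + 3 * c + 3)) ≤ u * ((c + 1) * (c + (c + 1) * 3 * 2)) :=
      le_trans (Nat.le_add_left _ _) hb
    nlinarith

theorem budget_five {p q u h : ℕ} (hp : p.Prime) (hq : q.Prime) (hq5 : 5 ≤ q) (hqp : q < p)
    (hu : Orders p q u) (hne : u ≠ geo p q) (huh' : u ≤ h)
    (hb : u * (h - 1) + p * (p ^ q - 1) ≤ u * (p * (p - 1 + p * q * (q - 1)))) : False := by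
  have hq3 : 3 ≤ q := by omega
  have hp5 := p_ge_five hp hq hq3 hqp
  have hpo : Odd p := hp.odd_of_ne_two (by omega)
  have hqo : Odd q := hq.odd_of_ne_two (by omega)
  have hpq1 : 1 ≤ p ^ q := Nat.one_le_pow _ _ hp.pos
  set B := p * (p - 1 + p * q * (q - 1)) with hB
  have hu0 : 0 < u := by have := hu.1; omega
  have hb2 : u * (u - 1) + p * (p ^ q - 1) ≤ u * B :=
    le_trans (Nat.add_le_add_right (Nat.mul_le_mul_left u (by omega)) _) hb
  have hB2 : B + 1 ≤ p * p * q * q := by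
    rw [hB]
    obtain ⟨c, rfl⟩ : ∃ c, p = c + 1 := ⟨p - 1, by omega⟩
    obtain ⟨d, rfl⟩ : ∃ d, q = d + 1 := ⟨q - 1, by omega⟩
    rw [Nat.add_sub_cancel, Nat.add_sub_cancel]
    nlinarith
  have hkey : 4 * (p * (p ^ q - 1)) ≤ (B + 1) * (B + 1) := by
    have e : u * (u - 1) + u = u * u := by
      obtain ⟨d, rfl⟩ : ∃ d, u = d + 1 := ⟨u - 1, by omega⟩
      rw [Nat.add_sub_cancel]; ring
    nlinarith [sq_nonneg ((2 : ℤ) * u - (B + 1))]
  have hsq : 4 * (p * (p ^ q - 1)) ≤ p ^ 4 * q ^ 4 := by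
    calc 4 * (p * (p ^ q - 1)) ≤ (B + 1) * (B + 1) := hkey
      _ ≤ (p * p * q * q) * (p * p * q * q) := Nat.mul_le_mul hB2 hB2
      _ = _ := by ring
  have hp7 : 7 ≤ p := by have := q_add_two_le hp hq hq3 hqp; omega
  rcases Nat.lt_or_ge q 7 with hq7 | hq7
  · have : q = 5 := by have := Nat.odd_iff.mp hqo; omega
    subst this
    have hp12 : p ≤ 12 := by
      by_contra hlt
      have h5 : p ^ 5 - 1 + 1 = p ^ 5 := Nat.sub_add_cancel hpq1
      have h6 : 169 * p ^ 4 ≤ p ^ 6 := by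
        calc 169 * p ^ 4 ≤ p ^ 2 * p ^ 4 := by gcongr; nlinarith
          _ = p ^ 6 := by ring
      have h7 : 4 * p ≤ p ^ 4 := by
        calc 4 * p ≤ p ^ 3 * p := by gcongr; nlinarith
          _ = p ^ 4 := by ring
      nlinarith
    rcases hu.2.2 with ⟨hd, hcop⟩ | ⟨a, ha1, hao, had, hua⟩
    · have huB : u ≤ B + 1 := by
        have h0 : u - 1 ≤ B :=
          Nat.le_of_mul_le_mul_left (le_trans (Nat.le_add_right _ _) hb2) hu0
        omega
      interval_cases p <;> norm_num at hp <;> try omega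
      · rw [show geo 7 5 = 2801 by decide] at hd hne
        have := (Nat.dvd_prime (by norm_num)).mp hd
        have := hu.1
        omega
      · rw [show geo 11 5 = 5 * 3221 by decide] at hd hne
        rw [hB] at huB
        norm_num at huB hcop hne
        have h5u : u.Coprime 5 := hcop.coprime_dvd_right (by norm_num)
        have := (Nat.dvd_prime (by norm_num : Nat.Prime 3221)).mp (h5u.dvd_of_dvd_mul_left hd)
        have := hu.1
        omega
    · have hnb := nonGalois_bound hpo (by omega) hao had hua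
      have hu5 := hu.2.1
      interval_cases p <;> norm_num at hp <;> try omega
      · norm_num [hB] at hb2 hnb
        nlinarith
      · have := Nat.le_of_dvd (by norm_num) had
        have ha5 : a = 5 := by
          interval_cases a <;> simp_all (config := { decide := true })
        rw [ha5] at hua
        obtain ⟨j, hj, rfl⟩ := (Nat.dvd_prime_pow (by norm_num : Nat.Prime 5)).mp hua
        rcases j with _ | j
        · exact absurd hu.1 (by norm_num)
        · rw [pow_succ, Nat.mul_mod_left] at hu5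
          exact absurd hu5 (by norm_num)
  · have h1' : p ^ q - 1 + 1 = p ^ q := Nat.sub_add_cancel hpq1
    have h2 : p ^ 4 * p ^ 4 ≤ p * p ^ q := by
      rw [← pow_add, mul_comm p, ← pow_succ]
      exact Nat.pow_le_pow_right hp.pos (by omega)
    have h3 : q ^ 4 ≤ p ^ 4 := Nat.pow_le_pow_left hqp.le 4
    have h4 : p ^ 4 * q ^ 4 ≤ p ^ 4 * p ^ 4 := Nat.mul_le_mul_left _ h3
    have h5 : p * 8 ≤ p * p ^ q :=
      Nat.mul_le_mul_left p (le_trans (by omega) (Nat.le_self_pow hq.ne_zero p) |>.trans' (le_refl 8))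
    nlinarith

/-- The budget of a Frobenius subgroup containing `V` when `u` is small. -/
theorem budget_absurd {p q u : ℕ} (hp : p.Prime) (hq : q.Prime) (hq3 : 3 ≤ q) (hqp : q < p)
    (hu : Orders p q u) (hne : u ≠ geo p q) {h : ℕ} (huh : u ∣ h) (h1 : 1 < h)
    (hodd : Odd h) (hmod : h ≡ 1 [MOD p * q])
    (hb : u * (h - 1) + p * (p ^ q - 1) ≤ u * (p * (p - 1 + p * q * (q - 1)))) : False := by
  rcases Nat.lt_or_ge q 5 with hq5 | hq5
  · have hqo := Nat.odd_iff.mp (hq.odd_of_ne_two (by omega))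
    obtain rfl : q = 3 := by omega
    have hp5 := p_ge_five hp hq hq3 hqp
    rcases hu.2.2 with ⟨hd, hcop⟩ | ⟨a, -, hao, had, hua⟩
    · exact budget_three_galois hp hp5 huh h1 hodd hmod hu.1 hu.2.1 hd hne hcop hb
    · exact budget_three_nonGalois hp hp5 huh h1 hodd hmod hu.1 hu.2.1 hao had hua hb
  · exact budget_five hp hq hq5 hqp hu hne (Nat.le_of_dvd (by omega) huh) hb

end CfsgLib.PF.Sec14
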