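import Cfsg.Agent.Lib.PF.Sec14Side
import Cfsg.Agent.Lib.PF.Sec14Arith
import Cfsg.Agent.Lib.PF.Sec14Final
import Cfsg.Agent.Lib.PF.Sec9Core
import Cfsg.Agent.Lib.PF.Sec9Field
import Cfsg.Agent.Lib.PF.Sec9Chars
import Cfsg.Agent.Lib.OddOrder.MinSimple

/-!
# Peterfalvi §14: the orders of the complements and the final configuration

The possible orders of `U` on one side of a pair, the cyclicity and fixed-point freeness of `U` when it is
large, and the assembly of the conclusion of (14.16).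
-/

set_option autoImplicit false
set_option linter.unusedSectionVars false
set_option linter.style.haveILetI false

namespace CfsgLib.PF.Sec14

open scoped Classical
open Finset CfsgLib.OddOrder

universe u

variable {G : Type u} [Group G] [Fintype G]

theorem geo_eq_div {p q : ℕ} (hp : 1 < p) : geo p q = (p ^ q - 1) / (p - 1) := by
  rw [← geo_mul' q (by omega : 0 < p), Nat.add_sub_cancel, Nat.mul_div_cancel _ (by omega)]

/-- The chief factor of a side. -/
theorem side_factor (hG : Cfsg.IsMinSimpleOddOrder G) {S W₁ U W₂ : Subgroup G}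
    (C : SideCtx S W₁ U W₂) : CoreFactor S W₁ U W₂ ⊥ ⊥ (Nat.card W₂) := by
  obtain ⟨μ, δ, η, hd⟩ := propTIData hG (propTypes hG) (propDade hG) S W₁ U W₂ C.max C.data
  exact C.coreFactor hd propCoreFactor

theorem p_odd (hG : Cfsg.IsMinSimpleOddOrder G) (W : Subgroup G) : Odd (Nat.card W) :=
  minSimple_odd hG W

/-- The order of `U`. -/
theorem orders (hG : Cfsg.IsMinSimpleOddOrder G) {S W₁ U W₂ : Subgroup G} (C : SideCtx S W₁ U W₂) :
    Orders (Nat.card W₂) (Nat.card W₁) (Nat.card U) := by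
  refine ⟨C.u_one_lt, C.u_mod, ?_⟩
  have hF := side_factor hG C
  by_cases hGal : Galois S U ⊥
  · obtain ⟨hdvd, hcop, -⟩ := propGaloisField S W₁ U W₂ ⊥ ⊥ _ C.max C.kind hF hGal
    rw [Subgroup.relIndex_bot_left] at hdvd hcop
    rw [geo_eq_div C.p_prime.one_lt]
    exact Or.inl ⟨hdvd, hcop⟩
  · obtain ⟨a, ha1, had, hao, hu, -⟩ :=
      propNonGalois hG S W₁ U W₂ ⊥ ⊥ _ C.max C.kind hF hGal
    rw [Subgroup.relIndex_bot_left] at hu
    exact Or.inr ⟨a, ha1, hao, had, hu⟩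

/-- In the Galois case `U` is cyclic and acts without fixed points on `S_F`. -/
theorem cyclic_fpf_of_galois (hG : Cfsg.IsMinSimpleOddOrder G) {S W₁ U W₂ : Subgroup G}
    (C : SideCtx S W₁ U W₂) (hGal : Galois S U ⊥) :
    IsCyclic U ∧
      ∀ a ∈ Cfsg.fittingHallOf S, a ≠ 1 → ∀ b ∈ U, a * b = b * a → b = 1 := by
  obtain ⟨-, -, ⟨x, -, hx⟩, F, _, _, f, ψ, -, -, -, hzero, hψ, -, hψC, -⟩ :=
    propGaloisField S W₁ U W₂ ⊥ ⊥ _ C.max C.kind (side_factor hG C) hGal
  refine ⟨?_, fun a ha ha1 b hb hab => ?_⟩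
  · rw [bot_sup_eq] at hx
    rw [hx]
    infer_instance
  · have hfa : f a ≠ 0 := fun h => ha1 (Subgroup.mem_bot.mp ((hzero a ha).mp h))
    have h1 := (hψ b hb).2 a ha
    rw [← hab, mul_inv_cancel_right] at h1
    have h2 : ψ b = 1 := mul_right_cancel₀ hfa (by rw [one_mul, ← h1])
    exact Subgroup.mem_bot.mp ((hψC b hb).mp h2)

theorem galois_of_eq_geo (hG : Cfsg.IsMinSimpleOddOrder G) {S W₁ U W₂ : Subgroup G}
    (C : SideCtx S W₁ U W₂) (hu : Nat.card U = geo (Nat.card W₂) (Nat.card W₁)) : Galois S U ⊥ := by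
  by_contra hGal
  obtain ⟨a, -, had, hao, hua, -⟩ :=
    propNonGalois hG S W₁ U W₂ ⊥ ⊥ _ C.max C.kind (side_factor hG C) hGal
  rw [Subgroup.relIndex_bot_left] at hua
  have h1 := nonGalois_bound (q := Nat.card W₁) (p_odd hG W₂) C.p_prime.one_lt hao had hua
  have h2 : Nat.card W₂ ^ (Nat.card W₁ - 1) ≤ Nat.card U :=
    hu ▸ pow_le_geo C.q_prime.pos
  have h3 : (Nat.card W₂ - 1) ^ (Nat.card W₁ - 1) ≤ Nat.card W₂ ^ (Nat.card W₁ - 1) :=
    Nat.pow_le_pow_left (Nat.sub_le _ 1) _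
  have h4 : 3 ≤ 2 ^ (Nat.card W₁ - 1) := le_trans (C.q_three hG) (two_pow_ge (C.q_three hG))
  have h5 : Nat.card U * 3 ≤ Nat.card U * 2 ^ (Nat.card W₁ - 1) := Nat.mul_le_mul_left _ h4
  have := C.u_one_lt
  omega

/-- `|U| = 1 + p + ⋯ + p^(q-1)` forces the Galois case. -/
theorem galois_of_geo (hG : Cfsg.IsMinSimpleOddOrder G) {S W₁ U W₂ : Subgroup G}
    (C : SideCtx S W₁ U W₂) (_hqp : Nat.card W₁ < Nat.card W₂)
    (hu : Nat.card U = geo (Nat.card W₂) (Nat.card W₁)) :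
    IsCyclic U ∧ ∀ a ∈ Cfsg.fittingHallOf S, a ≠ 1 → ∀ b ∈ U, a * b = b * a → b = 1 :=
  cyclic_fpf_of_galois hG C (galois_of_eq_geo hG C hu)

/-- For `p < q` a divisor of `1 + p + ⋯ + p^(q-1)` forces the Galois case. -/
theorem galois_of_dvd (hG : Cfsg.IsMinSimpleOddOrder G) {S W₁ U W₂ : Subgroup G}
    (C : SideCtx S W₁ U W₂) (hlt : Nat.card W₂ < Nat.card W₁)
    (hu : Nat.card U ∣ geo (Nat.card W₂) (Nat.card W₁)) :
    IsCyclic U ∧ ∀ a ∈ Cfsg.fittingHallOf S, a ≠ 1 → ∀ b ∈ U, a * b = b * a → b = 1 := by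
  refine cyclic_fpf_of_galois hG C ?_
  by_contra hGal
  obtain ⟨a, -, had, -, hua, -⟩ :=
    propNonGalois hG S W₁ U W₂ ⊥ ⊥ _ C.max C.kind (side_factor hG C) hGal
  rw [Subgroup.relIndex_bot_left] at hua
  obtain ⟨r, hr, hrU⟩ := Nat.exists_prime_and_dvd C.u_one_lt.ne'
  have hrp : r ∣ Nat.card W₂ - 1 := (hr.dvd_of_dvd_pow (hrU.trans hua)).trans had
  have hp := C.p_prime.two_le
  rcases prime_dvd_geo (by omega) C.q_prime hr (hrU.trans hu) with h | ⟨-, h⟩
  · have := Nat.le_of_dvd (by omega) hrp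
    omega
  · exact h hrp

/-- A subgroup `U` of the kernel is normal in `L` when it is the kernel or the kernel is cyclic. -/
theorem norm_of_kernel {L U : Subgroup G} (hUH : U ≤ Cfsg.fittingHallOf L)
    (hc : U = Cfsg.fittingHallOf L ∨ IsCyclic (Cfsg.fittingHallOf L)) :
    L ≤ Subgroup.normalizer (U : Set G) := by
  rcases hc with rfl | hc
  · exact fittingHallOf_normal L
  refine Subgroup.le_normalizer_iff.2 fun g hg x hx => ?_
  have hn : ∀ y ∈ Cfsg.fittingHallOf L, g * y * g⁻¹ ∈ Cfsg.fittingHallOf L := fun y hy =>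
    (Subgroup.mem_normalizer_iff.mp (fittingHallOf_normal L hg) y).mp hy
  let σ : Cfsg.fittingHallOf L →* Cfsg.fittingHallOf L :=
    MonoidHom.mk' (fun y => ⟨g * y * g⁻¹, hn y y.2⟩) fun y z =>
      Subtype.ext (by simp only [Subgroup.coe_mul]; group)
  obtain ⟨m, hm⟩ := σ.map_cyclic
  have h := congrArg Subtype.val (hm ⟨x, hUH hx⟩)
  rw [SubgroupClass.coe_zpow] at h
  change g * x * g⁻¹ = x ^ m at h
  rw [h]
  exact U.zpow_mem hx m

/-- PF (14.16): the final configuration, given the order of `U` and the conjugate of `W₂`. -/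
theorem final_config (hG : Cfsg.IsMinSimpleOddOrder G) (hP : PropPairFacts G) (hR : PropRegFcore G)
    {S T W₁ W₂ U V : Subgroup G} (h : TypePPair S T W₁ W₂ U V)
    (hqp : Nat.card W₁ < Nat.card W₂) (hu : Nat.card U = geo (Nat.card W₂) (Nat.card W₁))
    (hy : ∃ y ∈ Cfsg.fittingHallOf T,
      W₂.map (MulAut.conj y).toMonoidHom ≤ Subgroup.normalizer (U : Set G)) :
    IsCyclic U ∧
      Nat.card U * (Nat.card W₂ - 1) = Nat.card W₂ ^ Nat.card W₁ - 1 ∧
      Nat.Coprime ((Nat.card W₂ ^ Nat.card W₁ - 1) / (Nat.card W₂ - 1)) (Nat.card W₂ - 1) ∧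
      (Nat.card (Cfsg.fittingHallOf T)).Coprime (Nat.card W₂) ∧
      Cfsg.IsElementaryAbelian (Nat.card W₁) (Cfsg.fittingHallOf T) ∧
      W₂ ≤ Subgroup.normalizer (Cfsg.fittingHallOf T : Set G) ∧
      (∃ y ∈ Cfsg.fittingHallOf T,
        W₂.map (MulAut.conj y).toMonoidHom ≤ Subgroup.normalizer (U : Set G)) ∧
      ∃ (F : Type) (_ : Field F) (_ : Fintype F) (f : G → F) (ψ : G → F),
        Fintype.card F = Nat.card W₂ ^ Nat.card W₁ ∧
        Set.BijOn f (Cfsg.fittingHallOf S : Set G) Set.univ ∧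
        (∀ x ∈ Cfsg.fittingHallOf S, ∀ x' ∈ Cfsg.fittingHallOf S, f (x * x') = f x + f x') ∧
        (∀ u ∈ U, ψ u ≠ 0 ∧ ∀ x ∈ Cfsg.fittingHallOf S, f (u * x * u⁻¹) = ψ u * f x) ∧
        (∀ u ∈ U, ∀ u' ∈ U, ψ (u * u') = ψ u * ψ u') ∧ Set.InjOn ψ (U : Set G) ∧
        (∀ x ∈ Cfsg.fittingHallOf S, x ∈ W₂ ↔ f x ^ Nat.card W₂ = f x) := by
  have C := sideCtx hP hR h
  have C' := sideCtx hP hR h.symm
  have hGal := galois_of_eq_geo hG C hu
  obtain ⟨-, hcop, -, F, iF, iFt, f, ψ, hcard, hsurj, hadd, hzero, hψ, hψm, hψC, hW₂⟩ :=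
    propGaloisField S W₁ U W₂ ⊥ ⊥ _ C.max C.kind (side_factor hG C) hGal
  rw [Subgroup.relIndex_bot_left, hu, geo_eq_div C.p_prime.one_lt] at hcop
  set p := Nat.card W₂ with hp
  set P := Cfsg.fittingHallOf S with hPdef
  have hinj : Set.InjOn f (P : Set G) := fun a ha b hb e => by
    have h1 := hadd (a * b⁻¹) (P.mul_mem ha (P.inv_mem hb)) b hb
    rw [inv_mul_cancel_right, e, eq_comm, add_eq_right] at h1
    exact mul_inv_eq_one.mp (Subgroup.mem_bot.mp ((hzero _ (P.mul_mem ha (P.inv_mem hb))).mp h1))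
  have hψinj : Set.InjOn ψ (U : Set G) := fun a ha b hb e => by
    have h1 := hψm (a * b⁻¹) (U.mul_mem ha (U.inv_mem hb)) b hb
    rw [inv_mul_cancel_right, e] at h1
    have h2 : ψ (a * b⁻¹) = 1 := mul_right_cancel₀ (hψ b hb).1 (by rw [one_mul]; exact h1.symm)
    exact mul_inv_eq_one.mp
      (Subgroup.mem_bot.mp ((hψC _ (U.mul_mem ha (U.inv_mem hb))).mp h2))
  refine ⟨(galois_of_geo hG C hqp hu).1, ?_, hcop, ?_, C'.P_elem, C'.W₁_le.trans C'.S_norm, hy,
    F, iF, iFt, f, ψ, hcard, ⟨fun _ _ => Set.mem_univ _, hinj, hsurj⟩, hadd, hψ, hψm, hψinj,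
    fun x hx => ⟨hW₂ x, fun hfx => ?_⟩⟩
  · rw [hu, ← geo_mul' (Nat.card W₁) (Nat.lt_of_lt_of_le Nat.zero_lt_one C.p_prime.one_lt.le),
      Nat.add_sub_cancel]
  · rw [C'.P_card]
    exact Nat.Coprime.pow_left _ ((Nat.coprime_primes C.q_prime C.p_prime).mpr C.ne)
  · -- the roots of `z^p = z` are the images of the elements of `W₂`
    set T₂ : Finset G := univ.filter fun w => w ∈ W₂ with hT₂
    set R : Finset F := univ.filter fun z => z ^ p = z with hRdef
    have hsub : T₂.image f ⊆ R := fun z hz => by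
      obtain ⟨w, hw, rfl⟩ := Finset.mem_image.mp hz
      exact Finset.mem_filter.mpr ⟨Finset.mem_univ _, hW₂ w (Finset.mem_filter.mp hw).2⟩
    have hc : (T₂.image f).card = p := by
      rw [Finset.card_image_of_injOn (hinj.mono fun w hw => C.W₂_le (Finset.mem_filter.mp hw).2),
        hp, Nat.card_eq_fintype_card, Fintype.card_subtype]
    have hR' : R.card ≤ p := by
      have hne : (Polynomial.X ^ p - Polynomial.X : Polynomial F) ≠ 0 :=
        FiniteField.X_pow_card_sub_X_ne_zero F C.p_prime.one_lt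
      calc R.card ≤ (Polynomial.X ^ p - Polynomial.X : Polynomial F).roots.toFinset.card :=
            Finset.card_le_card fun z hz => by
              rw [Multiset.mem_toFinset, Polynomial.mem_roots hne]
              simp [(Finset.mem_filter.mp hz).2]
        _ ≤ _ := Multiset.toFinset_card_le _
        _ ≤ _ := Polynomial.card_roots' _
        _ = p := FiniteField.X_pow_card_sub_X_natDegree_eq F C.p_prime.one_lt
    have heq : T₂.image f = R := Finset.eq_of_subset_of_card_le hsub (by omega)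
    have hz : f x ∈ T₂.image f := heq ▸ Finset.mem_filter.mpr ⟨Finset.mem_univ _, hfx⟩
    obtain ⟨w, hw, e⟩ := Finset.mem_image.mp hz
    have hwW := (Finset.mem_filter.mp hw).2
    rwa [← hinj (C.W₂_le hwW) hx e]

end CfsgLib.PF.Sec14
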