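import Cfsg.Agent.Lib.PF.Sec14Budget

/-!
# Peterfalvi §14: the numerical core of (14.16)

From the alternatives that the characters give for the maximal subgroup `L ⊇ N(U)` (order of the kernel
`h`) to `|U| = (p^q-1)/(p-1)` and the shape of the kernel.
-/

set_option autoImplicit false

namespace CfsgLib.PF.Sec14

open Finset

theorem coprime_sub_one_geo {p q : ℕ} (hp : 0 < p) (hq : q.Prime) (h : q ∣ p - 1) :
    q ∣ geo p q := by
  have : Fact q.Prime := ⟨hq⟩
  have h1 : (p : ZMod q) = 1 := by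
    have h2 := (ZMod.natCast_eq_zero_iff (p - 1) q).mpr h
    rwa [Nat.cast_sub (by omega), Nat.cast_one, sub_eq_zero] at h2
  rw [← ZMod.natCast_eq_zero_iff]
  simp [geo, h1]

theorem le_of_modEq_one {n a : ℕ} (hn : Odd n) (ha : Odd a) (ha1 : a ≠ 1) (h : a ≡ 1 [MOD n]) :
    2 * n + 1 ≤ a := by
  have h0 : 1 ≤ a := ha.pos
  obtain ⟨k, hk⟩ := (Nat.modEq_iff_dvd' h0).mp h.symm
  have hk2 : Even k := by
    have h2 : Even (n * k) := hk ▸ Nat.Odd.sub_odd ha odd_one
    exact (Nat.even_mul.mp h2).resolve_left (Nat.not_even_iff_odd.mpr hn)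
  obtain ⟨j, rfl⟩ := hk2
  rcases Nat.eq_zero_or_pos j with rfl | hj
  · simp at hk; omega
  · have : n * 2 ≤ n * (j + j) := Nat.mul_le_mul_left n (by omega)
    omega

section Pair

variable {p q u v : ℕ} (hp : p.Prime) (hq : q.Prime) (hq3 : 3 ≤ q) (hqp : q < p)
include hp hq hq3 hqp

/-- A multiple of `v` that is at most about `q v` and `1` modulo `p` is `v`. -/
theorem eq_right_of_bound {h : ℕ} (hv1 : 1 < v) (hvp : v % p = 1) (hvh : v ∣ h) (hodd : Odd h)
    (hh1 : 1 < h) (hmod : h ≡ 1 [MOD p * q]) (hb : h - 1 ≤ q * (v - 1) + p * q) : h = v := by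
  obtain ⟨l, hl⟩ := hvh
  by_contra hne
  have hl1 : l ≠ 1 := fun h0 => hne (by rw [hl, h0, mul_one])
  have hlo : Odd l := hodd.of_dvd_nat ⟨v, by rw [hl, mul_comm]⟩
  have hv' : v ≡ 1 [MOD p] := by unfold Nat.ModEq; rw [hvp, Nat.mod_eq_of_lt hp.one_lt]
  have hlp : l ≡ 1 [MOD p] := by
    have h2 : v * l ≡ l [MOD p] := by simpa using hv'.mul_right l
    exact h2.symm.trans (hl ▸ hmod.of_dvd (dvd_mul_right p q))
  have h3 := le_of_modEq_one (hp.odd_of_ne_two (by omega)) hlo hl1 hlp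
  have h4 : v * (2 * p + 1) ≤ v * l := Nat.mul_le_mul_left v h3
  have h5 : p + 1 ≤ v := by
    by_contra h0
    rcases Nat.lt_or_ge v p with h9 | h9
    · rw [Nat.mod_eq_of_lt h9] at hvp
      omega
    · have h10 : v = p := by omega
      rw [h10, Nat.mod_self] at hvp
      exact zero_ne_one hvp
  have h6 : (p + 1) * (2 * p + 1 - q) ≤ v * (2 * p + 1 - q) := Nat.mul_le_mul_right _ h5
  have h7 : h ≤ q * v + p * q + 1 := by
    have : q * (v - 1) ≤ q * v := Nat.mul_le_mul_left q (Nat.sub_le v 1)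
    omega
  obtain ⟨c, hc⟩ : ∃ c, 2 * p + 1 - q = c ∧ q + c = 2 * p + 1 := ⟨_, rfl, by omega⟩
  rw [hc.1] at h6
  nlinarith [hc.2]

/-- `u` cannot be small when `V` fills the kernel of `L`. -/
theorem left_budget_absurd (hu : Orders p q u) (hne : u ≠ geo p q) (hdvd : u ∣ geo q p)
    (hb : p ^ q - 1 ≤ u * (p - 1 + p * q * (q - 1))) : False := by
  have hp5 := p_ge_five hp hq hq3 hqp
  have hpo : Odd p := hp.odd_of_ne_two (by omega)
  have hqo : Odd q := hq.odd_of_ne_two (by omega)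
  have hu0 : u ≠ 0 := by have := hu.1; omega
  have hup : u ≡ 1 [MOD p] := modEq_one_of_primes hu0 fun r hr hru =>
    prime_dvd_geo_right hp hq hq3 hqp hr (hru.trans hdvd)
  rcases hu.2.2 with ⟨hd, hcop⟩ | ⟨a, -, -, had, hua⟩
  · obtain ⟨m, hm, hmo, hle, hcase⟩ := geo_cofactor hpo hq hqo hd hne
    have hm1 : m ≠ 1 := by omega
    have hmp : m ≡ 1 [MOD p] := by
      have h2 : u * m ≡ m [MOD p] := by simpa using hup.mul_right m
      exact h2.symm.trans (hm ▸ geo_modEq_one hq.pos)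
    have hb' : m * (p - 1) ≤ p - 1 + p * q * (q - 1) := by
      have e : p ^ q - 1 = u * (m * (p - 1)) := by
        have := geo_mul' q hp.pos (p := p)
        rw [← mul_assoc, ← hm]
        omega
      rw [e] at hb
      exact Nat.le_of_mul_le_mul_left hb (by omega)
    by_cases hqd : q ∣ p - 1
    · have hqm : q ∣ m := by
        have h2 : q ∣ u * m := hm ▸ coprime_sub_one_geo hp.pos hq hqd
        refine (hq.dvd_mul.mp h2).resolve_left fun h3 => ?_
        exact Nat.not_coprime_of_dvd_of_dvd hq.one_lt h3 hqd hcop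
      obtain ⟨l, hl⟩ := (Nat.modEq_iff_dvd' (by omega : 1 ≤ m)).mp hmp.symm
      have hql : q ∣ 1 + l := by
        have h2 : q ∣ p * l + 1 := by rwa [← hl, Nat.sub_add_cancel (by omega : 1 ≤ m)]
        have h3 : q ∣ (p - 1) * l := hqd.mul_right l
        have e : p * l + 1 = (p - 1) * l + (1 + l) := by
          obtain ⟨c, rfl⟩ : ∃ c, p = c + 1 := ⟨p - 1, by omega⟩
          rw [Nat.add_sub_cancel]; ring
        exact (Nat.dvd_add_right h3).mp (e ▸ h2)
      have hl1 : q ≤ 1 + l := Nat.le_of_dvd (by omega) hql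
      have h2q : 2 * q ≤ p - 1 := Nat.le_of_dvd (by omega)
        (Nat.Coprime.mul_dvd_of_dvd_of_dvd (Nat.coprime_two_left.mpr hqo)
          (by have := Nat.odd_iff.mp hpo; omega) hqd)
      obtain ⟨c, rfl⟩ : ∃ c, p = c + 1 := ⟨p - 1, by omega⟩
      obtain ⟨d, rfl⟩ : ∃ d, q = d + 1 := ⟨q - 1, by omega⟩
      rw [Nat.add_sub_cancel, Nat.add_sub_cancel] at hb'
      rw [Nat.add_sub_cancel] at h2q
      have hld : (c + 1) * d ≤ (c + 1) * l := Nat.mul_le_mul_left _ (by omega)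
      have hmd : (c + 1) * d + 1 ≤ m := by omega
      have hmc : ((c + 1) * d + 1) * c ≤ m * c := Nat.mul_le_mul_right c hmd
      nlinarith
    · have hmq : m ≡ 1 [MOD q] := modEq_one_of_primes (by omega) fun r hr hrm => by
        rcases prime_dvd_geo hp.pos hq hr (hrm.trans (hm ▸ dvd_mul_left m u)) with rfl | ⟨h1, -⟩
        · exfalso
          have h2 : r ∣ geo p r := hrm.trans (hm ▸ dvd_mul_left m u)
          have : Fact r.Prime := ⟨hr⟩
          apply hqd
          have h3 := congrArg (Nat.cast : ℕ → ZMod r) (geo_mul' r hp.pos (p := p))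
          push_cast at h3
          rw [(ZMod.natCast_eq_zero_iff (geo p r) r).mpr h2, zero_mul, zero_add, ZMod.pow_card] at h3
          rw [← ZMod.natCast_eq_zero_iff, Nat.cast_sub hp.pos, ← h3, Nat.cast_one, sub_self]
        · exact h1
      have hcopq : p.Coprime q := (Nat.coprime_primes hp hq).mpr (by omega)
      have h2 := le_of_modEq_one (hpo.mul hqo) hmo hm1
        ((Nat.modEq_and_modEq_iff_modEq_mul hcopq).mp ⟨hmp, hmq⟩)
      obtain ⟨c, rfl⟩ : ∃ c, p = c + 1 := ⟨p - 1, by omega⟩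
      obtain ⟨d, rfl⟩ : ∃ d, q = d + 1 := ⟨q - 1, by omega⟩
      rw [Nat.add_sub_cancel, Nat.add_sub_cancel] at hb'
      have hmc : (2 * ((c + 1) * (d + 1)) + 1) * c ≤ m * c := Nat.mul_le_mul_right c h2
      nlinarith
  · obtain ⟨r, hr, hru⟩ := Nat.exists_prime_and_dvd (by have := hu.1; omega : u ≠ 1)
    have h1 := prime_dvd_geo_right hp hq hq3 hqp hr (hru.trans hdvd)
    have h2 : r ≤ p - 1 :=
      Nat.le_of_dvd (by omega) ((hr.dvd_of_dvd_pow (hru.trans hua)).trans had)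
    rw [Nat.mod_eq_of_lt (by omega)] at h1
    exact hr.one_lt.ne' h1

theorem right_large_absurd (hp7 : 7 ≤ p) {k : ℕ} (hk : geo q p ≤ k)
    (h : k - 1 ≤ p * q * (p * q - 1)) : False := by
  have h1 := sq_lt_pow' (p := p) hq3 hp7
  have h2 : q ^ (p - 1) = q ^ (p - 3) * q ^ 2 := by rw [← pow_add]; congr 1; omega
  have h3 : q ^ (p - 1) ≤ geo q p := pow_le_geo hp.pos
  have h4 : (p ^ 2 + 1) * q ^ 2 ≤ q ^ (p - 3) * q ^ 2 := Nat.mul_le_mul_right _ h1
  have h5 : p * q * (p * q - 1) ≤ p * q * (p * q) := Nat.mul_le_mul_left _ (Nat.sub_le _ 1)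
  have h6 : k ≤ p * q * (p * q) + 1 := by omega
  nlinarith

/-- The numerical core when `T` is of Type II (`k` is the order of the kernel over `N(V)`; `P` is what is
known besides `v ∣ h` when that kernel is conjugate to the one over `N(U)`). -/
theorem core_two (hu : Orders p q u) (hv : Orders q p v) (hmass : 1 ≤ mass p q u v) {zL P : Prop}
    (hzL : zL → 61 / 31 ≤ mass p q u v) {h : ℕ} (hh1 : 1 < h) (hodd : Odd h)
    (hmod : h ≡ 1 [MOD p * q]) (huh : u ∣ h)
    (hopt : h - 1 ≤ p * (u - 1) + p * q ∨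
      (h - 1 ≤ q * (v - 1) + p * q ∧ (zL ∨ p ^ q - 1 ≤ u * (p - 1 + p * q * (q - 1)))) ∨
      (zL ∧ h ≤ p ^ 2 * q ^ 2))
    (hM : (v ∣ h ∧ P) ∨ ∃ k : ℕ, v ∣ k ∧ 1 < k ∧ (k - 1 ≤ p * q * (p * q - 1) ∨
      (h - 1 ≤ p * q * (p * q - 1) ∧ (k - 1 ≤ p * (u - 1) + p * q ∨ 61 / 31 ≤ mass p q u v ∨
        u * (h - 1) + p * (p ^ q - 1) ≤ u * (p * (p - 1 + p * q * (q - 1))))))) :
    u = geo p q ∧ (h = u ∨ h = v ∧ u ∣ v ∧ P) := by
  have hp5 := p_ge_five hp hq hq3 hqp
  have hpo : Odd p := hp.odd_of_ne_two (by omega)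
  have hqo : Odd q := hq.odd_of_ne_two (by omega)
  have hv1 : 1 < v := hv.1
  have hvp : v % p = 1 := hv.2.1
  have hu_eq : u = geo p q := by
    by_contra hne
    have hz : ¬ zL := fun hz => hne (both_of_mass hp hq hq3 hqp hu hv (hzL hz)).1
    have hveq : v = geo q p := (or_of_mass hp hq hq3 hqp hu hv hmass).resolve_left hne
    have hp7 : 7 ≤ p := by
      have h5 : p ≠ 5 := fun h5 => hne (orders_five hp hq hq3 hqp hu h5)
      have := Nat.odd_iff.mp hpo
      omega
    have hopt' : h - 1 ≤ p * (u - 1) + p * q ∨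
        (h - 1 ≤ q * (v - 1) + p * q ∧ p ^ q - 1 ≤ u * (p - 1 + p * q * (q - 1))) := by
      rcases hopt with h1 | ⟨h1, h2⟩ | ⟨h1, -⟩
      · exact Or.inl h1
      · exact Or.inr ⟨h1, h2.resolve_left hz⟩
      · exact absurd h1 hz
    rcases hM with ⟨hvh, -⟩ | ⟨k, hvk, hk1, hk⟩
    · rcases hopt' with h1 | ⟨h1, h2⟩
      · have := Nat.le_of_dvd (by omega) hvh
        exact small_right_absurd hp hq hq3 hqp hu hne (by omega)
      · have he := eq_right_of_bound hp hq hq3 hqp hv1 hvp hvh hodd hh1 hmod h1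
        rw [he, hveq] at huh
        exact left_budget_absurd hp hq hq3 hqp hu hne huh h2
    · have hvk' : geo q p ≤ k := hveq ▸ Nat.le_of_dvd (by omega) hvk
      rcases hk with h1 | ⟨-, h2 | h2 | h2⟩
      · exact right_large_absurd hp hq hq3 hqp hp7 hvk' h1
      · exact small_right_absurd hp hq hq3 hqp hu hne (by omega)
      · exact hne (both_of_mass hp hq hq3 hqp hu hv h2).1
      · exact budget_absurd hp hq hq3 hqp hu hne huh hh1 hodd hmod h2
  refine ⟨hu_eq, or_iff_not_imp_left.mpr fun hne => ?_⟩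
  obtain ⟨m, hm⟩ := huh
  have hm1 : m ≠ 1 := fun h0 => hne (by rw [hm, h0, mul_one])
  have hmo : Odd m := hodd.of_dvd_nat ⟨u, by rw [hm, mul_comm]⟩
  have hu1 : u ≡ 1 [MOD p * q] := by
    refine (Nat.modEq_and_modEq_iff_modEq_mul ((Nat.coprime_primes hp hq).mpr (by omega))).mp ⟨?_, ?_⟩
    · rw [hu_eq]; exact geo_modEq_one hq.pos
    · unfold Nat.ModEq; rw [hu.2.1, Nat.mod_eq_of_lt hq.one_lt]
  have hmm : m ≡ 1 [MOD p * q] := by
    have h2 : u * m ≡ m [MOD p * q] := by simpa using hu1.mul_right m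
    exact h2.symm.trans (hm ▸ hmod)
  have hbig := le_of_modEq_one (hpo.mul hqo) hmo hm1 hmm
  have hu2 : p ^ (q - 1) ≤ u := hu_eq ▸ pow_le_geo hq.pos
  have hu3 : p * p + p + 1 ≤ u := by
    rcases Nat.lt_or_ge q 5 with h5 | h5
    · obtain rfl : q = 3 := by have := Nat.odd_iff.mp hqo; omega
      rw [hu_eq]; simp [geo, sum_range_succ]; nlinarith
    · have : p ^ 4 ≤ p ^ (q - 1) := Nat.pow_le_pow_right hp.pos (by omega)
      have : p * p + p + 1 ≤ p ^ 4 := by nlinarith [Nat.mul_le_mul hp5 hp5]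
      omega
  have hh : u * (2 * (p * q) + 1) ≤ h := hm ▸ Nat.mul_le_mul_left u hbig
  have h2u : (p * q + 1) * (p * q) ≤ 2 * u * (p * q) := by
    have : p * q ≤ p * p := Nat.mul_le_mul_left p hqp.le
    exact Nat.mul_le_mul_right _ (by omega)
  rcases hopt with h1 | ⟨h1, -⟩ | ⟨-, h1⟩
  · exfalso
    have : p * (u - 1) ≤ p * u := Nat.mul_le_mul_left p (Nat.sub_le u 1)
    have : h ≤ p * u + p * q + 1 := by omega
    nlinarith
  · rcases hM with ⟨hvh, hP⟩ | ⟨k, hvk, hk1, hk⟩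
    · have he := eq_right_of_bound hp hq hq3 hqp hv1 hvp hvh hodd hh1 hmod h1
      exact ⟨he, he ▸ ⟨m, hm⟩, hP⟩
    · exfalso
      have hvk' : v ≤ k := Nat.le_of_dvd (by omega) hvk
      have h5 : p * q * (p * q - 1) ≤ p * q * (p * q) := Nat.mul_le_mul_left _ (Nat.sub_le _ 1)
      rcases hk with h2 | ⟨h2, -⟩
      · have h6 : v - 1 ≤ p * q * (p * q) := by omega
        have h7 : q * (v - 1) ≤ q * (p * q * (p * q)) := Nat.mul_le_mul_left q h6
        have h8 : h ≤ q * (p * q * (p * q)) + p * q + 1 := by omega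
        have h9 : 2 * (u * (p * q)) + u ≤ q * (p * q * (p * q)) + p * q + 1 := by
          calc 2 * (u * (p * q)) + u = u * (2 * (p * q) + 1) := by ring
            _ ≤ h := hh
            _ ≤ _ := h8
        have h10 : 2 * u * (p * q) ≤ (p * q * q + 1) * (p * q) := by
          have e : (p * q * q + 1) * (p * q) = q * (p * q * (p * q)) + p * q := by ring
          have := hu.1
          rw [e, mul_assoc]
          omega
        have h11 : 2 * u ≤ p * q * q + 1 :=
          Nat.le_of_mul_le_mul_right h10 (Nat.mul_pos hp.pos hq.pos)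
        rcases Nat.lt_or_ge q 5 with hq5 | hq5
        · obtain rfl : q = 3 := by have := Nat.odd_iff.mp hqo; omega
          have := Nat.mul_le_mul_right p hp5
          omega
        · have h12 : p ^ 4 ≤ p ^ (q - 1) := Nat.pow_le_pow_right hp.pos (by omega)
          have h13 : p * q * q ≤ p ^ 4 := by
            calc p * q * q ≤ p * p * p := by gcongr
              _ ≤ p * p * p * p := Nat.le_mul_of_pos_right _ hp.pos
              _ = p ^ 4 := by ring
          have := hu.1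
          omega
      · have h6 : h ≤ p * q * (p * q) + 1 := by omega
        nlinarith
  · exfalso
    nlinarith

/-- The numerical core when `T` is of Type III. -/
theorem core_three (hu : Orders p q u) (hv : Orders q p v) (hmass : 1 ≤ mass p q u v) {zL : Prop}
    (hzL : zL → 61 / 31 ≤ mass p q u v)
    (hvb : v - 1 ≤ p * (p * q - 1) ∨ q * (v - 1) ≤ p * (u - 1) + p * q)
    {h : ℕ} (hh1 : 1 < h) (hodd : Odd h) (hmod : h ≡ 1 [MOD p * q]) (huh : u ∣ h)
    (hopt : h - 1 ≤ p * (u - 1) + p * q ∨ h - 1 ≤ q * (v - 1) + p * q ∨ zL) :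
    u = geo p q ∧ h = u := by
  have hp5 := p_ge_five hp hq hq3 hqp
  have hpo : Odd p := hp.odd_of_ne_two (by omega)
  have hqo : Odd q := hq.odd_of_ne_two (by omega)
  have hule := le_geo_of_orders hpo (by omega) hq hq3 hu
  have hsub : p * (u - 1) + p = p * u := by
    rw [← Nat.mul_add_one, Nat.sub_add_cancel hu.1.le]
  have hpq : p * (p * q - 1) + p = p * (p * q) := by
    rw [← Nat.mul_add_one, Nat.sub_add_cancel (Nat.mul_pos hp.pos hq.pos)]
  have hvne : v ≠ geo q p := by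
    intro hveq
    have h3 : q ^ (p - 1) ≤ v := hveq ▸ pow_le_geo hp.pos
    rcases hvb with h1 | h1
    · have h2 := sq_lt_pow (p := p) hq3 hp5
      have h4 : q ^ (p - 1) = q ^ (p - 2) * q := by rw [← pow_succ]; congr 1; omega
      have h5 : (p ^ 2 + 1) * q ≤ q ^ (p - 2) * q := Nat.mul_le_mul_right q h2
      have : v ≤ p * (p * q) := by omega
      nlinarith
    · have h5 : q * q ^ (p - 1) ≤ q * v := Nat.mul_le_mul_left q h3
      have h6 : q * (v - 1) + q = q * v := by
        rw [← Nat.mul_add_one, Nat.sub_add_cancel hv.1.le]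
      have h7 : q * q ^ (p - 1) = q ^ p := by rw [← pow_succ', Nat.sub_add_cancel hp.pos]
      have h8 := pow_cmp hq3 hqo (q_add_two_le hp hq hq3 hqp)
      have h9 : p * u ≤ p * geo p q := Nat.mul_le_mul_left p hule
      have h10 := geo_mul' q hp.pos (p := p)
      have h11 : 4 * (p * geo p q) ≤ 5 * (geo p q * (p - 1)) := by
        obtain ⟨c, rfl⟩ : ∃ c, p = c + 5 := ⟨p - 5, by omega⟩
        rw [show c + 5 - 1 = c + 4 by omega]
        nlinarith
      have h12 : p ^ 3 ≤ p ^ q := Nat.pow_le_pow_right hp.pos hq3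
      have h13 : 25 * p ≤ p ^ 3 := by
        calc 25 * p ≤ (p * p) * p := by gcongr; nlinarith
          _ = p ^ 3 := by ring
      have h14 : p * q ≤ p * p := Nat.mul_le_mul_left p hqp.le
      have h15 : 5 * (p * p) ≤ p ^ 3 := by
        calc 5 * (p * p) ≤ p * (p * p) := by gcongr
          _ = p ^ 3 := by ring
      omega
  have hu_eq : u = geo p q := (or_of_mass hp hq hq3 hqp hu hv hmass).resolve_right hvne
  refine ⟨hu_eq, ?_⟩
  obtain ⟨m, hm⟩ := huh
  by_contra hne
  have hm1 : m ≠ 1 := fun h0 => hne (by rw [hm, h0, mul_one])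
  have hu1 : u ≡ 1 [MOD p * q] := by
    refine (Nat.modEq_and_modEq_iff_modEq_mul ((Nat.coprime_primes hp hq).mpr (by omega))).mp ⟨?_, ?_⟩
    · rw [hu_eq]; exact geo_modEq_one hq.pos
    · unfold Nat.ModEq; rw [hu.2.1, Nat.mod_eq_of_lt hq.one_lt]
  have hmm : m ≡ 1 [MOD p * q] := by
    have h2 : u * m ≡ m [MOD p * q] := by simpa using hu1.mul_right m
    exact h2.symm.trans (hm ▸ hmod)
  have hbig := le_of_modEq_one (hpo.mul hqo) (hodd.of_dvd_nat ⟨u, by rw [hm, mul_comm]⟩) hm1 hmm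
  have hu2 : p ^ 2 ≤ u :=
    le_trans (Nat.pow_le_pow_right hp.pos (by omega)) (hu_eq ▸ pow_le_geo hq.pos)
  have hh : u * (2 * (p * q) + 1) ≤ h := hm ▸ Nat.mul_le_mul_left u hbig
  have h3u : p * u * 3 ≤ p * u * q := Nat.mul_le_mul_left _ hq3
  have h4u : p ^ 2 * (p * q) ≤ u * (p * q) := Nat.mul_le_mul_right _ hu2
  rcases hopt with h1 | h1 | h1
  · have : h ≤ p * u + p * q + 1 := by omega
    nlinarith
  · rcases hvb with h2 | h2
    · have : q * (v - 1) ≤ q * (p * (p * q - 1)) := Nat.mul_le_mul_left q h2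
      have : q * (p * (p * q - 1)) ≤ q * (p * (p * q)) :=
        Nat.mul_le_mul_left q (Nat.mul_le_mul_left p (Nat.sub_le _ 1))
      have : h ≤ q * (p * (p * q)) + p * q + 1 := by omega
      nlinarith
    · have : h ≤ p * u + p * q + p * q + 1 := by omega
      nlinarith
  · exact hvne (both_of_mass hp hq hq3 hqp hu hv (hzL h1)).2

/-- If a complete `U` divides `|V|` then `V` is of Galois type. -/
theorem galois_right (hueq : u = geo p q) (hd : u ∣ v) (hv : Orders q p v) :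
    v ∣ geo q p := by
  rcases hv.2.2 with ⟨h, -⟩ | ⟨a, -, -, had, hva⟩
  · exact h
  · exfalso
    have hpo : Odd p := hp.odd_of_ne_two (by omega)
    have hu2 : u ≠ 1 := by
      have : p ^ (q - 1) ≤ u := hueq ▸ pow_le_geo hq.pos
      have : p ≤ p ^ (q - 1) := Nat.le_self_pow (by omega) p
      omega
    obtain ⟨r, hr, hru⟩ := Nat.exists_prime_and_dvd hu2
    have h2 : r ≤ q - 1 :=
      Nat.le_of_dvd (by omega) ((hr.dvd_of_dvd_pow ((hru.trans hd).trans hva)).trans had)
    rcases prime_dvd_geo hp.pos hq hr (hueq ▸ hru) with rfl | ⟨h1, -⟩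
    · omega
    · rw [Nat.mod_eq_of_lt (by omega)] at h1
      exact hr.one_lt.ne' h1

end Pair

end CfsgLib.PF.Sec14
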