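import Cfsg.Agent.Lib.PF.Sec14Pair
import Cfsg.Agent.Lib.PF.Sec13RegCount
import Cfsg.Agent.Lib.PF.Sec10Noncoherence
import Cfsg.Agent.Lib.PF.Sec13Facts
import Cfsg.Agent.Lib.PF.Sec13RegSets
import Cfsg.Agent.Lib.PF.Sec13RegTools

/-!
# Peterfalvi (14.16): the count bounding the kernel of the subgroup over `N(U)`
-/

set_option autoImplicit false
set_option linter.unusedSectionVars false
set_option linter.style.haveILetI false

namespace CfsgLib.PF.Sec14

open scoped Classical ComplexConjugate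
open Finset CfsgLib.Characters CfsgLib.OddChar
open CfsgLib.PF.Sec13 (conjSet exists_conj_mem_hall exists_galois)
open CfsgLib.OddOrder38 (exists_mem_zpowers_prime)

universe u

variable {G : Type u} [Group G] [Fintype G]

/-- A sum of algebraic integers constant on the orbits of a free involution is twice one. -/
theorem sum_pairs {α : Type*} [DecidableEq α] (i : α → α) (hii : ∀ a, i (i a) = a) (f : α → ℂ)
    (hf : ∀ a, IsIntegral ℤ (f a)) (hfi : ∀ a, f (i a) = f a) :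
    ∀ (n : ℕ) (s : Finset α), s.card ≤ n → (∀ a ∈ s, i a ∈ s ∧ i a ≠ a) →
      ∃ a : ℂ, IsIntegral ℤ a ∧ ∑ x ∈ s, f x = 2 * a := by
  intro n
  induction n with
  | zero =>
    intro s hs _
    rw [Finset.card_eq_zero.mp (Nat.le_zero.mp hs)]
    exact ⟨0, isIntegral_zero, by simp⟩
  | succ n ih =>
    intro s hs hs'
    rcases s.eq_empty_or_nonempty with rfl | ⟨a, ha⟩
    · exact ⟨0, isIntegral_zero, by simp⟩
    obtain ⟨hia, hne⟩ := hs' a ha
    set t := (s.erase a).erase (i a) with ht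
    have hia' : i a ∈ s.erase a := Finset.mem_erase.mpr ⟨hne, hia⟩
    obtain ⟨b, hb, hsum⟩ := ih t (by
      rw [ht, Finset.card_erase_of_mem hia', Finset.card_erase_of_mem ha]; omega) (fun x hx => by
      simp only [ht, Finset.mem_erase] at hx ⊢
      obtain ⟨hx1, hx2, hxs⟩ := hx
      refine ⟨⟨fun e => hx2 ?_, fun e => hx1 ?_, (hs' x hxs).1⟩, (hs' x hxs).2⟩
      · rw [← hii x, e, hii]
      · rw [← hii x, e])
    refine ⟨f a + b, (hf a).add hb, ?_⟩
    rw [← Finset.add_sum_erase _ _ ha, ← Finset.add_sum_erase _ _ hia', ← ht, hsum, hfi]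
    ring

/-- An element with all its coefficients on an orthonormal family filling its norm is the sum. -/
theorem eq_sum_of_norm_le {ι : Type*} [Fintype ι] [DecidableEq ι] {v : ι → G → ℂ}
    (hv : ∀ i j, Cfsg.classInner (v i) (v j) = if i = j then 1 else 0) {β : G → ℂ} {c : ι → ℤ}
    (hc : ∀ i, Cfsg.classInner β (v i) = c i) {N : ℕ} (hN : Cfsg.classInner β β = (N : ℂ))
    (hle : (N : ℤ) ≤ ∑ i, c i ^ 2) :
    (∑ i, c i ^ 2) = N ∧ β = ∑ i, (c i : ℂ) • v i := by
  set Γ := ∑ i, (c i : ℂ) • v i with hΓ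
  have hβΓ : Cfsg.classInner β Γ = ((∑ i, c i ^ 2 : ℤ) : ℂ) := by
    rw [hΓ, classInner_sum_right]
    push_cast
    exact Finset.sum_congr rfl fun i _ => by rw [classInner_smul_right, hc, map_intCast]; ring
  have hΓv : ∀ j, Cfsg.classInner Γ (v j) = (c j : ℂ) := fun j => by
    rw [hΓ, classInner_sum_left, Finset.sum_eq_single j]
    · rw [classInner_smul_left, hv, if_pos rfl, mul_one]
    · intro i _ hij
      rw [classInner_smul_left, hv, if_neg hij, mul_zero]
    · exact fun h => absurd (Finset.mem_univ j) h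
  have hΓΓ : Cfsg.classInner Γ Γ = ((∑ i, c i ^ 2 : ℤ) : ℂ) := by
    nth_rw 2 [hΓ]
    rw [classInner_sum_right]
    push_cast
    exact Finset.sum_congr rfl fun i _ => by rw [classInner_smul_right, hΓv, map_intCast]; ring
  have hΓβ : Cfsg.classInner Γ β = ((∑ i, c i ^ 2 : ℤ) : ℂ) := by
    rw [classInner_conj_symm, hβΓ, map_intCast]
  have hΔ : Cfsg.classInner (β - Γ) (β - Γ) = (((N : ℤ) - ∑ i, c i ^ 2 : ℤ) : ℂ) := by
    rw [classInner_sub_left, classInner_sub_right, classInner_sub_right, hN, hβΓ, hΓβ, hΓΓ]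
    push_cast
    ring
  have hre := congrArg Complex.re hΔ
  rw [classInner_self_real, Complex.ofReal_re, Complex.intCast_re] at hre
  have hge : (0 : ℝ) ≤ (Nat.card G : ℝ)⁻¹ * ∑ g, Complex.normSq ((β - Γ) g) :=
    mul_nonneg (by positivity) (Finset.sum_nonneg fun g _ => Complex.normSq_nonneg _)
  have h0 : (N : ℤ) - ∑ i, c i ^ 2 = 0 := by
    rw [hre] at hge
    have : (0 : ℤ) ≤ (N : ℤ) - ∑ i, c i ^ 2 := by exact_mod_cast hge
    omega
  refine ⟨by omega, funext fun g => ?_⟩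
  rw [h0, Int.cast_zero] at hre
  have := (Finset.sum_eq_zero_iff_of_nonneg fun g _ => Complex.normSq_nonneg _).mp
    ((mul_eq_zero.mp hre).resolve_left (inv_ne_zero (Nat.cast_ne_zero.mpr Nat.card_pos.ne'))) g
    (Finset.mem_univ g)
  rw [Complex.normSq_eq_zero, Pi.sub_apply, sub_eq_zero] at this
  exact this

/-- The conjugates of `X#`, `X` a subgroup normal in `M`. -/
theorem card_conjSet_le {M X : Subgroup G} (hn : M ≤ Subgroup.normalizer (X : Set G)) :
    Nat.card M * (univ.filter (· ∈ conjSet {a | a ∈ X ∧ a ≠ 1}) : Finset G).card ≤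
      Nat.card G * (Nat.card X - 1) := by
  let f : (G ⧸ M) × {a : X // a ≠ 1} → G := fun p => p.1.out * (p.2.1 : G) * p.1.out⁻¹
  have hsub : (univ.filter (· ∈ conjSet {a | a ∈ X ∧ a ≠ 1}) : Finset G) ⊆ univ.image f := by
    intro g hg
    obtain ⟨y, z, ⟨hz, hz1⟩, rfl⟩ := (Finset.mem_filter.mp hg).2
    obtain ⟨m, hm⟩ := QuotientGroup.mk_out_eq_mul M y
    refine Finset.mem_image.mpr ⟨(QuotientGroup.mk y, ⟨⟨(m : G)⁻¹ * z * (m : G), ?_⟩, ?_⟩),
      Finset.mem_univ _, ?_⟩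
    · have := (Subgroup.mem_normalizer_iff.mp (hn (M.inv_mem m.2)) z).mp hz
      rwa [inv_inv] at this
    · intro e
      have h1 : (m : G)⁻¹ * z * (m : G) = 1 := congrArg Subtype.val e
      refine hz1 ?_
      calc z = (m : G) * ((m : G)⁻¹ * z * (m : G)) * (m : G)⁻¹ := by group
        _ = 1 := by rw [h1]; group
    · show (QuotientGroup.mk y : G ⧸ M).out * ((m : G)⁻¹ * z * (m : G)) *
        (QuotientGroup.mk y : G ⧸ M).out⁻¹ = _
      rw [hm]; group
  have h1 := (Finset.card_le_card hsub).trans Finset.card_image_le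
  rw [Finset.card_univ, ← Nat.card_eq_fintype_card, Nat.card_prod, card_ne_one_subtype] at h1
  calc Nat.card M * _ ≤ Nat.card M * (M.index * (Nat.card X - 1)) := Nat.mul_le_mul le_rfl h1
    _ = _ := by rw [← mul_assoc, Subgroup.card_mul_index]

theorem conj_orderOf (y g : G) : orderOf (y * g * y⁻¹) = orderOf g :=
  orderOf_injective (MulAut.conj y).toMonoidHom (MulAut.conj y).injective g

section Side

variable (hG : Cfsg.IsMinSimpleOddOrder G) {S W₁ U W₂ : Subgroup G} (hS : IsCoatom S)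
  (hd : Cfsg.IsTypePWith S W₁ U W₂) (hp : (Nat.card W₂).Prime) (hq : (Nat.card W₁).Prime)
  (hPab : Cfsg.IsElementaryAbelian (Nat.card W₂) (Cfsg.fittingHallOf S))
  (hPcard : Nat.card (Cfsg.fittingHallOf S) = Nat.card W₂ ^ Nat.card W₁)
  (hTI : Cfsg.IsTISubset (suppA0 S)) (hN : Subgroup.normalizer (suppA0 S) = S)
  (hfS : ∀ a ∈ Cfsg.fittingHallOf S, a ≠ 1 → ∀ b ∈ U, a * b = b * a → b = 1)

include hG hS hd hp hq hPab hPcard hTI hN hfS

/-- An element of order divisible by `|W₂|`. -/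
theorem side_cases {g : G} (hg : Nat.card W₂ ∣ orderOf g) :
    (Nat.card W₁ ∣ orderOf g ∧ g ∈ hatConj W₁ W₂) ∨
      (¬ Nat.card W₁ ∣ orderOf g ∧ g ∈ conjSet {a | a ∈ Cfsg.fittingHallOf S ∧ a ≠ 1}) := by
  set p := Nat.card W₂ with hpdef
  set q := Nat.card W₁ with hqdef
  haveI := Fact.mk hp
  haveI := Fact.mk hq
  set P := Cfsg.fittingHallOf S
  obtain ⟨x, hx, hxo⟩ := exists_mem_zpowers_prime hp hg
  obtain ⟨y, hy⟩ := exists_conj_mem_hall p (P := P) hPcard hq.ne_zero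
    ((propCore hG S hS).2.1) (z := x) (k := 1) (by rw [pow_one, ← hxo, pow_orderOf_eq_one])
  set x' := y * x * y⁻¹ with hx'
  set g' := y * g * y⁻¹ with hg'
  have hcom : Commute g x := by
    obtain ⟨i, rfl⟩ := Subgroup.mem_zpowers_iff.mp hx
    exact (Commute.refl g).zpow_right i
  have hcom' : Commute g' x' := by
    show y * g * y⁻¹ * (y * x * y⁻¹) = y * x * y⁻¹ * (y * g * y⁻¹)
    calc y * g * y⁻¹ * (y * x * y⁻¹) = y * (g * x) * y⁻¹ := by group
      _ = y * (x * g) * y⁻¹ := by rw [hcom.eq]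
      _ = _ := by group
  have hx'1 : x' ≠ 1 := fun e => hp.ne_one (by
    rw [← hxo, ← conj_orderOf y x, ← hx', e, orderOf_one])
  have hgo : orderOf g' = orderOf g := conj_orderOf y g
  have hxA : x' ∈ suppA0 S := Sec13Reg.centSupp_subset_suppA0 (propTypes hG) hS hd
    ⟨hd.U_compl.1 hy, hx'1, x', hy, hx'1, rfl⟩
  have hg'S : g' ∈ S := Sec13Reg.centralizer_le_of_TI hTI hN hxA hx'1
    (Subgroup.mem_centralizer_singleton_iff.mpr hcom'.eq)
  have hback : ∀ (a b : G), g' = a * b * a⁻¹ → g = (y⁻¹ * a) * b * (y⁻¹ * a)⁻¹ := fun a b e => by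
    calc g = y⁻¹ * g' * y := by rw [hg']; group
      _ = _ := by rw [e]; group
  by_cases hqg : q ∣ orderOf g
  · refine Or.inl ⟨hqg, ?_⟩
    obtain ⟨z, hz, hzo⟩ := exists_mem_zpowers_prime hq (hgo.symm ▸ hqg : q ∣ orderOf g')
    have hzS : z ∈ S := Subgroup.zpowers_le.mpr hg'S hz
    have hzD : z ∉ (⁅S, S⁆ : Subgroup G) := fun h => hq.ne_one
      (Nat.eq_one_of_dvd_coprimes (Sec13.coprime_W₁_derived hd) dvd_rfl
        (hzo ▸ Subgroup.orderOf_dvd_natCard _ h))
    obtain ⟨hW₁S, hdS, -, -, hWS⟩ := typeP_le hd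
    obtain ⟨k, c, hc, hc2, hkc⟩ := TILocal.exists_conj_off (typeP_TPL hd) (g := (⟨z, hzS⟩ : ↥S)) hzD
    rw [← Subgroup.subgroupOf_sup hW₁S (le_sup_right.trans hWS), Subgroup.mem_subgroupOf] at hc
    rw [Subgroup.mem_subgroupOf] at hc2
    have hkc' : z = (k : G) * c * (k : G)⁻¹ := congrArg Subtype.val hkc
    have hco : orderOf (c : G) = q := by rw [← hzo, hkc', conj_orderOf]
    haveI := hd.selfNormalizing.2.2.2.2.1
    have hcW : (c : G) ∈ W₁ := (mem_iff_pow_card_eq_one le_sup_left hc).mpr (by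
      rw [← hqdef, ← hco, pow_orderOf_eq_one])
    have hc1 : (c : G) ≠ 1 := fun e => hc2 (e ▸ W₂.one_mem)
    set g'' := (k : G)⁻¹ * g' * k with hg''
    have hg''S : g'' ∈ S := S.mul_mem (S.mul_mem (S.inv_mem k.2) hg'S) k.2
    have hcg : Commute g'' (c : G) := by
      have h1 : Commute g' z := by
        obtain ⟨i, rfl⟩ := Subgroup.mem_zpowers_iff.mp hz
        exact (Commute.refl g').zpow_right i
      show g'' * c = c * g''
      rw [hkc'] at h1
      calc g'' * c = (k : G)⁻¹ * (g' * ((k : G) * c * (k : G)⁻¹)) * k := by rw [hg'']; group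
        _ = (k : G)⁻¹ * ((k : G) * c * (k : G)⁻¹ * g') * k := by rw [h1.eq]
        _ = c * g'' := by rw [hg'']; group
    obtain ⟨d, hdd, w, hw, he⟩ := hd.W₁_compl.2.2.2 g'' hg''S
    have hwc : Commute w (c : G) := by
      have h1 := cti_abelian hd.selfNormalizing ⟨w, Subgroup.mem_sup_left hw⟩
        ⟨c, Subgroup.mem_sup_left hcW⟩
      exact congrArg Subtype.val h1
    have hdW : d ∈ W₂ := TypeP.mem_W₂ hd hcW hc1 hdd (by
      have h1 := hcg.mul_left hwc.inv_left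
      rw [he, mul_inv_cancel_right] at h1
      exact h1.eq.symm)
    have hgW : g'' ∈ W₁ ⊔ W₂ := by
      rw [he]
      exact mul_mem (Subgroup.mem_sup_right hdW) (Subgroup.mem_sup_left hw)
    have ho'' : orderOf g'' = orderOf g := by
      rw [← hgo, hg'', show (k : G)⁻¹ * g' * k = (k : G)⁻¹ * g' * ((k : G)⁻¹)⁻¹ by rw [inv_inv],
        conj_orderOf]
    have hne : q ≠ p := Sec13.W₁_prime_ne hd hp
    refine ⟨y⁻¹ * (k : G), g'', hgW, fun h => hne ?_, fun h => hne ?_,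
      hback _ _ (by rw [hg'']; group)⟩
    · exact ((Nat.prime_dvd_prime_iff_eq hp hq).mp
        (hg.trans (ho'' ▸ Subgroup.orderOf_dvd_natCard _ h))).symm
    · exact (Nat.prime_dvd_prime_iff_eq hq hp).mp
        (hqg.trans (ho'' ▸ Subgroup.orderOf_dvd_natCard _ h))
  · refine Or.inr ⟨hqg, ?_⟩
    have hg'D : g' ∈ (⁅S, S⁆ : Subgroup G) := by
      refine OddOrder42.mem_of_coprime_relIndex hd.W₁_compl.1 (OddOrder.le_normalizer_derived S) hg'S ?_
      rw [OddOrder.IsComplIn.relIndex_left hd.W₁_compl, hgo, Nat.coprime_comm,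
        hq.coprime_iff_not_dvd]
      exact hqg
    obtain ⟨a, ha, b, hb, he⟩ := hd.U_compl.2.2.2 g' hg'D
    have hax : a * x' = x' * a := congrArg Subtype.val (hPab.1.is_comm.comm ⟨a, ha⟩ ⟨x', hy⟩)
    have hxb : x' * b = b * x' := by
      have h1 := hcom'.eq
      rw [he] at h1
      refine mul_left_cancel (a := a) ?_
      calc a * (x' * b) = (a * x') * b := by group
        _ = (x' * a) * b := by rw [hax]
        _ = x' * (a * b) := by group
        _ = a * b * x' := h1.symm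
        _ = a * (b * x') := by group
    have hb1 : b = 1 := hfS x' hy hx'1 b hb hxb
    refine ⟨y⁻¹, g', ⟨by rw [he, hb1, mul_one]; exact ha, fun e => hp.ne_one ?_⟩, by rw [hg']; group⟩
    rw [e, orderOf_one] at hgo
    exact Nat.dvd_one.mp (hgo ▸ hg)

end Side

theorem supportR_congr {M : Subgroup G} {a b : G}
    (h : Subgroup.centralizer ({a} : Set G) = Subgroup.centralizer ({b} : Set G)) :
    Cfsg.supportR M a = Cfsg.supportR M b := by
  simp only [Cfsg.supportR]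
  congr! <;> simp [h]

variable (hG : Cfsg.IsMinSimpleOddOrder G) {L : Subgroup G} (hL : IsCoatom L) (hI : OfTypeI L)
  (hF : IsFrobF L)

include hG hL hI hF

/-- The support is closed under the power maps of exponent prime to the group order. -/
theorem supp_pow {g : G} {m : ℕ} (hm : m.Coprime (Nat.card G)) (hg : g ∈ supp L) :
    g ^ m ∈ supp L := by
  have hD := frob_dade hG hL hI hF
  obtain ⟨a, ha, v, hv, x, e⟩ := hg
  have hc : Commute a v := dade_commute hD ha hv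
  obtain ⟨haH, ha1⟩ := (mem_suppA0 hI hF ⟨a, hD.subset ha⟩).mp ha
  have ham : a ^ m ∈ suppA0 L := by
    refine (mem_suppA0 hI hF ⟨a ^ m, L.pow_mem (hD.subset ha) m⟩).mpr
      ⟨(Cfsg.fittingHall ↥L).pow_mem haH m, fun h => ha1 (Subtype.ext ?_)⟩
    exact Sec13Reg.pow_left_inj_of_coprime hm pow_card_eq_one' (one_pow _)
      (by simpa using congrArg Subtype.val h)
  have hC : Subgroup.centralizer ({a ^ m} : Set G) = Subgroup.centralizer ({a} : Set G) := by
    ext c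
    simp only [Subgroup.mem_centralizer_singleton_iff]
    refine ⟨fun h => ?_, fun h => (Commute.pow_right h m).eq⟩
    have h1 : (c * a * c⁻¹) ^ m = a ^ m := by rw [conj_pow, h, mul_inv_cancel_right]
    have h2 := Sec13Reg.pow_left_inj_of_coprime hm pow_card_eq_one' pow_card_eq_one' h1
    exact mul_inv_eq_iff_eq_mul.mp h2
  refine ⟨a ^ m, ham, v ^ m, ?_, x, ?_⟩
  · rw [supportR_congr hC]
    exact Subgroup.pow_mem _ hv m
  · rw [← hc.mul_pow, ← e, conj_pow]

theorem supp_pow_iff {g : G} {m : ℕ} (hm : m.Coprime (Nat.card G)) :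
    g ^ m ∈ supp L ↔ g ∈ supp L := by
  refine ⟨fun h => ?_, supp_pow hG hL hI hF hm⟩
  obtain ⟨k, hk⟩ : ∃ k, m * k ≡ 1 [MOD Nat.card G] := by
    rcases Nat.eq_or_lt_of_le (Nat.card_pos (α := G)) with h0 | h0
    · exact ⟨0, by rw [← h0]; exact Nat.modEq_one⟩
    · obtain ⟨k, -, hk⟩ := Nat.exists_mul_mod_eq_one_of_coprime hm h0
      exact ⟨k, by rw [Nat.ModEq, hk, Nat.mod_eq_of_lt h0]⟩
  have hkc : k.Coprime (Nat.card G) := by
    have h1 : (m * k).Coprime (Nat.card G) := by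
      rw [Nat.Coprime, hk.gcd_eq]; exact Nat.gcd_one_left _
    exact h1.coprime_dvd_left (dvd_mul_left k m)
  have h2 := supp_pow hG hL hI hF hkc h
  rwa [← pow_mul, pow_eq_pow_iff_modEq.mpr (hk.of_dvd (orderOf_dvd_natCard g)), pow_one] at h2

variable {I : Finset (↥L → ℂ)} {φ : ↥L → ℂ} {w : (↥L → ℂ) → ℕ} {x : (↥L → ℂ) → (G → ℂ)}
  (d : FrobData L I φ w x)

include d

/-- The mass of `x χ` on the support, for a member of least degree. -/
theorem mass_supp_ge {χ₀ : ↥L → ℂ} (hχ : χ₀ ∈ I) (hw : w χ₀ = 1)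
    (he : (Cfsg.fittingHall ↥L).index + 1 < Nat.card (Cfsg.fittingHallOf L)) :
    ((Nat.card (Cfsg.fittingHallOf L) : ℝ) - 1 - (Cfsg.fittingHall ↥L).index) ≤
      massOn (univ.filter (· ∈ supp L)) (x χ₀) *
        ((Nat.card (Cfsg.fittingHallOf L) : ℝ) - 1) := by
  set e := (Cfsg.fittingHall ↥L).index with hedef
  set h := Nat.card (Cfsg.fittingHallOf L) with hhdef
  have hsq : ((∑ χ ∈ I, (w χ : ℂ) ^ 2) * (e : ℂ)) = (h : ℂ) - 1 := by
    have h1 := d.sum_sq
    rw [← CfsgLib.OddOrder.card_fittingHallOf, ← hhdef, ← hedef] at h1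
    rw [← h1]; push_cast; ring
  set Wv : G → ℂ := ∑ χ ∈ I, (w χ : ℂ) • x χ with hWv
  set f : G → ℂ := ((h : ℂ) - 1) • x χ₀ - (e : ℂ) • Wv with hf
  have hoff : ∀ g ∉ supp L, f g = 0 := fun g hg => by
    have hxg : ∀ χ ∈ I, x χ g = (w χ : ℂ) * x φ g := fun χ hχ => by
      have h1 := congrFun (d.tau_diff χ hχ) g
      rw [tau_eq_zero hg, Pi.sub_apply, Pi.smul_apply, smul_eq_mul] at h1
      exact sub_eq_zero.mp h1.symm
    rw [hf, hWv, Pi.sub_apply, Pi.smul_apply, Pi.smul_apply, Finset.sum_apply, hxg χ₀ hχ, hw,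
      Nat.cast_one, one_mul, Finset.sum_congr rfl (g := fun χ => (w χ : ℂ) ^ 2 * x φ g)
        fun χ hχ => by rw [Pi.smul_apply, smul_eq_mul, hxg χ hχ]; ring,
      ← Finset.sum_mul, smul_eq_mul, smul_eq_mul, ← hsq]
    ring
  have hxW : ∀ χ ∈ I, Cfsg.classInner (x χ) Wv = (w χ : ℂ) := fun χ hχ => by
    rw [hWv, classInner_sum_right, Finset.sum_eq_single χ]
    · rw [classInner_smul_right, (d.x_signed χ hχ).norm_one, mul_one, map_natCast]
    · intro ψ hψ hne
      rw [classInner_smul_right, d.x_orth χ hχ ψ hψ hne.symm, mul_zero]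
    · exact fun h => absurd hχ h
  have hreal : conj ((h : ℂ) - 1) = (h : ℂ) - 1 := by simp
  have hxf : ∀ χ ∈ I, Cfsg.classInner (x χ) f =
      ((h : ℂ) - 1) * (if χ = χ₀ then 1 else 0) - (e : ℂ) * (w χ : ℂ) := fun χ hχ' => by
    rw [hf, classInner_sub_right, classInner_smul_right, classInner_smul_right, hreal, map_natCast,
      hxW χ hχ']
    split_ifs with h0
    · rw [h0, (d.x_signed χ₀ hχ).norm_one]
    · rw [d.x_orth χ hχ' χ₀ hχ h0]
  have hW0 : Cfsg.classInner Wv f = 0 := by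
    rw [hWv, classInner_sum_left, Finset.sum_congr rfl
      (g := fun χ => ((h : ℂ) - 1) * (if χ = χ₀ then (w χ : ℂ) else 0) - (e : ℂ) * (w χ : ℂ) ^ 2)
      fun χ hχ' => by rw [classInner_smul_left, hxf χ hχ']; split_ifs <;> ring,
      Finset.sum_sub_distrib, ← Finset.mul_sum, ← Finset.mul_sum, Finset.sum_ite_eq',
      if_pos hχ, hw, ← hsq]
    push_cast
    ring
  have hip : Cfsg.classInner (x χ₀) f = (((h : ℝ) - 1 - e : ℝ) : ℂ) := by
    rw [hxf χ₀ hχ, if_pos rfl, hw]; push_cast; ring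
  have hff : Cfsg.classInner f f = ((((h : ℝ) - 1) * ((h : ℝ) - 1 - e) : ℝ) : ℂ) := by
    nth_rw 1 [hf]
    rw [classInner_sub_left, classInner_smul_left, classInner_smul_left, hW0, hip]
    push_cast
    ring
  have hcs := normSq_inner_le (univ.filter (· ∈ supp L)) (χ := x χ₀) (f := f)
    (fun g hg => hoff g fun hgs => hg (by simp [hgs]))
  rw [hip, hff, Complex.normSq_ofReal, Complex.ofReal_re, ← mul_assoc] at hcs
  refine le_of_mul_le_mul_right hcs ?_
  have he' : (e : ℝ) + 1 < h := by exact_mod_cast he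
  linarith

variable {S T W₁ W₂ U V : Subgroup G}

/-- A member of least degree whose image on the elements of order prime to `|W|` off the support is,
up to sign, an odd combination of the cyclic family. -/
theorem exists_odd_value (hW : Cfsg.IsSelfNormalizingCyclic W₁ W₂)
    (hcardW : Nat.card ↥(W₁ ⊔ W₂) = (Cfsg.fittingHall ↥L).index)
    {η : (↥(W₁ ⊔ W₂) →* ℂˣ) → (G → ℂ)} (hη : Cfsg.IsCyclicTIFamily W₁ W₂ η)
    (hηc : ∀ ω, η ω⁻¹ = Cfsg.conjFun (η ω))
    (hcoef : ∀ ω, ∃ n : ℤ, Odd n ∧ Cfsg.classInner (tau L (bridgeI L φ)) (η ω) = n) :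
    ∃ χ₀ ∈ I, w χ₀ = 1 ∧
      ∀ g : G, (orderOf g).Coprime (Nat.card ↥(W₁ ⊔ W₂)) → g ∉ supp L → x χ₀ g ≠ 0 := by
  haveI := finite_linChar hW
  haveI := Fintype.ofFinite (↥(W₁ ⊔ W₂) →* ℂˣ)
  set N := Nat.card ↥(W₁ ⊔ W₂) with hNdef
  have hodd : Odd N := hG.1.of_dvd_nat (Subgroup.card_subgroup_dvd_card _)
  have hcop : N.Coprime (Nat.card (Cfsg.fittingHallOf L)) := by
    rw [hcardW]; exact (coprime_index L).symm
  set β := tau L (bridgeI L φ) with hβdef
  obtain ⟨hβgen, hβn, -, hβc⟩ := betaI_props hG hL hI hF d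
  choose n hn hnη using hcoef
  set X := x φ with hX
  set Y := x (Cfsg.conjFun φ) with hY
  have hφ' := d.conj_mem φ d.φ_mem
  obtain ⟨a, ha⟩ := classInner_generalized_int hβgen (d.x_signed φ d.φ_mem).generalized
  have hXX : Cfsg.classInner X X = 1 := (d.x_signed φ d.φ_mem).norm_one
  have hYY : Cfsg.classInner Y Y = 1 := (d.x_signed _ hφ').norm_one
  have hXY : Cfsg.classInner X Y = 0 := d.x_orth φ d.φ_mem _ hφ' (d.conj_ne φ d.φ_mem).symm
  have hYX : Cfsg.classInner Y X = 0 := d.x_orth _ hφ' φ d.φ_mem (d.conj_ne φ d.φ_mem)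
  have hXc : Cfsg.conjFun Y = X := by
    rw [hY, ← d.x_conj _ hφ', conjFun_conjFun]
  have hβY : Cfsg.classInner β Y = ((a + 1 : ℤ) : ℂ) := by
    have h1 : Cfsg.classInner (Cfsg.conjFun β) (Cfsg.conjFun Y) =
        conj (Cfsg.classInner β Y) := by
      simp only [Cfsg.classInner, Cfsg.conjFun, map_mul, map_inv₀, map_natCast, map_sum,
        Complex.conj_conj]
    rw [hXc, hβc, classInner_sub_left, classInner_add_left, ha, hXX, hYX, sub_zero] at h1
    have h2 := congrArg conj h1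
    rw [Complex.conj_conj, map_add, map_intCast, map_one] at h2
    rw [← h2]; push_cast; ring
  -- the expansion
  let v : (↥(W₁ ⊔ W₂) →* ℂˣ) ⊕ Bool → G → ℂ :=
    Sum.elim η (fun b => if b then X else Y)
  let c : (↥(W₁ ⊔ W₂) →* ℂˣ) ⊕ Bool → ℤ := Sum.elim n (fun b => if b then a else a + 1)
  have horth : ∀ χ ∈ I, ∀ ω, Cfsg.classInner (x χ) (η ω) = 0 ∧ Cfsg.classInner (η ω) (x χ) = 0 :=
    fun χ hχ ω => by
      have h1 := x_eta_orth hG hL hI hF d hW hcop hη hηc hχ ω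
      exact ⟨h1, by rw [classInner_conj_symm, h1, map_zero]⟩
  have hv : ∀ i j, Cfsg.classInner (v i) (v j) = if i = j then 1 else 0 := by
    rintro (ω | b) (ω' | b')
    · show Cfsg.classInner (η ω) (η ω') = _
      rw [hη.orthonormal]
      split_ifs with e1 e2 e2 <;> simp_all
    · cases b' <;> simp [v, hX, hY, (horth φ d.φ_mem ω).2, (horth _ hφ' ω).2]
    · cases b <;> simp [v, hX, hY, (horth φ d.φ_mem ω').1, (horth _ hφ' ω').1]
    · cases b <;> cases b' <;> simp [v, hXX, hYY, hXY, hYX]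
  have hc : ∀ i, Cfsg.classInner β (v i) = c i := by
    rintro (ω | b)
    · simpa [v, c] using hnη ω
    · cases b
      · simpa [v, c] using hβY
      · simpa [v, c] using ha
  have hnorm : Cfsg.classInner β β = ((N + 1 : ℕ) : ℂ) := by
    rw [hβn, hcardW]; push_cast; rfl
  have hcardι : (Fintype.card (↥(W₁ ⊔ W₂) →* ℂˣ)) = N := by
    let iW : CommGroup ↥(W₁ ⊔ W₂) :=
      { (inferInstance : Group ↥(W₁ ⊔ W₂)) with mul_comm := cti_abelian hW }
    rw [← Nat.card_eq_fintype_card]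
    exact CommGroup.card_monoidHom_of_hasEnoughRootsOfUnity ↥(W₁ ⊔ W₂) ℂ
  have hn1 : ∀ ω, (1 : ℤ) ≤ n ω ^ 2 := fun ω => by
    obtain ⟨k, hk⟩ := hn ω
    have : n ω ≠ 0 := by omega
    nlinarith [Int.one_le_abs this, sq_abs (n ω)]
  have hsum : (N : ℤ) ≤ ∑ ω, n ω ^ 2 := by
    calc (N : ℤ) = ∑ _ω : (↥(W₁ ⊔ W₂) →* ℂˣ), (1 : ℤ) := by simp [hcardι]
      _ ≤ _ := Finset.sum_le_sum fun ω _ => hn1 ω
  have hcsum : ∑ i, c i ^ 2 = ∑ ω, n ω ^ 2 + (a ^ 2 + (a + 1) ^ 2) := by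
    simp [c, Fintype.sum_sum_type]
  have ha2 : (1 : ℤ) ≤ a ^ 2 + (a + 1) ^ 2 := by
    rcases lt_trichotomy a 0 with h0 | h0 | h0 <;> nlinarith
  obtain ⟨heq, hexp⟩ := eq_sum_of_norm_le hv hc hnorm (by rw [hcsum]; push_cast; omega)
  rw [hcsum] at heq
  push_cast at heq
  have ha3 : a = 0 ∨ a = -1 := by
    have h1 : a ^ 2 + (a + 1) ^ 2 ≤ 1 := by omega
    have : -1 ≤ a ∧ a ≤ 0 := ⟨by nlinarith, by nlinarith⟩
    omega
  -- values
  have hval : ∀ g : G, g ∉ supp L →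
      (∑ ω, (n ω : ℂ) * η ω g) + ((a : ℂ) * X g + ((a : ℂ) + 1) * Y g) = 0 := fun g hg => by
    have h1 := congrFun hexp g
    rw [hβdef, tau_eq_zero hg] at h1
    rw [h1]
    simp [v, c, Fintype.sum_sum_type, Finset.sum_apply]
  have hodd' : ∀ g : G, (orderOf g).Coprime N → ∑ ω, (n ω : ℂ) * η ω g ≠ 0 := by
    intro g hgc hzero
    have hN0 : 0 < N := Nat.card_pos
    obtain ⟨σ, hσ1, hσ2⟩ := exists_galois (X := G) (Subgroup.card_subgroup_dvd_card _) hgc
      (k := N - 1) (show (N - 1).Coprime N by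
        rcases Nat.exists_eq_succ_of_ne_zero hN0.ne' with ⟨k, hk⟩
        rw [hk]; simp)
    have hpow : ∀ (ω : ↥(W₁ ⊔ W₂) →* ℂˣ) (t : ↥(W₁ ⊔ W₂)), (ω t : ℂˣ) ^ N = 1 := fun ω t => by
      rw [← map_pow, pow_card_eq_one', map_one]
    have hinv : ∀ ω, η ω⁻¹ g = η ω g := fun ω => by
      have h1 := congrFun (family_map hW hodd hη σ ω) g
      rw [hσ1 _ (family_signed hη ω).generalized] at h1
      rw [h1]
      congr 2
      refine MonoidHom.ext fun t => Units.ext ?_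
      have h2 : ((ω t : ℂˣ) : ℂ) ^ N = 1 := by
        rw [← Units.val_pow_eq_pow_val, hpow, Units.val_one]
      rw [MonoidHom.inv_apply, Units.val_inv_eq_inv_val]
      simp only [MonoidHom.comp_apply, Units.coe_map]
      show ((ω t : ℂˣ) : ℂ)⁻¹ = σ ((ω t : ℂˣ) : ℂ)
      rw [hσ2 _ h2]
      refine (eq_inv_of_mul_eq_one_left ?_).symm
      rw [← pow_succ, Nat.sub_add_cancel hN0, h2]
    have hint : ∀ ω, IsIntegral ℤ (η ω g) := fun ω =>
      Sec13.gen_integral (family_signed hη ω).generalized g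
    obtain ⟨b, hb, hpairs⟩ := sum_pairs (fun ω : ↥(W₁ ⊔ W₂) →* ℂˣ => ω⁻¹) (fun a => MonoidHom.ext fun t => inv_inv (a t))
      (fun ω => η ω g) hint hinv _ (univ.erase 1) le_rfl (fun ω hω => by
        have hω1 : ω ≠ 1 := (Finset.mem_erase.mp hω).1
        refine ⟨Finset.mem_erase.mpr ⟨fun e => hω1 (MonoidHom.ext fun t => inv_eq_one.mp (DFunLike.congr_fun e t)), Finset.mem_univ _⟩, fun e => hω1 ?_⟩
        obtain ⟨k, hk⟩ := hodd
        refine MonoidHom.ext fun t => ?_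
        have h1 : (ω t) ^ 2 = 1 := by
          have h0 := DFunLike.congr_fun e t
          rw [MonoidHom.inv_apply, inv_eq_iff_mul_eq_one] at h0
          rw [pow_two, h0]
        have h2 := hpow ω t
        rw [hk, pow_succ, pow_mul, h1, one_pow, one_mul] at h2
        rw [h2, MonoidHom.one_apply])
    choose k hk using hn
    have hS : ∑ ω, (n ω : ℂ) * η ω g = 2 * (b + ∑ ω, (k ω : ℂ) * η ω g) + 1 := by
      have h1 : ∑ ω, η ω g = 1 + 2 * b := by
        rw [← Finset.add_sum_erase _ _ (Finset.mem_univ (1 : ↥(W₁ ⊔ W₂) →* ℂˣ)), hpairs,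
          hη.map_one]
      rw [Finset.sum_congr rfl (g := fun ω => 2 * ((k ω : ℂ) * η ω g) + η ω g) fun ω _ => by
          rw [hk ω]; push_cast; ring,
        Finset.sum_add_distrib, ← Finset.mul_sum, h1]
      ring
    rw [hS] at hzero
    have hhalf : IsIntegral ℤ ((-1 / 2 : ℚ) : ℂ) := by
      have : ((-1 / 2 : ℚ) : ℂ) = b + ∑ ω, (k ω : ℂ) * η ω g := by
        push_cast
        linear_combination (-(1 : ℂ) / 2) * hzero
      rw [this]
      exact hb.add (IsIntegral.sum _ fun ω _ =>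
        ((isIntegral_algebraMap (R := ℤ) (A := ℂ) (x := k ω)).mul (hint ω)))
    obtain ⟨z, hz⟩ := exists_int_of_isIntegral_rat hhalf
    have h2 : (2 * z : ℚ) = -1 := by rw [hz]; norm_num
    have h3 : 2 * z = -1 := by exact_mod_cast h2
    omega
  rcases ha3 with h0 | h0
  · refine ⟨_, hφ', by rw [d.w_conj φ d.φ_mem, d.w_φ], fun g hgc hg hz => hodd' g hgc ?_⟩
    have h1 := hval g hg
    rw [h0, Int.cast_zero, zero_mul, zero_add, zero_add, one_mul] at h1
    rw [show Y g = 0 from hz, add_zero] at h1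
    exact h1
  · refine ⟨φ, d.φ_mem, d.w_φ, fun g hgc hg hz => hodd' g hgc ?_⟩
    have h1 := hval g hg
    rw [h0] at h1
    push_cast at h1
    rw [show X g = 0 from hz, mul_zero, neg_add_cancel, zero_mul, add_zero, add_zero] at h1
    exact h1

/-- **The count of (14.16).** -/
theorem count_bound (hP : PropPairFacts G) (h : TypePPair S T W₁ W₂ U V)
    (hqp : Nat.card W₁ < Nat.card W₂)
    {η : (↥(W₁ ⊔ W₂) →* ℂˣ) → (G → ℂ)} (hη : Cfsg.IsCyclicTIFamily W₁ W₂ η)
    (hηc : ∀ ω, η ω⁻¹ = Cfsg.conjFun (η ω))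
    (hidx : (Cfsg.fittingHall ↥L).index = Nat.card W₁ * Nat.card W₂)
    (hfS : ∀ a ∈ Cfsg.fittingHallOf S, a ≠ 1 → ∀ b ∈ U, a * b = b * a → b = 1)
    (hfT : ∀ a ∈ Cfsg.fittingHallOf T, a ≠ 1 → ∀ b ∈ V, a * b = b * a → b = 1)
    (hcoef : ∀ ω, ∃ n : ℤ, Odd n ∧ Cfsg.classInner (tau L (bridgeI L φ)) (η ω) = n) :
    Nat.card (Cfsg.fittingHallOf L) ≤ Nat.card W₂ ^ 2 * Nat.card W₁ ^ 2 := by
  obtain ⟨hq, hp, hne, hkS, -, hPab, hPcard, -, hTIS, hNS, -⟩ := hP S T W₁ W₂ U V h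
  obtain ⟨-, -, -, hkT, -, hQab, hQcard, -, hTIT, hNT, -⟩ :=
    hP T S W₂ W₁ V U (Sec13.TypePPair.symm h)
  have hdS := h.left
  have hdT := h.right
  have hW := hdS.selfNormalizing
  set p := Nat.card W₂ with hpdef
  set q := Nat.card W₁ with hqdef
  set e := (Cfsg.fittingHall ↥L).index with hedef
  set hh := Nat.card (Cfsg.fittingHallOf L) with hhdef
  have hcardW : Nat.card ↥(W₁ ⊔ W₂) = e := by
    rw [hidx, hqdef, hpdef, ← Nat.card_prod]
    exact (Nat.card_eq_of_bijective _ (ctiMul_bijective hW.2.2.1 hW.2.2.2.1)).symm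
  by_cases hsmall : hh ≤ e + 1
  · refine hsmall.trans ?_
    rw [hidx]
    have := hp.two_le; have := hq.two_le
    calc q * p + 1 ≤ (q * p) * 2 := by nlinarith
      _ ≤ (q * p) * (q * p) := Nat.mul_le_mul le_rfl (by nlinarith)
      _ = _ := by ring
  rw [not_le] at hsmall
  have hoddG : Odd (Nat.card G) := hG.1
  obtain ⟨χ₀, hχ₀, hw₀, hnz⟩ := exists_odd_value hG hL hI hF d hW hcardW hη hηc hcoef
  haveI : NeZero (Nat.card G) := ⟨Nat.card_pos.ne'⟩
  set G₀ : Finset G := univ.filter (fun g => (orderOf g).Coprime (Nat.card ↥(W₁ ⊔ W₂)) ∧ g ∉ supp L)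
    with hG₀
  have hlow : (G₀.card : ℝ) ≤ ∑ g ∈ G₀, Complex.normSq (x χ₀ g) := by
    have h1 := Sec13Reg.card_le_sum_sq (fun g : G => pow_card_eq_one')
      (Sec13Reg.val_signed (dvd_refl _) (d.x_signed χ₀ hχ₀))
      (Sec13Reg.val_const (X := G) (N := Nat.card G) 0) G₀ (fun g hg m hm => by
        simp only [hG₀, Finset.mem_filter, Finset.mem_univ, true_and] at hg ⊢
        rw [supp_pow_iff hG hL hI hF hm]
        refine ⟨?_, hg.2⟩
        rw [(hm.coprime_dvd_right (orderOf_dvd_natCard g)).symm.orderOf_pow]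
        exact hg.1)
      (fun g hg h0 => absurd h0 (hnz g (Finset.mem_filter.mp hg).2.1 (Finset.mem_filter.mp hg).2.2))
    simpa using h1
  set Ls : Finset G := univ.filter (· ∈ supp L) with hLs
  have hdisj : Disjoint G₀ Ls := by
    rw [Finset.disjoint_left]
    intro g hg hg'
    exact (Finset.mem_filter.mp hg).2.2 (Finset.mem_filter.mp hg').2
  have hmass := mass_supp_ge hG hL hI hF d hχ₀ hw₀ hsmall
  rw [← hedef, ← hhdef, ← hLs] at hmass
  have hnorm : massOn (G₀ ∪ Ls) (x χ₀) ≤ 1 := by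
    refine (massOn_le_norm _ _).trans (le_of_eq ?_)
    rw [(d.x_signed χ₀ hχ₀).norm_one, Complex.one_re]
  rw [massOn_union hdisj] at hnorm
  have hG0pos : (0 : ℝ) < Nat.card G := Nat.cast_pos.mpr Nat.card_pos
  have hm0 : (G₀.card : ℝ) ≤ massOn G₀ (x χ₀) * Nat.card G := by
    refine hlow.trans (le_of_eq ?_)
    rw [massOn]; field_simp
  have hh1 : (0 : ℝ) ≤ (hh : ℝ) - 1 := by
    have : ((e + 1 : ℕ) : ℝ) ≤ (hh : ℝ) := by exact_mod_cast hsmall.le
    push_cast at this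
    linarith [Nat.cast_nonneg (α := ℝ) e]
  have hkey : (G₀.card : ℝ) * ((hh : ℝ) - 1) ≤ (e : ℝ) * Nat.card G := by
    have h1 := mul_le_mul_of_nonneg_right hnorm hh1
    rw [add_mul, one_mul] at h1
    have h2 : massOn G₀ (x χ₀) * ((hh : ℝ) - 1) ≤ e := by linarith
    calc (G₀.card : ℝ) * ((hh : ℝ) - 1) ≤ massOn G₀ (x χ₀) * Nat.card G * ((hh : ℝ) - 1) :=
          mul_le_mul_of_nonneg_right hm0 hh1
      _ = massOn G₀ (x χ₀) * ((hh : ℝ) - 1) * Nat.card G := by ring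
      _ ≤ _ := mul_le_mul_of_nonneg_right h2 hG0pos.le
  have hkeyN : G₀.card * (hh - 1) ≤ e * Nat.card G := by
    have h1 : ((G₀.card * (hh - 1) : ℕ) : ℝ) ≤ ((e * Nat.card G : ℕ) : ℝ) := by
      rw [Nat.cast_mul, Nat.cast_mul, Nat.cast_sub (by omega), Nat.cast_one]
      exact hkey
    exact_mod_cast h1
  -- the complement
  set Bh : Finset G := univ.filter (· ∈ hatConj W₁ W₂) with hBh
  set BP : Finset G := univ.filter (· ∈ conjSet {a | a ∈ Cfsg.fittingHallOf S ∧ a ≠ 1}) with hBP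
  set BQ : Finset G := univ.filter (· ∈ conjSet {a | a ∈ Cfsg.fittingHallOf T ∧ a ≠ 1}) with hBQ
  have hcover : (univ : Finset G) ⊆ G₀ ∪ Ls ∪ Bh ∪ BP ∪ BQ := by
    intro g _
    simp only [hG₀, hLs, hBh, hBP, hBQ, Finset.mem_union, Finset.mem_filter, Finset.mem_univ,
      true_and]
    by_cases hgL : g ∈ supp L
    · exact Or.inl (Or.inl (Or.inl (Or.inr hgL)))
    by_cases hpg : p ∣ orderOf g
    · rcases side_cases hG h.left_max hdS hp hq hPab hPcard hTIS hNS hfS hpg with ⟨-, h1⟩ | ⟨-, h1⟩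
      · exact Or.inl (Or.inl (Or.inr h1))
      · exact Or.inl (Or.inr h1)
    by_cases hqg : q ∣ orderOf g
    · rcases side_cases hG h.right_max hdT hq hp hQab hQcard hTIT hNT hfT hqg with ⟨h1, -⟩ | ⟨-, h1⟩
      · exact absurd h1 hpg
      · exact Or.inr h1
    refine Or.inl (Or.inl (Or.inl (Or.inl ⟨?_, hgL⟩)))
    rw [hcardW, hidx]
    exact Nat.Coprime.mul_right (hq.coprime_iff_not_dvd.mpr hqg).symm
      (hp.coprime_iff_not_dvd.mpr hpg).symm
  have hcov : Nat.card G ≤ G₀.card + Ls.card + Bh.card + BP.card + BQ.card := by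
    rw [Nat.card_eq_fintype_card, ← Finset.card_univ]
    refine (Finset.card_le_card hcover).trans ?_
    have h1 := Finset.card_union_le G₀ Ls
    have h2 := Finset.card_union_le (G₀ ∪ Ls) Bh
    have h3 := Finset.card_union_le (G₀ ∪ Ls ∪ Bh) BP
    have h4 := Finset.card_union_le (G₀ ∪ Ls ∪ Bh ∪ BP) BQ
    omega
  have hcardL : Nat.card L = hh * e := by
    rw [hhdef, hedef, CfsgLib.OddOrder.card_fittingHallOf, Subgroup.card_mul_index]
  have hLbound : e * Ls.card ≤ Nat.card G := by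
    have h1 := card_supp hG hL hI hF
    rw [← hLs, hcardL, ← hhdef] at h1
    refine Nat.le_of_mul_le_mul_left ?_ (show 0 < hh from Nat.card_pos)
    rw [← mul_assoc, h1, mul_comm hh]
    exact Nat.mul_le_mul le_rfl (Nat.sub_le _ _)
  have hhbound : e * Bh.card ≤ Nat.card G * ((q - 1) * (p - 1)) := by
    have h1 := card_hatConj_le hW
    rw [hcardW, Nat.card_eq_fintype_card (α := hatConj W₁ W₂), ← Set.toFinset_card] at h1
    refine le_trans (le_of_eq ?_) h1
    congr 2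
    ext g
    simp [hBh]
  have side : ∀ (S' W W' U' : Subgroup G), Cfsg.IsTypePWith S' W U' W' → U' ≠ ⊥ →
      3 * Nat.card W * (univ.filter (· ∈ conjSet {a | a ∈ Cfsg.fittingHallOf S' ∧ a ≠ 1}) :
        Finset G).card ≤ Nat.card G := by
    intro S' W W' U' hd' hU'
    have hu : 3 ≤ Nat.card U' := by
      have h1 := (Subgroup.one_lt_card_iff_ne_bot U').mpr hU'
      obtain ⟨k, hk⟩ := (hoddG.of_dvd_nat (Subgroup.card_subgroup_dvd_card U') : Odd (Nat.card U'))
      omega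
    have hcard : Nat.card S' = Nat.card (Cfsg.fittingHallOf S') * (Nat.card U' * Nat.card W) := by
      rw [← Sec13.card_derived_mul hd', TypeP.card_derived hd', mul_assoc]
    have h1 := card_conjSet_le (M := S') (X := Cfsg.fittingHallOf S')
      (CfsgLib.OddOrder.fittingHallOf_normal S')
    rw [hcard] at h1
    refine Nat.le_of_mul_le_mul_left ?_ (show 0 < Nat.card (Cfsg.fittingHallOf S') from Nat.card_pos)
    refine le_trans ?_ (h1.trans ((Nat.mul_le_mul le_rfl (Nat.sub_le _ _)).trans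
      (le_of_eq (mul_comm _ _))))
    rw [mul_assoc (Nat.card (Cfsg.fittingHallOf S'))]
    exact Nat.mul_le_mul le_rfl (Nat.mul_le_mul (Nat.mul_le_mul hu le_rfl) le_rfl)
  have hUne : U ≠ ⊥ := hkS.elim (fun k => k.U_ne) fun k => k.1.U_ne
  have hVne : V ≠ ⊥ := hkT.elim (fun k => k.U_ne) fun k => k.1.U_ne
  have hPbound := side S W₁ W₂ U hdS hUne
  have hQbound := side T W₂ W₁ V hdT hVne
  rw [← hBP, ← hqdef] at hPbound
  rw [← hBQ, ← hpdef] at hQbound
  have hN0 : 0 < Nat.card G := Nat.card_pos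
  have hpodd : Odd p := hoddG.of_dvd_nat (Subgroup.card_subgroup_dvd_card W₂)
  have hqodd : Odd q := hoddG.of_dvd_nat (Subgroup.card_subgroup_dvd_card W₁)
  have hA : Nat.card G ≤ e * G₀.card := by
    have hq3 : 3 ≤ q := by obtain ⟨k, hk⟩ := hqodd; have := hq.two_le; omega
    obtain ⟨c₁, hc₁⟩ : ∃ c, q = c + 1 := ⟨q - 1, by omega⟩
    obtain ⟨c₂, hc₂⟩ : ∃ c, p = c + 1 := ⟨p - 1, by omega⟩
    rw [show q - 1 = c₁ by omega, show p - 1 = c₂ by omega] at hhbound
    rw [hidx] at hLbound hhbound ⊢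
    have h4 := Nat.mul_le_mul_left (q * p) hcov
    have h5 : p * (3 * q * BP.card) ≤ p * Nat.card G := Nat.mul_le_mul le_rfl hPbound
    have h6 : q * (3 * p * BQ.card) ≤ q * Nat.card G := Nat.mul_le_mul le_rfl hQbound
    rw [hc₁, hc₂] at h4 h5 h6 hLbound hhbound ⊢
    have h7 : 9 ≤ 2 * (c₁ + 1) + 2 * (c₂ + 1) := by omega
    have h8 : Nat.card G * 9 ≤ Nat.card G * (2 * (c₁ + 1) + 2 * (c₂ + 1)) := Nat.mul_le_mul le_rfl h7
    nlinarith
  have hbound : hh - 1 ≤ e * e := by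
    refine Nat.le_of_mul_le_mul_left ?_ hN0
    calc Nat.card G * (hh - 1) ≤ e * G₀.card * (hh - 1) := Nat.mul_le_mul hA le_rfl
      _ = e * (G₀.card * (hh - 1)) := by ring
      _ ≤ e * (e * Nat.card G) := Nat.mul_le_mul le_rfl hkeyN
      _ = _ := by ring
  have hhodd : Odd hh := hoddG.of_dvd_nat (Subgroup.card_subgroup_dvd_card _)
  have heodd : Odd (e * e) := by
    rw [hidx]; exact (hqodd.mul hpodd).mul (hqodd.mul hpodd)
  rw [show p ^ 2 * q ^ 2 = e * e by rw [hidx]; ring]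
  obtain ⟨i, hi⟩ := hhodd
  obtain ⟨j, hj⟩ := heodd
  omega

end CfsgLib.PF.Sec14
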