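import Cfsg.Agent.Lib.PF.Sec14Mass

/-!
# Peterfalvi §14: the Type II side against functions invariant under commuting `p`-elements

The Dade images of a Frobenius subgroup `L` of Type I do not change under multiplication by a commuting
element of prime order not dividing `|L_F|`.  A combination of `S(P)` vanishing at `1` is orthogonal to
every such function, as the members sum to zero on the cosets of `P`.
-/

set_option autoImplicit false
set_option linter.unusedSectionVars false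
set_option linter.style.haveILetI false

namespace CfsgLib.PF.Sec14

open scoped Classical ComplexConjugate
open Finset CfsgLib.Characters CfsgLib.OddChar CfsgLib.Clifford CfsgLib.OddOrder
open scoped Pointwise

universe u

variable {G : Type u} [Group G] [Fintype G]

/-- Invariant under multiplication by commuting elements killed by `r`. -/
def PInv (r : ℕ) (ψ : G → ℂ) : Prop :=
  ∀ g b : G, b ^ r = 1 → Commute g b → ψ (g * b) = ψ g

/-- An induced character non-trivial on a normal subgroup `N` sums to zero on the cosets of `N`. -/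
theorem ind_sum_coset {X : Type u} [Group X] [Fintype X] (K N : Subgroup X) [K.Normal] [N.Normal]
    [Fintype K] (hNK : N ≤ K) {θ : K → ℂ} (hθ : Cfsg.IsIrrCharacter K θ) {a : K} (ha : (a : X) ∈ N)
    (hne : θ a ≠ θ 1) (x : X) : ∑ y : N, Cfsg.indFun K θ ((y : X) * x) = 0 := by
  haveI : (N.subgroupOf K).Normal := (inferInstance : N.Normal).subgroupOf _
  by_cases hx : x ∈ K
  swap
  · refine Finset.sum_eq_zero fun y _ => CfsgLib.Induction.indFun_normal_eq_zero _ fun h => hx ?_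
    have := K.mul_mem (K.inv_mem (hNK y.2)) h
    rwa [inv_mul_cancel_left] at this
  have hz : ∀ k : K, ∑ m : N.subgroupOf K, θ ((m : K) * k) = 0 := by
    intro k
    rcases CfsgLib.NormalAvg.avgN_irr (N.subgroupOf K) hθ with e | e
    · refine absurd ?_ hne
      have := CfsgLib.NormalAvg.avgN_mul_left (N.subgroupOf K) θ ⟨a, ha⟩ 1
      rwa [e, mul_one] at this
    · have := congrFun e k
      rw [CfsgLib.NormalAvg.avgN, Pi.zero_apply] at this
      exact (mul_eq_zero.mp this).resolve_left (inv_ne_zero (Nat.cast_ne_zero.mpr Nat.card_pos.ne'))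
  have hval : ∀ y : N, Cfsg.indFun K θ ((y : X) * x) = (Nat.card K : ℂ)⁻¹ *
      ∑ g : X, θ ⟨g * ((y : X) * x) * g⁻¹,
        (inferInstance : K.Normal).conj_mem _ (K.mul_mem (hNK y.2) hx) g⟩ := fun y =>
    CfsgLib.Induction.indFun_normal_apply K θ ⟨(y : X) * x, K.mul_mem (hNK y.2) hx⟩
  rw [Finset.sum_congr rfl fun y _ => hval y, ← Finset.mul_sum, Finset.sum_comm]
  refine mul_eq_zero_of_right _ (Finset.sum_eq_zero fun g _ => ?_)
  rw [← hz ⟨g * x * g⁻¹, (inferInstance : K.Normal).conj_mem _ hx g⟩]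
  refine Fintype.sum_equiv
    { toFun := fun y : N => (⟨⟨g * (y : X) * g⁻¹, hNK ((inferInstance : N.Normal).conj_mem _ y.2 g)⟩,
        (inferInstance : N.Normal).conj_mem _ y.2 g⟩ : N.subgroupOf K)
      invFun := fun m => ⟨g⁻¹ * ((m : K) : X) * g, (inferInstance : N.Normal).conj_mem' _ m.2 g⟩
      left_inv := fun y => Subtype.ext (by simp [mul_assoc])
      right_inv := fun m => Subtype.ext (Subtype.ext (by simp [mul_assoc])) } _ _ fun y => ?_
  refine congrArg θ (Subtype.ext ?_)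
  simp [mul_assoc]

section Frob

variable (hG : Cfsg.IsMinSimpleOddOrder G) {L : Subgroup G} (hL : IsCoatom L) (hI : OfTypeI L)
  (hF : IsFrobF L)

include hG hL hI hF

theorem supp_mul_of_pow {r : ℕ} (hr : r.Prime) (hrh : ¬ r ∣ Nat.card (Cfsg.fittingHallOf L))
    {α : ↥L → ℂ} (hα : Cfsg.IsClassFunction ↥L α) {g b : G} (hb : b ^ r = 1) (hc : Commute g b)
    (hg : g ∈ supp L) : g * b ∈ supp L ∧ tau L α (g * b) = tau L α g := by
  have hD := frob_dade hG hL hI hF
  obtain ⟨a, ha, v, hv, x, e⟩ := hg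
  have haL : a ∈ L := hD.subset ha
  obtain ⟨haH, ha1⟩ := (mem_suppA0 hI hF ⟨a, haL⟩).mp ha
  have hav : Commute a v := dade_commute hD ha hv
  have hcop : (orderOf a).Coprime (orderOf v) :=
    ((hD.coprime a ha a ha).symm.coprime_dvd_left (dade_orderOf_dvd hD ha)).coprime_dvd_right
      (Subgroup.orderOf_dvd_natCard _ hv)
  obtain ⟨n, hn, -⟩ := exists_pow_eq_left hav hav (by
    rwa [Nat.lcm_self, Nat.lcm_self])
  set b' := x * b * x⁻¹ with hb'
  have hc' : Commute (a * v) b' := by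
    rw [← e, hb', Commute, SemiconjBy,
      show x * g * x⁻¹ * (x * b * x⁻¹) = x * (g * b) * x⁻¹ by group, hc.eq]
    group
  have hab : b' ∈ Subgroup.centralizer ({a} : Set G) := by
    refine Subgroup.mem_centralizer_singleton_iff.mpr ?_
    have := (hc'.pow_left n)
    rw [hn] at this
    exact this.symm
  have hbr : b' ^ r = 1 := by rw [hb', conj_pow, hb, mul_one, mul_inv_cancel]
  -- the centraliser of `a` is `R(a)` extended by a group of order dividing `|L_F|`
  have hmem : b' ∈ Cfsg.supportR L a := by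
    have hset : ((Cfsg.supportR L a ⊔ (L ⊓ Subgroup.centralizer ({a} : Set G)) : Subgroup G) : Set G) =
        (Cfsg.supportR L a : Set G) * ((L ⊓ Subgroup.centralizer ({a} : Set G) : Subgroup G) : Set G) := by
      refine Subgroup.coe_mul_of_right_le_normalizer_left _ _ fun c hc => Subgroup.mem_normalizer_iff.mpr
        fun u => ⟨fun hu => hD.conj_mem_H a ha c hc.2 u hu, fun hu => ?_⟩
      have := hD.conj_mem_H a ha c⁻¹ (inv_mem hc.2) _ hu
      rwa [show c⁻¹ * (c * u * c⁻¹) * c⁻¹⁻¹ = u by group] at this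
    have hb2 : b' ∈ ((Cfsg.supportR L a ⊔ (L ⊓ Subgroup.centralizer ({a} : Set G)) : Subgroup G) : Set G) := by
      rw [hD.sup_eq a ha]; exact hab
    rw [hset] at hb2
    obtain ⟨v₁, hv₁, c, hc₁, ebc⟩ := Set.mem_mul.mp hb2
    have hpow : ∀ m : ℕ, (v₁ * c) ^ m * (c ^ m)⁻¹ ∈ Cfsg.supportR L a := by
      intro m
      induction m with
      | zero => simp [Subgroup.one_mem]
      | succ m ih =>
        rw [pow_succ, pow_succ,
          show (v₁ * c) ^ m * (v₁ * c) * (c ^ m * c)⁻¹ =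
            (v₁ * c) ^ m * (c ^ m)⁻¹ * (c ^ m * v₁ * (c ^ m)⁻¹) by group]
        exact mul_mem ih (hD.conj_mem_H a ha _ (pow_mem hc₁.2 m) _ hv₁)
    have h1 := hpow r
    rw [ebc, hbr, one_mul] at h1
    have hcr : c ^ r = 1 := Subgroup.mem_bot.mp ((hD.inf_eq_bot a ha).le
      ⟨by simpa using inv_mem h1, pow_mem hc₁ r⟩)
    have hcH : c ∈ Cfsg.fittingHallOf L := hF a ⟨⟨a, haL⟩, haH, rfl⟩
      (fun h => ha1 (Subtype.ext h)) hc₁
    have hc1 : c = 1 := by
      rcases (Nat.dvd_prime hr).mp (orderOf_dvd_of_pow_eq_one hcr) with h | h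
      · exact orderOf_eq_one_iff.mp h
      · exact absurd (h ▸ Subgroup.orderOf_dvd_natCard _ hcH) hrh
    rw [← ebc, hc1, mul_one]
    exact hv₁
  have e2 : x * (g * b) * x⁻¹ = a * (v * b') := by
    rw [show x * (g * b) * x⁻¹ = (x * g * x⁻¹) * (x * b * x⁻¹) by group, e, mul_assoc]
  refine ⟨⟨a, ha, v * b', mul_mem hv hmem, x, e2⟩, ?_⟩
  rw [tau, dadeIsometry_apply hD hα (a := ⟨a, haL⟩) (u := v * b') (x := x) ha (mul_mem hv hmem) e2,
    dadeIsometry_apply hD hα (a := ⟨a, haL⟩) (u := v) (x := x) ha hv e]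

theorem pInv_tau {r : ℕ} (hr : r.Prime) (hrh : ¬ r ∣ Nat.card (Cfsg.fittingHallOf L))
    {α : ↥L → ℂ} (hα : Cfsg.IsClassFunction ↥L α) : PInv r (tau L α) := by
  intro g b hb hc
  by_cases hg : g ∈ supp L
  · exact (supp_mul_of_pow hG hL hI hF hr hrh hα hb hc hg).2
  have h2 : g * b ∉ supp L := fun h => hg (by
    have := (supp_mul_of_pow hG hL hI hF hr hrh hα (g := g * b) (b := b⁻¹) (by rw [inv_pow, hb, inv_one])
      (hc.mul_left (Commute.refl b)).inv_right h).1
    rwa [mul_inv_cancel_right] at this)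
  rw [tau_eq_zero hg, tau_eq_zero h2]

theorem tau_isClassFunction {α : ↥L → ℂ} (hα : Cfsg.IsClassFunction ↥L α) :
    Cfsg.IsClassFunction G (tau L α) :=
  dadeIsometry_isClassFunction (frob_dade hG hL hI hF) hα

end Frob

namespace SideCtx

variable {S W₁ U W₂ : Subgroup G} (hG : Cfsg.IsMinSimpleOddOrder G) (C : SideCtx S W₁ U W₂)
  (k2 : Kind2 S W₁ U W₂)
  {μ : (↥(W₁ ⊔ W₂) →* ℂˣ) → (↥S → ℂ)} {δ : (↥(W₁ ⊔ W₂) →* ℂˣ) → ℂ}
  {η : (↥(W₁ ⊔ W₂) →* ℂˣ) → (G → ℂ)} (hd : TIData S W₁ W₂ μ δ η) (hCF : PropCoreFactor G)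
  (hRed : PropReducible G)

include hG C k2

theorem core_eq : Cfsg.typeCore S = Cfsg.fittingHallOf S := by
  rw [Cfsg.typeCore, if_neg fun h34 => ?_]
  exact k2.normalizer_not_le ((propKinds hG S W₁ U W₂ C.max C.data).2.2.1.mp h34).normalizer_le

/-- The members of `S(P)` are supported on `A₀(S) ∪ {1}` and sum to zero on the cosets of `P`. -/
theorem member_props {χ : ↥S → ℂ} (hχ : χ ∈ calS S (Cfsg.fittingHallOf S) ⊥) :
    (∀ x : S, (x : G) ∉ suppA0 S → x ≠ 1 → χ x = 0) ∧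
      (∀ x : S, (x : G) ∉ (⁅S, S⁆ : Subgroup G) → χ x = 0) ∧
      Cfsg.IsClassFunction ↥S χ ∧
      ∀ x : S, ∑ y : (Cfsg.fittingHallOf S).subgroupOf S, χ ((y : S) * x) = 0 := by
  obtain ⟨⟨θ, hθ, hθ1, -, rfl⟩, hnot⟩ := hχ
  haveI : Fintype ↥((⁅S, S⁆ : Subgroup G).subgroupOf S) := Fintype.ofFinite _
  have hrel : ∃ a : ↥((⁅S, S⁆ : Subgroup G).subgroupOf S),
      ((a : S) : G) ∈ Cfsg.fittingHallOf S ∧ θ a ≠ θ 1 := by
    by_contra h
    push Not at h
    exact hnot ⟨θ, hθ, hθ1, fun a ha => h a ha, rfl⟩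
  obtain ⟨a, ha, hne⟩ := hrel
  refine ⟨fun x hx hx1 => calS_core_vanish (propTypes hG) C.max C.data hθ
      ⟨a, by rw [C.core_eq hG k2]; exact ha, hne⟩ (fun h => hx (Or.inl h)) hx1,
    fun x hx => CfsgLib.Induction.indFun_normal_eq_zero _ hx,
    CfsgLib.Induction.isClassFunction_indFun _ _, fun x => ?_⟩
  haveI := C.P_normal
  exact ind_sum_coset ((⁅S, S⁆ : Subgroup G).subgroupOf S) ((Cfsg.fittingHallOf S).subgroupOf S)
    (fun y hy => C.P_le hy) hθ ha hne x

theorem span_props {F : ↥S → ℂ} (hF : F ∈ Cfsg.zspan (calS S (Cfsg.fittingHallOf S) ⊥)) :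
    (∀ x : S, (x : G) ∉ suppA0 S → x ≠ 1 → F x = 0) ∧
      (∀ x : S, (x : G) ∉ (⁅S, S⁆ : Subgroup G) → F x = 0) ∧
      Cfsg.IsClassFunction ↥S F ∧
      ∀ x : S, ∑ y : (Cfsg.fittingHallOf S).subgroupOf S, F ((y : S) * x) = 0 := by
  induction hF using Submodule.span_induction with
  | mem χ hχ => exact C.member_props hG k2 hχ
  | zero => exact ⟨fun _ _ _ => rfl, fun _ _ => rfl, fun _ _ => rfl, fun _ => by simp⟩
  | add f g _ _ hf hg =>
    exact ⟨fun x h1 h2 => by simp [hf.1 x h1 h2, hg.1 x h1 h2],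
      fun x h1 => by simp [hf.2.1 x h1, hg.2.1 x h1],
      isClassFunction_add hf.2.2.1 hg.2.2.1,
      fun x => by simp [Finset.sum_add_distrib, hf.2.2.2 x, hg.2.2.2 x]⟩
  | smul n f _ hf =>
    exact ⟨fun x h1 h2 => by simp [hf.1 x h1 h2], fun x h1 => by simp [hf.2.1 x h1],
      by rw [CfsgLib.OddChar.zsmul_eq_smul]; exact isClassFunction_smul hf.2.2.1 _,
      fun x => by simp [← Finset.mul_sum, hf.2.2.2 x]⟩

/-- A combination of `S(P)` vanishing at `1` is orthogonal to the `p`-invariant class functions. -/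
theorem tau_inner_pInv {F : ↥S → ℂ}
    (hF : F ∈ Cfsg.zspanOn (calS S (Cfsg.fittingHallOf S) ⊥) {1}ᶜ) {ψ : G → ℂ}
    (hψc : Cfsg.IsClassFunction G ψ) (hψ : PInv (Nat.card W₂) ψ) :
    Cfsg.classInner (tau S F) ψ = 0 := by
  obtain ⟨hsupp, hoff, hcl, hsum⟩ := C.span_props hG k2 hF.1
  have hA : ∀ x : S, (x : G) ∉ suppA0 S → F x = 0 := fun x hx => by
    by_cases h1 : x = 1
    · rw [h1]; exact (zspanOn_compl_one.mp hF).2
    · exact hsupp x hx h1
  rw [C.tau_adjoint hG hcl hA hψc, Cfsg.classInner]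
  refine mul_eq_zero_of_right _ ?_
  set N := (Cfsg.fittingHallOf S).subgroupOf S with hN
  haveI : N.Normal := C.P_normal
  have hconst : ∀ (x : S), (x : G) ∈ (⁅S, S⁆ : Subgroup G) → ∃ c : ℂ, ∀ y : N,
      ψ (((y : S) * x : S) : G) = c := by
    intro x hx
    obtain ⟨a₀, ha₀, b, hb, e⟩ := C.data.U_compl.2.2.2 (x : G) hx
    set bS : S := ⟨b, C.U_le hb⟩
    refine ⟨ψ b, fun y => ?_⟩
    have hcop : (orderOf bS).Coprime (Nat.card N) := by
      rw [hN, Nat.card_congr (Subgroup.subgroupOfEquivOfLe (C.P_le.trans C.der_le)).toEquiv,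
        ← Subgroup.orderOf_coe]
      exact (Sec13.coprime_fittingHall_U C.data).symm.coprime_dvd_left (Subgroup.orderOf_dvd_natCard _ hb)
    have hxb : x * bS⁻¹ ∈ N := by
      rw [hN, Subgroup.mem_subgroupOf]
      show (x : G) * b⁻¹ ∈ Cfsg.fittingHallOf S
      rwa [e, mul_inv_cancel_right]
    obtain ⟨k, -, c, hc, hcb, ek⟩ := coset_conj_centralizer N bS hcop (y := (y : S) * x)
      (by rw [mul_assoc]; exact N.mul_mem y.2 hxb)
    rw [ek]
    show ψ ((k : G) * ((c : G) * b) * (k : G)⁻¹) = ψ b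
    rw [hψc]
    have hcb' : Commute b (c : G) := (congrArg Subtype.val hcb.eq : _).symm
    rw [← hcb'.eq]
    exact hψ b c (C.P_elem.2 c hc) hcb'
  have h1 : ∀ y : N, ∑ x : S, F ((y : S) * x) * conj (ψ (((y : S) * x : S) : G)) =
      ∑ x : S, F x * conj (ψ (x : G)) := fun y =>
    Fintype.sum_equiv (Equiv.mulLeft (y : S)) _ _ fun x => rfl
  have h2 : ∑ y : N, ∑ x : S, F ((y : S) * x) * conj (ψ (((y : S) * x : S) : G)) = 0 := by
    rw [Finset.sum_comm]
    refine Finset.sum_eq_zero fun x _ => ?_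
    by_cases hx : (x : G) ∈ (⁅S, S⁆ : Subgroup G)
    · obtain ⟨c, hc⟩ := hconst x hx
      rw [Finset.sum_congr rfl fun y _ => by rw [hc y], ← Finset.sum_mul, hsum x, zero_mul]
    · refine Finset.sum_eq_zero fun y _ => ?_
      rw [hoff _ (fun h => hx ?_), zero_mul]
      have := mul_mem (inv_mem (C.P_le (Subgroup.mem_subgroupOf.mp y.2))) h
      rwa [Subgroup.coe_mul, inv_mul_cancel_left] at this
  rw [Finset.sum_congr rfl fun y _ => h1 y, Finset.sum_const, nsmul_eq_mul] at h2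
  exact (mul_eq_zero.mp h2).resolve_left (Nat.cast_ne_zero.mpr (Finset.card_ne_zero.mpr ⟨1, mem_univ _⟩))

end SideCtx

end CfsgLib.PF.Sec14
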