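import Cfsg.Agent.Lib.PF.Sec14Algebra
import Cfsg.Agent.Lib.PF.TypeICoherent
import Cfsg.Agent.Lib.PF.Sec8Tame
import Cfsg.Agent.Lib.OddChar.CoherenceExtend
import Cfsg.Agent.Lib.OddChar.InducedSet

/-!
# Peterfalvi §14: the bridge of a Frobenius maximal subgroup of Type I

For a maximal `L` of Type I that is a Frobenius group with kernel `H`: the signed irreducible images
`x χ` of the members of `S(H)` and the Dade image of `Ind_H^L 1 - φ`.
-/

set_option autoImplicit false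
set_option linter.style.haveILetI false
set_option linter.unusedSectionVars false

namespace CfsgLib.PF.Sec14

open scoped Classical ComplexConjugate
open Finset CfsgLib.Characters CfsgLib.OddChar

universe u

variable {G : Type u} [Group G] [Fintype G]

/-- The support of the Dade map of `A₀(M)`. -/
noncomputable def supp (M : Subgroup G) : Set G := dadeSupp (suppA0 M) (Cfsg.supportR M)

theorem tau_eq_zero {M : Subgroup G} {α : ↥M → ℂ} {g : G} (hg : g ∉ supp M) : tau M α g = 0 :=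
  dadeIsometry_of_not_mem hg

theorem tau_inner_disjoint {M N : Subgroup G} (h : Disjoint (supp M) (supp N)) (α : ↥M → ℂ)
    (β : ↥N → ℂ) : Cfsg.classInner (tau M α) (tau N β) = 0 :=
  classInner_eq_zero_of_disjoint fun g => by
    by_cases hg : g ∈ supp M
    · exact Or.inr (tau_eq_zero (Set.disjoint_left.mp h hg))
    · exact Or.inl (tau_eq_zero hg)

/-- Images of the members of `S(H)` for a Frobenius maximal subgroup of Type I. -/
structure FrobData (L : Subgroup G) (I : Finset (↥L → ℂ)) (φ : ↥L → ℂ) (w : (↥L → ℂ) → ℕ)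
    (x : (↥L → ℂ) → (G → ℂ)) : Prop where
  φ_mem : φ ∈ I
  conj_mem : ∀ χ ∈ I, Cfsg.conjFun χ ∈ I
  conj_ne : ∀ χ ∈ I, Cfsg.conjFun χ ≠ χ
  irr : ∀ χ ∈ I, Cfsg.IsIrrCharacter ↥L χ
  vanish : ∀ χ ∈ I, ∀ g : ↥L, g ∉ Cfsg.fittingHall ↥L → χ g = 0
  degree : ∀ χ ∈ I, χ 1 = ((w χ * (Cfsg.fittingHall ↥L).index : ℕ) : ℂ)
  w_pos : ∀ χ ∈ I, 0 < w χ
  w_φ : w φ = 1
  w_conj : ∀ χ ∈ I, w (Cfsg.conjFun χ) = w χ
  sum_sq : (∑ χ ∈ I, w χ ^ 2) * (Cfsg.fittingHall ↥L).index + 1 =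
    Nat.card (Cfsg.fittingHall ↥L)
  x_signed : ∀ χ ∈ I, IsSigned (x χ)
  x_orth : ∀ χ ∈ I, ∀ ψ ∈ I, χ ≠ ψ → Cfsg.classInner (x χ) (x ψ) = 0
  x_conj : ∀ χ ∈ I, x (Cfsg.conjFun χ) = Cfsg.conjFun (x χ)
  x_one : ∀ χ ∈ I, Cfsg.classInner (x χ) (fun _ => 1) = 0
  tau_diff : ∀ χ ∈ I, tau L (χ - (w χ : ℂ) • φ) = x χ - (w χ : ℂ) • x φ

variable (hG : Cfsg.IsMinSimpleOddOrder G) {L : Subgroup G} (hL : IsCoatom L) (hI : OfTypeI L)
  (hF : IsFrobF L)

include hG hL hI hF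

omit hG hL in
theorem mem_suppA0 (g : ↥L) : (g : G) ∈ suppA0 L ↔ g ∈ Cfsg.fittingHall ↥L ∧ g ≠ 1 := by
  rw [suppA0, suppA, if_pos hI]
  constructor
  · rintro (h | ⟨h, -⟩)
    · exact (mem_kernel_iff hF g).mp h
    · exact absurd hI h
  · exact fun h => Or.inl ((mem_kernel_iff hF g).mpr h)

theorem frob_dade : Cfsg.DadeHypothesis (suppA0 L) L (Cfsg.supportR L) :=
  (propDade hG L _ hL (Or.inr (Or.inr rfl))).2

/-- A class function of `L` vanishing outside `H#`. -/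
theorem tau_one_inner {α : ↥L → ℂ} (hα : Cfsg.IsClassFunction ↥L α)
    (hA : ∀ g : ↥L, (g : G) ∉ suppA0 L → α g = 0) :
    Cfsg.classInner (tau L α) (fun _ => 1) = Cfsg.classInner α (fun _ => 1) := by
  refine dade_adjoint (frob_dade hG hL hI hF) hα hA (fun _ _ => rfl) fun a _ => ?_
  rw [finsum_mem_eq_finite_toFinset_sum _ (Set.toFinite _), Finset.sum_const, nsmul_eq_mul, mul_one,
    ← Nat.card_eq_card_finite_toFinset]
  simp only [SetLike.coe_sort_coe]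
  rw [inv_mul_cancel₀ (Nat.cast_ne_zero.mpr Nat.card_pos.ne')]

theorem exists_frobData : ∃ I φ w x, FrobData L I φ w x := by
  set H := Cfsg.fittingHall ↥L with hH
  haveI : H.Normal := Cfsg.fittingHall_normal ↥L
  haveI : Fintype H := Fintype.ofFinite _
  obtain ⟨hsolv, hodd, hH1, hH2, -⟩ := hI.1
  obtain ⟨hirr, -, τ₁, hiso, hext⟩ := typeICoherent hG (propDade hG) L hL hI hF
  set I := indAboveFinset H ⊥ with hIdef
  have hco : (↑I : Set (↥L → ℂ)) = calI L := coe_indAboveFinset (K := H) (⊥ : Subgroup ↥L)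
  have hmem : ∀ {χ}, χ ∈ I → χ ∈ calI L := fun h => hco ▸ Finset.mem_coe.mpr h
  have hmem' : ∀ {χ}, χ ∈ calI L → χ ∈ I := fun h => Finset.mem_coe.mp (hco ▸ h)
  have hH1' : (⊥ : Subgroup ↥L) < H := bot_lt_iff_ne_bot.mpr hH1
  haveI : Group.IsSolvable H := by haveI := hsolv; infer_instance
  obtain ⟨φ, hφ, hφdeg⟩ := exists_linear_above (K := H) inferInstance ⊥ hH1'
  have hvan : ∀ χ ∈ I, ∀ g : ↥L, g ∉ H → χ g = 0 := fun χ hχ g hg => by
    obtain ⟨θ, -, -, -, rfl⟩ := hmem hχ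
    exact CfsgLib.Induction.indFun_normal_eq_zero H hg
  have hne : ∀ χ ∈ I, Cfsg.conjFun χ ≠ χ := fun χ hχ e => by
    obtain ⟨g, hg⟩ : ∃ g : ↥L, g ∉ H := by
      by_contra h
      push Not at h
      exact hH2 (eq_top_iff.mpr fun g _ => h g)
    have h1 := real_irr_eq_one hodd ⟨χ, hirr χ (hmem hχ)⟩ fun y => by
      have := congrFun e y
      rwa [Cfsg.conjFun, Complex.conj_eq_iff_im] at this
    have h2 := hvan χ hχ g hg
    have h3 : χ g = 1 := congrFun (congrArg Subtype.val h1) g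
    rw [h3] at h2
    exact one_ne_zero h2
  set e := H.index with he
  have hdiv : ∀ χ ∈ I, e ∣ natDeg χ := fun χ hχ => by
    obtain ⟨θ, hθ, -, -, rfl⟩ := hmem hχ
    exact ⟨natDeg θ, natDeg_indFun (isCharacter_of_irr hθ)⟩
  have hdeg : ∀ χ ∈ I, χ 1 = ((natDeg χ / e * e : ℕ) : ℂ) := fun χ hχ => by
    rw [Nat.div_mul_cancel (hdiv χ hχ)]
    exact natDeg_spec (isCharacter_of_irr (hirr χ (hmem hχ)))
  have he0 : e ≠ 0 := Subgroup.index_ne_zero_of_finite
  have hcmem : ∀ χ ∈ I, Cfsg.conjFun χ ∈ I := fun χ hχ => hmem' (indAbove_conj H ⊥ (hmem hχ))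
  have hdia : ∀ χ ∈ I, χ - ((natDeg χ / e : ℕ) : ℂ) • φ ∈ Cfsg.zspanOn (calI L) {1}ᶜ :=
    fun χ hχ => by
      refine zspanOn_compl_one.mpr ⟨?_, ?_⟩
      · have h2 := zspan_sub (zspan_of_mem (hmem hχ))
          (zspan_zsmul ((natDeg χ / e : ℕ) : ℤ) (zspan_of_mem (S := calI L) hφ))
        rwa [CfsgLib.OddChar.zsmul_eq_smul, Int.cast_natCast] at h2
      · rw [Pi.sub_apply, Pi.smul_apply, smul_eq_mul, hdeg χ hχ,
          natDeg_spec (isCharacter_of_irr (hirr φ hφ)), hφdeg]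
        push_cast
        ring
  have hτ₁ : ∀ χ ∈ I, τ₁ (χ - ((natDeg χ / e : ℕ) : ℂ) • φ) =
      τ₁ χ - ((natDeg χ / e : ℕ) : ℂ) • τ₁ φ := fun χ hχ => by
    have h2 : ((natDeg χ / e : ℕ) : ℂ) • φ = ((natDeg χ / e : ℕ) : ℤ) • φ := by
      rw [CfsgLib.OddChar.zsmul_eq_smul, Int.cast_natCast]
    rw [h2, isometry_sub hiso (zspan_of_mem (hmem hχ)) (zspan_zsmul _ (zspan_of_mem hφ))
      (zspan_sub (zspan_of_mem (hmem hχ)) (zspan_zsmul _ (zspan_of_mem hφ))),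
      hiso.2.1 _ (zspan_of_mem hφ), CfsgLib.OddChar.zsmul_eq_smul, Int.cast_natCast]
  have hxs : ∀ χ ∈ I, IsSigned (τ₁ χ) := fun χ hχ =>
    isSigned_of_norm_one (hiso.2.2.2 _ (zspan_of_mem (hmem hχ))) (by
      rw [hiso.2.2.1 _ (zspan_of_mem (hmem hχ)) _ (zspan_of_mem (hmem hχ))]
      exact classInner_irr_self (hirr χ (hmem hχ)))
  have hxo : ∀ χ ∈ I, ∀ ψ ∈ I, χ ≠ ψ → Cfsg.classInner (τ₁ χ) (τ₁ ψ) = 0 :=
    fun χ hχ ψ hψ hne' => by
      rw [hiso.2.2.1 _ (zspan_of_mem (hmem hχ)) _ (zspan_of_mem (hmem hψ))]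
      exact classInner_irr_ne (hirr χ (hmem hχ)) (hirr ψ (hmem hψ)) hne'
  have hone : ∀ χ ∈ I, χ 1 = Cfsg.conjFun χ 1 := fun χ hχ => by
    rw [Cfsg.conjFun, hdeg χ hχ, map_natCast]
  have hcd : ∀ χ ∈ I, natDeg (Cfsg.conjFun χ) = natDeg χ := fun χ hχ => by
    have h2 := natDeg_spec (isCharacter_of_irr (hirr _ (hmem (hcmem χ hχ))))
    rw [← hone χ hχ, natDeg_spec (isCharacter_of_irr (hirr χ (hmem hχ)))] at h2
    exact_mod_cast h2.symm
  have hd : ∀ χ ∈ I, χ - Cfsg.conjFun χ ∈ Cfsg.zspanOn (calI L) {1}ᶜ := fun χ hχ =>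
    zspanOn_compl_one.mpr ⟨zspan_sub (zspan_of_mem (hmem hχ)) (zspan_of_mem (hmem (hcmem χ hχ))),
      by rw [Pi.sub_apply, hone χ hχ, sub_self]⟩
  have hpair : ∀ χ ∈ I, tau L (χ - Cfsg.conjFun χ) = τ₁ χ - τ₁ (Cfsg.conjFun χ) := fun χ hχ => by
    rw [← hext _ (hd χ hχ), isometry_sub hiso (zspan_of_mem (hmem hχ))
      (zspan_of_mem (hmem (hcmem χ hχ))) (hd χ hχ).1]
  have hxc : ∀ χ ∈ I, τ₁ (Cfsg.conjFun χ) = Cfsg.conjFun (τ₁ χ) := fun χ hχ => by
    have h2 := Sec12.eq_neg_conjFun (hxs χ hχ) (hxs _ (hcmem χ hχ)).neg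
      (by rw [classInner_neg_right, hxo χ hχ _ (hcmem χ hχ) (hne χ hχ).symm, neg_zero])
      (by
        rw [← sub_eq_add_neg, ← hpair χ hχ]
        show Cfsg.conjFun (Cfsg.dadeIsometry _ _ _ _) = _
        rw [← Sec12.dade_conjFun, Sec12.conjFun_sub, conjFun_conjFun,
          show Cfsg.conjFun χ - χ = (-1 : ℤ) • (χ - Cfsg.conjFun χ) by rw [neg_one_zsmul, neg_sub],
          dadeIsometry_zsmul, neg_one_zsmul]
        rfl)
    exact neg_inj.mp h2
  have hx1 : ∀ χ ∈ I, Cfsg.classInner (τ₁ χ) (fun _ => 1) = 0 := fun χ hχ => by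
    have hcl : Cfsg.IsClassFunction ↥L (χ - Cfsg.conjFun χ) :=
      isClassFunction_sub (isClassFunction_of_isCharacter (isCharacter_of_irr (hirr χ (hmem hχ))))
        (isClassFunction_of_isCharacter (isCharacter_of_irr (hirr _ (hmem (hcmem χ hχ)))))
    have hsupp : ∀ g : ↥L, (g : G) ∉ suppA0 L → (χ - Cfsg.conjFun χ) g = 0 := fun g hg => by
      by_cases hg1 : g = 1
      · rw [hg1, Pi.sub_apply, hone χ hχ, sub_self]
      · have hgH : g ∉ H := fun h => hg ((mem_suppA0 hI hF g).mpr ⟨h, hg1⟩)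
        rw [Pi.sub_apply, hvan χ hχ g hgH, hvan _ (hcmem χ hχ) g hgH, sub_zero]
    have h0 := tau_one_inner hG hL hI hF hcl hsupp
    have hp : ∀ ψ ∈ I, Cfsg.classInner ψ (fun _ => 1) = 0 := fun ψ hψ =>
      classInner_irr_ne (hirr ψ (hmem hψ)) isIrrCharacter_one fun e => by
        apply hne ψ hψ
        rw [e]
        funext y
        simp [Cfsg.conjFun]
    rw [classInner_sub_left (χ) , hp χ hχ, hp _ (hcmem χ hχ), sub_zero, hpair χ hχ,
      classInner_sub_left] at h0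
    rcases IsSigned.cases (hxs χ hχ) (Or.inl isIrrCharacter_one : IsSigned (fun _ : G => (1 : ℂ)))
      with h1 | h1 | h1
    · exfalso
      have h2 : τ₁ (Cfsg.conjFun χ) = τ₁ χ := by
        rw [hxc χ hχ, h1]; funext y; simp [Cfsg.conjFun]
      have h3 := hxo χ hχ _ (hcmem χ hχ) (hne χ hχ).symm
      rw [h2, (hxs χ hχ).norm_one] at h3
      exact one_ne_zero h3
    · exfalso
      have h2 : τ₁ (Cfsg.conjFun χ) = τ₁ χ := by
        rw [hxc χ hχ, h1]; funext y; simp [Cfsg.conjFun]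
      have h3 := hxo χ hχ _ (hcmem χ hχ) (hne χ hχ).symm
      rw [h2, (hxs χ hχ).norm_one] at h3
      exact one_ne_zero h3
    · exact h1
  have hsum : (∑ χ ∈ I, (natDeg χ / e) ^ 2) * e + 1 = Nat.card H := by
    have h := sum_indAbove (K := H) inferInstance (⊥ : Subgroup ↥L)
    rw [Subgroup.relIndex_bot_left, ← he, ← hIdef] at h
    have h2 : ∀ χ ∈ I, ((natDeg χ : ℝ) ^ 2 / (natNorm χ : ℝ)) =
        ((natDeg χ / e : ℕ) : ℝ) ^ 2 * (e : ℝ) ^ 2 := fun χ hχ => by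
      have hn : natNorm χ = 1 := by
        have h3 := natNorm_spec (isCharacter_of_irr (hirr χ (hmem hχ)))
        rw [classInner_irr_self (hirr χ (hmem hχ))] at h3
        exact_mod_cast h3.symm
      rw [hn, Nat.cast_one, div_one, ← mul_pow, ← Nat.cast_mul, Nat.div_mul_cancel (hdiv χ hχ)]
    rw [Finset.sum_congr rfl h2, ← Finset.sum_mul] at h
    have he0' : (e : ℝ) ≠ 0 := Nat.cast_ne_zero.mpr he0
    have h4 : (((∑ χ ∈ I, (natDeg χ / e) ^ 2) * e + 1 : ℕ) : ℝ) = (Nat.card H : ℝ) := by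
      rw [Nat.cast_add, Nat.cast_mul, Nat.cast_sum, Nat.cast_one]
      simp only [Nat.cast_pow]
      refine mul_right_cancel₀ he0' ?_
      linear_combination h
    exact_mod_cast h4
  refine ⟨I, φ, fun χ => natDeg χ / e, τ₁, ⟨hmem' hφ, hcmem, hne, fun χ h => hirr χ (hmem h), hvan,
    hdeg, fun χ hχ => ?_, ?_, fun χ hχ => ?_, hsum, hxs, hxo, hxc, hx1, fun χ hχ => ?_⟩⟩
  · exact Nat.div_pos (Nat.le_of_dvd (natDeg_pos (hirr χ (hmem hχ))) (hdiv χ hχ))
      (Nat.pos_of_ne_zero he0)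
  · show natDeg φ / e = 1
    rw [hφdeg]
    exact Nat.div_self (Nat.pos_of_ne_zero he0)
  · show natDeg (Cfsg.conjFun χ) / e = natDeg χ / e
    rw [hcd χ hχ]
  · rw [← hext _ (hdia χ hχ), hτ₁ χ hχ]

/-- `Ind_H^L 1 - φ`. -/
noncomputable def bridgeI (L : Subgroup G) (φ : ↥L → ℂ) : ↥L → ℂ :=
  Cfsg.indFun (Cfsg.fittingHall ↥L) (fun _ => 1) - φ

variable {I : Finset (↥L → ℂ)} {φ : ↥L → ℂ} {w : (↥L → ℂ) → ℕ} {x : (↥L → ℂ) → (G → ℂ)}
  (d : FrobData L I φ w x)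

include d

theorem ind_one_apply (g : ↥L) :
    Cfsg.indFun (Cfsg.fittingHall ↥L) (fun _ => (1 : ℂ)) g =
      if g ∈ Cfsg.fittingHall ↥L then ((Cfsg.fittingHall ↥L).index : ℂ) else 0 := by
  haveI : (Cfsg.fittingHall ↥L).Normal := Cfsg.fittingHall_normal ↥L
  split_ifs with hg
  · have h := CfsgLib.Induction.indFun_normal_apply (Cfsg.fittingHall ↥L) (fun _ => (1 : ℂ)) ⟨g, hg⟩
    simp only [Finset.sum_const, Finset.card_univ, nsmul_eq_mul, mul_one] at h
    rw [h, ← Nat.card_eq_fintype_card, ← Subgroup.card_mul_index (Cfsg.fittingHall ↥L), Nat.cast_mul,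
      ← mul_assoc, inv_mul_cancel₀ (Nat.cast_ne_zero.mpr Nat.card_pos.ne'), one_mul]
  · exact CfsgLib.Induction.indFun_normal_eq_zero _ hg

theorem bridgeI_supp (g : ↥L) (hg : (g : G) ∉ suppA0 L) : bridgeI L φ g = 0 := by
  by_cases hgH : g ∈ Cfsg.fittingHall ↥L
  · have hg1 : g = 1 := by
      by_contra h
      exact hg ((mem_suppA0 hI hF g).mpr ⟨hgH, h⟩)
    rw [bridgeI, Pi.sub_apply, ind_one_apply hG hL hI hF d, if_pos hgH, hg1, d.degree φ d.φ_mem, d.w_φ,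
      one_mul, sub_self]
  · rw [bridgeI, Pi.sub_apply, ind_one_apply hG hL hI hF d, if_neg hgH, d.vanish φ d.φ_mem g hgH, sub_zero]

theorem bridgeI_generalized : Cfsg.IsGeneralizedCharacter ↥L (bridgeI L φ) :=
  isGeneralizedCharacter_sub
    (isGeneralizedCharacter_of_isCharacter
      (CfsgLib.Induction.isCharacter_indFun _ (isCharacter_of_irr isIrrCharacter_one)))
    (isGeneralizedCharacter_irr ⟨φ, d.irr φ d.φ_mem⟩)

theorem bridgeI_norm :
    Cfsg.classInner (bridgeI L φ) (bridgeI L φ) = ((Cfsg.fittingHall ↥L).index : ℂ) + 1 ∧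
      Cfsg.classInner (bridgeI L φ) (fun _ => 1) = 1 := by
  haveI : (Cfsg.fittingHall ↥L).Normal := Cfsg.fittingHall_normal ↥L
  haveI : Fintype (Cfsg.fittingHall ↥L) := Fintype.ofFinite _
  have hone : Cfsg.IsIrrCharacter ↥(Cfsg.fittingHall ↥L) (fun _ => (1 : ℂ)) := isIrrCharacter_one
  have hcl := CfsgLib.Induction.isClassFunction_indFun (Cfsg.fittingHall ↥L) (fun _ => (1 : ℂ))
  have h11 : Cfsg.classInner (Cfsg.indFun (Cfsg.fittingHall ↥L) (fun _ => (1 : ℂ))) (fun _ => 1) = 1 := by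
    rw [CfsgLib.Induction.classInner_indFun _ _ (fun _ _ => rfl)]
    exact classInner_irr_self hone
  have hA : Cfsg.classInner (Cfsg.indFun (Cfsg.fittingHall ↥L) (fun _ => (1 : ℂ)))
      (Cfsg.indFun (Cfsg.fittingHall ↥L) (fun _ => 1)) = ((Cfsg.fittingHall ↥L).index : ℂ) := by
    rw [CfsgLib.Induction.classInner_indFun _ _ hcl,
      show (fun h : ↥(Cfsg.fittingHall ↥L) => Cfsg.indFun (Cfsg.fittingHall ↥L) (fun _ => (1 : ℂ)) h) =
        ((Cfsg.fittingHall ↥L).index : ℂ) • (fun _ => (1 : ℂ)) from funext fun h => by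
          rw [ind_one_apply hG hL hI hF d, if_pos h.2]; simp,
      classInner_smul_right, classInner_irr_self hone, mul_one, map_natCast]
  have hφ1 : Cfsg.classInner φ (fun _ => 1) = 0 :=
    classInner_irr_ne (d.irr φ d.φ_mem) isIrrCharacter_one fun e => by
      apply d.conj_ne φ d.φ_mem
      rw [e]
      funext y
      simp [Cfsg.conjFun]
  have hAφ : Cfsg.classInner (Cfsg.indFun (Cfsg.fittingHall ↥L) (fun _ => (1 : ℂ))) φ = 0 := by
    rw [CfsgLib.Induction.classInner_indFun _ _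
      (isClassFunction_of_isCharacter (isCharacter_of_irr (d.irr φ d.φ_mem)))]
    have hrel : CfsgLib.FrobKernelChar.Relevant (Cfsg.fittingHall ↥L) φ := by
      by_contra hn
      obtain ⟨g, hg⟩ : ∃ g : ↥L, g ∉ Cfsg.fittingHall ↥L := by
        by_contra h
        push Not at h
        exact hI.1.2.2.2.1 (eq_top_iff.mpr fun g _ => h g)
      have hsum : Cfsg.classInner φ (fun _ => 1) = 0 := hφ1
      rw [Cfsg.classInner] at hsum
      have h2 : ∑ g : ↥L, φ g * conj (1 : ℂ) =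
          ∑ g ∈ (univ : Finset ↥L).filter (· ∈ Cfsg.fittingHall ↥L), φ 1 := by
        rw [Finset.sum_filter]
        refine Finset.sum_congr rfl fun y _ => ?_
        rw [map_one, mul_one]
        split_ifs with hy
        · exact CfsgLib.FrobKernelChar.eq_of_not_relevant hn hy
        · exact d.vanish φ d.φ_mem y hy
      rw [h2, Finset.sum_const, nsmul_eq_mul] at hsum
      rcases mul_eq_zero.mp hsum with h | h
      · exact Nat.card_pos.ne' (Nat.cast_eq_zero.mp (inv_eq_zero.mp h))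
      rcases mul_eq_zero.mp h with h | h
      · exact Finset.card_ne_zero.mpr ⟨1, by simp⟩ (Nat.cast_eq_zero.mp h)
      · exact irr_one_ne_zero ⟨φ, d.irr φ d.φ_mem⟩ h
    have h0 := CfsgLib.FrobKernelChar.sum_eq_zero (d.irr φ d.φ_mem) hrel
    rw [Cfsg.classInner, show ∑ g : ↥(Cfsg.fittingHall ↥L), (1 : ℂ) * conj (φ g) =
      conj (∑ g : ↥(Cfsg.fittingHall ↥L), φ g) by rw [map_sum]; simp,
      show ∑ g : ↥(Cfsg.fittingHall ↥L), φ g = 0 from
        (Finset.sum_congr (by ext; simp) fun _ _ => rfl).trans h0, map_zero, mul_zero]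
  refine ⟨?_, by rw [bridgeI, classInner_sub_left, h11, hφ1, sub_zero]⟩
  have hφA : Cfsg.classInner φ (Cfsg.indFun (Cfsg.fittingHall ↥L) fun _ => (1 : ℂ)) = 0 := by
    rw [classInner_conj_symm, hAφ, map_zero]
  rw [bridgeI, classInner_sub_left, classInner_sub_right, classInner_sub_right, hA, hAφ, hφA,
    classInner_irr_self (d.irr φ d.φ_mem)]
  ring

/-- The properties of `β_L = τ(Ind_H^L 1 - φ)`. -/
theorem betaI_props :
    Cfsg.IsGeneralizedCharacter G (tau L (bridgeI L φ)) ∧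
    Cfsg.classInner (tau L (bridgeI L φ)) (tau L (bridgeI L φ)) =
      ((Cfsg.fittingHall ↥L).index : ℂ) + 1 ∧
    Cfsg.classInner (tau L (bridgeI L φ)) (fun _ => 1) = 1 ∧
    Cfsg.conjFun (tau L (bridgeI L φ)) = tau L (bridgeI L φ) + x φ - x (Cfsg.conjFun φ) := by
  have hgen := bridgeI_generalized hG hL hI hF d
  have hcl := isClassFunction_of_isGeneralizedCharacter hgen
  have hsupp := bridgeI_supp hG hL hI hF d
  have hD := frob_dade hG hL hI hF
  refine ⟨dade_virtual hD hgen hsupp, ?_, ?_, ?_⟩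
  · exact (dade_isometry hD hcl hsupp hcl).trans (bridgeI_norm hG hL hI hF d).1
  · rw [tau_one_inner hG hL hI hF hcl hsupp, (bridgeI_norm hG hL hI hF d).2]
  · have e : Cfsg.conjFun (bridgeI L φ) = bridgeI L φ + (φ - Cfsg.conjFun φ) := by
      funext g
      show conj (bridgeI L φ g) = _
      rw [bridgeI, Pi.sub_apply, map_sub, ind_one_apply hG hL hI hF d]
      simp only [Pi.add_apply, Pi.sub_apply, ind_one_apply hG hL hI hF d, Cfsg.conjFun]
      split_ifs <;> simp <;> ring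
    show Cfsg.conjFun (Cfsg.dadeIsometry _ _ _ _) = _
    rw [← Sec12.dade_conjFun, e, dadeIsometry_add]
    have h2 : tau L (φ - Cfsg.conjFun φ) = x φ - x (Cfsg.conjFun φ) := by
      have h3 := d.tau_diff (Cfsg.conjFun φ) (d.conj_mem φ d.φ_mem)
      rw [d.w_conj φ d.φ_mem, d.w_φ, Nat.cast_one, one_smul, one_smul] at h3
      rw [show φ - Cfsg.conjFun φ = (-1 : ℤ) • (Cfsg.conjFun φ - φ) by rw [neg_one_zsmul, neg_sub]]
      show Cfsg.dadeIsometry _ _ _ _ = _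
      rw [dadeIsometry_zsmul, show Cfsg.dadeIsometry (suppA0 L) L (Cfsg.supportR L)
        (Cfsg.conjFun φ - φ) = tau L (Cfsg.conjFun φ - φ) from rfl, h3, neg_one_zsmul, neg_sub]
    rw [show Cfsg.dadeIsometry (suppA0 L) L (Cfsg.supportR L) (φ - Cfsg.conjFun φ) =
      tau L (φ - Cfsg.conjFun φ) from rfl, h2, add_sub_assoc]
    rfl

end CfsgLib.PF.Sec14
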