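import Cfsg.Agent.Lib.PF.Sec14Cross

/-!
# Peterfalvi §14: the image of the irreducible part of `S(P)`

`V` is the coherent image of `Φ - u ∑_j red j`, the irreducible part.  It is orthogonal to the cyclic family
and to the characters of a Frobenius subgroup of Type I, and its inner product with a `p`-invariant class
function is `±` the common coefficient of that function at the row of `W₂` times `p^q - 1 - (p-1) u`.
-/

set_option autoImplicit false
set_option linter.unusedSectionVars false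
set_option linter.style.haveILetI false

namespace CfsgLib.PF.Sec14

open scoped Classical ComplexConjugate
open Finset CfsgLib.Characters CfsgLib.OddChar CfsgLib.Clifford CfsgLib.OddOrder

universe u

variable {G : Type u} [Group G] [Fintype G]

namespace SideCtx

variable {S W₁ U W₂ : Subgroup G} (hG : Cfsg.IsMinSimpleOddOrder G) (C : SideCtx S W₁ U W₂)
  (k2 : Kind2 S W₁ U W₂)
  {μ : (↥(W₁ ⊔ W₂) →* ℂˣ) → (↥S → ℂ)} {δ : (↥(W₁ ⊔ W₂) →* ℂˣ) → ℂ}
  {η : (↥(W₁ ⊔ W₂) →* ℂˣ) → (G → ℂ)} (hd : TIData S W₁ W₂ μ δ η) (hCF : PropCoreFactor G)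
  (hRed : PropReducible G)

include hG C k2 hd hCF hRed

/-- The irreducible part of `S(P)` under a coherent extension. -/
theorem exists_irrPart (hN : 2 * Nat.card U < Nat.card W₂ ^ Nat.card W₁ - 1) :
    ∃ V : G → ℂ, (∀ ν, Cfsg.classInner V (η ν) = 0) ∧
      Cfsg.classInner V V = ((Nat.card W₁ * Nat.card U : ℕ) : ℂ) *
        (((Nat.card W₂ ^ Nat.card W₁ - 1 : ℕ) : ℂ) - ((Nat.card W₂ - 1 : ℕ) : ℂ) * (Nat.card U : ℂ)) ∧
      (∀ {L : Subgroup G}, IsCoatom L → OfTypeI L → IsFrobF L →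
        ∀ {I : Finset (↥L → ℂ)} {φ : ↥L → ℂ} {w : (↥L → ℂ) → ℕ} {x : (↥L → ℂ) → (G → ℂ)},
        FrobData L I φ w x → ¬ Nat.card W₂ ∣ Nat.card (Cfsg.fittingHallOf L) →
          ∀ χ ∈ I, Cfsg.classInner V (x χ) = 0) ∧
      ∀ ψ : G → ℂ, Cfsg.IsClassFunction G ψ → PInv (Nat.card W₂) ψ → ∀ a : ℤ,
        (∀ ν, ¬ AgreeR W₁ W₂ ν 1 → ¬ AgreeL W₁ W₂ ν 1 → Cfsg.classInner ψ (η ν) = 0) →
        (∀ ω, TrivL ω → ω ≠ 1 → Cfsg.classInner ψ (η ω) = a) →
        ∃ s : ℤ, (s = 1 ∨ s = -1) ∧ Cfsg.classInner V ψ = ((s * a : ℤ) : ℂ) *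
          (((Nat.card W₂ ^ Nat.card W₁ - 1 : ℕ) : ℂ) - ((Nat.card W₂ - 1 : ℕ) : ℂ) * (Nat.card U : ℂ)) := by
  set q := Nat.card W₁ with hq
  set u := Nat.card U with hu
  set N := Nat.card W₂ ^ Nat.card W₁ - 1 with hNdef
  have hW := C.data.selfNormalizing
  have hodd := odd_W hG C.data
  haveI := finite_linChar hW
  haveI := Fintype.ofFinite (↥(W₁ ⊔ W₂) →* ℂˣ)
  obtain ⟨R, τ₁, hc⟩ := C.exists_coherentPart hG hd hCF hRed
  set T := calS S (Cfsg.fittingHallOf S) ⊥ with hT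
  -- the columns
  set Ω : Finset (↥(W₁ ⊔ W₂) →* ℂˣ) := univ.filter fun ω => TrivL ω ∧ ω ≠ 1 with hΩ
  have hΩm : ∀ {ω}, ω ∈ Ω → ¬ AgreeR W₁ W₂ ω 1 := fun h =>
    C.not_agreeR (mem_filter.mp h).2.1 (mem_filter.mp h).2.2
  have hΩc : Ω.card = Nat.card W₂ - 1 := by
    have h1 : (univ.filter fun ω : ↥(W₁ ⊔ W₂) →* ℂˣ => TrivL ω).card = Nat.card W₂ := by
      rw [← card_trivL hW, Nat.card_eq_fintype_card, Fintype.card_subtype]
    rw [← h1, show Ω = (univ.filter fun ω : ↥(W₁ ⊔ W₂) →* ℂˣ => TrivL ω).erase 1 from by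
      ext ω; simp [hΩ, and_comm], Finset.card_erase_of_mem (by simp [TrivL])]
  have hagree : ∀ {ω ω' : ↥(W₁ ⊔ W₂) →* ℂˣ}, TrivL ω → TrivL ω' → AgreeR W₁ W₂ ω ω' → ω = ω' :=
    fun {ω ω'} h h' e => trivL_ext hW.2.2.1 hW.2.2.2.1 h h' (MonoidHom.ext fun b => e (ctiR W₁ W₂ b) b.2)
  have hmem : ∀ {ω ν : ↥(W₁ ⊔ W₂) →* ℂˣ},
      ν ∈ ({ν | AgreeR W₁ W₂ ω ν} : Set _).toFinset → AgreeR W₁ W₂ ω ν := fun h => by simpa using h
  choose θ hθ eθ using fun ω : {ω // ω ∈ Ω} => C.resD_mem hd (hΩm ω.2)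
  set Θ : Finset (Cfsg.IrrCharacter ↥((⁅S, S⁆ : Subgroup G).subgroupOf S)) :=
    Ω.attach.image θ with hΘ
  have hΘsub : Θ ⊆ relP S := fun t ht => by
    obtain ⟨ω, -, rfl⟩ := Finset.mem_image.mp ht; exact hθ ω
  set IR := relP S \ Θ with hIR
  have hΘinj : ∀ a ∈ Ω.attach, ∀ b ∈ Ω.attach, θ a = θ b → a = b := fun a _ b _ e =>
    Subtype.ext (hagree (mem_filter.mp a.2).2.1 (mem_filter.mp b.2).2.1
      (C.resD_inj hd (by rw [← eθ, ← eθ, e])))
  have hirr : ∀ t ∈ IR, Cfsg.IsIrrCharacter ↥S (Cfsg.indFun ((⁅S, S⁆ : Subgroup G).subgroupOf S)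
      (t : ↥((⁅S, S⁆ : Subgroup G).subgroupOf S) → ℂ)) := by
    intro t ht
    obtain ⟨htR, htΘ⟩ := Finset.mem_sdiff.mp ht
    by_contra hn
    obtain ⟨ν, hν⟩ := hd.reducible _ t.2 hn
    have hνn : ¬ AgreeR W₁ W₂ ν 1 := by
      intro hag
      obtain ⟨a, ha, hne⟩ := CfsgLib.FrobKernelChar.mem_relSet.mp htR
      refine hne ?_
      rw [hν]
      show μ ν _ = μ ν _
      exact ((hd.trivial_col ν hag).2 _ (C.P_le (Subgroup.mem_subgroupOf.mp ha))).trans
        ((hd.trivial_col ν hag).2 _ (OneMemClass.one_mem _)).symm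
    obtain ⟨φ, ω, hφ, hω, e⟩ := exists_trivR_mul_trivL hW.2.2.1 hW.2.2.2.1 ν
    have hag : AgreeR W₁ W₂ ν ω := fun z hz => by rw [← e, MonoidHom.mul_apply, hφ z hz, one_mul]
    have hω1 : ω ≠ 1 := fun h => hνn (h ▸ hag)
    refine htΘ (Finset.mem_image.mpr ⟨⟨ω, mem_filter.mpr ⟨mem_univ _, hω, hω1⟩⟩, mem_attach _ _, ?_⟩)
    exact Subtype.ext (by rw [eθ, hν]; exact (hd.res_eq _ _ hag).symm)
  have hred : ∀ ω, ¬ AgreeR W₁ W₂ ω 1 → red S μ ω ∈ T := fun ω hω => C.red_mem hd hω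
  -- degrees
  have hdeg : ∀ t : Cfsg.IrrCharacter ↥((⁅S, S⁆ : Subgroup G).subgroupOf S),
      ∃ n : ℕ, (t : ↥((⁅S, S⁆ : Subgroup G).subgroupOf S) → ℂ) 1 = n := fun t =>
    exists_degree (irr_isCharacter t)
  choose n hn using hdeg
  set Ψ : ↥S → ℂ := ∑ t ∈ IR, (n t : ℤ) • Cfsg.indFun ((⁅S, S⁆ : Subgroup G).subgroupOf S)
    (t : ↥((⁅S, S⁆ : Subgroup G).subgroupOf S) → ℂ) with hΨ
  have hΨT : Ψ ∈ Cfsg.zspan T :=
    zspan_sum _ fun t ht => zspan_zsmul _ (zspan_of_mem (C.rel_mem hd (Finset.mem_sdiff.mp ht).1))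
  have hdec : Phi S = Ψ + ∑ ω ∈ Ω, (u : ℤ) • red S μ ω := by
    rw [Phi, ← Finset.sum_sdiff hΘsub, hΨ, hIR]
    refine congrArg₂ (· + ·) (Finset.sum_congr rfl fun t _ => by
      rw [CfsgLib.OddChar.zsmul_eq_smul, Int.cast_natCast, hn]) ?_
    rw [hΘ, Finset.sum_image fun a ha b hb e => hΘinj a ha b hb e]
    refine Eq.trans ?_ (Finset.sum_attach Ω fun ω => (u : ℤ) • red S μ ω)
    refine Finset.sum_congr rfl fun ω _ => ?_
    rw [CfsgLib.OddChar.zsmul_eq_smul, Int.cast_natCast, eθ]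
    show resD S (μ ω) 1 • red S μ ω = _
    rw [show resD S (μ (ω : ↥(W₁ ⊔ W₂) →* ℂˣ)) 1 = (u : ℂ) from C.μ_one hd hCF hRed (hΩm ω.2)]
  set V := τ₁ Ψ with hV
  have hVsum : V = ∑ t ∈ IR, (n t : ℤ) • τ₁ (Cfsg.indFun ((⁅S, S⁆ : Subgroup G).subgroupOf S)
      (t : ↥((⁅S, S⁆ : Subgroup G).subgroupOf S) → ℂ)) := by
    rw [hV, hΨ, isometry_sum hc.iso zspan_zero (fun a ha b hb => zspan_add ha hb) _
      fun t ht => zspan_zsmul _ (zspan_of_mem (C.rel_mem hd (Finset.mem_sdiff.mp ht).1))]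
    exact Finset.sum_congr rfl fun t ht =>
      hc.iso.2.1 _ (zspan_of_mem (C.rel_mem hd (Finset.mem_sdiff.mp ht).1)) _
  have hVη : ∀ ν, Cfsg.classInner V (η ν) = 0 := fun ν => by
    rw [hVsum, classInner_sum_left]
    refine Finset.sum_eq_zero fun t ht => ?_
    rw [classInner_zsmul_left, hc.inner_tau1_zero hd (C.rel_mem hd (Finset.mem_sdiff.mp ht).1)
      (fun ω _ e => absurd (e ▸ hirr t ht) (C.not_irr_red hd ω)), mul_zero]
  have hτΦ : τ₁ (Phi S) = V + ∑ ω ∈ Ω, (u : ℤ) • τ₁ (red S μ ω) := by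
    rw [hdec, hc.iso.1 _ hΨT _ (zspan_sum _ fun ω hω => zspan_zsmul _ (zspan_of_mem (hred ω (hΩm hω)))),
      isometry_sum hc.iso zspan_zero (fun a ha b hb => zspan_add ha hb) _
        fun ω hω => zspan_zsmul _ (zspan_of_mem (hred ω (hΩm hω)))]
    exact congrArg (V + ·) (Finset.sum_congr rfl fun ω hω =>
      hc.iso.2.1 _ (zspan_of_mem (hred ω (hΩm hω))) _)
  have hΦT : Phi S ∈ Cfsg.zspan T := by
    rw [hdec]
    exact zspan_add hΨT (zspan_sum _ fun ω hω => zspan_zsmul _ (zspan_of_mem (hred ω (hΩm hω))))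
  obtain ⟨hΦΦ, hΦr⟩ := C.Phi_inner hd hCF hRed
  have hrr : ∀ ω ∈ Ω, ∀ ω' ∈ Ω, Cfsg.classInner (red S μ ω) (red S μ ω') =
      if ω = ω' then (q : ℂ) else 0 := fun ω hω ω' hω' => by
    rw [hd.classInner_red_red hW]
    refine if_congr ⟨fun e => hagree (mem_filter.mp hω).2.1 (mem_filter.mp hω').2.1 e,
      fun e => e ▸ AgreeR.refl ω⟩ rfl rfl
  have hrΨ : ∀ ω ∈ Ω, Cfsg.classInner (red S μ ω) Ψ = 0 := fun ω hω => by
    have h := (hΦr ω (hΩm hω)).1
    have hs : Cfsg.classInner (red S μ ω) (∑ ω' ∈ Ω, (u : ℤ) • red S μ ω') = (u : ℂ) * q := by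
      rw [classInner_sum_right, Finset.sum_eq_single ω
        (fun b hb hne => by rw [classInner_zsmul_right, hrr ω hω b hb, if_neg hne.symm, mul_zero])
        (fun h => absurd hω h), classInner_zsmul_right, hrr ω hω ω hω, if_pos rfl, Int.cast_natCast]
    rw [hdec, classInner_add_right, hs, ← hq, ← hu, Nat.cast_mul] at h
    linear_combination h
  have hVV : Cfsg.classInner V V = ((q * u : ℕ) : ℂ) *
      ((N : ℂ) - ((Nat.card W₂ - 1 : ℕ) : ℂ) * (u : ℂ)) := by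
    rw [hV, hc.iso.2.2.1 _ hΨT _ hΨT]
    have h1 : Cfsg.classInner (Phi S) Ψ = Cfsg.classInner Ψ Ψ := by
      have hs : Cfsg.classInner (∑ ω ∈ Ω, (u : ℤ) • red S μ ω) Ψ = 0 := by
        rw [classInner_sum_left]
        exact Finset.sum_eq_zero fun ω hω => by rw [classInner_zsmul_left, hrΨ ω hω, mul_zero]
      rw [hdec, classInner_add_left, hs, add_zero]
    have h2 : Cfsg.classInner (Phi S) (Phi S) = Cfsg.classInner (Phi S) Ψ +
        ((Ω.card : ℕ) : ℂ) * ((u : ℂ) * ((q * u : ℕ) : ℂ)) := by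
      have hs : Cfsg.classInner (Phi S) (∑ ω ∈ Ω, (u : ℤ) • red S μ ω) =
          ((Ω.card : ℕ) : ℂ) * ((u : ℂ) * ((q * u : ℕ) : ℂ)) := by
        rw [classInner_sum_right, Finset.sum_congr rfl fun ω hω => by
          rw [classInner_zsmul_right, (hΦr ω (hΩm hω)).2], Finset.sum_const, nsmul_eq_mul, Int.cast_natCast]
      rw [← hs, ← classInner_add_right, ← hdec]
    rw [h1, hΦΦ, hΩc] at h2
    push_cast at h2 ⊢
    linear_combination -h2
  -- the column images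
  have hshape : ∀ ω ∈ Ω, τ₁ (red S μ ω) = colSum η ω ∨ τ₁ (red S μ ω) = -colSum η ω⁻¹ := by
    intro ω hω
    obtain ⟨hωL, hω1⟩ := (mem_filter.mp hω).2
    obtain ⟨hiL, hi1⟩ := C.inv_cases hd hωL hω1
    have hωi : ω⁻¹ ∈ Ω := mem_filter.mpr ⟨mem_univ _, hiL, hi1⟩
    have hne : ω ≠ ω⁻¹ := fun e => hΩm hω (agreeR_self_inv hodd (by
      have h := AgreeR.refl (W₁ := W₁) (W₂ := W₂) ω
      nth_rw 2 [e] at h
      exact h))
    have hz : ∀ ω' ∈ Ω, ∀ ν, ¬ AgreeR W₁ W₂ ω' ν → ¬ AgreeR W₁ W₂ ω'⁻¹ ν →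
        Cfsg.classInner (τ₁ (red S μ ω')) (η ν) = 0 := by
      intro ω' hω' ν h1 h2
      refine hc.inner_tau1_zero hd (hred _ (hΩm hω')) fun ω'' _ e => ?_
      have hag : AgreeR W₁ W₂ ω' ω'' := by
        refine C.resD_inj hd ?_
        obtain ⟨t, -, et⟩ := C.resD_mem hd (hΩm hω')
        rw [← et]
        refine C.resD_of_red hd ?_
        rw [et]
        exact e
      refine ⟨fun r => h1 (hag.trans r), fun r => h2 (hag.inv.trans r)⟩
    -- the coefficient is constant along a column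
    have hcol : ∀ ω₀ ∈ Ω, ω₀⁻¹ ∈ Ω → ω₀ ≠ ω₀⁻¹ → ∃ A : ℤ, ∀ ν, AgreeR W₁ W₂ ω₀ ν →
        Cfsg.classInner (τ₁ (red S μ ω₀)) (η ν) = A ∧
          Cfsg.classInner (τ₁ (red S μ ω₀⁻¹)) (η ν) = ((A - 1 : ℤ) : ℂ) := by
      intro ω₀ h₀ h₀i hne₀
      obtain ⟨A₀, hA₀, hB₀⟩ := C.col_coeff hG hd hCF hRed hc (hΩm h₀)
      refine ⟨A₀, fun ν hν => ?_⟩
      have hνn : ¬ AgreeR W₁ W₂ ν 1 := fun r => hΩm h₀ (hν.trans r)
      obtain ⟨A, hA, hB⟩ := C.col_coeff hG hd hCF hRed hc hνn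
      have e1 : red S μ ν = red S μ ω₀ := by rw [red, red, hd.res_eq _ _ hν]
      have e2 : red S μ ν⁻¹ = red S μ ω₀⁻¹ := by rw [red, red, hd.res_eq _ _ hν.inv]
      rw [e1] at hA
      rw [e2] at hB
      suffices hAA : A = A₀ by subst hAA; exact ⟨hA, hB⟩
      -- the table of `τ (N red ω₀ - Φ)` is additive
      set F : ↥S → ℂ := (N : ℤ) • red S μ ω₀ - Phi S with hF
      have hF1 : F 1 = 0 := by
        rw [hF, Pi.sub_apply, Pi.smul_apply, C.red_one hd, C.μ_one hd hCF hRed (hΩm h₀), C.Phi_value,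
          if_pos rfl, if_pos (by simp), C.P_card, zsmul_eq_mul, hNdef, Int.cast_natCast,
          Nat.cast_sub (Nat.one_le_pow _ _ C.p_prime.pos)]
        push_cast
        ring
      have hFT : F ∈ Cfsg.zspanOn T {1}ᶜ :=
        zspanOn_compl_one.mpr ⟨zspan_sub (zspan_zsmul _ (zspan_of_mem (hred _ (hΩm h₀)))) hΦT, hF1⟩
      obtain ⟨-, hoff, hcl, -⟩ := C.span_props hG k2 hFT.1
      set φ := ν * ω₀⁻¹ with hφ
      have hφR : TrivR φ := fun z hz' => by
        rw [hφ, MonoidHom.mul_apply, MonoidHom.inv_apply, ← hν z hz', mul_inv_cancel]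
      have hadd := coeff_add hd (propTypes hG) (propDade hG) C.max C.data hcl hoff hφR
        (mem_filter.mp h₀).2.1
      rw [show φ * ω₀ = ν from inv_mul_cancel_right ν ω₀] at hadd
      have hval : ∀ χ, Cfsg.classInner (tau S F) (η χ) =
          (N : ℂ) * Cfsg.classInner (τ₁ (red S μ ω₀)) (η χ) -
            (u : ℂ) * ∑ ω' ∈ Ω, Cfsg.classInner (τ₁ (red S μ ω')) (η χ) := by
        intro χ
        rw [← hc.ext F hFT, hF, isometry_sub hc.iso (zspan_zsmul _ (zspan_of_mem (hred _ (hΩm h₀)))) hΦT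
          hFT.1, hc.iso.2.1 _ (zspan_of_mem (hred _ (hΩm h₀))), classInner_sub_left, hτΦ,
          classInner_add_left, hVη, zero_add, classInner_sum_left, classInner_zsmul_left]
        simp only [classInner_zsmul_left, Int.cast_natCast, Finset.mul_sum]
      have htriv : ∀ χ, TrivR χ → Cfsg.classInner (tau S F) (η χ) = 0 := by
        intro χ hχ
        have h1 : ∀ ω' ∈ Ω, Cfsg.classInner (τ₁ (red S μ ω')) (η χ) = 0 := fun ω' hω' => by
          have hn' := hΩm hω'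
          refine hz ω' hω' χ (fun r => hn' (r.trans hχ)) fun r => hn' ?_
          have h := (r.trans (show AgreeR W₁ W₂ χ 1 from hχ)).inv
          rwa [CfsgLib.PF.linInv, CfsgLib.PF.linInv_one] at h
        rw [hval, h1 ω₀ h₀, Finset.sum_eq_zero h1, mul_zero, mul_zero, sub_zero]
      rw [htriv φ hφR, htriv 1 (fun _ _ => rfl), sub_zero, add_zero, hval, hval] at hadd
      have hsum : ∀ (χ : ↥(W₁ ⊔ W₂) →* ℂˣ) (B : ℤ), AgreeR W₁ W₂ ω₀ χ →
          Cfsg.classInner (τ₁ (red S μ ω₀)) (η χ) = B →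
          Cfsg.classInner (τ₁ (red S μ ω₀⁻¹)) (η χ) = ((B - 1 : ℤ) : ℂ) →
          ∑ ω' ∈ Ω, Cfsg.classInner (τ₁ (red S μ ω')) (η χ) = ((2 * B - 1 : ℤ) : ℂ) := by
        intro χ B hχ h1 h2
        rw [Finset.sum_eq_add_of_mem ω₀ ω₀⁻¹ h₀ h₀i hne₀ fun ω' hω' h => hz ω' hω' χ ?_ ?_, h1, h2]
        · push_cast; ring
        · exact fun r => h.1 (hagree (mem_filter.mp hω').2.1 (mem_filter.mp h₀).2.1 (r.trans hχ.symm))
        · intro r
          refine h.2 (hagree (mem_filter.mp hω').2.1 (mem_filter.mp h₀i).2.1 ?_)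
          have h' := (r.trans hχ.symm).inv
          rwa [CfsgLib.PF.linInv] at h'
      rw [hsum ν A hν hA hB, hsum ω₀ A₀ (AgreeR.refl _) hA₀ hB₀, hA, hA₀] at hadd
      have h' : ((N : ℤ) - 2 * u) * (A - A₀) = 0 := by
        have : (((N : ℤ) - 2 * u) * (A - A₀) : ℂ) = 0 := by push_cast at hadd ⊢; linear_combination hadd
        exact_mod_cast this
      have hN' : (N : ℤ) - 2 * u ≠ 0 := by omega
      exact sub_eq_zero.mp ((mul_eq_zero.mp h').resolve_left hN')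
    obtain ⟨A, hA⟩ := hcol ω hω hωi hne
    obtain ⟨A', hA'⟩ := hcol ω⁻¹ hωi (by rwa [CfsgLib.PF.linInv]) (by rw [CfsgLib.PF.linInv]; exact hne.symm)
    rw [CfsgLib.PF.linInv] at hA'
    have hagn : ¬ AgreeR W₁ W₂ ω ω⁻¹ := fun r => hΩm hω (agreeR_self_inv hodd r)
    have hcs : ∀ (f : G → ℂ) (ω₀ : ↥(W₁ ⊔ W₂) →* ℂˣ) (B : ℂ),
        (∀ ν, AgreeR W₁ W₂ ω₀ ν → Cfsg.classInner f (η ν) = B) →
        Cfsg.classInner f (colSum η ω₀) = (q : ℂ) * B := by
      intro f ω₀ B hB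
      rw [colSum, finsum_mem_eq_toFinset_sum, classInner_sum_right]
      refine (Finset.sum_congr rfl fun ν hν => hB ν (hmem hν)).trans ?_
      rw [Finset.sum_const, nsmul_eq_mul,
        hq, ← hd.card_col hW ω₀, Nat.card_eq_fintype_card, Set.toFinset_card]
      congr 2
    have hXX : ∀ ω' ∈ Ω, Cfsg.classInner (τ₁ (red S μ ω')) (τ₁ (red S μ ω')) = (q : ℂ) := fun ω' h' => by
      rw [hc.iso.2.2.1 _ (zspan_of_mem (hred _ (hΩm h'))) _ (zspan_of_mem (hred _ (hΩm h'))),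
        hrr ω' h' ω' h', if_pos rfl]
    have hcc : ∀ ω₁ ω₂, Cfsg.classInner (colSum η ω₁) (colSum η ω₂) =
        if AgreeR W₁ W₂ ω₁ ω₂ then (q : ℂ) else 0 := hd.classInner_colSum_colSum hW
    have hres : ∀ (f : G → ℂ) (a b : ℤ), Cfsg.classInner f f = (q : ℂ) →
        (∀ ν, AgreeR W₁ W₂ ω ν → Cfsg.classInner f (η ν) = a) →
        (∀ ν, AgreeR W₁ W₂ ω⁻¹ ν → Cfsg.classInner f (η ν) = b) →
        a * a + b * b ≤ 1 ∧ (a * a + b * b = 1 → f = (a : ℂ) • colSum η ω + (b : ℂ) • colSum η ω⁻¹) := by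
      intro f a b hf ha hb
      set g := f - ((a : ℂ) • colSum η ω + (b : ℂ) • colSum η ω⁻¹) with hg
      have hgg : Cfsg.classInner g g = (((q : ℝ) * (1 - ((a * a + b * b : ℤ) : ℝ)) : ℝ) : ℂ) := by
        have e1 := hcs f ω a ha
        have e2 := hcs f ω⁻¹ b hb
        have e3 : Cfsg.classInner (colSum η ω) f = (q : ℂ) * a := by
          rw [classInner_conj_symm, e1, map_mul, Complex.conj_natCast, map_intCast]
        have e4 : Cfsg.classInner (colSum η ω⁻¹) f = (q : ℂ) * b := by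
          rw [classInner_conj_symm, e2, map_mul, Complex.conj_natCast, map_intCast]
        rw [hg]
        simp only [classInner_sub_left, classInner_sub_right, classInner_add_left, classInner_add_right,
          classInner_smul_left, classInner_smul_right, hf, e1, e2, e3, e4, hcc, if_pos (AgreeR.refl _),
          if_neg hagn, if_neg (fun r : AgreeR W₁ W₂ ω⁻¹ ω => hagn r.symm), map_intCast]
        push_cast
        ring
      refine ⟨?_, fun h => ?_⟩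
      · have h0 := classInner_self_re_nonneg g
        rw [hgg, Complex.ofReal_re] at h0
        have hq0 : (0 : ℝ) < q := by exact_mod_cast C.q_prime.pos
        have h1 : ((a * a + b * b : ℤ) : ℝ) ≤ 1 := by
          have := nonneg_of_mul_nonneg_right h0 hq0
          linarith
        exact_mod_cast h1
      · rw [h, Int.cast_one, sub_self, mul_zero, Complex.ofReal_zero] at hgg
        exact sub_eq_zero.mp (eq_zero_of_classInner_self hgg)
    have hA'' : ∀ ν, AgreeR W₁ W₂ ω⁻¹ ν → Cfsg.classInner (τ₁ (red S μ ω)) (η ν) = ((A' - 1 : ℤ) : ℂ) :=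
      fun ν hν => (hA' ν hν).2
    obtain ⟨h1, h1e⟩ := hres _ A (A' - 1) (hXX ω hω) (fun ν hν => (hA ν hν).1) hA''
    obtain ⟨h2, -⟩ := hres _ (A - 1) A' (hXX ω⁻¹ hωi) (fun ν hν => (hA ν hν).2) (fun ν hν => (hA' ν hν).1)
    have b1 : 0 ≤ A ∧ A ≤ 1 := by constructor <;> nlinarith
    have b2 : 0 ≤ A' ∧ A' ≤ 1 := by constructor <;> nlinarith
    rcases (show A = 0 ∨ A = 1 by omega) with rfl | rfl <;>
      rcases (show A' = 0 ∨ A' = 1 by omega) with rfl | rfl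
    · exact Or.inr (by rw [h1e (by norm_num)]; simp)
    · norm_num at h2
    · norm_num at h1
    · exact Or.inl (by rw [h1e (by norm_num)]; simp)
  refine ⟨V, hVη, hVV, ?_, ?_⟩
  · intro L hL hI hF I φ w x d hpL χ hχ
    rw [hVsum, classInner_sum_left]
    refine Finset.sum_eq_zero fun t ht => ?_
    rw [classInner_zsmul_left]
    refine mul_eq_zero_of_right _ ?_
    set θt := Cfsg.indFun ((⁅S, S⁆ : Subgroup G).subgroupOf S)
      (t : ↥((⁅S, S⁆ : Subgroup G).subgroupOf S) → ℂ) with hθt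
    have hm : θt ∈ T := C.rel_mem hd (Finset.mem_sdiff.mp ht).1
    have hmc : Cfsg.conjFun θt ∈ T := hc.closed _ hm
    have hne := hc.sys.conj_ne _ (hc.sub hm)
    have hti := hirr t ht
    have hsd : θt - Cfsg.conjFun θt ∈ Cfsg.zspanOn T {1}ᶜ :=
      zspanOn_compl_one.mpr ⟨zspan_sub (zspan_of_mem hm) (zspan_of_mem hmc),
        by rw [Pi.sub_apply, conjFun_one (isCharacter_of_irr hti), sub_self]⟩
    have hsg : ∀ {ξ}, ξ ∈ T → Cfsg.IsIrrCharacter ↥S ξ → IsSigned (τ₁ ξ) := fun hξ hi =>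
      isSigned_of_norm_one (hc.iso.2.2.2 _ (zspan_of_mem hξ)) (by
        rw [hc.iso.2.2.1 _ (zspan_of_mem hξ) _ (zspan_of_mem hξ)]
        exact classInner_irr_self hi)
    have hs := hsg hm hti
    have hs' := hsg hmc (conjFun_irr hti)
    have horth : Cfsg.classInner (τ₁ θt) (τ₁ (Cfsg.conjFun θt)) = 0 := by
      rw [hc.iso.2.2.1 _ (zspan_of_mem hm) _ (zspan_of_mem hmc)]
      exact classInner_irr_ne hti (conjFun_irr hti) hne.symm
    have hτd : tau S (θt - Cfsg.conjFun θt) = τ₁ θt - τ₁ (Cfsg.conjFun θt) := by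
      rw [← hc.ext _ hsd, isometry_sub hc.iso (zspan_of_mem hm) (zspan_of_mem hmc) hsd.1]
    have hsconj : τ₁ (Cfsg.conjFun θt) = Cfsg.conjFun (τ₁ θt) := by
      have h2 := Sec12.eq_neg_conjFun hs hs'.neg (by rw [classInner_neg_right, horth, neg_zero]) (by
        rw [← sub_eq_add_neg, ← hτd]
        show Cfsg.conjFun (Cfsg.dadeIsometry _ _ _ _) = _
        rw [← Sec12.dade_conjFun, Sec12.conjFun_sub, conjFun_conjFun,
          show Cfsg.conjFun θt - θt = (-1 : ℤ) • (θt - Cfsg.conjFun θt) by rw [neg_one_zsmul, neg_sub],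
          dadeIsometry_zsmul, neg_one_zsmul]
        rfl)
      exact neg_inj.mp h2
    rw [hsconj] at horth hτd
    have hLc : Cfsg.IsClassFunction ↥L (χ - Cfsg.conjFun χ) :=
      isClassFunction_sub (isClassFunction_of_isCharacter (isCharacter_of_irr (d.irr χ hχ)))
        (isClassFunction_of_isCharacter (isCharacter_of_irr (d.irr _ (d.conj_mem χ hχ))))
    have hinner := C.tau_inner_pInv hG k2 hsd (tau_isClassFunction hG hL hI hF hLc)
      (pInv_tau hG hL hI hF C.p_prime hpL hLc)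
    rw [hτd, tau_pair hG hL hI hF d hχ, d.x_conj χ hχ] at hinner
    exact (CfsgLib.PF.pair_orth hs (d.x_signed χ hχ) horth hinner).1
  · intro ψ hψc hψ a hint hrow
    obtain ⟨ω₀, hω₀⟩ : Ω.Nonempty := by
      rw [← Finset.card_pos, hΩc]
      have := C.p_prime.two_le
      omega
    -- the common value at the columns
    have hval : ∀ ω ∈ Ω, Cfsg.classInner (τ₁ (red S μ ω)) ψ = Cfsg.classInner (τ₁ (red S μ ω₀)) ψ := by
      intro ω hω
      have hdf : red S μ ω - red S μ ω₀ ∈ Cfsg.zspanOn T {1}ᶜ :=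
        zspanOn_compl_one.mpr ⟨zspan_sub (zspan_of_mem (hred _ (hΩm hω))) (zspan_of_mem (hred _ (hΩm hω₀))),
          by rw [Pi.sub_apply, C.red_one hd, C.red_one hd, C.μ_one hd hCF hRed (hΩm hω),
            C.μ_one hd hCF hRed (hΩm hω₀), sub_self]⟩
      have h := C.tau_inner_pInv hG k2 hdf hψc hψ
      rwa [← hc.ext _ hdf, isometry_sub hc.iso (zspan_of_mem (hred _ (hΩm hω)))
        (zspan_of_mem (hred _ (hΩm hω₀))) hdf.1, classInner_sub_left, sub_eq_zero] at h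
    have hcs : ∀ ω ∈ Ω, Cfsg.classInner (colSum η ω) ψ = (a : ℂ) := by
      intro ω hω
      obtain ⟨hωL, hω1⟩ := (mem_filter.mp hω).2
      rw [classInner_conj_symm, colSum, finsum_mem_eq_toFinset_sum, classInner_sum_right,
        Finset.sum_eq_single ω (fun ν hν hne => hint ν
          (fun r => hΩm hω ((hmem hν).trans r))
          (fun r => hne (hagree (fun z hz => r z hz) hωL (hmem hν).symm)))
          (fun h => absurd (Set.mem_toFinset.mpr (AgreeR.refl ω)) h), hrow ω hωL hω1, map_intCast]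
    obtain ⟨s, hs, hX⟩ : ∃ s : ℤ, (s = 1 ∨ s = -1) ∧
        Cfsg.classInner (τ₁ (red S μ ω₀)) ψ = ((s * a : ℤ) : ℂ) := by
      obtain ⟨hiL, hi1⟩ := C.inv_cases hd (mem_filter.mp hω₀).2.1 (mem_filter.mp hω₀).2.2
      rcases hshape ω₀ hω₀ with e | e
      · exact ⟨1, Or.inl rfl, by rw [e, hcs ω₀ hω₀, one_mul]⟩
      · exact ⟨-1, Or.inr rfl, by
          rw [e, classInner_neg_left, hcs _ (mem_filter.mpr ⟨mem_univ _, hiL, hi1⟩)]
          push_cast; ring⟩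
    refine ⟨s, hs, ?_⟩
    set F : ↥S → ℂ := (N : ℤ) • red S μ ω₀ - Phi S with hF
    have hF1 : F 1 = 0 := by
      rw [hF, Pi.sub_apply, Pi.smul_apply, C.red_one hd, C.μ_one hd hCF hRed (hΩm hω₀), C.Phi_value,
        if_pos rfl, if_pos (by simp), C.P_card, zsmul_eq_mul, hNdef, Int.cast_natCast,
        Nat.cast_sub (Nat.one_le_pow _ _ C.p_prime.pos)]
      push_cast
      ring
    have hFT : F ∈ Cfsg.zspanOn T {1}ᶜ :=
      zspanOn_compl_one.mpr ⟨zspan_sub (zspan_zsmul _ (zspan_of_mem (hred _ (hΩm hω₀)))) hΦT, hF1⟩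
    have h := C.tau_inner_pInv hG k2 hFT hψc hψ
    rw [← hc.ext F hFT, hF, isometry_sub hc.iso (zspan_zsmul _ (zspan_of_mem (hred _ (hΩm hω₀)))) hΦT hFT.1,
      hc.iso.2.1 _ (zspan_of_mem (hred _ (hΩm hω₀))), classInner_sub_left, classInner_zsmul_left, hτΦ,
      classInner_add_left, classInner_sum_left, Finset.sum_congr rfl fun ω hω => by
        rw [classInner_zsmul_left, hval ω hω, hX], Finset.sum_const, hΩc, nsmul_eq_mul, hX] at h
    push_cast at h ⊢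
    linear_combination -h

end SideCtx

end CfsgLib.PF.Sec14
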