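import Cfsg.Agent.Lib.PF.Sec14Mass
import Cfsg.Agent.Lib.PF.Sec14Arith
import Cfsg.Agent.Lib.PF.Sec14Final
import Cfsg.Agent.Lib.PF.Sec13RegCount
import Cfsg.Agent.Lib.PF.Sec9Core
import Cfsg.Agent.Lib.PF.Sec9Chars

/-!
# Peterfalvi §14: the mass inequality of (14.16)

`1 = ‖η ν‖²` bounds the masses of `η ν` on four disjoint sets: the conjugates of `W - (W₁ ∪ W₂)`, of
`S_F#`, of `T_F#`, and the Dade support of a Frobenius subgroup `L` of Type I.
-/

set_option autoImplicit false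
set_option linter.unusedSectionVars false
set_option linter.style.haveILetI false

namespace CfsgLib.PF.Sec14

open scoped Classical ComplexConjugate
open Finset CfsgLib.Characters CfsgLib.OddChar

universe u

variable {G : Type u} [Group G] [Fintype G]

theorem tau_smul' (M : Subgroup G) (c : ℂ) (a : ↥M → ℂ) : tau M (c • a) = c • tau M a := by
  funext g
  simp only [tau, Cfsg.dadeIsometry, Pi.smul_apply, smul_eq_mul]
  split_ifs <;> simp

theorem tau_sum_smul (M : Subgroup G) {ι : Type*} (s : Finset ι) (c : ι → ℂ)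
    (a : ι → (↥M → ℂ)) :
    tau M (∑ i ∈ s, c i • a i) = ∑ i ∈ s, c i • tau M (a i) := by
  induction s using Finset.induction_on with
  | empty =>
    have := tau_smul' M 0 (0 : ↥M → ℂ)
    simpa using this
  | insert i s hi ih =>
    rw [Finset.sum_insert hi, Finset.sum_insert hi, ← ih, ← tau_smul']
    show Cfsg.dadeIsometry _ _ _ _ = _
    rw [dadeIsometry_add]
    rfl

/-- The index of `H` on `H#`, and zero elsewhere. -/
noncomputable def testFun (L : Subgroup G) : ↥L → ℂ := fun g =>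
  if g ∈ Cfsg.fittingHall ↥L ∧ g ≠ 1 then ((Cfsg.fittingHall ↥L).index : ℂ) else 0

section Frob

variable (hG : Cfsg.IsMinSimpleOddOrder G) {L : Subgroup G} (hL : IsCoatom L) (hI : OfTypeI L)
  (hF : IsFrobF L) {I : Finset (↥L → ℂ)} {φ : ↥L → ℂ} {w : (↥L → ℂ) → ℕ}
  {x : (↥L → ℂ) → (G → ℂ)} (d : FrobData L I φ w x)

include hG hL hI hF d

/-- The members of `S(H)` are not constant on `H`. -/
theorem relevant {χ : ↥L → ℂ} (hχ : χ ∈ I) :
    CfsgLib.FrobKernelChar.Relevant (Cfsg.fittingHall ↥L) χ := by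
  haveI : Fintype L := Fintype.ofFinite _
  by_contra hn
  have h0 : Cfsg.classInner χ (fun _ => 1) = 0 :=
    classInner_irr_ne (d.irr χ hχ) isIrrCharacter_one fun e => by
      apply d.conj_ne χ hχ
      rw [e]
      funext y
      simp [Cfsg.conjFun]
  rw [Cfsg.classInner] at h0
  have h2 : ∑ g : ↥L, χ g * conj (1 : ℂ) =
      ∑ g ∈ (univ : Finset ↥L).filter (· ∈ Cfsg.fittingHall ↥L), χ 1 := by
    rw [Finset.sum_filter]
    refine Finset.sum_congr rfl fun y _ => ?_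
    rw [map_one, mul_one]
    split_ifs with hy
    · exact CfsgLib.FrobKernelChar.eq_of_not_relevant hn hy
    · exact d.vanish χ hχ y hy
  rw [h2, Finset.sum_const, nsmul_eq_mul] at h0
  rcases mul_eq_zero.mp h0 with h | h
  · exact Nat.card_pos.ne' (Nat.cast_eq_zero.mp (inv_eq_zero.mp h))
  rcases mul_eq_zero.mp h with h | h
  · exact Finset.card_ne_zero.mpr ⟨1, by simp⟩ (Nat.cast_eq_zero.mp h)
  · exact irr_one_ne_zero ⟨χ, d.irr χ hχ⟩ h

/-- On `H#` the weighted sum of the members of `S(H)` is `-1`. -/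
theorem w_sum {g : ↥L} (hg : g ∈ Cfsg.fittingHall ↥L) (hg1 : g ≠ 1) :
    ∑ χ ∈ I, (w χ : ℂ) * χ g = -1 := by
  haveI : Fintype L := Fintype.ofFinite _
  set H := Cfsg.fittingHall ↥L with hH
  haveI : H.Normal := Cfsg.fittingHall_normal ↥L
  set e := H.index with he
  let emb : {χ // χ ∈ I} → Cfsg.IrrCharacter ↥L := fun χ => ⟨χ.1, d.irr χ.1 χ.2⟩
  have hinj : Function.Injective emb := fun a b h =>
    Subtype.ext (congrArg (fun t : Cfsg.IrrCharacter ↥L => (t : ↥L → ℂ)) h)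
  have hsub : I.attach.image emb ⊆ CfsgLib.FrobKernelChar.relSet H := fun θ hθ => by
    obtain ⟨χ, -, rfl⟩ := Finset.mem_image.mp hθ
    exact CfsgLib.FrobKernelChar.mem_relSet.mpr (relevant hG hL hI hF d χ.2)
  have hdegI : ∀ χ ∈ I, natDeg χ = w χ * e := fun χ hχ => by
    have h := natDeg_spec (isCharacter_of_irr (d.irr χ hχ))
    rw [d.degree χ hχ] at h
    exact_mod_cast h.symm
  have htotal : ∑ θ ∈ CfsgLib.FrobKernelChar.relSet H, natDeg (θ : ↥L → ℂ) ^ 2 + e = Nat.card L := by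
    have h := sum_degree_mul_irr (G := ↥L) 1
    rw [if_pos rfl, ← Finset.sum_add_sum_compl (CfsgLib.FrobKernelChar.relSet H),
      CfsgLib.FrobKernelChar.sum_sq_irrelevant, ← he] at h
    rw [Finset.sum_congr rfl fun θ _ => by
      rw [natDeg_spec (irr_isCharacter θ)]] at h
    have h' : ((∑ θ ∈ CfsgLib.FrobKernelChar.relSet H, natDeg (θ : ↥L → ℂ) ^ 2 + e : ℕ) : ℂ) =
        (Nat.card L : ℂ) := by
      rw [← h]
      push_cast
      simp only [pow_two]
    exact_mod_cast h'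
  have himg : ∑ θ ∈ I.attach.image emb, natDeg (θ : ↥L → ℂ) ^ 2 + e = Nat.card L := by
    rw [Finset.sum_image fun a _ b _ h => hinj h,
      Finset.sum_attach I (fun χ => natDeg χ ^ 2),
      Finset.sum_congr rfl fun χ hχ => by rw [hdegI χ hχ, mul_pow], ← Finset.sum_mul,
      ← H.index_mul_card, ← d.sum_sq, ← hH, ← he]
    ring
  have heq : I.attach.image emb = CfsgLib.FrobKernelChar.relSet H := by
    refine hsub.antisymm fun θ hθ => ?_
    by_contra hn
    have h := Finset.sum_lt_sum_of_subset (f := fun θ : Cfsg.IrrCharacter ↥L =>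
      natDeg (θ : ↥L → ℂ) ^ 2) hsub hθ hn (pow_pos (natDeg_pos θ.2) 2) fun _ _ _ => Nat.zero_le _
    omega
  have h := CfsgLib.FrobKernelChar.sum_degree_mul_relevant hg hg1
  rw [← heq, Finset.sum_image fun a _ b _ h => hinj h,
    Finset.sum_attach I (fun χ => χ 1 * χ g),
    Finset.sum_congr rfl fun χ hχ => by
      rw [d.degree χ hχ, Nat.cast_mul, mul_right_comm], ← Finset.sum_mul, ← he] at h
  have he0 : (e : ℂ) ≠ 0 := Nat.cast_ne_zero.mpr Subgroup.index_ne_zero_of_finite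
  exact mul_right_cancel₀ he0 (h.trans (neg_one_mul _).symm)

/-- The test function as a combination of the bridge and the differences. -/
theorem testFun_eq : testFun L =
    (1 - (Nat.card (Cfsg.fittingHall ↥L) : ℂ)⁻¹) • bridgeI L φ +
      (-(((Cfsg.fittingHall ↥L).index : ℂ) * (Nat.card (Cfsg.fittingHall ↥L) : ℂ)⁻¹)) •
        ∑ χ ∈ I, (w χ : ℂ) • (χ - (w χ : ℂ) • φ) := by
  funext g
  set H := Cfsg.fittingHall ↥L with hH
  set e := H.index with he
  set h := Nat.card H with hh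
  have hh0 : (h : ℂ) ≠ 0 := Nat.cast_ne_zero.mpr Nat.card_pos.ne'
  simp only [testFun, ← hH, Pi.add_apply, Pi.smul_apply, smul_eq_mul, Finset.sum_apply, Pi.sub_apply,
    bridgeI, ind_one_apply hG hL hI hF d, ← he]
  by_cases hgH : g ∈ H
  · by_cases hg1 : g = 1
    · subst hg1
      rw [if_neg (by simp), if_pos hgH, d.degree φ d.φ_mem, d.w_φ, one_mul, ← he, sub_self, mul_zero,
        Finset.sum_eq_zero fun χ hχ => by rw [d.degree χ hχ, ← he, Nat.cast_mul, sub_self, mul_zero]]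
      simp
    · rw [if_pos ⟨hgH, hg1⟩, if_pos hgH]
      have h1 := w_sum hG hL hI hF d hgH hg1
      have h2 : ((∑ χ ∈ I, (w χ : ℂ) ^ 2) * e + 1 : ℂ) = h := by
        have := d.sum_sq
        rw [← hH, ← he, ← hh] at this
        have h3 := congrArg (Nat.cast : ℕ → ℂ) this
        push_cast at h3
        exact h3
      rw [show ∑ χ ∈ I, (w χ : ℂ) * (χ g - (w χ : ℂ) * φ g) =
        ∑ χ ∈ I, (w χ : ℂ) * χ g - (∑ χ ∈ I, (w χ : ℂ) ^ 2) * φ g by
          rw [Finset.sum_mul, ← Finset.sum_sub_distrib]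
          exact Finset.sum_congr rfl fun χ _ => by ring, h1]
      field_simp
      linear_combination -(φ g) * h2
  · rw [if_neg fun h => hgH h.1, if_neg hgH, d.vanish φ d.φ_mem g hgH,
      Finset.sum_eq_zero fun χ hχ => by rw [d.vanish χ hχ g hgH]; ring]
    ring

/-- The mass on the support of the Dade map of `L`. -/
theorem mass_supp {θ : G → ℂ} (horth : ∀ χ ∈ I, Cfsg.classInner (x χ) θ = 0) {z : ℤ}
    (hz : Cfsg.classInner (tau L (bridgeI L φ)) θ = z) :
    (z : ℝ) ^ 2 * (1 - 1 / (Nat.card (Cfsg.fittingHall ↥L) : ℝ)) /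
      ((Cfsg.fittingHall ↥L).index : ℝ) ≤ massOn (univ.filter (· ∈ supp L) : Finset G) θ := by
  haveI : Fintype L := Fintype.ofFinite _
  set H := Cfsg.fittingHall ↥L with hH
  haveI : H.Normal := Cfsg.fittingHall_normal ↥L
  set e := H.index with he
  set h := Nat.card H with hh
  have hD := frob_dade hG hL hI hF
  have hcl : Cfsg.IsClassFunction ↥L (testFun L) := fun a b => by
    simp only [testFun]
    have h1 : b * a * b⁻¹ ∈ Cfsg.fittingHall ↥L ↔ a ∈ Cfsg.fittingHall ↥L :=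
      ⟨fun hm => by
        have := (inferInstance : H.Normal).conj_mem _ hm b⁻¹
        rwa [show b⁻¹ * (b * a * b⁻¹) * b⁻¹⁻¹ = a by group] at this,
        fun hm => (inferInstance : H.Normal).conj_mem a hm b⟩
    have h2 : b * a * b⁻¹ = 1 ↔ a = 1 := conj_eq_one_iff
    simp only [h1, ne_eq, h2]
  have hsupp : ∀ g : ↥L, (g : G) ∉ suppA0 L → testFun L g = 0 := fun g hg =>
    if_neg fun hm => hg ((mem_suppA0 hI hF g).mpr hm)
  have hτ : ∀ g ∉ (univ.filter (· ∈ supp L) : Finset G), tau L (testFun L) g = 0 := fun g hg =>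
    tau_eq_zero fun hm => hg (by simp [hm])
  have hin : Cfsg.classInner (tau L (testFun L)) θ = (1 - (h : ℂ)⁻¹) * z := by
    rw [testFun_eq hG hL hI hF d]
    show Cfsg.classInner (Cfsg.dadeIsometry _ _ _ _) θ = _
    rw [dadeIsometry_add]
    show Cfsg.classInner (tau L _ + tau L _) θ = _
    rw [tau_smul', tau_smul', tau_sum_smul, classInner_add_left, classInner_smul_left,
      classInner_smul_left, hz, classInner_sum_left,
      Finset.sum_eq_zero fun χ hχ => by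
        rw [classInner_smul_left, d.tau_diff χ hχ, classInner_sub_left, classInner_smul_left,
          horth χ hχ, horth φ d.φ_mem]
        ring]
    rw [mul_zero, add_zero]
  have hnorm : Cfsg.classInner (testFun L) (testFun L) =
      (((e : ℝ) * ((h : ℝ) - 1) / h : ℝ) : ℂ) := by
    have hc : ((univ : Finset ↥L).filter fun g => g ∈ H ∧ g ≠ 1).card + 1 = h := by
      have e1 : ((univ : Finset ↥L).filter fun g => g ∈ H ∧ g ≠ 1) =
          ((univ : Finset ↥L).filter fun g => g ∈ H).erase 1 := by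
        ext g; simp [and_comm]
      rw [e1, Finset.card_erase_add_one (by simp), hh, Nat.card_eq_fintype_card,
        Fintype.card_subtype]
    rw [Cfsg.classInner, Finset.sum_congr rfl (g := fun g =>
      if g ∈ H ∧ g ≠ 1 then (e : ℂ) * e else 0) (fun g _ => by
        simp only [testFun, ← hH, ← he]
        split_ifs <;> simp), ← Finset.sum_filter, Finset.sum_const, nsmul_eq_mul,
      ← H.index_mul_card, ← he, ← hh, ← hc]
    have he0 : (e : ℂ) ≠ 0 := Nat.cast_ne_zero.mpr Subgroup.index_ne_zero_of_finite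
    have hh0 : ((((univ : Finset ↥L).filter fun g => g ∈ H ∧ g ≠ 1).card + 1 : ℕ) : ℂ) ≠ 0 :=
      Nat.cast_ne_zero.mpr (Nat.succ_ne_zero _)
    push_cast at hh0 ⊢
    field_simp
    ring
  have h1 := normSq_inner_le (univ.filter (· ∈ supp L) : Finset G) (χ := θ) hτ
  rw [show Cfsg.classInner (tau L (testFun L)) (tau L (testFun L)) =
      Cfsg.classInner (testFun L) (testFun L) from dade_isometry hD hcl hsupp hcl, hnorm,
    Complex.ofReal_re, classInner_conj_symm, hin, Complex.normSq_conj,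
    show ((1 : ℂ) - (h : ℂ)⁻¹) * (z : ℂ) = (((1 - (h : ℝ)⁻¹) * z : ℝ) : ℂ) by push_cast; ring,
    Complex.normSq_ofReal] at h1
  have hH1 : H ≠ ⊥ := hI.1.2.2.1
  have hh2 : (1 : ℝ) < h := by exact_mod_cast (Subgroup.one_lt_card_iff_ne_bot H).mpr hH1
  have he2 : (0 : ℝ) < e := by exact_mod_cast Nat.pos_of_ne_zero Subgroup.index_ne_zero_of_finite
  refine le_of_mul_le_mul_right ?_ (div_pos (mul_pos he2 (sub_pos.mpr hh2)) (by linarith : (0 : ℝ) < h))
  refine le_trans (le_of_eq ?_) h1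
  field_simp

end Frob

/-- The conjugates of `W - (W₁ ∪ W₂)`. -/
noncomputable def conjW (W₁ W₂ : Subgroup G) : Finset G :=
  univ.filter (· ∈ Sec13.conjSet (Sec13.hatW W₁ W₂))

/-- The mass of a family character on the conjugates of `W - (W₁ ∪ W₂)`. -/
theorem mass_W {W₁ W₂ : Subgroup G} (hW : Cfsg.IsSelfNormalizingCyclic W₁ W₂)
    {η : (↥(W₁ ⊔ W₂) →* ℂˣ) → (G → ℂ)} (hη : Cfsg.IsCyclicTIFamily W₁ W₂ η)
    (ν : ↥(W₁ ⊔ W₂) →* ℂˣ) :
    massOn (conjW W₁ W₂) (η ν) = ((Nat.card W₁ : ℝ) - 1) * ((Nat.card W₂ : ℝ) - 1) /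
      ((Nat.card W₁ : ℝ) * Nat.card W₂) := by
  have hcl := (family_signed hη ν).classFunction
  have hnorm : ∀ z ∈ univ.filter (· ∈ Sec13.hatW W₁ W₂), Complex.normSq (η ν z) = 1 := by
    intro z hz
    simp only [mem_filter, mem_univ, true_and] at hz
    obtain ⟨hzW, h1, h2⟩ := hz
    rw [show η ν z = (ν ⟨z, hzW⟩ : ℂ) from hη.eq_on ν ⟨z, hzW⟩ h1 h2, Complex.normSq_eq_norm_sq,
      Complex.norm_eq_one_of_pow_eq_one (n := Nat.card ↥(W₁ ⊔ W₂)) (by
        rw [← Units.val_pow_eq_pow_val, ← map_pow, pow_card_eq_one', map_one, Units.val_one])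
        Nat.card_pos.ne', one_pow]
  have hWc : Nat.card ↥(W₁ ⊔ W₂) = Nat.card W₁ * Nat.card W₂ := by
    rw [← Nat.card_prod]
    exact (Nat.card_congr (Equiv.ofBijective _ (ctiMul_bijective hW.2.2.1 hW.2.2.2.1))).symm
  have hcard : (univ.filter (· ∈ Sec13.hatW W₁ W₂)).card = (Nat.card W₁ - 1) * (Nat.card W₂ - 1) := by
    rw [← card_ne_one_subtype, ← card_ne_one_subtype, ← Nat.card_prod, Nat.card_eq_fintype_card,
      ← Finset.card_univ]
    refine (Finset.card_bij (fun p _ => (p.1.1 : G) * (p.2.1 : G)) (fun p _ => ?_) (fun p _ p' _ h => ?_)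
      fun z hz => ?_).symm
    · simp only [mem_filter, mem_univ, true_and]
      refine ⟨mul_mem (Subgroup.mem_sup_left p.1.1.2) (Subgroup.mem_sup_right p.2.1.2),
        fun h => p.2.2 (Subtype.ext ?_), fun h => p.1.2 (Subtype.ext ?_)⟩
      · have : (p.2.1 : G) ∈ W₁ := by simpa using W₁.mul_mem (W₁.inv_mem p.1.1.2) h
        exact Subgroup.mem_bot.mp (hW.2.2.1.le ⟨this, p.2.1.2⟩)
      · have : (p.1.1 : G) ∈ W₂ := by simpa using W₂.mul_mem h (W₂.inv_mem p.2.1.2)
        exact Subgroup.mem_bot.mp (hW.2.2.1.le ⟨p.1.1.2, this⟩)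
    · have := (ctiMul_bijective hW.2.2.1 hW.2.2.2.1).1
        (a₁ := (p.1.1, p.2.1)) (a₂ := (p'.1.1, p'.2.1)) (Subtype.ext h)
      obtain ⟨e1, e2⟩ := Prod.ext_iff.mp this
      exact Prod.ext (Subtype.ext e1) (Subtype.ext e2)
    · simp only [mem_filter, mem_univ, true_and] at hz
      obtain ⟨hzW, h1, h2⟩ := hz
      obtain ⟨⟨a, b⟩, hab⟩ := (ctiMul_bijective hW.2.2.1 hW.2.2.2.1).2 ⟨z, hzW⟩
      have hab' : (a : G) * (b : G) = z := congrArg Subtype.val hab
      refine ⟨(⟨a, ?_⟩, ⟨b, ?_⟩), mem_univ _, hab'⟩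
      · rintro rfl; exact h2 (by rw [← hab', OneMemClass.coe_one, one_mul]; exact b.2)
      · rintro rfl; exact h1 (by rw [← hab', OneMemClass.coe_one, mul_one]; exact a.2)
  rw [massOn, conjW, Sec13.sum_conjSet (L := W₁ ⊔ W₂) (fun l hl z hz => ?_) (fun z hz y hy => ?_)
    (fun g => Complex.normSq (η ν g)) (fun g y => by simp only [hcl g y]), Finset.sum_congr rfl hnorm,
    Finset.sum_const, hcard, smul_smul, nsmul_one]
  · have hG' : (Nat.card G : ℝ) = (Nat.card W₁ : ℝ) * Nat.card W₂ * (W₁ ⊔ W₂).index := by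
      rw [← (W₁ ⊔ W₂).card_mul_index, hWc]; push_cast; ring
    rw [hG', Nat.cast_mul, Nat.cast_mul, Nat.cast_sub Nat.card_pos, Nat.cast_sub Nat.card_pos]
    have : (Nat.card W₁ : ℝ) ≠ 0 := Nat.cast_ne_zero.mpr Nat.card_pos.ne'
    have : (Nat.card W₂ : ℝ) ≠ 0 := Nat.cast_ne_zero.mpr Nat.card_pos.ne'
    have : ((W₁ ⊔ W₂).index : ℝ) ≠ 0 := Nat.cast_ne_zero.mpr Subgroup.index_ne_zero_of_finite
    push_cast
    field_simp
  · have hc := congrArg Subtype.val (cti_abelian hW ⟨l, hl⟩ ⟨z, hz.1⟩)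
    simp only [Subgroup.coe_mul] at hc
    rwa [hc, mul_inv_cancel_right]
  · exact cti_TI hW hz.1 hz.2.1 hz.2.2 hy.1

variable (hG : Cfsg.IsMinSimpleOddOrder G)

include hG

/-- PF (14.16): the mass inequality. -/
theorem mass_bound (hP : PropPairFacts G) (hR : PropRegFcore G) {S T W₁ W₂ U V : Subgroup G}
    (h : TypePPair S T W₁ W₂ U V) {μ : (↥(W₁ ⊔ W₂) →* ℂˣ) → (↥S → ℂ)}
    {δ : (↥(W₁ ⊔ W₂) →* ℂˣ) → ℂ} {η : (↥(W₁ ⊔ W₂) →* ℂˣ) → (G → ℂ)}
    (hd : TIData S W₁ W₂ μ δ η) (hu : 2 * Nat.card U ≤ Nat.card W₂ ^ Nat.card W₁ - 1)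
    (hv : 2 * Nat.card V ≤ Nat.card W₁ ^ Nat.card W₂ - 1) {L : Subgroup G} (hL : IsCoatom L)
    (hI : OfTypeI L) (hF : IsFrobF L) {I : Finset (↥L → ℂ)} {φ : ↥L → ℂ} {w : (↥L → ℂ) → ℕ}
    {x : (↥L → ℂ) → (G → ℂ)} (d : FrobData L I φ w x)
    (hcop : (Nat.card W₁ * Nat.card W₂).Coprime (Nat.card (Cfsg.fittingHallOf L)))
    {ν : ↥(W₁ ⊔ W₂) →* ℂˣ} (hνR : ¬ AgreeR W₁ W₂ ν 1) (hνL : ¬ AgreeL W₁ W₂ ν 1) {z : ℤ}
    (hz : Cfsg.classInner (tau L (bridgeI L φ)) (η ν) = z) :
    1 + (z : ℝ) ^ 2 * (1 - 1 / (Nat.card (Cfsg.fittingHallOf L) : ℝ)) *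
        ((Nat.card W₂ * Nat.card W₁ : ℕ) : ℝ) / ((Cfsg.fittingHall ↥L).index : ℝ) ≤
      mass (Nat.card W₂) (Nat.card W₁) (Nat.card U) (Nat.card V) := by
  have h' := h.symm
  have C := sideCtx hP hR h
  have C' := sideCtx hP hR h'
  have hW := C.data.selfNormalizing
  have hW' := C'.data.selfNormalizing
  have hWc : Nat.card ↥(W₁ ⊔ W₂) = Nat.card W₁ * Nat.card W₂ := by
    rw [← Nat.card_prod]
    exact (Nat.card_congr (Equiv.ofBijective _ (ctiMul_bijective hW.2.2.1 hW.2.2.2.1))).symm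
  -- the side `T`
  obtain ⟨μ', δ', η', hd'⟩ :=
    propTIData hG (propTypes hG) (propDade hG) T W₂ V W₁ C'.max C'.data
  set ν' := ν.comp (Sec13Reg.swapW W₁ W₂).toMonoidHom with hν'
  have hην : η' ν' = η ν := Sec13Reg.family_swap hd.family hW' (odd_W hG C'.data) hd'.family ν
  have hν'R : ¬ AgreeR W₂ W₁ ν' 1 := fun ha => hνL fun a ha' => by
    have := ha ((Sec13Reg.swapW W₁ W₂).symm a) ha'
    simpa [hν'] using this
  have mS := C.mass_P hG hd propCoreFactor propReducible hu hνR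
  have mT := C'.mass_P hG hd' propCoreFactor propReducible hv hν'R
  rw [hην] at mT
  have mW := mass_W hW hd.family ν
  have hcopW : (Nat.card ↥(W₁ ⊔ W₂)).Coprime (Nat.card (Cfsg.fittingHallOf L)) := by rwa [hWc]
  have mL := mass_supp hG hL hI hF d (θ := η ν)
    (fun χ hχ => x_eta_orth hG hL hI hF d hW hcopW hd.family hd.η_conj hχ ν) hz
  rw [← CfsgLib.OddOrder.card_fittingHallOf] at mL
  -- the four sets are disjoint
  have oS : ∀ g ∈ conjP S, orderOf g = Nat.card W₂ := fun g hg => by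
    simp only [conjP, mem_filter, mem_univ, true_and] at hg
    obtain ⟨y, a, ⟨ha, ha1⟩, rfl⟩ := hg
    rw [← C.P_order ha ha1]
    exact orderOf_injective (MulAut.conj y).toMonoidHom (MulAut.conj y).injective a
  have oT : ∀ g ∈ conjP T, orderOf g = Nat.card W₁ := fun g hg => by
    simp only [conjP, mem_filter, mem_univ, true_and] at hg
    obtain ⟨y, a, ⟨ha, ha1⟩, rfl⟩ := hg
    rw [← C'.P_order ha ha1]
    exact orderOf_injective (MulAut.conj y).toMonoidHom (MulAut.conj y).injective a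
  have oW : ∀ g ∈ conjW W₁ W₂, orderOf g = Nat.card W₁ * Nat.card W₂ := fun g hg => by
    simp only [conjW, mem_filter, mem_univ, true_and] at hg
    obtain ⟨y, c, ⟨hc, hc1, hc2⟩, rfl⟩ := hg
    rw [show y * c * y⁻¹ = MulAut.conj y c from rfl,
      MulEquiv.orderOf_eq]
    obtain ⟨⟨a, b⟩, hab⟩ := (ctiMul_bijective hW.2.2.1 hW.2.2.2.1).2 ⟨c, hc⟩
    have hab' : (a : G) * (b : G) = c := congrArg Subtype.val hab
    have ha : orderOf (a : G) = Nat.card W₁ :=
      ((Nat.dvd_prime C.q_prime).mp (Subgroup.orderOf_dvd_natCard _ a.2)).resolve_left fun e =>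
        hc2 (by rw [← hab', orderOf_eq_one_iff.mp e, one_mul]; exact b.2)
    have hb : orderOf (b : G) = Nat.card W₂ :=
      ((Nat.dvd_prime C.p_prime).mp (Subgroup.orderOf_dvd_natCard _ b.2)).resolve_left fun e =>
        hc1 (by rw [← hab', orderOf_eq_one_iff.mp e, mul_one]; exact a.2)
    rw [← hab', (show Commute (a : G) (b : G) from hW.2.2.2.1 _ a.2 _ b.2).orderOf_mul_eq_mul_orderOf_of_coprime
      (by rw [ha, hb]; exact (Nat.coprime_primes C.q_prime C.p_prime).mpr C.ne), ha, hb]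
  have oL : ∀ g : G, orderOf g ∣ Nat.card W₁ * Nat.card W₂ → g ∉ supp L := fun g hg =>
    not_mem_supp hG hL hI hF hcop hg
  have hq2 := C.q_prime.two_le
  have hp2 := C.p_prime.two_le
  have d1 : Disjoint (conjW W₁ W₂) (conjP S) := Finset.disjoint_left.mpr fun g hg hg' => by
    have e : Nat.card W₁ * Nat.card W₂ = 1 * Nat.card W₂ := by rw [← oW g hg, oS g hg', one_mul]
    have := Nat.eq_of_mul_eq_mul_right Nat.card_pos e
    omega
  have d2 : Disjoint (conjW W₁ W₂ ∪ conjP S) (conjP T) := Finset.disjoint_left.mpr fun g hg hg' => by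
    rcases Finset.mem_union.mp hg with hg | hg
    · have e : Nat.card W₁ * Nat.card W₂ = Nat.card W₁ * 1 := by rw [← oW g hg, oT g hg', mul_one]
      have := Nat.eq_of_mul_eq_mul_left Nat.card_pos e
      omega
    · exact C.ne ((oT g hg').symm.trans (oS g hg))
  have d3 : Disjoint (conjW W₁ W₂ ∪ conjP S ∪ conjP T) (univ.filter (· ∈ supp L) : Finset G) :=
    Finset.disjoint_left.mpr fun g hg hg' => by
      refine oL g ?_ (mem_filter.mp hg').2
      rcases Finset.mem_union.mp hg with hg | hg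
      · rcases Finset.mem_union.mp hg with hg | hg
        · rw [oW g hg]
        · rw [oS g hg]; exact dvd_mul_left _ _
      · rw [oT g hg]; exact dvd_mul_right _ _
  have htot := massOn_le_norm
    (conjW W₁ W₂ ∪ conjP S ∪ conjP T ∪ (univ.filter (· ∈ supp L) : Finset G)) (η ν)
  rw [massOn_union d3, massOn_union d2, massOn_union d1, (family_signed hd.family ν).norm_one,
    Complex.one_re, mW] at htot
  set a : ℝ := (z : ℝ) ^ 2 * (1 - 1 / (Nat.card (Cfsg.fittingHallOf L) : ℝ)) /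
    ((Cfsg.fittingHall ↥L).index : ℝ) with ha
  have key : ((Nat.card W₁ : ℝ) - 1) * ((Nat.card W₂ : ℝ) - 1) /
        ((Nat.card W₁ : ℝ) * Nat.card W₂) +
      (1 - (Nat.card U : ℝ) / ((Nat.card W₂ : ℝ) ^ Nat.card W₁ - 1)) / Nat.card W₁ +
      (1 - (Nat.card V : ℝ) / ((Nat.card W₁ : ℝ) ^ Nat.card W₂ - 1)) / Nat.card W₂ + a ≤ 1 := by
    linarith
  have hqr : (0 : ℝ) < Nat.card W₁ := by exact_mod_cast Nat.card_pos (α := W₁)
  have hpr : (0 : ℝ) < Nat.card W₂ := by exact_mod_cast Nat.card_pos (α := W₂)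
  have key2 := mul_le_mul_of_nonneg_left key (mul_pos hqr hpr).le
  rw [show (z : ℝ) ^ 2 * (1 - 1 / (Nat.card (Cfsg.fittingHallOf L) : ℝ)) *
      ((Nat.card W₂ * Nat.card W₁ : ℕ) : ℝ) / ((Cfsg.fittingHall ↥L).index : ℝ) =
      a * ((Nat.card W₁ : ℝ) * Nat.card W₂) by rw [ha]; push_cast; ring, mass]
  rw [mul_one] at key2
  generalize (Nat.card W₂ : ℝ) ^ Nat.card W₁ - 1 = N₁ at key2 ⊢
  generalize (Nat.card W₁ : ℝ) ^ Nat.card W₂ - 1 = N₂ at key2 ⊢
  field_simp at key2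
  generalize hU' : (Nat.card U : ℝ) / N₁ = A at key2
  generalize hV' : (Nat.card V : ℝ) / N₂ = B at key2
  rw [mul_div_assoc, mul_div_assoc, hU', hV']
  nlinarith

end CfsgLib.PF.Sec14
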