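import Cfsg.Agent.Lib.PF.Sec14Over
import Cfsg.Agent.Lib.PF.Sec14MassSum
import Cfsg.Agent.Lib.PF.Sec14Count
import Cfsg.Agent.Lib.PF.Sec14Core
import Cfsg.Agent.Lib.PF.Sec14Config
import Cfsg.Agent.Lib.PF.OddOrderOf

/-!
# Peterfalvi §14: (14.16)

The maximal subgroups over `N(U)` and `N(V)` against each other and against the two sides of the pair
force `|U| = 1 + p + ⋯ + p^(q-1)` and put a conjugate of `W₂` in `N(U)`.
-/

set_option autoImplicit false
set_option linter.unusedSectionVars false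
set_option linter.style.haveILetI false

namespace CfsgLib.PF.Sec14

open scoped Classical ComplexConjugate
open Finset CfsgLib.Characters CfsgLib.OddChar CfsgLib.OddOrder

universe u

variable {G : Type u} [Group G] [Fintype G]

theorem side_bound {p q u h e : ℕ} (hq : 0 < q) (he : e ≤ q * p)
    (H : q * (h - 1) ≤ e * (u - 1 + q)) : h - 1 ≤ p * (u - 1) + p * q := by
  rw [← Nat.mul_add]
  refine Nat.le_of_mul_le_mul_left (H.trans (le_trans (Nat.mul_le_mul_right _ he) ?_)) hq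
  rw [mul_assoc]

theorem two_mul_le_of_orders {p q u : ℕ} (hp : Odd p) (hp3 : 3 ≤ p) (hq : q.Prime) (hq3 : 3 ≤ q)
    (hu : Orders p q u) : 2 * u ≤ p ^ q - 1 ∧ (5 ≤ p → 4 * u ≤ p ^ q - 1) := by
  have h1 := le_geo_of_orders hp (by omega) hq hq3 hu
  have h2 := geo_mul' q (by omega : 0 < p)
  refine ⟨?_, fun h5 => ?_⟩
  · have : geo p q * 2 ≤ geo p q * (p - 1) := Nat.mul_le_mul_left _ (by omega)
    omega
  · have : geo p q * 4 ≤ geo p q * (p - 1) := Nat.mul_le_mul_left _ (by omega)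
    omega

section Family

variable {W₁ W₂ : Subgroup G} (hW : Cfsg.IsSelfNormalizingCyclic W₁ W₂)
  (hodd : Odd (Nat.card ↥(W₁ ⊔ W₂)))

include hW hodd

theorem exists_trivR_ne : ∃ φ : ↥(W₁ ⊔ W₂) →* ℂˣ, TrivR φ ∧ φ ≠ 1 := by
  haveI := finite_linChar hW
  have h : 1 < Nat.card {φ : ↥(W₁ ⊔ W₂) →* ℂˣ // TrivR φ} := by
    rw [card_trivR hW]
    have := (three_le_card hW hodd).1
    omega
  haveI := Finite.one_lt_card_iff_nontrivial.mp h
  obtain ⟨⟨φ, hφ⟩, hne⟩ := exists_ne (⟨1, fun _ _ => rfl⟩ : {φ : ↥(W₁ ⊔ W₂) →* ℂˣ // TrivR φ})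
  exact ⟨φ, hφ, fun e => hne (Subtype.ext e)⟩

theorem exists_trivL_ne : ∃ φ : ↥(W₁ ⊔ W₂) →* ℂˣ, TrivL φ ∧ φ ≠ 1 := by
  haveI := finite_linChar hW
  have h : 1 < Nat.card {φ : ↥(W₁ ⊔ W₂) →* ℂˣ // TrivL φ} := by
    rw [card_trivL hW]
    have := (three_le_card hW hodd).2
    omega
  haveI := Finite.one_lt_card_iff_nontrivial.mp h
  obtain ⟨⟨φ, hφ⟩, hne⟩ := exists_ne (⟨1, fun _ _ => rfl⟩ : {φ : ↥(W₁ ⊔ W₂) →* ℂˣ // TrivL φ})
  exact ⟨φ, hφ, fun e => hne (Subtype.ext e)⟩

omit hodd in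
theorem interior_mul {a b : ↥(W₁ ⊔ W₂) →* ℂˣ} (ha : TrivR a) (ha1 : a ≠ 1) (hb : TrivL b)
    (hb1 : b ≠ 1) : ¬ AgreeR W₁ W₂ (a * b) 1 ∧ ¬ AgreeL W₁ W₂ (a * b) 1 := by
  refine ⟨fun h => hb1 (trivL_ext hW.2.2.1 hW.2.2.2.1 hb (fun _ _ => rfl)
      (MonoidHom.ext fun c => ?_)),
    fun h => ha1 (trivR_ext hW.2.2.1 hW.2.2.2.1 ha (fun _ _ => rfl) (MonoidHom.ext fun c => ?_))⟩
  · have := h (ctiR W₁ W₂ c) c.2
    rwa [MonoidHom.mul_apply, ha _ c.2, one_mul] at this
  · have := h (ctiL W₁ W₂ c) c.2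
    rwa [MonoidHom.mul_apply, hb _ c.2, mul_one] at this

end Family

section Pair

variable (hG : Cfsg.IsMinSimpleOddOrder G) {S T W₁ W₂ U V : Subgroup G}
  (h : TypePPair S T W₁ W₂ U V) (hqp : Nat.card W₁ < Nat.card W₂)
  {μ : (↥(W₁ ⊔ W₂) →* ℂˣ) → (↥S → ℂ)} {δ : (↥(W₁ ⊔ W₂) →* ℂˣ) → ℂ}
  {η : (↥(W₁ ⊔ W₂) →* ℂˣ) → (G → ℂ)} (hd : TIData S W₁ W₂ μ δ η)
  (C : SideCtx S W₁ U W₂) (C' : SideCtx T W₂ V W₁)
  {M : Subgroup G} (hM : IsCoatom M) (hJ : OfTypeI M) (hK : IsFrobF M) {J : Finset (↥M → ℂ)}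
  {ψ : ↥M → ℂ} {v : (↥M → ℂ) → ℕ} {y : (↥M → ℂ) → (G → ℂ)} (d : FrobData M J ψ v y)

include hG h hqp hd C C' hM hJ hK d

/-- Some interior coefficient of the bridge is not zero. -/
def InteriorNe (η : (↥(W₁ ⊔ W₂) →* ℂˣ) → (G → ℂ)) (β : G → ℂ) : Prop :=
  ∃ ν, ¬ AgreeR W₁ W₂ ν 1 ∧ ¬ AgreeL W₁ W₂ ν 1 ∧ Cfsg.classInner β (η ν) ≠ 0

theorem mass_ge_one : 1 ≤ mass (Nat.card W₂) (Nat.card W₁) (Nat.card U) (Nat.card V) := by
  obtain ⟨hP, hR, -⟩ := sec13_props hG
  have hW := C.data.selfNormalizing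
  obtain ⟨a, ha, ha1⟩ := exists_trivR_ne hW (odd_W hG C.data)
  obtain ⟨b, hb, hb1⟩ := exists_trivL_ne hW (odd_W hG C.data)
  obtain ⟨hνR, hνL⟩ := interior_mul hW ha ha1 hb hb1
  obtain ⟨z, hz⟩ := classInner_generalized_int (betaI_props hG hM hJ hK d).1
    (family_signed hd.family (a * b)).generalized
  have hu := two_mul_le_of_orders (minSimple_odd hG W₂) (C'.q_three hG) C.q_prime (C.q_three hG)
    (orders hG C)
  have hv := two_mul_le_of_orders (minSimple_odd hG W₁) (C.q_three hG) C'.q_prime (C'.q_three hG)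
    (orders hG C')
  refine le_trans ?_ (mass_bound hG hP hR h hd hu.1 hv.1 hM hJ hK d (cop_kernel hG C C' hM hJ) hνR
    hνL hz)
  refine le_add_of_nonneg_right (div_nonneg (mul_nonneg (mul_nonneg (sq_nonneg _) ?_)
    (Nat.cast_nonneg _)) (Nat.cast_nonneg _))
  rw [sub_nonneg, div_le_one (Nat.cast_pos.mpr Nat.card_pos)]
  exact Nat.one_le_cast.mpr Nat.card_pos

/-- A non-zero interior coefficient makes the mass large. -/
theorem mass_ge_big (hk1 : 1 < Nat.card (Cfsg.fittingHallOf M))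
    (he : (Cfsg.fittingHall ↥M).index = Nat.card W₂ ∨
      (Cfsg.fittingHall ↥M).index = Nat.card W₁ * Nat.card W₂)
    (hint : InteriorNe η (tau M (bridgeI M ψ))) :
    61 / 31 ≤ mass (Nat.card W₂) (Nat.card W₁) (Nat.card U) (Nat.card V) := by
  obtain ⟨hP, hR, -⟩ := sec13_props hG
  obtain ⟨ν, hνR, hνL, hne⟩ := hint
  obtain ⟨z, hz⟩ := classInner_generalized_int (betaI_props hG hM hJ hK d).1
    (family_signed hd.family ν).generalized
  have hz0 : z ≠ 0 := fun e => hne (by rw [hz, e, Int.cast_zero])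
  have hu := two_mul_le_of_orders (minSimple_odd hG W₂) (C'.q_three hG) C.q_prime (C.q_three hG)
    (orders hG C)
  have hv := two_mul_le_of_orders (minSimple_odd hG W₁) (C.q_three hG) C'.q_prime (C'.q_three hG)
    (orders hG C')
  refine le_trans ?_ (mass_bound hG hP hR h hd hu.1 hv.1 hM hJ hK d (cop_kernel hG C C' hM hJ) hνR
    hνL hz)
  set q := Nat.card W₁
  set p := Nat.card W₂
  set k := Nat.card (Cfsg.fittingHallOf M)
  set e := (Cfsg.fittingHall ↥M).index
  have hq3 : 3 ≤ q := C.q_three hG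
  have hp5 := p_ge_five C.p_prime C.q_prime hq3 hqp
  have heo : Odd e := (minSimple_odd hG M).of_dvd_nat (Subgroup.index_dvd_card _)
  have hk := le_of_modEq_one heo (kernel_odd hG M) (by omega) (kernel_mod d)
  have hz2 : (1 : ℝ) ≤ (z : ℝ) ^ 2 := by
    have : (1 : ℤ) ≤ z ^ 2 := by rw [pow_two]; have := mul_self_pos.mpr hz0; omega
    exact_mod_cast this
  have hk0 : (0 : ℝ) < k := Nat.cast_pos.mpr Nat.card_pos
  have he0 : (0 : ℝ) < e := Nat.cast_pos.mpr heo.pos
  have key : (30 : ℝ) / 31 ≤ (1 - 1 / (k : ℝ)) * ((p * q : ℕ) : ℝ) / e := by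
    rw [le_div_iff₀ he0, one_sub_div hk0.ne', div_mul_eq_mul_div, div_mul_eq_mul_div,
      div_le_div_iff₀ (by norm_num) hk0]
    have : 30 * e * k ≤ (k - 1) * (p * q) * 31 := by
      obtain ⟨m, hm⟩ : ∃ m, k = m + 1 := ⟨k - 1, by omega⟩
      rw [hm, Nat.add_sub_cancel]
      rcases he with h0 | h0
      · rw [h0] at hk ⊢
        have h1 : p * m * 3 ≤ p * m * q := Nat.mul_le_mul_left _ hq3
        have h2 : p * 10 ≤ p * m := Nat.mul_le_mul_left _ (by omega)
        nlinarith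
      · rw [h0] at hk ⊢
        have : 3 * 5 ≤ q * p := Nat.mul_le_mul hq3 hp5
        have h2 : q * p * 30 ≤ q * p * m := Nat.mul_le_mul_left _ (by omega)
        nlinarith
    have h' : ((30 * e * k : ℕ) : ℝ) ≤ (((k - 1) * (p * q) * 31 : ℕ) : ℝ) := by exact_mod_cast this
    push_cast [Nat.cast_sub hk1.le] at h'
    push_cast
    linarith
  have hnn : 0 ≤ (1 - 1 / (k : ℝ)) * ((p * q : ℕ) : ℝ) / e := le_trans (by norm_num) key
  have := mul_le_mul_of_nonneg_right hz2 hnn
  rw [one_mul] at this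
  rw [show (z : ℝ) ^ 2 * (1 - 1 / (k : ℝ)) * ((p * q : ℕ) : ℝ) / e =
    (z : ℝ) ^ 2 * ((1 - 1 / (k : ℝ)) * ((p * q : ℕ) : ℝ) / e) by ring]
  linarith

/-- Without interior coefficients the irreducible part of `S(P)` is seen by the bridge. -/
theorem row_vector (k2 : Kind2 S W₁ U W₂) (hint : ¬ InteriorNe η (tau M (bridgeI M ψ)))
    (hrow : ∀ ω, TrivL ω → ω ≠ 1 → ∀ n : ℤ,
      Cfsg.classInner (tau M (bridgeI M ψ)) (η ω) = n → Odd n) :
    ∃ (Z : G → ℂ) (Q : ℝ), Cfsg.classInner Z Z = (Q : ℂ) ∧ (∀ ν, Cfsg.classInner Z (η ν) = 0) ∧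
      (∀ {L : Subgroup G}, IsCoatom L → OfTypeI L → IsFrobF L →
        ∀ {I : Finset (↥L → ℂ)} {φ : ↥L → ℂ} {w : (↥L → ℂ) → ℕ} {x : (↥L → ℂ) → (G → ℂ)},
        FrobData L I φ w x → ∀ χ ∈ I, Cfsg.classInner Z (x χ) = 0) ∧
      (((Nat.card W₂ ^ Nat.card W₁ - 1 : ℕ) : ℝ) - ((Nat.card W₂ - 1 : ℕ) : ℝ) * Nat.card U) /
          ((Nat.card W₁ * Nat.card U : ℕ) : ℝ) ≤
        Complex.normSq (Cfsg.classInner (tau M (bridgeI M ψ)) Z) / Q := by
  obtain ⟨hgen, -, -, -⟩ := betaI_props hG hM hJ hK d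
  have hW := C.data.selfNormalizing
  set β := tau M (bridgeI M ψ) with hβ
  have hp5 := p_ge_five C.p_prime C.q_prime (C.q_three hG) hqp
  obtain ⟨-, hu4⟩ := two_mul_le_of_orders (minSimple_odd hG W₂) (by omega) C.q_prime (C.q_three hG)
    (orders hG C)
  have hu4' := hu4 hp5
  have hu0 : 0 < Nat.card U := Nat.card_pos
  obtain ⟨Z, hZη, hZZ, hZx, hZψ⟩ :=
    C.exists_irrPart hG k2 hd propCoreFactor propReducible (by omega)
  set q := Nat.card W₁
  set p := Nat.card W₂
  set u := Nat.card U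
  set N := p ^ q - 1 with hN
  have hzero : ∀ ν, ¬ AgreeR W₁ W₂ ν 1 → ¬ AgreeL W₁ W₂ ν 1 → Cfsg.classInner β (η ν) = 0 :=
    fun ν h1 h2 => not_not.mp fun h3 => hint ⟨ν, h1, h2, h3⟩
  -- the row is constant
  obtain ⟨a₀, ha₀, ha₀1⟩ := exists_trivR_ne hW (odd_W hG C.data)
  obtain ⟨b₀, hb₀, hb₀1⟩ := exists_trivL_ne hW (odd_W hG C.data)
  have hcop := cop_kernel hG C C' hM hJ
  have hrel : ∀ b, TrivL b → b ≠ 1 →
      Cfsg.classInner β (η b) = 1 - Cfsg.classInner β (η a₀) := fun b hb hb1 => by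
    obtain ⟨i1, i2⟩ := interior_mul hW ha₀ ha₀1 hb hb1
    have := betaI_table hG hM hJ hK d hW hcop hd.family ha₀ hb
    rw [hzero _ i1 i2] at this
    linear_combination -this
  obtain ⟨a, ha⟩ := classInner_generalized_int hgen (family_signed hd.family b₀).generalized
  have hao := hrow b₀ hb₀ hb₀1 a ha
  have hp_h : ¬ p ∣ Nat.card (Cfsg.fittingHallOf M) := C.not_dvd_kernel hG hM hJ
  have hcl := isClassFunction_of_isGeneralizedCharacter (bridgeI_generalized hG hM hJ hK d)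
  obtain ⟨s, hs, hval⟩ := hZψ β (tau_isClassFunction hG hM hJ hK hcl)
    (pInv_tau hG hM hJ hK C.p_prime hp_h hcl) a hzero
    (fun b hb hb1 => by rw [hrel b hb hb1, ← hrel b₀ hb₀ hb₀1, ha])
  set D : ℝ := (N : ℝ) - ((p - 1 : ℕ) : ℝ) * u with hD
  have hD0 : 0 ≤ D := by
    have h2 : (p - 1) * u ≤ N := by
      rw [hN, ← geo_mul' q C.p_prime.pos, Nat.add_sub_cancel, mul_comm (geo p q)]
      exact Nat.mul_le_mul_left _
        (le_geo_of_orders (minSimple_odd hG W₂) C.p_prime.one_lt C.q_prime (C.q_three hG) (orders hG C))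
    have h2' : (((p - 1) * u : ℕ) : ℝ) ≤ (N : ℝ) := by exact_mod_cast h2
    rw [Nat.cast_mul] at h2'
    rw [hD]; linarith
  refine ⟨Z, ((q * u : ℕ) : ℝ) * D, ?_, hZη,
    fun {L} hL hI hF {I φ w x} d' χ hχ => hZx hL hI hF d' (C.not_dvd_kernel hG hL hI) χ hχ, ?_⟩
  · rw [hZZ, hD]
    push_cast
    ring
  · rw [classInner_conj_symm Z β, hval, Complex.normSq_conj]
    have hn : Complex.normSq (((s * a : ℤ) : ℂ) * ((N : ℂ) - ((p - 1 : ℕ) : ℂ) * (u : ℂ))) =
        (a : ℝ) ^ 2 * D ^ 2 := by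
      have e : (N : ℂ) - ((p - 1 : ℕ) : ℂ) * (u : ℂ) = ((D : ℝ) : ℂ) := by rw [hD]; push_cast; ring
      rw [map_mul, e, Complex.normSq_ofReal, Complex.normSq_intCast]
      rcases hs with rfl | rfl <;> push_cast <;> ring
    rw [hn]
    have hqu : (0 : ℝ) < ((q * u : ℕ) : ℝ) :=
      Nat.cast_pos.mpr (Nat.mul_pos C.q_prime.pos Nat.card_pos)
    have ha2 : (1 : ℝ) ≤ (a : ℝ) ^ 2 := by
      have h0 : a ≠ 0 := fun e => by simp [e] at hao
      have : (1 : ℤ) ≤ a ^ 2 := by rw [pow_two]; have := mul_self_pos.mpr h0; omega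
      exact_mod_cast this
    rcases eq_or_lt_of_le hD0 with hD' | hD'
    · rw [← hD']; simp
    rw [show (a : ℝ) ^ 2 * D ^ 2 / (((q * u : ℕ) : ℝ) * D) =
      (a : ℝ) ^ 2 * (D / ((q * u : ℕ) : ℝ)) by field_simp]
    exact le_mul_of_one_le_left (div_nonneg hD0 hqu.le) ha2

end Pair

section Final

variable (hG : Cfsg.IsMinSimpleOddOrder G) {S T W₁ W₂ U V : Subgroup G}
  (h : TypePPair S T W₁ W₂ U V) (hqp : Nat.card W₁ < Nat.card W₂)
  {μ : (↥(W₁ ⊔ W₂) →* ℂˣ) → (↥S → ℂ)} {δ : (↥(W₁ ⊔ W₂) →* ℂˣ) → ℂ}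
  {η : (↥(W₁ ⊔ W₂) →* ℂˣ) → (G → ℂ)} (hd : TIData S W₁ W₂ μ δ η)
  (C : SideCtx S W₁ U W₂) (C' : SideCtx T W₂ V W₁)
  {M : Subgroup G} (hM : IsCoatom M) (hJ : OfTypeI M) (hK : IsFrobF M) {J : Finset (↥M → ℂ)}
  {ψ : ↥M → ℂ} {v : (↥M → ℂ) → ℕ} {y : (↥M → ℂ) → (G → ℂ)} (d : FrobData M J ψ v y)

include hG hd C C' hM hJ hK d

/-- The side `S` against `M`. -/
theorem left_dichotomy :
    Nat.card W₁ * (Nat.card (Cfsg.fittingHallOf M) - 1) ≤
        (Cfsg.fittingHall ↥M).index * (Nat.card U - 1 + Nat.card W₁) ∨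
      ∀ ω, TrivL ω → ω ≠ 1 → ∀ n : ℤ,
        Cfsg.classInner (tau M (bridgeI M ψ)) (η ω) = n → Odd n :=
  side_dichotomy hG hM hJ hK d C.data.selfNormalizing (cop_kernel hG C C' hM hJ) hd.family hd.η_conj
    Nat.card_pos (C.bridgeData hG hd propCoreFactor propReducible)

/-- The side `T` against `M`. -/
theorem right_dichotomy :
    Nat.card W₂ * (Nat.card (Cfsg.fittingHallOf M) - 1) ≤
        (Cfsg.fittingHall ↥M).index * (Nat.card V - 1 + Nat.card W₂) ∨
      ∀ a, TrivR a → a ≠ 1 → ∀ n : ℤ,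
        Cfsg.classInner (tau M (bridgeI M ψ)) (η a) = n → Odd n := by
  obtain ⟨μ', δ', η', hd'⟩ :=
    propTIData hG (propTypes hG) (propDade hG) T W₂ V W₁ C'.max C'.data
  refine (side_dichotomy hG hM hJ hK d C'.data.selfNormalizing
    (by rw [mul_comm]; exact cop_kernel hG C C' hM hJ) hd'.family hd'.η_conj Nat.card_pos
    (C'.bridgeData hG hd' propCoreFactor propReducible)).imp_right fun hodd a ha ha1 n hn => ?_
  refine hodd (a.comp (Sec13Reg.swapW W₁ W₂).toMonoidHom) (fun z hz => ha _ hz) (fun e => ha1 ?_) n ?_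
  · refine MonoidHom.ext fun z => ?_
    obtain ⟨z', rfl⟩ := (Sec13Reg.swapW W₁ W₂).surjective z
    exact DFunLike.congr_fun e z'
  · rw [Sec13Reg.family_swap hd.family C'.data.selfNormalizing (odd_W hG C'.data) hd'.family a]
    exact hn

end Final

/-- **PF (14.16).** -/
theorem pair_final (hG : Cfsg.IsMinSimpleOddOrder G) {S T W₁ W₂ U V : Subgroup G}
    (h : TypePPair S T W₁ W₂ U V) (hqp : Nat.card W₁ < Nat.card W₂) :
    Nat.card U = geo (Nat.card W₂) (Nat.card W₁) ∧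
      ∃ y ∈ Cfsg.fittingHallOf T,
        W₂.map (MulAut.conj y).toMonoidHom ≤ Subgroup.normalizer (U : Set G) := by
  obtain ⟨hP, hR, hII⟩ := sec13_props hG
  have C := sideCtx hP hR h
  have C' := sideCtx hP hR h.symm
  have k2 : Kind2 S W₁ U W₂ := (hP S T W₁ W₂ U V h).2.2.2.2.1 hqp
  obtain ⟨μ, δ, η, hd⟩ := propTIData hG (propTypes hG) (propDade hG) S W₁ U W₂ C.max C.data
  have hW := C.data.selfNormalizing
  have hoddW := odd_W hG C.data
  haveI := finite_linChar hW
  haveI := Fintype.ofFinite (↥(W₁ ⊔ W₂) →* ℂˣ)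
  have hp := C.p_prime
  have hq := C.q_prime
  have hq3 := C.q_three hG
  have hu := orders hG C
  have hv := orders hG C'
  obtain ⟨L, hL, hF, hI, hUH, hcase⟩ := exists_over hG hII h C C' k2
  obtain ⟨I, φ, w, x, d⟩ := exists_frobData hG hL hI hF
  have hcop := cop_kernel hG C C' hL hI
  have hcopW : (Nat.card ↥(W₁ ⊔ W₂)).Coprime (Nat.card (Cfsg.fittingHallOf L)) := by
    rwa [card_W_mul hW]
  obtain ⟨hgen, -, hone, -⟩ := betaI_props hG hL hI hF d
  have huh : Nat.card U ∣ Nat.card (Cfsg.fittingHallOf L) := Subgroup.card_dvd_of_le hUH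
  have hh1 : 1 < Nat.card (Cfsg.fittingHallOf L) :=
    lt_of_lt_of_le C.u_one_lt (Nat.le_of_dvd Nat.card_pos huh)
  have hoddh := kernel_odd hG L
  rcases hcase with ⟨he, hsup⟩ | ⟨he, y, hy, hyL⟩
  · -- the index is not `q`
    exfalso
    rcases left_dichotomy hG hd C C' hL hI hF d with hb | hodd
    · rw [he] at hb
      have hb' := Nat.le_of_mul_le_mul_left hb hq.pos
      obtain ⟨m, hm⟩ := huh
      have hm1 : m = 1 := by
        have hmo : Odd m := hoddh.of_dvd_nat ⟨_, by rw [hm, mul_comm]⟩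
        by_contra hm1
        have := Nat.odd_iff.mp hmo
        have h3 : Nat.card U * 3 ≤ Nat.card U * m := Nat.mul_le_mul_left _ (by omega)
        have h4 := C.u_mod
        have h5 := C.u_one_lt
        have h6 := Nat.div_add_mod (Nat.card U) (Nat.card W₁)
        have h7 : 1 ≤ Nat.card U / Nat.card W₁ := by
          by_contra h8
          rw [Nat.lt_one_iff.mp (not_le.mp h8), mul_zero] at h6
          omega
        have h9 : Nat.card W₁ * 1 ≤ Nat.card W₁ * (Nat.card U / Nat.card W₁) :=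
          Nat.mul_le_mul_left _ h7
        omega
      have hUeq : U = Cfsg.fittingHallOf L :=
        Subgroup.eq_of_le_of_card_ge hUH (by rw [hm, hm1, mul_one])
      have hLS : L ≤ S := by
        rw [← hsup, ← hUeq]
        exact sup_le C.U_le C.W₁_le
      have hSL : S = L := (hL.le_iff.mp hLS).resolve_left C.max.1
      exact C.notI hG (hSL ▸ hI)
    · have hB := betaI_bessel hG hL hI hF d hW hcopW hd.family hd.η_conj
        (fun _ : Fin 0 => (0 : G → ℂ)) (fun i => i.elim0) (fun i => i.elim0) (fun i => i.elim0)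
        (V := 0) (Q := 0) (by rw [classInner_zero_left', Complex.ofReal_zero])
        (fun _ => classInner_zero_left' _) (fun _ _ => classInner_zero_left' _) (fun i => i.elim0)
      have hrow := family_sum_ge_row hW hd.family hone fun ω hω hω1 => by
        obtain ⟨n, hn⟩ := classInner_generalized_int hgen (family_signed hd.family ω).generalized
        exact ⟨n, fun e => by simpa [e] using hodd ω hω hω1 n hn, hn⟩
      rw [Finset.univ_eq_empty (α := Fin 0), Finset.sum_empty, div_zero, he] at hB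
      have : (Nat.card W₁ : ℝ) < Nat.card W₂ := by exact_mod_cast hqp
      linarith
  -- the index is `pq`
  set zL := InteriorNe η (tau L (bridgeI L φ)) with hzLdef
  have hmass := mass_ge_one hG h hqp hd C C' hL hI hF d
  have hzL : zL → 61 / 31 ≤ mass (Nat.card W₂) (Nat.card W₁) (Nat.card U) (Nat.card V) :=
    mass_ge_big hG h hqp hd C C' hL hI hF d hh1 (Or.inr he)
  have hmod : Nat.card (Cfsg.fittingHallOf L) ≡ 1 [MOD Nat.card W₂ * Nat.card W₁] := by
    rw [mul_comm, ← he]; exact kernel_mod d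
  have hopt : Nat.card (Cfsg.fittingHallOf L) - 1 ≤
        Nat.card W₂ * (Nat.card U - 1) + Nat.card W₂ * Nat.card W₁ ∨
      (Nat.card (Cfsg.fittingHallOf L) - 1 ≤
          Nat.card W₁ * (Nat.card V - 1) + Nat.card W₂ * Nat.card W₁ ∧
        (zL ∨ Nat.card W₂ ^ Nat.card W₁ - 1 ≤
          Nat.card U * (Nat.card W₂ - 1 + Nat.card W₂ * Nat.card W₁ * (Nat.card W₁ - 1)))) ∨
      (zL ∧ Nat.card (Cfsg.fittingHallOf L) ≤ Nat.card W₂ ^ 2 * Nat.card W₁ ^ 2) := by
    rcases left_dichotomy hG hd C C' hL hI hF d with hb | hrow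
    · exact Or.inl (side_bound hq.pos he.le hb)
    refine Or.inr ?_
    rcases right_dichotomy hG hd C C' hL hI hF d with hb | hcol
    · refine Or.inl ⟨?_, ?_⟩
      · have := side_bound hp.pos (he.trans (mul_comm _ _)).le hb
        rwa [mul_comm (Nat.card W₂) (Nat.card W₁)]
      · refine or_iff_not_imp_left.mpr fun hz => ?_
        obtain ⟨Z, Q, hZZ, hZη, hZx, hZ⟩ := row_vector hG h hqp hd C C' hL hI hF d k2 hz hrow
        have hB := betaI_bessel hG hL hI hF d hW hcopW hd.family hd.η_conj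
          (fun _ : Fin 0 => (0 : G → ℂ)) (fun i => i.elim0) (fun i => i.elim0) (fun i => i.elim0)
          hZZ hZη (fun χ hχ => hZx hL hI hF d χ hχ) (fun i => i.elim0)
        have hr := family_sum_ge_row hW hd.family hone fun ω hω hω1 => by
          obtain ⟨n, hn⟩ := classInner_generalized_int hgen (family_signed hd.family ω).generalized
          exact ⟨n, fun e => by simpa [e] using hrow ω hω hω1 n hn, hn⟩
        rw [Finset.univ_eq_empty (α := Fin 0), Finset.sum_empty, add_zero, he] at hB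
        set q := Nat.card W₁
        set p := Nat.card W₂
        set u := Nat.card U
        have hqu : (0 : ℝ) < ((q * u : ℕ) : ℝ) :=
          Nat.cast_pos.mpr (Nat.mul_pos hq.pos Nat.card_pos)
        have hkey : (((p ^ q - 1 : ℕ) : ℝ) - ((p - 1 : ℕ) : ℝ) * u) / ((q * u : ℕ) : ℝ) ≤
            ((q * p : ℕ) : ℝ) - p := by linarith
        rw [div_le_iff₀ hqu] at hkey
        have h2 : ((p ^ q - 1 : ℕ) : ℝ) ≤ ((u * (p - 1 + p * q * (q - 1)) : ℕ) : ℝ) := by
          push_cast [Nat.cast_sub hq.one_lt.le] at hkey ⊢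
          linarith
        exact_mod_cast h2
    -- all coefficients are odd
    obtain ⟨a, ha, ha1⟩ := exists_trivR_ne hW hoddW
    obtain ⟨b, hb, hb1⟩ := exists_trivL_ne hW hoddW
    choose n hn using fun ω : ↥(W₁ ⊔ W₂) →* ℂˣ =>
      classInner_generalized_int hgen (family_signed hd.family ω).generalized
    have hn1 : n 1 = 1 := by
      have := hn 1
      rw [hd.family.map_one, hone] at this
      exact_mod_cast this.symm
    have hall : ∀ ω, Odd (n ω) := fun ω => by
      obtain ⟨c, e, hc, he', rfl⟩ := exists_trivR_mul_trivL hW.2.2.1 hW.2.2.2.1 ω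
      have hco : Odd (n c) := by
        by_cases hc1 : c = 1
        · rw [hc1, hn1]; exact odd_one
        · exact hcol c hc hc1 _ (hn c)
      have heo : Odd (n e) := by
        by_cases he1 : e = 1
        · rw [he1, hn1]; exact odd_one
        · exact hrow e he' he1 _ (hn e)
      have := betaI_table hG hL hI hF d hW hcop hd.family hc he'
      rw [hn, hn, hn] at this
      have e2 : n (c * e) = n c + n e - 1 := by exact_mod_cast this
      rw [e2]
      exact (hco.add_odd heo).sub_odd odd_one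
    have hz : zL := by
      obtain ⟨i1, i2⟩ := interior_mul hW ha ha1 hb hb1
      refine ⟨a * b, i1, i2, fun e => ?_⟩
      rw [hn, Int.cast_eq_zero] at e
      exact Int.not_odd_zero (e ▸ hall (a * b))
    obtain ⟨hug, hvg⟩ := both_of_mass hp hq hq3 hqp hu hv (hzL hz)
    refine Or.inr ⟨hz, count_bound hG hL hI hF d hP h hqp hd.family hd.η_conj he
      (galois_of_geo hG C hqp hug).2 (galois_of_dvd hG C' hqp (dvd_of_eq hvg)).2
      fun ω => ⟨n ω, hall ω, hn ω⟩⟩
  -- `u` is as large as possible and `U` is normal in `L`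
  have hfin : Nat.card U = geo (Nat.card W₂) (Nat.card W₁) ∧
      (U = Cfsg.fittingHallOf L ∨ IsCyclic (Cfsg.fittingHallOf L)) := by
    have hofu : ∀ {n : ℕ}, Nat.card (Cfsg.fittingHallOf L) = n → n = Nat.card U →
        U = Cfsg.fittingHallOf L := fun h1 h2 =>
      Subgroup.eq_of_le_of_card_ge hUH (h1.trans h2).le
    rcases (hP T S W₂ W₁ V U h.symm).2.2.2.1 with k2' | ⟨k34, -⟩
    · obtain ⟨M, hM, hK, hJ, hVK, hcase'⟩ := exists_over hG hII h.symm C' C k2'
      obtain ⟨J, ψ, v, z, d'⟩ := exists_frobData hG hM hJ hK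
      have hvk : Nat.card V ∣ Nat.card (Cfsg.fittingHallOf M) := Subgroup.card_dvd_of_le hVK
      have hM' : (Nat.card V ∣ Nat.card (Cfsg.fittingHallOf L) ∧ (IsCyclic V →
            Nat.card (Cfsg.fittingHallOf L) = Nat.card V → IsCyclic (Cfsg.fittingHallOf L))) ∨
          ∃ k : ℕ, Nat.card V ∣ k ∧ 1 < k ∧
            (k - 1 ≤ Nat.card W₂ * Nat.card W₁ * (Nat.card W₂ * Nat.card W₁ - 1) ∨
              (Nat.card (Cfsg.fittingHallOf L) - 1 ≤
                  Nat.card W₂ * Nat.card W₁ * (Nat.card W₂ * Nat.card W₁ - 1) ∧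
                (k - 1 ≤ Nat.card W₂ * (Nat.card U - 1) + Nat.card W₂ * Nat.card W₁ ∨
                  61 / 31 ≤ mass (Nat.card W₂) (Nat.card W₁) (Nat.card U) (Nat.card V) ∨
                  Nat.card U * (Nat.card (Cfsg.fittingHallOf L) - 1) +
                      Nat.card W₂ * (Nat.card W₂ ^ Nat.card W₁ - 1) ≤
                    Nat.card U * (Nat.card W₂ *
                      (Nat.card W₂ - 1 + Nat.card W₂ * Nat.card W₁ * (Nat.card W₁ - 1)))))) := by
        by_cases hconj : ∃ g : G, M.map (MulAut.conj g).toMonoidHom = L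
        · obtain ⟨g, hg⟩ := hconj
          have hkh := conj_kernel g hg
          have hcard : Nat.card (Cfsg.fittingHallOf M) = Nat.card (Cfsg.fittingHallOf L) := by
            rw [← hkh]
            exact (Subgroup.card_map_of_injective (K := Cfsg.fittingHallOf M)
              (f := (MulAut.conj g).toMonoidHom) (MulAut.conj g).injective).symm
          refine Or.inl ⟨hcard ▸ hvk, fun hc hhv => ?_⟩
          have hVeq : V = Cfsg.fittingHallOf M :=
            Subgroup.eq_of_le_of_card_ge hVK (hcard.trans hhv).le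
          subst hVeq
          rw [← hkh]
          exact isCyclic_of_surjective _ (MonoidHom.subgroupMap_surjective _ _)
        push Not at hconj
        refine Or.inr ⟨Nat.card (Cfsg.fittingHallOf M), hvk,
          lt_of_lt_of_le C'.u_one_lt (Nat.le_of_dvd Nat.card_pos hvk), ?_⟩
        have hcop' := cop_kernel hG C C' hM hJ
        have heM : (Cfsg.fittingHall ↥M).index = Nat.card W₂ ∨
            (Cfsg.fittingHall ↥M).index = Nat.card W₁ * Nat.card W₂ := by
          rcases hcase' with ⟨e1, -⟩ | ⟨e1, -⟩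
          · exact Or.inl e1
          · exact Or.inr (e1.trans (mul_comm _ _))
        have heM' : (Cfsg.fittingHall ↥M).index ≤ Nat.card W₁ * Nat.card W₂ := by
          rcases heM with e1 | e1
          · rw [e1]; exact Nat.le_mul_of_pos_left _ hq.pos
          · exact e1.le
        rcases two_dichotomy hG hW hd.family hd.η_conj hL hI hF hM hJ hK d d' hcop hcop' hconj with
          hb | ⟨hb, a, ha0, ha⟩
        · refine Or.inl (hb.trans ?_)
          rw [he, mul_comm (Nat.card W₂) (Nat.card W₁)]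
          exact Nat.mul_le_mul_right _ heM'
        refine Or.inr ⟨hb.trans ?_, ?_⟩
        · rw [he, mul_comm (Nat.card W₂) (Nat.card W₁)]
          exact Nat.mul_le_mul_left _ (Nat.sub_le_sub_right heM' 1)
        rcases left_dichotomy hG hd C C' hM hJ hK d' with hb' | hrow
        · exact Or.inl (side_bound hq.pos heM' hb')
        refine Or.inr ?_
        by_cases hint : InteriorNe η (tau M (bridgeI M ψ))
        · exact Or.inl (mass_ge_big hG h hqp hd C C' hM hJ hK d'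
            (lt_of_lt_of_le C'.u_one_lt (Nat.le_of_dvd Nat.card_pos hvk)) heM hint)
        refine Or.inr ?_
        obtain ⟨Z, Q, hZZ, hZη, hZx, hZ⟩ := row_vector hG h hqp hd C C' hM hJ hK d' k2 hint hrow
        obtain ⟨horth, -⟩ := two_typeI hG hL hI hF hM hJ hK d d' hconj
        have hB := betaI_bessel hG hM hJ hK d' hW (by rwa [card_W_mul hW]) hd.family hd.η_conj
          (xFam x I) (fun i j => by convert xFam_orth d i j)
          (fun χ ω => by
            show Cfsg.classInner (η ω) (x χ) = 0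
            rw [classInner_conj_symm, x_eta_orth hG hL hI hF d hW hcopW hd.family hd.η_conj χ.2 ω,
              map_zero])
          (fun χ ξ hξ => by
            show Cfsg.classInner (z ξ) (x χ) = 0
            rw [classInner_conj_symm, horth χ χ.2 ξ hξ, map_zero])
          hZZ hZη (fun χ hχ => hZx hM hJ hK d' χ hχ) (fun χ => hZx hL hI hF d χ χ.2)
        have hgen' := (betaI_props hG hM hJ hK d').1
        have hr := family_sum_ge_row hW hd.family (betaI_props hG hM hJ hK d').2.2.1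
          fun ω hω hω1 => by
            obtain ⟨n, hn⟩ := classInner_generalized_int hgen' (family_signed hd.family ω).generalized
            exact ⟨n, fun e => by simpa [e] using hrow ω hω hω1 n hn, hn⟩
        have hx := xFam_sum_ge d ha0 ha
        rw [he] at hx
        have heR : ((Cfsg.fittingHall ↥M).index : ℝ) ≤ ((Nat.card W₁ * Nat.card W₂ : ℕ) : ℝ) :=
          Nat.cast_le.mpr heM'
        set q := Nat.card W₁
        set p := Nat.card W₂
        set u := Nat.card U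
        set hh := Nat.card (Cfsg.fittingHallOf L)
        have hq0 : (0 : ℝ) < q := Nat.cast_pos.mpr hq.pos
        have hp0 : (0 : ℝ) < p := Nat.cast_pos.mpr hp.pos
        have hu0 : (0 : ℝ) < u := Nat.cast_pos.mpr Nat.card_pos
        have hkey : ((hh : ℝ) - 1) / ((q * p : ℕ) : ℝ) +
            (((p ^ q - 1 : ℕ) : ℝ) - ((p - 1 : ℕ) : ℝ) * u) / ((q * u : ℕ) : ℝ) ≤
            ((q * p : ℕ) : ℝ) - p := by linarith
        push_cast [Nat.cast_sub hp.one_lt.le] at hkey
        rw [div_add_div _ _ (mul_pos hq0 hp0).ne' (mul_pos hq0 hu0).ne',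
          div_le_iff₀ (mul_pos (mul_pos hq0 hp0) (mul_pos hq0 hu0))] at hkey
        have h2 : ((u * (hh - 1) + p * (p ^ q - 1) : ℕ) : ℝ) ≤
            ((u * (p * (p - 1 + p * q * (q - 1))) : ℕ) : ℝ) := by
          push_cast [Nat.cast_sub hp.one_lt.le, Nat.cast_sub hq.one_lt.le, Nat.cast_sub hh1.le]
          refine le_of_mul_le_mul_left ?_ hq0
          linarith
        exact_mod_cast h2
      obtain ⟨hug, hh⟩ := core_two hp hq hq3 hqp hu hv hmass hzL hh1 hoddh hmod huh hopt hM'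
      refine ⟨hug, ?_⟩
      rcases hh with hhu | ⟨hhv, huv, hcyc⟩
      · exact Or.inl (hofu hhu rfl)
      · exact Or.inr (hcyc (galois_of_dvd hG C' hqp
          (galois_right hp hq hq3 hqp hug huv hv)).1 hhv)
    · have hvb := typeIII_bound hG hP h k34 hqp hd.family hd.η_conj
        (C.bridgeData hG hd propCoreFactor propReducible) hL hI hF d he
      obtain ⟨hug, hhu⟩ := core_three hp hq hq3 hqp hu hv hmass hzL hvb hh1 hoddh hmod huh (by
        rcases hopt with h1 | ⟨h1, -⟩ | ⟨h1, -⟩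
        exacts [Or.inl h1, Or.inr (Or.inl h1), Or.inr (Or.inr h1)])
      exact ⟨hug, Or.inl (hofu hhu rfl)⟩
  exact ⟨hfin.1, y, hy, hyL.trans (norm_of_kernel hUH hfin.2)⟩

end CfsgLib.PF.Sec14

namespace CfsgLib.PF

universe u

variable {G : Type u} [Group G] [Fintype G]

/-- PF (14.16). -/
theorem propPairFinal (hG : Cfsg.IsMinSimpleOddOrder G) : PropPairFinal G :=
  fun S T W₁ W₂ U V h hqp => by
    obtain ⟨hP, hR, -⟩ := sec13_props hG
    obtain ⟨hu, hy⟩ := Sec14.pair_final hG h hqp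
    exact Sec14.final_config hG hP hR h hqp hu hy

end CfsgLib.PF
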