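import Cfsg.Agent.Lib.PF.Sec14Side
import Cfsg.Agent.Lib.Characters.FrobKernelChar
import Cfsg.Agent.Lib.PF.Sec13RegSets

/-!
# Peterfalvi §14: the mass of a family character on the conjugates of `P#`

`Φ = Ind_P^S (ρ_P - 1)` is the combination of the members of `S(P)` with their degrees; for a non-trivial
column one of `N red ω - Φ`, `N red ω⁻¹ - Φ` (`N = |P| - 1`) has inner product at least `N - u` with each
member of the column.
-/

set_option autoImplicit false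
set_option linter.unusedSectionVars false
set_option linter.style.haveILetI false

namespace CfsgLib.PF.Sec14

open scoped Classical ComplexConjugate
open Finset CfsgLib.Characters CfsgLib.OddChar CfsgLib.Clifford CfsgLib.OddOrder

universe u

variable {G : Type u} [Group G] [Fintype G]

/-- The regular character minus the part trivial on a normal subgroup `N`. -/
theorem sum_relevant_value {X : Type u} [Group X] [Fintype X] (N : Subgroup X) [N.Normal] (x : X) :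
    ∑ θ ∈ CfsgLib.FrobKernelChar.relSet N, (θ : X → ℂ) 1 * (θ : X → ℂ) x =
      (if x = 1 then (Nat.card X : ℂ) else 0) - (if x ∈ N then (N.index : ℂ) else 0) := by
  set R := CfsgLib.FrobKernelChar.relSet N
  set b := ∑ θ ∈ Rᶜ, (θ : X → ℂ) 1 * (θ : X → ℂ) x with hb
  have hall := sum_degree_mul_irr (G := X) x
  have htot : ∑ n : N, ∑ θ : Cfsg.IrrCharacter X, (θ : X → ℂ) 1 * (θ : X → ℂ) ((n : X) * x) =
      (Nat.card N : ℂ) * b := by
    rw [Finset.sum_comm, ← Finset.sum_add_sum_compl R, Finset.sum_eq_zero fun θ hθ => ?_, zero_add, hb,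
      Finset.mul_sum]
    · refine Finset.sum_congr rfl fun θ hθ => ?_
      have h1 : ∀ n : N, (θ : X → ℂ) ((n : X) * x) = (θ : X → ℂ) x := fun n => by
        have hnx : x⁻¹ * (n : X) * x ∈ N := (inferInstance : N.Normal).conj_mem' (n : X) n.2 x
        have := char_translate (irr_isCharacter θ)
          (CfsgLib.FrobKernelChar.eq_on_of_notMem hθ hnx) x
        rwa [show x * (x⁻¹ * (n : X) * x) = (n : X) * x by group] at this
      rw [Finset.sum_congr rfl fun n _ => by rw [h1 n], Finset.sum_const, Finset.card_univ,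
        nsmul_eq_mul, ← Nat.card_eq_fintype_card]
    · rw [← Finset.mul_sum]
      refine mul_eq_zero_of_right _ ?_
      obtain ⟨k, hk, hne⟩ := CfsgLib.FrobKernelChar.mem_relSet.mp hθ
      rcases CfsgLib.NormalAvg.avgN_irr N θ.2 with e | e
      · refine absurd ?_ hne
        have := CfsgLib.NormalAvg.avgN_mul_left N (θ : X → ℂ) ⟨k, hk⟩ 1
        rwa [e, mul_one] at this
      · have := congrFun e x
        rw [CfsgLib.NormalAvg.avgN, Pi.zero_apply] at this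
        exact (mul_eq_zero.mp this).resolve_left (inv_ne_zero (Nat.cast_ne_zero.mpr Nat.card_pos.ne'))
  have hbv : b = if x ∈ N then (N.index : ℂ) else 0 := by
    refine mul_left_cancel₀ (Nat.cast_ne_zero.mpr (Nat.card_pos (α := N)).ne') (htot.symm.trans ?_)
    rw [Finset.sum_congr rfl fun (n : N) _ => sum_degree_mul_irr (G := X) ((n : X) * x)]
    by_cases hx : x ∈ N
    · rw [if_pos hx, Finset.sum_eq_single (⟨x⁻¹, inv_mem hx⟩ : N)]
      · rw [if_pos (inv_mul_cancel x), ← N.card_mul_index, Nat.cast_mul]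
      · intro n _ hn
        exact if_neg fun h => hn (Subtype.ext (eq_inv_of_mul_eq_one_left h))
      · simp
    · rw [if_neg hx, mul_zero]
      refine Finset.sum_eq_zero fun n _ => if_neg fun h => hx ?_
      rw [show x = (n : X)⁻¹ from eq_inv_of_mul_eq_one_right h]
      exact inv_mem n.2
  rw [← Finset.sum_add_sum_compl R, ← hb, hbv] at hall
  rw [eq_sub_iff_add_eq, hall]

/-- The set of conjugates of `P#`. -/
noncomputable def conjP (S : Subgroup G) : Finset G :=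
  univ.filter fun g : G => g ∈ Sec13.conjSet {a | a ∈ Cfsg.fittingHallOf S ∧ a ≠ 1}

/-- The irreducible characters of `S'` whose kernel does not contain `P`. -/
noncomputable def relP (S : Subgroup G) :
    Finset (Cfsg.IrrCharacter ↥((⁅S, S⁆ : Subgroup G).subgroupOf S)) :=
  CfsgLib.FrobKernelChar.relSet
    (((Cfsg.fittingHallOf S).subgroupOf S).subgroupOf ((⁅S, S⁆ : Subgroup G).subgroupOf S))

/-- The combination of the members of `S(P)` with their degrees, `Ind_P^S (ρ_P - 1)`. -/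
noncomputable def Phi (S : Subgroup G) : ↥S → ℂ :=
  ∑ θ ∈ relP S, (θ : ↥((⁅S, S⁆ : Subgroup G).subgroupOf S) → ℂ) 1 •
    Cfsg.indFun ((⁅S, S⁆ : Subgroup G).subgroupOf S)
      (θ : ↥((⁅S, S⁆ : Subgroup G).subgroupOf S) → ℂ)

namespace SideCtx

variable {S W₁ U W₂ : Subgroup G} (hG : Cfsg.IsMinSimpleOddOrder G) (C : SideCtx S W₁ U W₂)
  {μ : (↥(W₁ ⊔ W₂) →* ℂˣ) → (↥S → ℂ)} {δ : (↥(W₁ ⊔ W₂) →* ℂˣ) → ℂ}
  {η : (↥(W₁ ⊔ W₂) →* ℂˣ) → (G → ℂ)} (hd : TIData S W₁ W₂ μ δ η) (hCF : PropCoreFactor G)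
  (hRed : PropReducible G)

include hG C hd hCF hRed

/-- A coherent part: the set `S(P)`. -/
theorem exists_coherentPart : ∃ R τ₁,
    CoherentPart S W₁ W₂ μ δ η R (calS S (Cfsg.fittingHallOf S) ⊥) τ₁ := by
  obtain ⟨R, hsys, hirr, hredR⟩ :=
    subcoherentP hG (propTypes hG) (propDade hG) S W₁ U W₂ C.max C.data μ δ η hd
  obtain ⟨-, τ₁, hiso, hext⟩ := C.coherent
  refine ⟨R, τ₁, hsys, hirr, hredR, ?_, ?_, hiso, hext⟩
  · have hle : Cfsg.fittingHallOf S ≤ Cfsg.typeCore S := by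
      unfold Cfsg.typeCore
      split_ifs
      · exact C.P_le
      · exact le_rfl
    rintro χ ⟨h1, h2⟩
    exact ⟨h1, fun h => h2 (indAbove_mono _ (Subgroup.comap_mono hle) h)⟩
  · rintro χ ⟨h1, h2⟩
    refine ⟨indAbove_conj _ _ h1, fun h => h2 ?_⟩
    have := indAbove_conj _ _ h
    rwa [conjFun_conjFun] at this

omit hCF hRed hd hG in
theorem P_K_normal : (((Cfsg.fittingHallOf S).subgroupOf S).subgroupOf
    ((⁅S, S⁆ : Subgroup G).subgroupOf S)).Normal :=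
  C.P_normal.subgroupOf _

omit hCF hRed hd hG in
theorem index_P_K : (((Cfsg.fittingHallOf S).subgroupOf S).subgroupOf
    ((⁅S, S⁆ : Subgroup G).subgroupOf S)).index = Nat.card U := by
  show ((Cfsg.fittingHallOf S).subgroupOf S).relIndex ((⁅S, S⁆ : Subgroup G).subgroupOf S) = _
  rw [Subgroup.relIndex_subgroupOf C.der_le]
  have h1 := card_mul_relIndex_of_le C.P_le
  rw [C.card_derived] at h1
  exact Nat.eq_of_mul_eq_mul_left Nat.card_pos h1

omit hG hd hCF hRed in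
/-- The values of `Φ`. -/
theorem Phi_value (x : S) : Phi S x = ((Nat.card W₁ * Nat.card U : ℕ) : ℂ) *
    ((if x = 1 then (Nat.card (Cfsg.fittingHallOf S) : ℂ) else 0) -
      if (x : G) ∈ Cfsg.fittingHallOf S then 1 else 0) := by
  set q := Nat.card W₁ with hq
  set u := Nat.card U with hu
  set K := (⁅S, S⁆ : Subgroup G).subgroupOf S with hK
  set P₁ := ((Cfsg.fittingHallOf S).subgroupOf S).subgroupOf K with hP₁
  haveI : K.Normal := derived_subgroupOf_normal S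
  haveI : P₁.Normal := C.P_K_normal
  set Rel := relP S with hRel
  have e : Phi S = Cfsg.indFun K (∑ θ ∈ Rel, (θ : K → ℂ) 1 • (θ : K → ℂ)) := by
    rw [Phi, CfsgLib.Induction.indFun_sum]
    simp only [CfsgLib.Induction.indFun_smul]
    rfl
  rw [e]
  by_cases hx : x ∈ K
  swap
  · rw [CfsgLib.Induction.indFun_normal_eq_zero K hx, if_neg fun h => hx (by rw [h]; exact K.one_mem),
      if_neg fun h => hx (show (x : G) ∈ (⁅S, S⁆ : Subgroup G) from C.P_le h), sub_zero, mul_zero]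
  have := CfsgLib.Induction.indFun_normal_apply K (∑ θ ∈ Rel, (θ : K → ℂ) 1 • (θ : K → ℂ)) ⟨x, hx⟩
  rw [show Cfsg.indFun K _ x = _ from this]
  have hinv : ∀ y : S, (∑ θ ∈ Rel, (θ : K → ℂ) 1 • (θ : K → ℂ))
      ⟨y * x * y⁻¹, (inferInstance : K.Normal).conj_mem x hx y⟩ = (u : ℂ) *
        ((if x = 1 then (Nat.card (Cfsg.fittingHallOf S) : ℂ) else 0) -
          if (x : G) ∈ Cfsg.fittingHallOf S then 1 else 0) := by
    intro y
    simp only [Finset.sum_apply, Pi.smul_apply, smul_eq_mul]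
    rw [hRel, relP]
    show ∑ θ ∈ CfsgLib.FrobKernelChar.relSet P₁, _ = _
    rw [sum_relevant_value]
    have h1 : (⟨y * x * y⁻¹, (inferInstance : K.Normal).conj_mem x hx y⟩ : K) = 1 ↔ x = 1 := by
      rw [Subtype.ext_iff]
      exact conj_eq_one_iff
    have h2 : (⟨y * x * y⁻¹, (inferInstance : K.Normal).conj_mem x hx y⟩ : K) ∈ P₁ ↔
        (x : G) ∈ Cfsg.fittingHallOf S := by
      rw [hP₁, Subgroup.mem_subgroupOf, C.P_normal.mem_comm_iff]
      rw [inv_mul_cancel_left, Subgroup.mem_subgroupOf]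
    simp only [h1, h2, show P₁.index = u from C.index_P_K]
    have hcK : Nat.card K = Nat.card (Cfsg.fittingHallOf S) * u := by
      rw [hK, Nat.card_congr (Subgroup.subgroupOfEquivOfLe C.der_le).toEquiv, C.card_derived]
    rw [hcK]
    split_ifs <;> push_cast <;> ring
  rw [Finset.sum_congr rfl fun y _ => hinv y, Finset.sum_const, nsmul_eq_mul, Finset.card_univ,
    ← Nat.card_eq_fintype_card, ← K.card_mul_index, hK, C.index_derived, Nat.cast_mul, Nat.cast_mul]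
  rw [← mul_assoc, ← mul_assoc, ← mul_assoc,
    inv_mul_cancel₀ (Nat.cast_ne_zero.mpr Nat.card_pos.ne'), one_mul]

omit hG hCF hRed in
theorem red_P_sum {ω : ↥(W₁ ⊔ W₂) →* ℂˣ} (hω : ¬ AgreeR W₁ W₂ ω 1) :
    ∑ x ∈ univ.filter (fun x : S => (x : G) ∈ Cfsg.fittingHallOf S), red S μ ω x = 0 := by
  haveI := finite_linChar C.data.selfNormalizing
  haveI := Fintype.ofFinite (↥(W₁ ⊔ W₂) →* ℂˣ)
  rw [Finset.sum_congr rfl fun x _ => by
      rw [hd.red_eq C.data.selfNormalizing, finsum_mem_eq_toFinset_sum, Finset.sum_apply],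
    Finset.sum_comm]
  refine Finset.sum_eq_zero fun ω' hω' => ?_
  have h := C.sum_P hd (fun r => hω ((Set.mem_toFinset.mp hω' : AgreeR W₁ W₂ ω ω').trans r)) (1 : S)
  simp only [mul_one] at h
  rw [← h]
  exact Finset.sum_subtype _ (fun x => by simp [Subgroup.mem_subgroupOf]) _

omit hG in
/-- The inner products of `Φ`. -/
theorem Phi_inner :
    Cfsg.classInner (Phi S) (Phi S) = ((Nat.card W₁ * Nat.card U *
      (Nat.card W₂ ^ Nat.card W₁ - 1) : ℕ) : ℂ) ∧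
    ∀ ω : ↥(W₁ ⊔ W₂) →* ℂˣ, ¬ AgreeR W₁ W₂ ω 1 →
      Cfsg.classInner (red S μ ω) (Phi S) = ((Nat.card W₁ * Nat.card U : ℕ) : ℂ) ∧
      Cfsg.classInner (Phi S) (red S μ ω) = ((Nat.card W₁ * Nat.card U : ℕ) : ℂ) := by
  set q := Nat.card W₁
  set u := Nat.card U
  set N := Nat.card W₂ ^ q - 1 with hN
  have hPN : Nat.card (Cfsg.fittingHallOf S) = N + 1 := by
    rw [C.P_card, hN, Nat.sub_add_cancel (Nat.one_le_pow _ _ C.p_prime.pos)]
  set qu : ℂ := ((q * u : ℕ) : ℂ) with hqu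
  have hPc : (univ.filter fun x : S => (x : G) ∈ Cfsg.fittingHallOf S).card =
      Nat.card (Cfsg.fittingHallOf S) := by
    rw [Nat.card_eq_fintype_card, Fintype.card_subtype]
    refine Finset.card_bij (fun x _ => (x : G)) (fun x hx => by simpa using hx)
      (fun _ _ _ _ e => Subtype.ext e) fun a ha => ?_
    exact ⟨⟨a, C.der_le (C.P_le (mem_filter.mp ha).2)⟩, by simpa using (mem_filter.mp ha).2, rfl⟩
  have hin : ∀ f : ↥S → ℂ, Cfsg.classInner f (Phi S) = (Nat.card S : ℂ)⁻¹ * (qu *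
      ((Nat.card (Cfsg.fittingHallOf S) : ℂ) * f 1 -
        ∑ x ∈ univ.filter (fun x : S => (x : G) ∈ Cfsg.fittingHallOf S), f x)) := by
    intro f
    rw [Cfsg.classInner]
    congr 1
    have ht : ∀ x : S, f x * conj (Phi S x) = qu *
        ((if x = 1 then (Nat.card (Cfsg.fittingHallOf S) : ℂ) * f x else 0) -
          if (x : G) ∈ Cfsg.fittingHallOf S then f x else 0) := fun x => by
      rw [C.Phi_value x, show qu = ((Nat.card W₁ * Nat.card U : ℕ) : ℂ) from rfl]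
      split_ifs <;> simp only [map_mul, map_sub, map_one, map_zero, Complex.conj_natCast] <;> ring
    rw [Finset.sum_congr rfl fun x _ => ht x, ← Finset.mul_sum, Finset.sum_sub_distrib,
      Finset.sum_ite_eq', if_pos (Finset.mem_univ _), ← Finset.sum_filter]
  have hS : (Nat.card S : ℂ) = ((N + 1 : ℕ) : ℂ) * u * q := by
    rw [C.card_eq, hPN]
    push_cast
    ring
  have hN1 : ((N + 1 : ℕ) : ℂ) ≠ 0 := Nat.cast_ne_zero.mpr (Nat.succ_ne_zero N)
  have hu0 : (u : ℂ) ≠ 0 := Nat.cast_ne_zero.mpr Nat.card_pos.ne'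
  have hq0 : (q : ℂ) ≠ 0 := Nat.cast_ne_zero.mpr C.q_prime.ne_zero
  refine ⟨?_, fun ω hω => ?_⟩
  · rw [hin, C.Phi_value, if_pos rfl, if_pos (by simp), Finset.sum_congr rfl fun x hx => by
      rw [C.Phi_value x, if_pos (mem_filter.mp hx).2]]
    rw [← Finset.mul_sum, Finset.sum_sub_distrib, Finset.sum_const, Finset.sum_ite_eq', hPc,
      if_pos (by simp), hPN, hS, hqu]
    push_cast
    field_simp
    ring
  · have h1 : Cfsg.classInner (red S μ ω) (Phi S) = qu := by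
      rw [hin, C.red_P_sum hd hω, sub_zero, C.red_one hd, C.μ_one hd hCF hRed hω, hPN, hS, hqu]
      field_simp
      push_cast
      ring
    exact ⟨h1, by rw [classInner_conj_symm, h1, hqu, Complex.conj_natCast]⟩

omit hG hCF hRed in
/-- The constituents of `Φ` give members of `S(P)`. -/
theorem rel_mem {θ : Cfsg.IrrCharacter ↥((⁅S, S⁆ : Subgroup G).subgroupOf S)} (hθ : θ ∈ relP S) :
    Cfsg.indFun ((⁅S, S⁆ : Subgroup G).subgroupOf S)
      (θ : ↥((⁅S, S⁆ : Subgroup G).subgroupOf S) → ℂ) ∈ calS S (Cfsg.fittingHallOf S) ⊥ := by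
  obtain ⟨a, ha, hne⟩ := CfsgLib.FrobKernelChar.mem_relSet.mp hθ
  refine ⟨⟨θ, θ.2, fun e => hne ((congrFun e a).trans (congrFun e 1).symm), fun y hy => ?_, rfl⟩, ?_⟩
  · have : y = 1 := Subtype.ext (Subgroup.mem_bot.mp (by simpa using hy))
    rw [this]
  rintro ⟨θ', hθ', -, hker, e⟩
  obtain ⟨g, hg⟩ := conjChar_of_indFun_eq (inferInstance : ((⁅S, S⁆ : Subgroup G).subgroupOf S).Normal) θ.2 hθ' e
  refine hne ?_
  rw [← hg, conjChar_apply_one]
  exact hker _ (C.P_normal.conj_mem _ ha g)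

omit hG hCF hRed in
theorem resD_mem {ω : ↥(W₁ ⊔ W₂) →* ℂˣ} (hω : ¬ AgreeR W₁ W₂ ω 1) :
    ∃ θ ∈ relP S, (θ : ↥((⁅S, S⁆ : Subgroup G).subgroupOf S) → ℂ) = resD S (μ ω) := by
  obtain ⟨a, ha, hne⟩ := C.exists_P_ne hd hω
  exact ⟨⟨_, hd.res_irr ω⟩, CfsgLib.FrobKernelChar.mem_relSet.mpr ⟨⟨a, C.P_le ha⟩, ha, hne⟩, rfl⟩

omit hG hCF hRed in
theorem resD_of_red {θ : Cfsg.IrrCharacter ↥((⁅S, S⁆ : Subgroup G).subgroupOf S)}
    {ω : ↥(W₁ ⊔ W₂) →* ℂˣ}
    (e : Cfsg.indFun ((⁅S, S⁆ : Subgroup G).subgroupOf S)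
      (θ : ↥((⁅S, S⁆ : Subgroup G).subgroupOf S) → ℂ) = red S μ ω) :
    (θ : ↥((⁅S, S⁆ : Subgroup G).subgroupOf S) → ℂ) = resD S (μ ω) := by
  obtain ⟨g, hg⟩ := conjChar_of_indFun_eq
    (inferInstance : ((⁅S, S⁆ : Subgroup G).subgroupOf S).Normal) θ.2 (hd.res_irr ω) e
  rw [← hg]
  funext y
  show μ ω _ = μ ω y
  exact isClassFunction_of_isCharacter (isCharacter_of_irr (hd.μ_irr ω)) _ g

omit hG hCF hRed in
theorem resD_inj {ω ω' : ↥(W₁ ⊔ W₂) →* ℂˣ} (e : resD S (μ ω) = resD S (μ ω')) :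
    AgreeR W₁ W₂ ω ω' := by
  by_contra hn
  have h1 : red S μ ω = red S μ ω' := by
    show Cfsg.indFun _ (resD S (μ ω)) = Cfsg.indFun _ (resD S (μ ω'))
    rw [e]
  have h2 := congrArg (fun f => Cfsg.classInner f (μ ω)) h1
  simp only [hd.classInner_red_μ C.data.selfNormalizing, if_pos (AgreeR.refl ω),
    if_neg (fun r : AgreeR W₁ W₂ ω' ω => hn r.symm)] at h2
  exact one_ne_zero h2

/-- The coefficients of `τ₁(red ν)` and `τ₁(red ν⁻¹)` at `η ν` differ by one. -/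
theorem col_coeff {R : (↥S → ℂ) → Finset (G → ℂ)} {τ₁ : (↥S → ℂ) → (G → ℂ)}
    (hc : CoherentPart S W₁ W₂ μ δ η R (calS S (Cfsg.fittingHallOf S) ⊥) τ₁)
    {ν : ↥(W₁ ⊔ W₂) →* ℂˣ} (hν : ¬ AgreeR W₁ W₂ ν 1) :
    ∃ A : ℤ, Cfsg.classInner (τ₁ (red S μ ν)) (η ν) = A ∧
      Cfsg.classInner (τ₁ (red S μ ν⁻¹)) (η ν) = ((A - 1 : ℤ) : ℂ) := by
  have hW := C.data.selfNormalizing
  set T := calS S (Cfsg.fittingHallOf S) ⊥ with hT
  have hνi : ¬ AgreeR W₁ W₂ ν⁻¹ 1 := fun e => hν (by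
    have := e.inv; rwa [CfsgLib.PF.linInv, CfsgLib.PF.linInv_one] at this)
  have hgenI : ∀ χ ∈ T, ∃ z : ℤ, Cfsg.classInner (τ₁ χ) (η ν) = z := fun χ hχ =>
    classInner_generalized_int (hc.iso.2.2.2 _ (zspan_of_mem hχ))
      (family_signed hd.family ν).generalized
  obtain ⟨A, hA⟩ := hgenI _ (C.red_mem hd hν)
  obtain ⟨B, hB⟩ := hgenI _ (C.red_mem hd hνi)
  refine ⟨A, hA, ?_⟩
  have hS1 := hc.sub (C.red_mem hd hν)
  have hmemR : η ν ∈ R (red S μ ν) := (hc.red_R ν hν (η ν)).mpr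
    ⟨ν, AgreeR.refl ν, Or.inl (by rw [C.δ_one hd hG hCF hRed hν, one_smul])⟩
  have hdiff : red S μ ν - red S μ ν⁻¹ ∈ Cfsg.zspanOn T {1}ᶜ :=
    zspanOn_compl_one.mpr ⟨zspan_sub (zspan_of_mem (C.red_mem hd hν)) (zspan_of_mem (C.red_mem hd hνi)),
      by rw [Pi.sub_apply, C.red_one hd, C.red_one hd, C.μ_one hd hCF hRed hν,
        C.μ_one hd hCF hRed hνi, sub_self]⟩
  have h1 : Cfsg.classInner (tau S (red S μ ν - Cfsg.conjFun (red S μ ν))) (η ν) = 1 := by
    rw [hc.sys.sum_eq _ hS1, classInner_sum_left, Finset.sum_eq_single (η ν) (fun α hα hne => by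
      rw [hc.sys.orthonormal _ hS1 α hα _ hmemR, if_neg hne]) (fun h => absurd hmemR h),
      hc.sys.orthonormal _ hS1 _ hmemR _ hmemR, if_pos rfl]
  rw [hd.conj_red hW ν, ← hc.ext _ hdiff, isometry_sub hc.iso (zspan_of_mem (C.red_mem hd hν))
    (zspan_of_mem (C.red_mem hd hνi)) hdiff.1, classInner_sub_left, hA, hB] at h1
  rw [hB]
  push_cast
  linear_combination -h1

/-- One of the two test functions of a column has a large inner product with the column. -/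
theorem exists_test (hNu : 2 * Nat.card U ≤ Nat.card W₂ ^ Nat.card W₁ - 1)
    {ν : ↥(W₁ ⊔ W₂) →* ℂˣ} (hν : ¬ AgreeR W₁ W₂ ν 1) :
    ∃ F : ↥S → ℂ, Cfsg.IsClassFunction ↥S F ∧
      (∀ x : S, F x ≠ 0 → (x : G) ∈ Cfsg.fittingHallOf S ∧ (x : G) ≠ 1) ∧
      Cfsg.classInner F F = (((Nat.card W₁ : ℝ) * ((Nat.card W₂ ^ Nat.card W₁ - 1 : ℕ) : ℝ) *
        (((Nat.card W₂ ^ Nat.card W₁ - 1 : ℕ) : ℝ) - Nat.card U) : ℝ) : ℂ) ∧
      ∃ m : ℤ, Cfsg.classInner (tau S F) (η ν) = m ∧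
        ((Nat.card W₂ ^ Nat.card W₁ - 1 : ℕ) : ℤ) - Nat.card U ≤ |m| := by
  set q := Nat.card W₁ with hq
  set u := Nat.card U with hu
  set N := Nat.card W₂ ^ Nat.card W₁ - 1 with hN
  set K := (⁅S, S⁆ : Subgroup G).subgroupOf S with hK
  have hW := C.data.selfNormalizing
  have hodd := odd_W hG C.data
  haveI := finite_linChar hW
  haveI := Fintype.ofFinite (↥(W₁ ⊔ W₂) →* ℂˣ)
  obtain ⟨R, τ₁, hc⟩ := C.exists_coherentPart hG hd hCF hRed
  set T := calS S (Cfsg.fittingHallOf S) ⊥ with hT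
  have hνi : ¬ AgreeR W₁ W₂ ν⁻¹ 1 := fun e => hν (by
    have := e.inv; rwa [CfsgLib.PF.linInv, CfsgLib.PF.linInv_one] at this)
  have hνν : ¬ AgreeR W₁ W₂ ν ν⁻¹ := fun e => hν (agreeR_self_inv hodd e)
  have hdeg : ∀ θ : Cfsg.IrrCharacter K, ∃ n : ℕ, (θ : K → ℂ) 1 = n := fun θ =>
    exists_degree (irr_isCharacter θ)
  choose n hn using hdeg
  have hΦz : Phi S = ∑ θ ∈ relP S, (n θ : ℤ) • Cfsg.indFun K (θ : K → ℂ) := by
    rw [Phi]
    refine Finset.sum_congr rfl fun θ _ => ?_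
    rw [CfsgLib.OddChar.zsmul_eq_smul, Int.cast_natCast, hn]
  have hΦT : Phi S ∈ Cfsg.zspan T := by
    rw [hΦz]
    exact zspan_sum _ fun θ hθ => zspan_zsmul _ (zspan_of_mem (C.rel_mem hd hθ))
  have hτΦ : τ₁ (Phi S) = ∑ θ ∈ relP S, (n θ : ℤ) • τ₁ (Cfsg.indFun K (θ : K → ℂ)) := by
    rw [hΦz, isometry_sum hc.iso zspan_zero (fun a ha b hb => zspan_add ha hb) _
      fun θ hθ => zspan_zsmul _ (zspan_of_mem (C.rel_mem hd hθ))]
    exact Finset.sum_congr rfl fun θ hθ => hc.iso.2.1 _ (zspan_of_mem (C.rel_mem hd hθ)) _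
  have hred : ∀ ω, ¬ AgreeR W₁ W₂ ω 1 → red S μ ω ∈ T := fun ω hω => C.red_mem hd hω
  obtain ⟨θ₁, hθ₁, e₁⟩ := C.resD_mem hd hν
  obtain ⟨θ₂, hθ₂, e₂⟩ := C.resD_mem hd hνi
  have hθne : θ₁ ≠ θ₂ := fun e => hνν (C.resD_inj hd (by rw [← e₁, ← e₂, e]))
  have hzero : ∀ θ ∈ relP S, θ ≠ θ₁ → θ ≠ θ₂ →
      Cfsg.classInner (τ₁ (Cfsg.indFun K (θ : K → ℂ))) (η ν) = 0 := by
    intro θ hθ h1 h2
    refine hc.inner_tau1_zero hd (C.rel_mem hd hθ) fun ω hω e => ?_
    have hθω := C.resD_of_red hd e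
    refine ⟨fun r => h1 (Subtype.ext ?_), fun r => h2 (Subtype.ext ?_)⟩
    · rw [hθω, e₁, hd.res_eq _ _ r]
    · have r' := r.inv
      rw [CfsgLib.PF.linInv] at r'
      rw [hθω, e₂, hd.res_eq _ _ r']
  obtain ⟨A, hA, hB⟩ := C.col_coeff hG hd hCF hRed hc hν
  have hΦη : Cfsg.classInner (τ₁ (Phi S)) (η ν) = ((u * (A + (A - 1)) : ℤ) : ℂ) := by
    rw [hτΦ, classInner_sum_left,
      Finset.sum_eq_add_of_mem θ₁ θ₂ hθ₁ hθ₂ hθne fun θ hθ h => by
        rw [classInner_zsmul_left, hzero θ hθ h.1 h.2, mul_zero],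
      classInner_zsmul_left, classInner_zsmul_left]
    have i1 : Cfsg.indFun K (θ₁ : K → ℂ) = red S μ ν := by rw [e₁]; rfl
    have i2 : Cfsg.indFun K (θ₂ : K → ℂ) = red S μ ν⁻¹ := by rw [e₂]; rfl
    rw [i1, i2, hA, hB]
    have n1 : (n θ₁ : ℂ) = u := by
      rw [← hn, e₁]; exact C.μ_one hd hCF hRed hν
    have n2 : (n θ₂ : ℂ) = u := by
      rw [← hn, e₂]; exact C.μ_one hd hCF hRed hνi
    push_cast
    rw [n1, n2]
    ring
  -- pick the column
  obtain ⟨ω, hω, Z, hZ, hm⟩ : ∃ ω, ¬ AgreeR W₁ W₂ ω 1 ∧ ∃ Z : ℤ,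
      Cfsg.classInner (τ₁ (red S μ ω)) (η ν) = Z ∧
        (N : ℤ) - u ≤ |(N : ℤ) * Z - u * (A + (A - 1))| := by
    have hNu' : 2 * (u : ℤ) ≤ N := by exact_mod_cast hNu
    rcases le_or_gt A 0 with h0 | h0
    · refine ⟨ν⁻¹, hνi, A - 1, hB, ?_⟩
      rw [abs_of_nonpos (by nlinarith)]
      nlinarith
    · refine ⟨ν, hν, A, hA, ?_⟩
      rw [abs_of_nonneg (by nlinarith)]
      nlinarith
  set F : ↥S → ℂ := (N : ℤ) • red S μ ω - Phi S with hF
  have hredv : ∀ x : S, (x : G) ∉ Cfsg.fittingHallOf S → red S μ ω x = 0 := by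
    intro x hx
    by_cases hxd : (x : G) ∈ (⁅S, S⁆ : Subgroup G)
    · rw [hd.red_eq hW, finsum_mem_eq_toFinset_sum, Finset.sum_apply]
      refine Finset.sum_eq_zero fun ω' hω' => ?_
      have hω'' : AgreeR W₁ W₂ ω ω' := Set.mem_toFinset.mp hω'
      exact C.μ_vanish hd hCF hRed (fun r => hω (hω''.trans r)) hxd hx
    · exact CfsgLib.Induction.indFun_normal_eq_zero K hxd
  have hF1 : F 1 = 0 := by
    rw [hF, Pi.sub_apply, Pi.smul_apply, C.red_one hd, C.μ_one hd hCF hRed hω, C.Phi_value, if_pos rfl,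
      if_pos (by simp), C.P_card, zsmul_eq_mul, hN, Int.cast_natCast,
      Nat.cast_sub (Nat.one_le_pow _ _ C.p_prime.pos)]
    push_cast
    ring
  have hsupp : ∀ x : S, F x ≠ 0 → (x : G) ∈ Cfsg.fittingHallOf S ∧ (x : G) ≠ 1 := by
    intro x hx
    refine ⟨by_contra fun h => hx ?_, fun h => hx ?_⟩
    · rw [hF, Pi.sub_apply, Pi.smul_apply, hredv x h, C.Phi_value,
        if_neg (fun e => h (by rw [e]; exact one_mem _)), if_neg h, smul_zero, sub_zero, mul_zero,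
        sub_zero]
    · rw [show x = 1 from Subtype.ext h, hF1]
  have hFT : F ∈ Cfsg.zspanOn T {1}ᶜ :=
    zspanOn_compl_one.mpr ⟨zspan_sub (zspan_zsmul _ (zspan_of_mem (hred ω hω))) hΦT, hF1⟩
  have hcl : Cfsg.IsClassFunction ↥S F := by
    refine isClassFunction_sub ?_ ?_
    · rw [CfsgLib.OddChar.zsmul_eq_smul]
      exact isClassFunction_smul (CfsgLib.Induction.isClassFunction_indFun _ _) _
    · rw [Phi]
      exact isClassFunction_sum _ fun θ _ =>
        isClassFunction_smul (CfsgLib.Induction.isClassFunction_indFun _ _) _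
  refine ⟨F, hcl, hsupp, ?_, (N : ℤ) * Z - u * (A + (A - 1)), ?_, hm⟩
  · obtain ⟨hΦΦ, hΦr⟩ := C.Phi_inner hd hCF hRed
    rw [hF, CfsgLib.OddChar.zsmul_eq_smul, classInner_sub_left, classInner_sub_right, classInner_sub_right,
      classInner_smul_left, classInner_smul_left, classInner_smul_right, classInner_smul_right,
      C.red_norm hd ω, (hΦr ω hω).1, (hΦr ω hω).2, hΦΦ]
    push_cast
    simp only [map_natCast]
    ring
  · rw [← hc.ext F hFT, hF, isometry_sub hc.iso (zspan_zsmul _ (zspan_of_mem (hred ω hω))) hΦT hFT.1,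
      hc.iso.2.1 _ (zspan_of_mem (hred ω hω)), classInner_sub_left, classInner_zsmul_left, hZ, hΦη]
    push_cast
    ring

/-- The mass of a family character on the conjugates of `P#`. -/
theorem mass_P (hNu : 2 * Nat.card U ≤ Nat.card W₂ ^ Nat.card W₁ - 1)
    {ν : ↥(W₁ ⊔ W₂) →* ℂˣ} (hν : ¬ AgreeR W₁ W₂ ν 1) :
    (1 - (Nat.card U : ℝ) / ((Nat.card W₂ : ℝ) ^ Nat.card W₁ - 1)) / Nat.card W₁ ≤
      massOn (conjP S) (η ν) := by
  obtain ⟨F, hcl, hsupp, hnorm, m, hm, hle⟩ := C.exists_test hG hd hCF hRed hNu hν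
  set N := Nat.card W₂ ^ Nat.card W₁ - 1 with hN
  set u := Nat.card U
  set q := Nat.card W₁
  have hFA : ∀ x : S, (x : G) ∉ suppA0 S → F x = 0 := fun x hx => by_contra fun h =>
    hx (C.mem_suppA0_P hG (hsupp x h).1 (hsupp x h).2)
  have hτ : ∀ g ∉ conjP S, tau S F g = 0 := fun g hg => by_contra fun h => hg (by
    obtain ⟨s, -, hs, y, rfl⟩ := C.tau_off hG hcl h
    simp only [conjP, mem_filter, mem_univ, true_and]
    exact ⟨y, s, hsupp s hs, rfl⟩)
  have h := normSq_inner_le (conjP S) (χ := η ν) hτ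
  rw [show Cfsg.classInner (tau S F) (tau S F) = Cfsg.classInner F F from
      dade_isometry (C.dadeS hG) hcl hFA hcl, hnorm, Complex.ofReal_re, classInner_conj_symm, hm,
    map_intCast, Complex.normSq_intCast] at h
  have hu1 : (1 : ℝ) < u := by exact_mod_cast C.u_one_lt
  have hq0 : (0 : ℝ) < q := by exact_mod_cast C.q_prime.pos
  have hNu' : 2 * (u : ℝ) ≤ (N : ℝ) := by exact_mod_cast hNu
  have hNr : ((Nat.card W₂ : ℝ) ^ q - 1) = (N : ℝ) := by
    rw [hN, Nat.cast_sub (Nat.one_le_pow _ _ C.p_prime.pos)]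
    push_cast
    rfl
  have hle' : (N : ℝ) - u ≤ |(m : ℝ)| := by exact_mod_cast hle
  have hsq : ((N : ℝ) - u) ^ 2 ≤ (m : ℝ) * m := by
    rw [← pow_two, ← sq_abs (m : ℝ)]
    exact pow_le_pow_left₀ (by linarith) hle' 2
  rw [hNr, div_le_iff₀ hq0, one_sub_div (by linarith : (N : ℝ) ≠ 0), div_le_iff₀ (by linarith : (0:ℝ) < N)]
  have hpos : (0 : ℝ) < (N : ℝ) - u := by linarith
  refine le_of_mul_le_mul_right ?_ hpos
  calc ((N : ℝ) - u) * ((N : ℝ) - u) = ((N : ℝ) - u) ^ 2 := (pow_two _).symm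
    _ ≤ _ := hsq.trans h
    _ = _ := by ring

end SideCtx

end CfsgLib.PF.Sec14
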