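import Cfsg.Agent.Lib.PF.Sec14Bessel
import Cfsg.Agent.Lib.PF.Sec14Irr
import Cfsg.Agent.Lib.PF.Sec8Base

/-!
# Peterfalvi §14: the maximal subgroups over `N(U)` and `N(V)`

The order of the kernel is prime to `pq`, its index is `q` or `pq`, and the coefficients of the bridges
at each other's characters give either a bound on the kernel or parities.
-/

set_option autoImplicit false
set_option linter.unusedSectionVars false
set_option linter.style.haveILetI false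

namespace CfsgLib.PF.Sec14

open scoped Classical ComplexConjugate
open Finset CfsgLib.Characters CfsgLib.OddChar CfsgLib.OddOrder

universe u

variable {G : Type u} [Group G] [Fintype G]

/-- `|W₂|` does not divide the order of the kernel of a subgroup of Type I. -/
theorem SideCtx.not_dvd_kernel (hG : Cfsg.IsMinSimpleOddOrder G) {S W₁ U W₂ : Subgroup G}
    (C : SideCtx S W₁ U W₂) {L : Subgroup G} (hL : IsCoatom L) (hI : OfTypeI L) :
    ¬ Nat.card W₂ ∣ Nat.card (Cfsg.fittingHallOf L) := by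
  intro hd
  haveI : Fact (Nat.card W₂).Prime := ⟨C.p_prime⟩
  obtain ⟨a, ha⟩ := exists_prime_orderOf_dvd_card' (Nat.card W₂) hd
  have ha1 : (a : G) ≠ 1 := fun e => C.p_prime.ne_one (by
    rw [← ha, ← Subgroup.orderOf_coe, e, orderOf_one])
  have hpow : (a : G) ^ Nat.card W₂ ^ 1 = 1 := by
    rw [pow_one]
    exact orderOf_dvd_iff_pow_eq_one.mp (by rw [Subgroup.orderOf_coe, ha])
  obtain ⟨y, hy⟩ := Sec13.exists_conj_mem_hall (Nat.card W₂) (n := Nat.card W₁) C.P_card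
    C.q_prime.ne_zero ((propCore hG) S C.max).2.1 (z := (a : G)) hpow
  have hcore : Cfsg.typeCore L = Cfsg.fittingHallOf L := by
    rw [Cfsg.typeCore, if_neg]
    rintro (⟨A, B, D, d, -⟩ | ⟨A, B, D, d, -⟩) <;>
      exact (propTypes hG L hL).2 A B D d hI
  have hne := not_conj_typeI hG hL C.max hI (C.notI hG)
  refine Set.eq_empty_iff_forall_notMem.mp (propSupports hG L S hL C.max hne).2.2.2.2 (a : G)
    ⟨⟨(a : G), ⟨?_, ha1⟩, 1, one_mem _, 1, by group⟩, ?_⟩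
  · rw [hcore]; exact a.2
  refine ⟨y * (a : G) * y⁻¹, ⟨?_, fun h => ha1 (conj_eq_one_iff.mp h)⟩, 1, one_mem _, y⁻¹, by group⟩
  unfold Cfsg.typeCore
  split_ifs
  · exact C.P_le hy
  · exact hy

/-- The kernel of a subgroup of Type I is prime to `pq`. -/
theorem cop_kernel (hG : Cfsg.IsMinSimpleOddOrder G) {S T W₁ W₂ U V : Subgroup G}
    (C : SideCtx S W₁ U W₂) (C' : SideCtx T W₂ V W₁) {L : Subgroup G} (hL : IsCoatom L)
    (hI : OfTypeI L) : (Nat.card W₁ * Nat.card W₂).Coprime (Nat.card (Cfsg.fittingHallOf L)) :=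
  Nat.Coprime.mul_left (C'.p_prime.coprime_iff_not_dvd.mpr (C'.not_dvd_kernel hG hL hI))
    (C.p_prime.coprime_iff_not_dvd.mpr (C.not_dvd_kernel hG hL hI))

theorem index_of_compl {L B : Subgroup G} (hdisj : Cfsg.fittingHallOf L ⊓ B = ⊥)
    (hsup : Cfsg.fittingHallOf L ⊔ B = L) : (Cfsg.fittingHall ↥L).index = Nat.card B := by
  have hHL : Cfsg.fittingHallOf L ≤ L := le_sup_left.trans hsup.le
  have hBL : B ≤ L := le_sup_right.trans hsup.le
  have hc : Cfsg.IsComplIn (Cfsg.fittingHallOf L) B L := by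
    refine ⟨hHL, hBL, hdisj, fun m hm => ?_⟩
    rw [← hsup, ← SetLike.mem_coe, Subgroup.coe_mul_of_right_le_normalizer_left _ _
      (hBL.trans (fittingHallOf_normal L)), Set.mem_mul] at hm
    obtain ⟨a, ha, b, hb, e⟩ := hm
    exact ⟨a, ha, b, hb, e.symm⟩
  rw [← IsComplIn.relIndex_left hc, Subgroup.relIndex, fittingHallOf_subgroupOf]

/-- A maximal subgroup over `N(U)` for `S` of Type II. -/
theorem exists_over (hG : Cfsg.IsMinSimpleOddOrder G) (hII : PropTypeIISupport G)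
    {S T W₁ W₂ U V : Subgroup G} (h : TypePPair S T W₁ W₂ U V) (C : SideCtx S W₁ U W₂)
    (C' : SideCtx T W₂ V W₁) (k2 : Kind2 S W₁ U W₂) :
    ∃ L : Subgroup G, IsCoatom L ∧ IsFrobF L ∧ OfTypeI L ∧ U ≤ Cfsg.fittingHallOf L ∧
      (((Cfsg.fittingHall ↥L).index = Nat.card W₁ ∧ Cfsg.fittingHallOf L ⊔ W₁ = L) ∨
        ((Cfsg.fittingHall ↥L).index = Nat.card W₁ * Nat.card W₂ ∧
          ∃ y ∈ Cfsg.fittingHallOf T, W₂.map (MulAut.conj y).toMonoidHom ≤ L)) := by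
  have hUt : U ≠ ⊤ := fun e => C.max.1 (top_le_iff.mp (e ▸ C.U_le))
  obtain ⟨L, hL, hle⟩ := exists_isCoatom_ge (minSimple_normalizer_ne_top hG C.U_ne hUt)
  obtain ⟨hF, hI, hU, hcase⟩ := hII S T W₁ W₂ U V h k2 L hL hle
  refine ⟨L, hL, hF, hI, hU, hcase.imp (fun hc => ⟨index_of_compl hc.1 hc.2, hc.2⟩) ?_⟩
  rintro ⟨y, hy, hdisj, hsup⟩
  refine ⟨?_, y, hy, (le_sup_right.trans (le_sup_right.trans hsup.le))⟩
  have hfix : W₁.map (MulAut.conj y).toMonoidHom = W₁ := by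
    have hid : ∀ a ∈ W₁, y * a * y⁻¹ = a := fun a ha => by
      rw [C'.P_comm hy (C'.W₂_le ha), mul_inv_cancel_right]
    ext a
    rw [Subgroup.mem_map]
    constructor
    · rintro ⟨b, hb, rfl⟩
      show y * b * y⁻¹ ∈ W₁
      rw [hid b hb]; exact hb
    · intro ha
      exact ⟨a, ha, hid a ha⟩
  rw [index_of_compl hdisj hsup, ← card_W_mul C.data.selfNormalizing,
    ← Subgroup.card_map_of_injective (K := W₁ ⊔ W₂) (f := (MulAut.conj y).toMonoidHom)
      (MulAut.conj y).injective, Subgroup.map_sup, hfix]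

theorem kernel_odd (hG : Cfsg.IsMinSimpleOddOrder G) (L : Subgroup G) :
    Odd (Nat.card (Cfsg.fittingHallOf L)) :=
  minSimple_odd hG _

/-- The order of the kernel is `1` modulo the index. -/
theorem kernel_mod {L : Subgroup G} {I : Finset (↥L → ℂ)} {φ : ↥L → ℂ} {w : (↥L → ℂ) → ℕ}
    {x : (↥L → ℂ) → (G → ℂ)} (d : FrobData L I φ w x) :
    Nat.card (Cfsg.fittingHallOf L) ≡ 1 [MOD (Cfsg.fittingHall ↥L).index] := by
  rw [CfsgLib.OddOrder.card_fittingHallOf, ← d.sum_sq]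
  unfold Nat.ModEq
  rw [add_comm, Nat.add_mul_mod_self_right]

/-- Clearing the denominators of a Bessel inequality. -/
theorem nat_le_of_frac {h e A : ℕ} (hh : 1 ≤ h) (he : 0 < e)
    (H : ((h : ℝ) - 1) / e ≤ A) : h - 1 ≤ e * A := by
  have : (0 : ℝ) < e := Nat.cast_pos.mpr he
  rw [div_le_iff₀ this] at H
  have h2 : ((h - 1 : ℕ) : ℝ) ≤ ((e * A : ℕ) : ℝ) := by
    push_cast [Nat.cast_sub hh]
    linarith
  exact_mod_cast h2

section Frob

variable (hG : Cfsg.IsMinSimpleOddOrder G) {L : Subgroup G} (hL : IsCoatom L) (hI : OfTypeI L)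
  (hF : IsFrobF L) {I : Finset (↥L → ℂ)} {φ : ↥L → ℂ} {w : (↥L → ℂ) → ℕ}
  {x : (↥L → ℂ) → (G → ℂ)} (d : FrobData L I φ w x)
  {W₁ W₂ : Subgroup G} (hW : Cfsg.IsSelfNormalizingCyclic W₁ W₂)
  (hcop : (Nat.card W₁ * Nat.card W₂).Coprime (Nat.card (Cfsg.fittingHallOf L)))
  {η : (↥(W₁ ⊔ W₂) →* ℂˣ) → (G → ℂ)} (hη : Cfsg.IsCyclicTIFamily W₁ W₂ η)
  (hηc : ∀ ω, η ω⁻¹ = Cfsg.conjFun (η ω))

include hG hL hI hF d hW hcop hη

/-- The table of the coefficients of `β_L` at the cyclic family. -/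
theorem betaI_table {a b : ↥(W₁ ⊔ W₂) →* ℂˣ} (ha : TrivR a) (hb : TrivL b) :
    Cfsg.classInner (tau L (bridgeI L φ)) (η (a * b)) =
      Cfsg.classInner (tau L (bridgeI L φ)) (η a) + Cfsg.classInner (tau L (bridgeI L φ)) (η b) - 1 := by
  haveI := Fintype.ofFinite ↥(W₁ ⊔ W₂)
  obtain ⟨hgen, -, h1, -⟩ := betaI_props hG hL hI hF d
  have h := family_coeff η hη (isClassFunction_of_isGeneralizedCharacter hgen) ha hb
  have hz : Cfsg.classInner (fun z : ↥(W₁ ⊔ W₂) => tau L (bridgeI L φ) z) (ctiAlpha a b) = 0 :=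
    classInner_eq_zero_of_disjoint fun z => Or.inl (tau_eq_zero (not_mem_supp hG hL hI hF hcop
      (card_W_mul hW ▸ Subgroup.orderOf_dvd_natCard _ z.2)))
  rw [hz, hη.map_one, h1] at h
  linear_combination h

include hηc

/-- A bridge of a side against `L`: a bound on the kernel, or odd coefficients along the row. -/
theorem side_dichotomy {u : ℕ} (hu : 0 < u) {β : (↥(W₁ ⊔ W₂) →* ℂˣ) → (G → ℂ)}
    (hβ : BridgeData W₁ W₂ η u β) :
    Nat.card W₁ * (Nat.card (Cfsg.fittingHallOf L) - 1) ≤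
        (Cfsg.fittingHall ↥L).index * (u - 1 + Nat.card W₁) ∨
      ∀ ω, TrivL ω → ω ≠ 1 → ∀ n : ℤ,
        Cfsg.classInner (tau L (bridgeI L φ)) (η ω) = n → Odd n := by
  refine or_iff_not_imp_right.mpr fun hne => ?_
  push Not at hne
  obtain ⟨ω, hω, hω1, n, hn, hnodd⟩ := hne
  haveI := finite_linChar hW
  haveI := Fintype.ofFinite (↥(W₁ ⊔ W₂) →* ℂˣ)
  obtain ⟨hgen, -, h1, hc⟩ := betaI_props hG hL hI hF d
  rw [d.x_conj φ d.φ_mem] at hc
  have hcopW : (Nat.card ↥(W₁ ⊔ W₂)).Coprime (Nat.card (Cfsg.fittingHallOf L)) := by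
    rwa [card_W_mul hW]
  have hoff : ∀ g, β ω g = 0 ∨ g ∉ supp L := fun g =>
    or_iff_not_imp_left.mpr fun h => not_mem_supp hG hL hI hF hcop (hβ.off ω hω hω1 g h).2
  have h0 : Cfsg.classInner (β ω) (tau L (bridgeI L φ)) = 0 :=
    classInner_eq_zero_of_disjoint fun g => (hoff g).imp_right tau_eq_zero
  have hρ := d.x_signed φ d.φ_mem
  obtain ⟨k, hk⟩ := classInner_generalized_int (hβ.gen ω hω hω1) hρ.generalized
  have hσρ : Cfsg.classInner (η ω) (x φ) = 0 := by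
    rw [classInner_conj_symm, x_eta_orth hG hL hI hF d hW hcopW hη hηc d.φ_mem ω, map_zero]
  have hpar : Odd (k + n) := parity hG.1 (hβ.gen ω hω hω1) hgen (family_signed hη ω) hρ
    (hβ.one_inner ω hω hω1) h1 (family_inner_one hη hω1) (d.x_one φ d.φ_mem) hσρ
    (by rw [← hηc]; exact hβ.conjugate ω hω hω1) hc h0 hk hn
  have hk0 : k ≠ 0 := fun e => hnodd (by simpa [e] using hpar)
  have hall := orth_sum (v := η) (w := xFam x I) (fun i j => by convert hη.orthonormal i j)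
    (fun i j => by convert xFam_orth d i j) fun ν χ => by
      rw [classInner_conj_symm, show xFam x I χ = x χ from rfl,
        x_eta_orth hG hL hI hF d hW hcopW hη hηc χ.2 ν, map_zero]
  have hB := Sec12.bessel _ (fun i j => by convert hall i j) (β ω)
  rw [Fintype.sum_sum_type] at hB
  simp only [Sum.elim_inl, Sum.elim_inr] at hB
  have b1 := family_sum_ge_one hη (hβ.one_inner ω hω hω1)
  have b2 := xFam_sum_ge d hk0 (f := β ω) fun χ hχ => inner_x_eq d hoff hk hχ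
  have hnorm := congrArg Complex.re (hβ.norm ω hω hω1)
  simp only [Complex.mul_re, Complex.natCast_re, Complex.natCast_im, zero_mul, sub_zero,
    Complex.add_re, Complex.sub_re, Complex.one_re, Complex.re_ofNat, Complex.im_ofNat,
    mul_zero] at hnorm
  set q := Nat.card W₁
  set hh := Nat.card (Cfsg.fittingHallOf L)
  set e := (Cfsg.fittingHall ↥L).index
  have he : (0 : ℝ) < e := Nat.cast_pos.mpr (Nat.pos_of_ne_zero Subgroup.index_ne_zero_of_finite)
  have hh1 : 1 ≤ hh := Nat.card_pos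
  have hkey : (1 + ((hh : ℝ) - 1) / e) * q ≤ (u : ℝ) + 2 * q - 1 := by
    rw [← hnorm, mul_comm (q : ℝ)]
    exact mul_le_mul_of_nonneg_right (by linarith) (Nat.cast_nonneg _)
  rw [add_mul, one_mul, div_mul_eq_mul_div, ← le_sub_iff_add_le', div_le_iff₀ he] at hkey
  have h2 : ((q * (hh - 1) : ℕ) : ℝ) ≤ ((e * (u - 1 + q) : ℕ) : ℝ) := by
    push_cast [Nat.cast_sub hh1, Nat.cast_sub hu]
    linarith
  exact_mod_cast h2

end Frob

/-- Two non-conjugate Frobenius subgroups of Type I: a bound on the kernel of `M`, or one on the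
kernel of `L` with odd coefficients of the bridge of `M`. -/
theorem two_dichotomy (hG : Cfsg.IsMinSimpleOddOrder G) {W₁ W₂ : Subgroup G}
    (hW : Cfsg.IsSelfNormalizingCyclic W₁ W₂)
    {η : (↥(W₁ ⊔ W₂) →* ℂˣ) → (G → ℂ)} (hη : Cfsg.IsCyclicTIFamily W₁ W₂ η)
    (hηc : ∀ ω, η ω⁻¹ = Cfsg.conjFun (η ω))
    {L M : Subgroup G} (hL : IsCoatom L) (hI : OfTypeI L) (hF : IsFrobF L) (hM : IsCoatom M)
    (hJ : OfTypeI M) (hK : IsFrobF M)
    {I : Finset (↥L → ℂ)} {φ : ↥L → ℂ} {w : (↥L → ℂ) → ℕ} {x : (↥L → ℂ) → (G → ℂ)}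
    (d : FrobData L I φ w x) {J : Finset (↥M → ℂ)} {ψ : ↥M → ℂ} {v : (↥M → ℂ) → ℕ}
    {y : (↥M → ℂ) → (G → ℂ)} (d' : FrobData M J ψ v y)
    (hcop : (Nat.card W₁ * Nat.card W₂).Coprime (Nat.card (Cfsg.fittingHallOf L)))
    (hcop' : (Nat.card W₁ * Nat.card W₂).Coprime (Nat.card (Cfsg.fittingHallOf M)))
    (hne : ∀ g : G, M.map (MulAut.conj g).toMonoidHom ≠ L) :
    (Nat.card (Cfsg.fittingHallOf M) - 1 ≤
        (Cfsg.fittingHall ↥M).index * ((Cfsg.fittingHall ↥L).index - 1)) ∨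
      (Nat.card (Cfsg.fittingHallOf L) - 1 ≤
          (Cfsg.fittingHall ↥L).index * ((Cfsg.fittingHall ↥M).index - 1) ∧
        ∃ a : ℤ, a ≠ 0 ∧
          ∀ χ ∈ I, Cfsg.classInner (tau M (bridgeI M ψ)) (x χ) = ((w χ * a : ℤ) : ℂ)) := by
  haveI := finite_linChar hW
  haveI := Fintype.ofFinite (↥(W₁ ⊔ W₂) →* ℂˣ)
  obtain ⟨horth, a, b, hab, ha, hb⟩ := two_typeI hG hL hI hF hM hJ hK d d' hne
  have key : ∀ {A B : Subgroup G}, IsCoatom A → OfTypeI A → IsFrobF A → IsCoatom B → OfTypeI B →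
      IsFrobF B → ∀ {P : Finset (↥A → ℂ)} {σ : ↥A → ℂ} {m : (↥A → ℂ) → ℕ}
      {z : (↥A → ℂ) → (G → ℂ)} {P' : Finset (↥B → ℂ)} {σ' : ↥B → ℂ} {m' : (↥B → ℂ) → ℕ}
      {z' : (↥B → ℂ) → (G → ℂ)}, FrobData A P σ m z → FrobData B P' σ' m' z' →
      (Nat.card W₁ * Nat.card W₂).Coprime (Nat.card (Cfsg.fittingHallOf A)) →
      (Nat.card W₁ * Nat.card W₂).Coprime (Nat.card (Cfsg.fittingHallOf B)) →
      (∀ χ ∈ P, ∀ χ' ∈ P', Cfsg.classInner (z χ) (z' χ') = 0) → ∀ c : ℤ, c ≠ 0 →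
      (∀ χ' ∈ P', Cfsg.classInner (tau A (bridgeI A σ)) (z' χ') = ((m' χ' * c : ℤ) : ℂ)) →
      Nat.card (Cfsg.fittingHallOf B) - 1 ≤
        (Cfsg.fittingHall ↥B).index * ((Cfsg.fittingHall ↥A).index - 1) := by
    intro A B hA hAI hAF hB hBI hBF P σ m z P' σ' m' z' dA dB cA cB ho c hc hcoef
    have hB' := betaI_bessel hG hA hAI hAF dA hW (by rwa [card_W_mul hW]) hη hηc (xFam z' P')
      (fun i j => by convert xFam_orth dB i j)
      (fun χ ω => by
        show Cfsg.classInner (η ω) (z' χ) = 0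
        rw [classInner_conj_symm, x_eta_orth hG hB hBI hBF dB hW (by rwa [card_W_mul hW]) hη hηc
          χ.2 ω, map_zero])
      (fun χ' χ hχ => ho χ hχ χ' χ'.2) (V := 0) (Q := 0)
      (by rw [classInner_zero_left', Complex.ofReal_zero]) (fun _ => classInner_zero_left' _)
      (fun _ _ => classInner_zero_left' _) (fun _ => classInner_zero_left' _)
    have b1 := family_sum_ge_one hη (betaI_props hG hA hAI hAF dA).2.2.1
    have b2 := xFam_sum_ge dB hc hcoef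
    rw [div_zero, add_zero] at hB'
    refine nat_le_of_frac Nat.card_pos (Nat.pos_of_ne_zero Subgroup.index_ne_zero_of_finite) ?_
    rw [Nat.cast_sub (Nat.pos_of_ne_zero Subgroup.index_ne_zero_of_finite), Nat.cast_one]
    linarith
  by_cases hb0 : b = 0
  · have ha0 : a ≠ 0 := fun e => by simp [e, hb0] at hab
    refine Or.inr ⟨key hM hJ hK hL hI hF d' d hcop' hcop (fun χ hχ χ' hχ' => ?_) a ha0 ha, a, ha0, ha⟩
    rw [classInner_conj_symm, horth χ' hχ' χ hχ, map_zero]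
  · exact Or.inl (key hL hI hF hM hJ hK d d' hcop hcop' horth b hb0 hb)

end CfsgLib.PF.Sec14
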