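import Cfsg.Agent.Lib.PF.Sec14Frob
import Cfsg.Agent.Lib.PF.SubcoherentP
import Cfsg.Agent.Lib.PF.Props12

/-!
# Peterfalvi §14: common tools for the pair and the subgroups over `N(U)`, `N(V)`

The parity of the coefficients of two bridges, the orders of the elements in the support of the Dade
map of a Frobenius subgroup of Type I, and the orthogonality of its characters to the cyclic family.
-/

set_option autoImplicit false
set_option linter.unusedSectionVars false
set_option linter.style.haveILetI false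

namespace CfsgLib.PF.Sec14

open scoped Classical ComplexConjugate
open Finset CfsgLib.Characters CfsgLib.OddChar

universe u

variable {G : Type u} [Group G] [Fintype G]

/-- The data of the bridges `τ(Ind_{PW₁}^S 1 - μ ω)` of one side of a pair, `ω` running through the
non-trivial linear characters of `W` trivial on `W₁`; `u` is the order of `U`. -/
structure BridgeData (W₁ W₂ : Subgroup G) (η : (↥(W₁ ⊔ W₂) →* ℂˣ) → (G → ℂ)) (u : ℕ)
    (β : (↥(W₁ ⊔ W₂) →* ℂˣ) → (G → ℂ)) : Prop where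
  gen : ∀ ω, TrivL ω → ω ≠ 1 → Cfsg.IsGeneralizedCharacter G (β ω)
  one_inner : ∀ ω, TrivL ω → ω ≠ 1 → Cfsg.classInner (β ω) (fun _ => 1) = 1
  norm : ∀ ω, TrivL ω → ω ≠ 1 →
    (Nat.card W₁ : ℂ) * Cfsg.classInner (β ω) (β ω) = (u : ℂ) + 2 * (Nat.card W₁ : ℂ) - 1
  conjugate : ∀ ω, TrivL ω → ω ≠ 1 → Cfsg.conjFun (β ω) = β ω + η ω - η ω⁻¹
  diff : ∀ ω ω', TrivL ω → ω ≠ 1 → TrivL ω' → ω' ≠ 1 → β ω - β ω' = η ω' - η ω
  off : ∀ ω, TrivL ω → ω ≠ 1 → ∀ g, β ω g ≠ 0 →
    Nat.card W₂ ∣ orderOf g ∧ orderOf g ∣ Nat.card W₁ * Nat.card W₂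

/-- An integral inner product is symmetric. -/
theorem inner_symm_int {f g : G → ℂ} {n : ℤ} (h : Cfsg.classInner f g = n) :
    Cfsg.classInner g f = n := by
  rw [classInner_conj_symm, h, map_intCast]

/-- The parity of the coefficients of two orthogonal bridges at each other's characters. -/
theorem parity (hodd : Odd (Nat.card G)) {β γ σ ρ : G → ℂ}
    (hβ : Cfsg.IsGeneralizedCharacter G β) (hγ : Cfsg.IsGeneralizedCharacter G γ)
    (hσ : IsSigned σ) (hρ : IsSigned ρ)
    (hβ1 : Cfsg.classInner β (fun _ => 1) = 1) (hγ1 : Cfsg.classInner γ (fun _ => 1) = 1)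
    (hσ1 : Cfsg.classInner σ (fun _ => 1) = 0) (hρ1 : Cfsg.classInner ρ (fun _ => 1) = 0)
    (hσρ : Cfsg.classInner σ ρ = 0)
    (hβc : Cfsg.conjFun β = β + σ - Cfsg.conjFun σ) (hγc : Cfsg.conjFun γ = γ + ρ - Cfsg.conjFun ρ)
    (h0 : Cfsg.classInner β γ = 0) {k a : ℤ} (hk : Cfsg.classInner β ρ = k)
    (ha : Cfsg.classInner γ σ = a) : Odd (k + a) := by
  have hgen : ∀ {f τ : G → ℂ}, Cfsg.IsGeneralizedCharacter G f → IsSigned τ →
      Cfsg.IsGeneralizedCharacter G (f - (fun _ => 1) + τ) := fun hf hτ =>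
    isGeneralizedCharacter_add
      (isGeneralizedCharacter_sub hf (isGeneralizedCharacter_irr ⟨_, isIrrCharacter_one⟩))
      hτ.generalized
  have hreal : ∀ {f τ : G → ℂ}, Cfsg.conjFun f = f + τ - Cfsg.conjFun τ →
      Cfsg.conjFun (f - (fun _ => 1) + τ) = f - (fun _ => 1) + τ := fun {f τ} hc => by
    funext g
    have := congrFun hc g
    simp only [Cfsg.conjFun, Pi.add_apply, Pi.sub_apply, map_add, map_sub, map_one] at this ⊢
    rw [this]
    ring
  have h11 : Cfsg.classInner (fun _ : G => (1 : ℂ)) (fun _ => 1) = 1 :=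
    classInner_irr_self isIrrCharacter_one
  obtain ⟨n, hn⟩ := even_inner hodd (hgen hβ hσ) (hgen hγ hρ) (hreal hβc) (hreal hγc) (by
    rw [classInner_add_left, classInner_sub_left, hβ1, h11, hσ1]; ring)
  have e1 : Cfsg.classInner (fun _ : G => (1 : ℂ)) γ = 1 := by
    rw [classInner_conj_symm, hγ1, map_one]
  have e2 : Cfsg.classInner (fun _ : G => (1 : ℂ)) ρ = 0 := by
    rw [classInner_conj_symm, hρ1, map_zero]
  simp only [classInner_add_left, classInner_sub_left, classInner_add_right, classInner_sub_right,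
    h0, hβ1, h11, hk, e1, e2, inner_symm_int ha, hσ1, hσρ] at hn
  refine ⟨n, ?_⟩
  have h2 : ((k + a : ℤ) : ℂ) = ((2 * n + 1 : ℤ) : ℂ) := by
    push_cast
    linear_combination hn
  exact_mod_cast h2

section Frob

variable (hG : Cfsg.IsMinSimpleOddOrder G) {L : Subgroup G} (hL : IsCoatom L) (hI : OfTypeI L)
  (hF : IsFrobF L)

include hG hL hI hF

omit hG hL hI hF in
theorem coprime_index (L : Subgroup G) :
    (Nat.card (Cfsg.fittingHallOf L)).Coprime (Cfsg.fittingHall ↥L).index := by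
  rw [CfsgLib.OddOrder.card_fittingHallOf]
  exact CfsgLib.OddOrder.fittingHall_coprime_index

/-- An element of the support has order not prime to the order of the kernel. -/
theorem not_coprime_of_mem_supp {g : G} (hg : g ∈ supp L) :
    ¬ (orderOf g).Coprime (Nat.card (Cfsg.fittingHallOf L)) := by
  have hD := frob_dade hG hL hI hF
  obtain ⟨a, ha, v, hv, x, e⟩ := hg
  have haL : a ∈ L := hD.subset ha
  obtain ⟨haH, ha1⟩ := (mem_suppA0 hI hF ⟨a, haL⟩).mp ha
  have hc : Commute a v := dade_commute hD ha hv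
  have hcop : (orderOf a).Coprime (orderOf v) :=
    (((hD.coprime a ha a ha).symm.coprime_dvd_left (dade_orderOf_dvd hD ha))).coprime_dvd_right
      (Subgroup.orderOf_dvd_natCard _ hv)
  have hord : orderOf g = orderOf (a * v) := by
    rw [← e]
    exact (orderOf_injective (MulAut.conj x).toMonoidHom (MulAut.conj x).injective g).symm
  intro h
  rw [hord, hc.orderOf_mul_eq_mul_orderOf_of_coprime hcop] at h
  have hmem : a ∈ Cfsg.fittingHallOf L := ⟨⟨a, haL⟩, haH, rfl⟩
  have h1 := Nat.Coprime.eq_one_of_dvd (Nat.Coprime.coprime_mul_right h)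
    (Subgroup.orderOf_dvd_natCard _ hmem)
  exact ha1 (Subtype.ext (orderOf_eq_one_iff.mp h1))

theorem not_mem_supp {g : G} {n : ℕ} (hn : n.Coprime (Nat.card (Cfsg.fittingHallOf L)))
    (hg : orderOf g ∣ n) : g ∉ supp L := fun h =>
  not_coprime_of_mem_supp hG hL hI hF h (hn.coprime_dvd_left hg)

theorem one_not_mem_supp : (1 : G) ∉ supp L :=
  not_mem_supp hG hL hI hF (Nat.coprime_one_left _) (by rw [orderOf_one])

/-- The size of the support. -/
theorem card_supp : Nat.card L * (univ.filter (· ∈ supp L) : Finset G).card =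
    Nat.card G * (Nat.card (Cfsg.fittingHallOf L) - 1) := by
  haveI : Fintype L := Fintype.ofFinite _
  have hD := frob_dade hG hL hI hF
  have h := dade_sum hD (k := ℂ) (fun _ : G => (1 : ℂ)) (fun _ _ => rfl)
  have h2 : ∀ a : G, ((Nat.card (Cfsg.supportR L a) : ℂ))⁻¹ *
      ∑ u ∈ univ.filter (· ∈ Cfsg.supportR L a), (1 : ℂ) = 1 := fun a => by
    rw [Finset.sum_const, nsmul_one, ← Fintype.card_subtype, ← Nat.card_eq_fintype_card]
    exact inv_mul_cancel₀ (Nat.cast_ne_zero.mpr Nat.card_pos.ne')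
  rw [Finset.sum_congr rfl fun a _ => h2 a, Finset.sum_const, Finset.sum_const, nsmul_one,
    nsmul_one] at h
  have hA : (univ.filter (· ∈ suppA0 L) : Finset G) =
      (univ.filter (· ∈ Cfsg.fittingHallOf L) : Finset G).erase 1 := by
    ext g
    simp only [mem_filter, mem_univ, true_and, Finset.mem_erase]
    constructor
    · intro hg
      obtain ⟨h1, h2⟩ := (mem_suppA0 hI hF ⟨g, hD.subset hg⟩).mp hg
      exact ⟨fun e => h2 (Subtype.ext e), ⟨⟨g, hD.subset hg⟩, h1, rfl⟩⟩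
    · rintro ⟨h1, ⟨a, ha, rfl⟩⟩
      exact (mem_suppA0 hI hF a).mpr ⟨ha, fun e => h1 (by rw [e]; rfl)⟩
  have hAc : (univ.filter (· ∈ suppA0 L) : Finset G).card =
      Nat.card (Cfsg.fittingHallOf L) - 1 := by
    rw [hA, Finset.card_erase_of_mem (by simp [Subgroup.one_mem]), Nat.card_eq_fintype_card,
      Fintype.card_subtype]
  rw [hAc] at h
  exact_mod_cast h

variable {I : Finset (↥L → ℂ)} {φ : ↥L → ℂ} {w : (↥L → ℂ) → ℕ} {x : (↥L → ℂ) → (G → ℂ)}
  (d : FrobData L I φ w x)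

include d

theorem tau_pair {χ : ↥L → ℂ} (hχ : χ ∈ I) :
    tau L (χ - Cfsg.conjFun χ) = x χ - x (Cfsg.conjFun χ) := by
  have h1 := d.tau_diff χ hχ
  have h2 := d.tau_diff _ (d.conj_mem χ hχ)
  rw [d.w_conj χ hχ] at h2
  have e : χ - Cfsg.conjFun χ = (χ - (w χ : ℂ) • φ) +
      (-1 : ℤ) • (Cfsg.conjFun χ - (w χ : ℂ) • φ) := by
    rw [neg_one_zsmul]
    abel
  show Cfsg.dadeIsometry _ _ _ _ = _
  rw [e, dadeIsometry_add, dadeIsometry_zsmul, neg_one_zsmul]
  change tau L _ + -tau L _ = _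
  rw [h1, h2]
  abel

theorem x_conj_orth {χ : ↥L → ℂ} (hχ : χ ∈ I) :
    Cfsg.classInner (x χ) (Cfsg.conjFun (x χ)) = 0 := by
  rw [← d.x_conj χ hχ]
  exact d.x_orth χ hχ _ (d.conj_mem χ hχ) (d.conj_ne χ hχ).symm

/-- A signed character whose antisymmetrisation vanishes where `θ` lives is orthogonal to `θ`, once
`θ` is orthogonal to one of the pair. -/
theorem x_eta_orth {W₁ W₂ : Subgroup G} (hW : Cfsg.IsSelfNormalizingCyclic W₁ W₂)
    (hcop : (Nat.card ↥(W₁ ⊔ W₂)).Coprime (Nat.card (Cfsg.fittingHallOf L)))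
    {η : (↥(W₁ ⊔ W₂) →* ℂˣ) → (G → ℂ)} (hη : Cfsg.IsCyclicTIFamily W₁ W₂ η)
    (hηc : ∀ ω, η ω⁻¹ = Cfsg.conjFun (η ω)) {χ : ↥L → ℂ} (hχ : χ ∈ I)
    (ω : ↥(W₁ ⊔ W₂) →* ℂˣ) : Cfsg.classInner (x χ) (η ω) = 0 := by
  haveI : Fintype L := Fintype.ofFinite _
  set θ := x χ - Cfsg.conjFun (x χ) with hθ
  have hs := d.x_signed χ hχ
  have hsc : IsSigned (Cfsg.conjFun (x χ)) := CfsgLib.PF.conjFun_signed hs
  have ho := x_conj_orth hG hL hI hF d hχ
  have ho' : Cfsg.classInner (Cfsg.conjFun (x χ)) (x χ) = 0 := by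
    rw [classInner_conj_symm, ho, map_zero]
  have h0 := CfsgLib.PF.family_orth hW (hG.1.of_dvd_nat (Subgroup.card_subgroup_dvd_card _)) hη hηc
    (θ := θ) (isGeneralizedCharacter_sub hs.generalized hsc.generalized)
    (by
      rw [hθ, classInner_sub_left, classInner_sub_right, classInner_sub_right, hs.norm_one,
        hsc.norm_one, ho, ho']
      norm_num)
    (by funext g; simp [hθ, Cfsg.conjFun])
    (fun z _ _ => by
      rw [hθ, ← d.x_conj χ hχ, ← tau_pair hG hL hI hF d hχ]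
      exact tau_eq_zero (not_mem_supp hG hL hI hF hcop
        (Subgroup.orderOf_dvd_natCard _ z.2))) ω
  rcases hs.cases (hη.irr_or_neg ω : IsSigned (η ω)) with e | e | e
  · rw [hθ, classInner_sub_left, e] at h0
    rw [e] at ho'
    rw [ho', sub_zero, (show IsSigned (η ω) from hη.irr_or_neg ω).norm_one] at h0
    exact absurd h0 one_ne_zero
  · rw [hθ, classInner_sub_left] at h0
    have e' : η ω = -x χ := by rw [e, neg_neg]
    rw [e', classInner_neg_right, classInner_neg_right, hs.norm_one, ho', neg_zero, sub_zero] at h0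
    exact absurd h0 (by norm_num)
  · exact e

end Frob

end CfsgLib.PF.Sec14
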