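import Cfsg.Agent.Lib.PF.Sec14Pair
import Cfsg.Agent.Lib.PF.TIDataExists
import Cfsg.Agent.Lib.PF.Sec13RegTools
import Cfsg.Agent.Lib.PF.Sec13Facts
import Cfsg.Agent.Lib.PF.Sec10Count
import Cfsg.Agent.Lib.PF.CoherentMu
import Cfsg.Agent.Lib.PF.Props9

/-!
# Peterfalvi §14: one side of a pair

Here `S` is either member of a pair, `P = S_F`, `q = |W₁|`, `p = |W₂|`, `u = |U|`: the group facts, the
characters `μ ω` of the non-trivial columns (degree `u`, vanishing on `S' - P`) and the Dade map of the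
trivial intersection set `A₀(S)`.
-/

set_option autoImplicit false
set_option linter.unusedSectionVars false
set_option linter.style.haveILetI false

namespace CfsgLib.PF.Sec14

open scoped Classical ComplexConjugate
open Finset CfsgLib.Characters CfsgLib.OddChar CfsgLib.Clifford CfsgLib.OddOrder
open scoped Pointwise

universe u

variable {G : Type u} [Group G] [Fintype G]

/-- The hypotheses on one side of a pair. -/
structure SideCtx (S W₁ U W₂ : Subgroup G) : Prop where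
  max : IsCoatom S
  data : Cfsg.IsTypePWith S W₁ U W₂
  kind : Kind2 S W₁ U W₂ ∨ Kind34 S W₁ U W₂
  q_prime : (Nat.card W₁).Prime
  p_prime : (Nat.card W₂).Prime
  ne : Nat.card W₁ ≠ Nat.card W₂
  P_elem : Cfsg.IsElementaryAbelian (Nat.card W₂) (Cfsg.fittingHallOf S)
  P_card : Nat.card (Cfsg.fittingHallOf S) = Nat.card W₂ ^ Nat.card W₁
  U_fpf : ∀ w ∈ W₁, w ≠ 1 → ∀ u ∈ U, w * u = u * w → u = 1
  reg : U ⊓ Subgroup.centralizer (Cfsg.fittingHallOf S : Set G) = ⊥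
  TI : Cfsg.IsTISubset (suppA0 S)
  N_A0 : Subgroup.normalizer (suppA0 S) = S
  coherent : Cfsg.IsCoherent (calS S (Cfsg.fittingHallOf S) ⊥) ({1}ᶜ : Set ↥S) (tau S)

theorem sideCtx (hP : PropPairFacts G) (hR : PropRegFcore G) {S T W₁ W₂ U V : Subgroup G}
    (h : TypePPair S T W₁ W₂ U V) : SideCtx S W₁ U W₂ := by
  obtain ⟨hq, hp, hne, hk, -, hab, hcard, hfpf, hTI, hN, hcoh⟩ := hP S T W₁ W₂ U V h
  exact ⟨h.left_max, h.left, hk.imp_right And.left, hq, hp, hne, hab, hcard, hfpf,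
    hR S T W₁ W₂ U V h, hTI, hN, hcoh⟩

/-- `Ind_{PW₁}^S 1 - μ ω`. -/
noncomputable def bridgeP (S W₁ : Subgroup G) {W₂ : Subgroup G}
    (μ : (↥(W₁ ⊔ W₂) →* ℂˣ) → (↥S → ℂ)) (ω : ↥(W₁ ⊔ W₂) →* ℂˣ) : ↥S → ℂ :=
  Cfsg.indFun ((Cfsg.fittingHallOf S ⊔ W₁).subgroupOf S) (fun _ => (1 : ℂ)) - μ ω

namespace SideCtx

variable {S W₁ U W₂ : Subgroup G} (hG : Cfsg.IsMinSimpleOddOrder G) (C : SideCtx S W₁ U W₂)

section Group

include C

theorem notI (hG : Cfsg.IsMinSimpleOddOrder G) : ¬ OfTypeI S :=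
  (propTypes hG S C.max).2 W₁ U W₂ C.data

theorem P_le : Cfsg.fittingHallOf S ≤ ⁅S, S⁆ := C.data.U_compl.1

theorem der_le : ⁅S, S⁆ ≤ S := C.data.W₁_compl.1

theorem U_le : U ≤ S := C.data.U_compl.2.1.trans C.der_le

theorem W₁_le : W₁ ≤ S := C.data.W₁_compl.2.1

theorem W₂_le : W₂ ≤ Cfsg.fittingHallOf S := C.data.W₂_le.trans inf_le_left

theorem S_norm : S ≤ Subgroup.normalizer (Cfsg.fittingHallOf S : Set G) :=
  (Subgroup.normal_subgroupOf_iff_le_normalizer (C.P_le.trans C.der_le)).mp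
    (by rw [CfsgLib.OddOrder.fittingHallOf_subgroupOf]; infer_instance)

theorem P_normal : ((Cfsg.fittingHallOf S).subgroupOf S).Normal := by
  rw [CfsgLib.OddOrder.fittingHallOf_subgroupOf]
  infer_instance

theorem P_comm {a b : G} (ha : a ∈ Cfsg.fittingHallOf S) (hb : b ∈ Cfsg.fittingHallOf S) :
    a * b = b * a :=
  congrArg Subtype.val (C.P_elem.1.1.1 (⟨a, ha⟩ : Cfsg.fittingHallOf S) ⟨b, hb⟩)

theorem P_order {a : G} (ha : a ∈ Cfsg.fittingHallOf S) (h1 : a ≠ 1) : orderOf a = Nat.card W₂ := by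
  refine (Nat.dvd_prime C.p_prime).mp (orderOf_dvd_of_pow_eq_one ?_) |>.resolve_left
    fun h => h1 (orderOf_eq_one_iff.mp h)
  exact C.P_elem.2 a ha

theorem q_three (hG : Cfsg.IsMinSimpleOddOrder G) : 3 ≤ Nat.card W₁ :=
  (three_le_card C.data.selfNormalizing (odd_W hG C.data)).1

theorem index_derived : ((⁅S, S⁆ : Subgroup G).subgroupOf S).index = Nat.card W₁ :=
  IsComplIn.relIndex_left C.data.W₁_compl

theorem card_derived : Nat.card ↥⁅S, S⁆ = Nat.card (Cfsg.fittingHallOf S) * Nat.card U :=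
  by rw [← card_mul_relIndex_of_le C.P_le, IsComplIn.relIndex_left C.data.U_compl]

theorem card_eq : Nat.card S =
    Nat.card (Cfsg.fittingHallOf S) * Nat.card U * Nat.card W₁ := by
  rw [← CfsgLib.PF.Sec13.card_derived_mul C.data, C.card_derived]

theorem U_ne : U ≠ ⊥ := by
  rcases C.kind with k | k <;> exact k.U_ne

theorem u_one_lt : 1 < Nat.card U := (Subgroup.one_lt_card_iff_ne_bot U).mpr C.U_ne

theorem u_mod : Nat.card U % Nat.card W₁ = 1 := by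
  have h := dvd_card_sub_one_of_fpf C.data.U_normal C.U_fpf
  obtain ⟨c, hc⟩ := h
  have := C.u_one_lt
  rw [show Nat.card U = Nat.card W₁ * c + 1 by omega, Nat.mul_add_mod,
    Nat.mod_eq_of_lt C.q_prime.one_lt]

/-- The elements of `PW₁`. -/
theorem mem_B {y : G} : y ∈ Cfsg.fittingHallOf S ⊔ W₁ ↔
    ∃ a ∈ Cfsg.fittingHallOf S, ∃ w ∈ W₁, y = a * w := by
  have h : ((Cfsg.fittingHallOf S ⊔ W₁ : Subgroup G) : Set G) =
      (Cfsg.fittingHallOf S : Set G) * (W₁ : Set G) :=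
    Subgroup.coe_mul_of_right_le_normalizer_left _ _ (C.W₁_le.trans C.S_norm)
  rw [← SetLike.mem_coe, h, Set.mem_mul]
  exact ⟨fun ⟨a, ha, w, hw, e⟩ => ⟨a, ha, w, hw, e.symm⟩, fun ⟨a, ha, w, hw, e⟩ => ⟨a, ha, w, hw, e.symm⟩⟩

theorem B_inter {y : G} (hy : y ∈ Cfsg.fittingHallOf S ⊔ W₁) (hd : y ∈ ⁅S, S⁆) :
    y ∈ Cfsg.fittingHallOf S := by
  obtain ⟨a, ha, w, hw, rfl⟩ := C.mem_B.mp hy
  have h1 : w ∈ ⁅S, S⁆ := by
    have := mul_mem (inv_mem (C.P_le ha)) hd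
    rwa [inv_mul_cancel_left] at this
  rw [Subgroup.mem_bot.mp (C.data.W₁_compl.2.2.1.le ⟨h1, hw⟩), mul_one]
  exact ha

theorem B_le : Cfsg.fittingHallOf S ⊔ W₁ ≤ S := sup_le (C.P_le.trans C.der_le) C.W₁_le

theorem card_B : Nat.card ↥(Cfsg.fittingHallOf S ⊔ W₁) =
    Nat.card (Cfsg.fittingHallOf S) * Nat.card W₁ := by
  rw [← Nat.card_prod]
  refine (Nat.card_congr (Equiv.ofBijective (fun x : Cfsg.fittingHallOf S × W₁ =>
    (⟨(x.1 : G) * x.2, C.mem_B.mpr ⟨x.1, x.1.2, x.2, x.2.2, rfl⟩⟩ :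
      ↥(Cfsg.fittingHallOf S ⊔ W₁))) ⟨?_, ?_⟩)).symm
  · rintro ⟨a, w⟩ ⟨a', w'⟩ e
    have e' : (a : G) * w = a' * w' := congrArg Subtype.val e
    have h1 : (a' : G)⁻¹ * a = w' * (w : G)⁻¹ := by
      rw [eq_mul_inv_iff_mul_eq, mul_assoc, e', inv_mul_cancel_left]
    have h2 : (w' : G) * (w : G)⁻¹ = 1 := Subgroup.mem_bot.mp (C.data.W₁_compl.2.2.1.le
      ⟨h1 ▸ C.P_le ((Cfsg.fittingHallOf S).mul_mem ((Cfsg.fittingHallOf S).inv_mem a'.2) a.2),
        W₁.mul_mem w'.2 (W₁.inv_mem w.2)⟩)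
    have hw : w' = w := Subtype.ext (mul_inv_eq_one.mp h2)
    subst hw
    exact Prod.ext (Subtype.ext (mul_right_cancel e')) rfl
  · rintro ⟨y, hy⟩
    obtain ⟨a, ha, w, hw, rfl⟩ := C.mem_B.mp hy
    exact ⟨(⟨a, ha⟩, ⟨w, hw⟩), rfl⟩

/-- Outside `S'` the conjugates of the elements of `W - W₂`, which lie in `PW₁`. -/
theorem exists_conj_W (y : S) (hy : (y : G) ∉ (⁅S, S⁆ : Subgroup G)) :
    ∃ k z : S, (z : G) ∈ W₁ ⊔ W₂ ∧ (z : G) ∉ W₂ ∧ y = k * z * k⁻¹ ∧
      ∃ c ∈ W₂, ∃ w ∈ W₁, w ≠ 1 ∧ (z : G) = c * w := by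
  obtain ⟨k, z, hz, hz2, e⟩ := TILocal.exists_conj_off (typeP_TPL C.data) (g := y)
    (by rwa [Subgroup.mem_subgroupOf])
  rw [← Subgroup.subgroupOf_sup C.W₁_le (C.W₂_le.trans (C.P_le.trans C.der_le)),
    Subgroup.mem_subgroupOf] at hz
  have hz2' : (z : G) ∉ W₂ := hz2
  obtain ⟨hcyc1, hcyc2, -, hcomm, -, -⟩ := id C.data.selfNormalizing
  have hn : W₁ ≤ Subgroup.normalizer (W₂ : Set G) := fun w hw => by
    refine Subgroup.centralizer_le_normalizer _ (Subgroup.mem_centralizer_iff.mpr fun c hc => ?_)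
    exact (hcomm w hw c hc).symm
  have hset : ((W₂ ⊔ W₁ : Subgroup G) : Set G) = (W₂ : Set G) * (W₁ : Set G) :=
    Subgroup.coe_mul_of_right_le_normalizer_left _ _ hn
  have hz' : (z : G) ∈ (W₂ : Set G) * (W₁ : Set G) := by
    rw [← hset, SetLike.mem_coe, sup_comm]; exact hz
  obtain ⟨c, hc, w, hw, ecw⟩ := Set.mem_mul.mp hz'
  refine ⟨k, z, hz, hz2', e, c, hc, w, hw, fun h1 => hz2' ?_, ecw.symm⟩
  rw [← ecw, h1, mul_one]
  exact hc

/-- The centraliser of an element of `A₀(S)` lies in `S`. -/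
theorem centralizer_le {a : G} (ha : a ∈ suppA0 S) (ha1 : a ≠ 1) :
    Subgroup.centralizer ({a} : Set G) ≤ S := by
  intro c hc
  by_contra hcS
  refine ha1 (C.TI c (C.N_A0.symm ▸ hcS) a ha ?_)
  rwa [Subgroup.mem_centralizer_singleton_iff.mp hc, mul_inv_cancel_right]

theorem supportR_bot {a : G} (ha : a ∈ suppA0 S) (ha1 : a ≠ 1) : Cfsg.supportR S a = ⊥ := by
  rw [Cfsg.supportR, dif_neg fun h => h.1 (C.centralizer_le ha ha1)]

end Group

section Dade

include hG C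

theorem dadeS : Cfsg.DadeHypothesis (suppA0 S) S (Cfsg.supportR S) :=
  (propDade hG S _ C.max (Or.inr (Or.inr rfl))).2

theorem one_not_mem : (1 : G) ∉ suppA0 S := (C.dadeS hG).one_not_mem

theorem supportR_bot' {a : G} (ha : a ∈ suppA0 S) : Cfsg.supportR S a = ⊥ :=
  C.supportR_bot ha fun e => C.one_not_mem hG (e ▸ ha)

/-- A Dade image of `S` lives on the conjugates of the support. -/
theorem tau_off {α : ↥S → ℂ} (hα : Cfsg.IsClassFunction ↥S α) {g : G} (hg : tau S α g ≠ 0) :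
    ∃ s : S, (s : G) ∈ suppA0 S ∧ α s ≠ 0 ∧ ∃ y : G, g = y * (s : G) * y⁻¹ := by
  by_cases hs : g ∈ supp S
  swap
  · exact absurd (tau_eq_zero hs) hg
  obtain ⟨a, ha, v, hv, y, e⟩ := hs
  have hD := C.dadeS hG
  rw [C.supportR_bot' hG ha, Subgroup.mem_bot] at hv
  refine ⟨⟨a, hD.subset ha⟩, ha, fun h0 => hg ?_, y⁻¹, ?_⟩
  · rw [tau, dadeIsometry_apply hD hα (a := ⟨a, hD.subset ha⟩) (u := v) (x := y) ha
      (by rw [hv]; exact Subgroup.one_mem _) e]
    exact h0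
  · rw [hv, mul_one] at e
    calc g = y⁻¹ * (y * g * y⁻¹) * y := by group
      _ = _ := by rw [e]; group

/-- Frobenius reciprocity for the Dade map of a trivial intersection set. -/
theorem tau_adjoint {α : ↥S → ℂ} (hα : Cfsg.IsClassFunction ↥S α)
    (hA : ∀ x : S, (x : G) ∉ suppA0 S → α x = 0) {χ : G → ℂ} (hχ : Cfsg.IsClassFunction G χ) :
    Cfsg.classInner (tau S α) χ = Cfsg.classInner α (fun x : S => χ x) := by
  refine dade_adjoint (C.dadeS hG) hα hA hχ fun a ha => ?_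
  rw [C.supportR_bot' hG ha, Subgroup.card_bot, Nat.cast_one, inv_one, one_mul]
  rw [finsum_mem_eq_finite_toFinset_sum _ (Set.toFinite _)]
  rw [show (Set.toFinite ((⊥ : Subgroup G) : Set G)).toFinset = {1} from by ext; simp]
  simp

end Dade

section Chars

variable {μ : (↥(W₁ ⊔ W₂) →* ℂˣ) → (↥S → ℂ)} {δ : (↥(W₁ ⊔ W₂) →* ℂˣ) → ℂ}
  {η : (↥(W₁ ⊔ W₂) →* ℂˣ) → (G → ℂ)} (hd : TIData S W₁ W₂ μ δ η)

include C hd

theorem exists_P_ne {ω : ↥(W₁ ⊔ W₂) →* ℂˣ} (hω : ¬ AgreeR W₁ W₂ ω 1) :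
    ∃ a : S, (a : G) ∈ Cfsg.fittingHallOf S ∧ μ ω a ≠ μ ω 1 := by
  by_contra hall
  push Not at hall
  refine hω fun z hz => ?_
  have d := C.data
  obtain ⟨w, hw, hw1⟩ := (Subgroup.bot_or_exists_ne_one W₁).resolve_left d.W₁_ne
  have hzS : (z : G) ∈ S := (typeP_le d).2.2.2.2 z.2
  have hwS : w ∈ S := C.W₁_le hw
  set wW : ↥(W₁ ⊔ W₂) := ⟨w, Subgroup.mem_sup_left hw⟩
  have hw2 : w ∉ W₂ := fun h => hw1 (Subgroup.mem_bot.mp (d.selfNormalizing.2.2.1.le ⟨hw, h⟩))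
  have e := char_translate (isCharacter_of_irr (hd.μ_irr ω))
    (w := (⟨z, hzS⟩ : S)) (hall ⟨z, hzS⟩ (C.W₂_le hz)) ⟨w, hwS⟩
  rw [hd.μ_value ω ⟨w, hwS⟩ (show w ∈ W₁ ⊔ W₂ from Subgroup.mem_sup_left hw) hw2,
    hd.μ_value ω (⟨w, hwS⟩ * ⟨z, hzS⟩) (show w * (z : G) ∈ W₁ ⊔ W₂ from mul_mem wW.2 z.2)
      (fun h : w * (z : G) ∈ W₂ => hw2 (by simpa using mul_mem h (inv_mem hz)))] at e
  have h0 : δ ω ≠ 0 := by rcases hd.δ_sign ω with r | r <;> rw [r] <;> norm_num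
  have e' := Units.ext (mul_left_cancel₀ h0 e)
  change ω (wW * z) = ω wW at e'
  rw [map_mul, mul_eq_left] at e'
  exact e'

/-- Over the cosets of `P` the members of a non-trivial column sum to zero. -/
theorem sum_P {ω : ↥(W₁ ⊔ W₂) →* ℂˣ} (hω : ¬ AgreeR W₁ W₂ ω 1) (x : S) :
    ∑ y : (Cfsg.fittingHallOf S).subgroupOf S, μ ω ((y : S) * x) = 0 := by
  set N := (Cfsg.fittingHallOf S).subgroupOf S
  haveI : N.Normal := C.P_normal
  obtain ⟨a, ha, hne⟩ := C.exists_P_ne hd hω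
  rcases CfsgLib.NormalAvg.avgN_irr N (hd.μ_irr ω) with e | e
  · refine absurd ?_ hne
    have := CfsgLib.NormalAvg.avgN_mul_left N (μ ω) ⟨a, ha⟩ 1
    rwa [e, mul_one] at this
  · have := congrFun e x
    rw [CfsgLib.NormalAvg.avgN, Pi.zero_apply] at this
    exact (mul_eq_zero.mp this).resolve_left (inv_ne_zero (Nat.cast_ne_zero.mpr Nat.card_pos.ne'))

theorem red_mem {ω : ↥(W₁ ⊔ W₂) →* ℂˣ} (hω : ¬ AgreeR W₁ W₂ ω 1) :
    red S μ ω ∈ calS S (Cfsg.fittingHallOf S) ⊥ := by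
  set K := (⁅S, S⁆ : Subgroup G).subgroupOf S with hK
  obtain ⟨a, ha, hne⟩ := C.exists_P_ne hd hω
  have haK : a ∈ K := C.P_le ha
  have h1 : resD S (μ ω) ≠ fun _ => 1 := fun e => hne (by
    have e1 := congrFun e ⟨a, haK⟩
    have e2 := congrFun e 1
    simp only [resD] at e1 e2
    rw [e1, ← e2]; rfl)
  refine ⟨⟨resD S (μ ω), hd.res_irr ω, h1, fun x hx => ?_, rfl⟩, ?_⟩
  · have : x = 1 := Subtype.ext (Subgroup.mem_bot.mp (by simpa using hx))
    rw [this]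
  rintro ⟨θ, hθ, -, hker, e⟩
  obtain ⟨g, hg⟩ := conjChar_of_indFun_eq (inferInstance : K.Normal) hθ (hd.res_irr ω) e.symm
  refine hne ?_
  have haP : g⁻¹ * a * g ∈ (Cfsg.fittingHallOf S).subgroupOf S := C.P_normal.conj_mem' a ha g
  have e1 := congrFun hg (⟨g⁻¹ * a * g, C.P_le haP⟩ : K)
  have e2 := congrFun hg 1
  rw [conjChar_apply_one] at e2
  rw [hker _ haP, ← e2] at e1
  simpa [conjChar, resD, mul_assoc] using e1

theorem red_one (ω : ↥(W₁ ⊔ W₂) →* ℂˣ) : red S μ ω 1 = (Nat.card W₁ : ℂ) * μ ω 1 := by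
  rw [red, CfsgLib.Induction.indFun_one_apply, C.index_derived]; rfl

theorem red_norm (ω : ↥(W₁ ⊔ W₂) →* ℂˣ) :
    Cfsg.classInner (red S μ ω) (red S μ ω) = (Nat.card W₁ : ℂ) := by
  rw [hd.classInner_red_red C.data.selfNormalizing, if_pos (AgreeR.refl ω)]

theorem not_irr_red (ω : ↥(W₁ ⊔ W₂) →* ℂˣ) : ¬ Cfsg.IsIrrCharacter ↥S (red S μ ω) := fun h => by
  have e := classInner_irr_self h
  rw [C.red_norm hd] at e
  exact C.q_prime.ne_one (by exact_mod_cast e)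

theorem coreFactor (hCF : PropCoreFactor G) :
    CoreFactor S W₁ U W₂ ⊥ ⊥ (Nat.card W₂) := by
  obtain ⟨H₀, C₀, p, hcf⟩ := hCF S W₁ U W₂ C.max C.kind
  have h1 : p ∣ Nat.card W₂ := hcf.W₂_rel ▸ Subgroup.relIndex_dvd_card H₀ W₂
  have h2 : p = Nat.card W₂ := (Nat.prime_dvd_prime_iff_eq hcf.prime C.p_prime).mp h1
  have h3 := card_mul_relIndex_of_le hcf.lt.le
  rw [hcf.card, C.P_card, h2] at h3
  have hH : H₀ = ⊥ := Subgroup.card_eq_one.mp (Nat.mul_right_cancel (pow_pos C.p_prime.pos _)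
    (h3.trans (one_mul _).symm))
  subst hH h2
  have hC0 : C₀ = ⊥ := by
    rw [eq_bot_iff, ← C.reg]
    intro x hx
    obtain ⟨hxU, hx'⟩ := (hcf.mem_C x).mp hx
    refine ⟨hxU, Subgroup.mem_centralizer_iff.mpr fun y hy => ?_⟩
    have := Subgroup.mem_bot.mp (hx' y hy)
    rw [mul_inv_eq_one, mul_inv_eq_iff_eq_mul] at this
    exact this.symm
  subst hC0
  exact hcf

theorem μ_one (hCF : PropCoreFactor G) (hRed : PropReducible G) {ω : ↥(W₁ ⊔ W₂) →* ℂˣ}
    (hω : ¬ AgreeR W₁ W₂ ω 1) : μ ω 1 = (Nat.card U : ℂ) := by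
  have h2 := ((hRed S W₁ U W₂ ⊥ ⊥ _ C.max C.kind (C.coreFactor hd hCF)).2 _ (C.red_mem hd hω)
    (C.not_irr_red hd ω)).2.1
  rw [C.red_one hd, Subgroup.relIndex_bot_left, Nat.cast_mul] at h2
  exact mul_left_cancel₀ (Nat.cast_ne_zero.mpr C.q_prime.ne_zero) h2

theorem δ_one (hG : Cfsg.IsMinSimpleOddOrder G) (hCF : PropCoreFactor G) (hRed : PropReducible G)
    {ω : ↥(W₁ ⊔ W₂) →* ℂˣ} (hω : ¬ AgreeR W₁ W₂ ω 1) : δ ω = 1 := by
  rcases hd.δ_sign ω with e | e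
  · exact e
  exfalso
  obtain ⟨n, hn⟩ := hd.degree ω
  rw [e, C.μ_one hd hCF hRed hω] at hn
  have hn' : (Nat.card U : ℤ) + 1 = n * Nat.card W₁ := by
    have : ((Nat.card U : ℤ) : ℂ) + 1 = ((n * Nat.card W₁ : ℤ) : ℂ) := by
      push_cast; linear_combination hn
    exact_mod_cast this
  have h1 : (Nat.card W₁ : ℤ) ∣ (Nat.card U : ℤ) - 1 := by
    have := Nat.modEq_iff_dvd.mp (show 1 ≡ Nat.card U [MOD Nat.card W₁] by
      unfold Nat.ModEq; rw [C.u_mod, Nat.mod_eq_of_lt C.q_prime.one_lt])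
    simpa using this
  have h2 : (Nat.card W₁ : ℤ) ∣ 2 := by
    have := dvd_sub (Dvd.intro_left n hn'.symm) h1
    simpa using this
  have h3 := Nat.le_of_dvd (by norm_num) (Int.natCast_dvd_natCast.mp h2 : Nat.card W₁ ∣ 2)
  have := C.q_three hG
  omega

theorem μ_vanish (hCF : PropCoreFactor G) (hRed : PropReducible G) {ω : ↥(W₁ ⊔ W₂) →* ℂˣ}
    (hω : ¬ AgreeR W₁ W₂ ω 1) {x : S} (hxd : (x : G) ∈ (⁅S, S⁆ : Subgroup G))
    (hxP : (x : G) ∉ Cfsg.fittingHallOf S) : μ ω x = 0 := by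
  set K := (⁅S, S⁆ : Subgroup G).subgroupOf S
  have h := Sec13.vanish_of_degree_eq_index (hd.res_irr ω)
    (((Cfsg.fittingHallOf S).subgroupOf S).subgroupOf K)
    (fun a ha b hb => Subtype.ext (Subtype.ext (C.P_comm ha hb))) ?_
    (x := ⟨x, hxd⟩) hxP
  · exact h
  · have hidx : (((Cfsg.fittingHallOf S).subgroupOf S).subgroupOf K).index = Nat.card U := by
      show ((Cfsg.fittingHallOf S).subgroupOf S).relIndex K = _
      rw [Subgroup.relIndex_subgroupOf C.der_le]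
      have h1 := card_mul_relIndex_of_le C.P_le
      rw [C.card_derived] at h1
      exact Nat.eq_of_mul_eq_mul_left Nat.card_pos h1
    rw [hidx, ← C.μ_one hd hCF hRed hω]
    rfl

end Chars

section Bridge

include C

/-- The values of `Ind_{PW₁}^S 1`. -/
theorem ind_B (y : S) :
    Cfsg.indFun ((Cfsg.fittingHallOf S ⊔ W₁).subgroupOf S) (fun _ => (1 : ℂ)) y =
      if (y : G) ∈ Cfsg.fittingHallOf S then (Nat.card U : ℂ)
      else if (y : G) ∈ (⁅S, S⁆ : Subgroup G) then 0 else 1 := by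
  set B := (Cfsg.fittingHallOf S ⊔ W₁).subgroupOf S with hB
  have hcount : Cfsg.indFun B (fun _ => (1 : ℂ)) y =
      (Nat.card B : ℂ)⁻¹ * ((univ.filter fun x : S => x⁻¹ * y * x ∈ B).card : ℂ) := by
    rw [CfsgLib.Induction.indFun_apply, Finset.card_filter, Nat.cast_sum]
    congr 1
    refine Finset.sum_congr rfl fun x _ => ?_
    split_ifs with h
    · rw [CfsgLib.Induction.extendByZero_mem _ _ h]; simp
    · rw [CfsgLib.Induction.extendByZero_notMem _ _ h]; simp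
  have hBc : Nat.card B = Nat.card (Cfsg.fittingHallOf S) * Nat.card W₁ := by
    rw [← C.card_B]
    exact Nat.card_congr (Subgroup.subgroupOfEquivOfLe C.B_le).toEquiv
  have hder : ∀ {z : S}, (z : G) ∈ (⁅S, S⁆ : Subgroup G) → ∀ x : S,
      ((x⁻¹ * z * x : S) : G) ∈ (⁅S, S⁆ : Subgroup G) := fun {z} hz x => by
    have := (derived_subgroupOf_normal S).conj_mem' z (by rwa [Subgroup.mem_subgroupOf]) x
    rwa [Subgroup.mem_subgroupOf] at this
  rw [hcount]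
  split_ifs with hP hd
  · have hall : ∀ x : S, x⁻¹ * y * x ∈ B := fun x => by
      have := C.P_normal.conj_mem' y (by rwa [Subgroup.mem_subgroupOf]) x
      rw [Subgroup.mem_subgroupOf] at this
      rw [hB, Subgroup.mem_subgroupOf]
      exact Subgroup.mem_sup_left this
    rw [Finset.filter_true_of_mem fun x _ => hall x, Finset.card_univ, ← Nat.card_eq_fintype_card,
      hBc, C.card_eq, inv_mul_eq_iff_eq_mul₀ (by
        exact_mod_cast (Nat.mul_ne_zero Nat.card_pos.ne' Nat.card_pos.ne'))]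
    push_cast
    ring
  · rw [Finset.filter_false_of_mem, Finset.card_empty, Nat.cast_zero, mul_zero]
    intro x _ hx
    rw [hB, Subgroup.mem_subgroupOf] at hx
    have h1 := C.B_inter hx (hder hd x)
    refine hP ?_
    have h2 := C.P_normal.conj_mem _ (show x⁻¹ * y * x ∈ (Cfsg.fittingHallOf S).subgroupOf S by
      rwa [Subgroup.mem_subgroupOf]) x
    rw [show x * (x⁻¹ * y * x) * x⁻¹ = y by group, Subgroup.mem_subgroupOf] at h2
    exact h2
  · obtain ⟨k, z, -, -, e, c, hc, w, hw, hw1, ez⟩ := C.exists_conj_W y hd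
    -- the conjugators form the coset `k B`
    have hset : (univ.filter fun x : S => x⁻¹ * y * x ∈ B) =
        (univ.filter fun x : S => k⁻¹ * x ∈ B) := by
      refine Finset.filter_congr fun x _ => ?_
      set s := k⁻¹ * x with hs
      have e' : x⁻¹ * y * x = s⁻¹ * z * s := by rw [hs, e]; group
      rw [e']
      constructor
      · intro h
        rw [hB, Subgroup.mem_subgroupOf] at h ⊢
        -- decompose `s = a · b · v` with `a ∈ P`, `b ∈ U`, `v ∈ W₁`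
        obtain ⟨m, hm, v, hv, esm⟩ := C.data.W₁_compl.2.2.2 (s : G) s.2
        obtain ⟨a, ha, b, hb, emb⟩ := C.data.U_compl.2.2.2 m hm
        have hzB : (c * w : G) ∈ Cfsg.fittingHallOf S ⊔ W₁ :=
          mul_mem (Subgroup.mem_sup_left (C.W₂_le hc)) (Subgroup.mem_sup_right hw)
        have haB : a ∈ Cfsg.fittingHallOf S ⊔ W₁ := Subgroup.mem_sup_left ha
        have hvB : v ∈ Cfsg.fittingHallOf S ⊔ W₁ := Subgroup.mem_sup_right hv
        have hsG : (s : G) = a * b * v := by rw [esm, emb]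
        have h' : b⁻¹ * (a⁻¹ * (c * w) * a) * b ∈ Cfsg.fittingHallOf S ⊔ W₁ := by
          have h0 : ((s⁻¹ * z * s : S) : G) ∈ Cfsg.fittingHallOf S ⊔ W₁ := h
          simp only [Subgroup.coe_mul, InvMemClass.coe_inv, hsG, ez] at h0
          have := mul_mem (mul_mem hvB h0) (inv_mem hvB)
          rwa [show v * ((a * b * v)⁻¹ * (c * w) * (a * b * v)) * v⁻¹ =
            b⁻¹ * (a⁻¹ * (c * w) * a) * b by group] at this
        obtain ⟨a', ha', w', hw', ea⟩ :=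
          C.mem_B.mp (mul_mem (mul_mem (inv_mem haB) hzB) haB)
        have hw'eq : w' = w := by
          have h1 : a'⁻¹ * (a⁻¹ * (c * w) * a) = w' := by rw [ea]; group
          have hPd := C.P_le
          have h3 : w' * w⁻¹ ∈ (⁅S, S⁆ : Subgroup G) := by
            rw [← h1, show a'⁻¹ * (a⁻¹ * (c * w) * a) * w⁻¹ =
              a'⁻¹ * a⁻¹ * c * (w * a * w⁻¹) by group]
            exact mul_mem (mul_mem (mul_mem (inv_mem (hPd ha')) (inv_mem (hPd ha)))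
              (hPd (C.W₂_le hc))) (hPd ((Subgroup.mem_normalizer_iff.mp
                (C.S_norm (C.W₁_le hw)) a).mp ha))
          exact mul_inv_eq_one.mp (Subgroup.mem_bot.mp
            (C.data.W₁_compl.2.2.1.le ⟨h3, W₁.mul_mem hw' (W₁.inv_mem hw)⟩))
        have hbS : b ∈ S := C.U_le hb
        have hPb : b⁻¹ * a' * b ∈ Cfsg.fittingHallOf S := by
          have := (Subgroup.mem_normalizer_iff.mp (C.S_norm (inv_mem hbS)) a').mp ha'
          rwa [inv_inv] at this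
        set t := b⁻¹ * (w * b * w⁻¹) with ht
        have htU : t ∈ U := U.mul_mem (U.inv_mem hb)
          ((Subgroup.mem_normalizer_iff.mp (C.data.U_normal hw) b).mp hb)
        have htB : t ∈ Cfsg.fittingHallOf S ⊔ W₁ := by
          have h4 : t = (b⁻¹ * a' * b)⁻¹ * (b⁻¹ * (a' * w) * b) * w⁻¹ := by rw [ht]; group
          rw [h4]
          refine mul_mem (mul_mem (inv_mem (Subgroup.mem_sup_left hPb)) ?_)
            (inv_mem (Subgroup.mem_sup_right hw))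
          rwa [← hw'eq, ← ea]
        have ht1 : t = 1 := Subgroup.mem_bot.mp (C.data.U_compl.2.2.1.le
          ⟨C.B_inter htB (C.data.U_compl.2.1 htU), htU⟩)
        have hb1 : b = 1 := C.U_fpf w hw hw1 b hb (by
          rw [ht, inv_mul_eq_one, eq_mul_inv_iff_mul_eq] at ht1
          exact ht1.symm)
        rw [hsG, hb1, mul_one]
        exact mul_mem haB hvB
      · intro h
        refine mul_mem (mul_mem (inv_mem h) ?_) h
        rw [hB, Subgroup.mem_subgroupOf, ez]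
        exact mul_mem (Subgroup.mem_sup_left (C.W₂_le hc)) (Subgroup.mem_sup_right hw)
    have hcard : (univ.filter fun x : S => k⁻¹ * x ∈ B).card = Nat.card B := by
      rw [Nat.card_eq_fintype_card, Fintype.card_subtype]
      refine Finset.card_bij (fun x _ => k⁻¹ * x) (fun x hx => by simpa using hx)
        (fun _ _ _ _ e => mul_left_cancel e) fun b hb => ⟨k * b, by simpa using hb, by simp⟩
    rw [hset, hcard, inv_mul_cancel₀ (Nat.cast_ne_zero.mpr Nat.card_pos.ne')]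

end Bridge

section BridgeImage

include hG C

theorem mem_suppA0_P {y : G} (hy : y ∈ Cfsg.fittingHallOf S) (hy1 : y ≠ 1) : y ∈ suppA0 S := by
  refine Or.inl ?_
  rw [suppA_eq_centSupp (propTypes hG) C.max C.data]
  refine ⟨C.P_le hy, hy1, y, ?_, hy1, rfl⟩
  unfold Cfsg.typeCore
  split_ifs
  · exact C.P_le hy
  · exact hy

variable {μ : (↥(W₁ ⊔ W₂) →* ℂˣ) → (↥S → ℂ)} {δ : (↥(W₁ ⊔ W₂) →* ℂˣ) → ℂ}
  {η : (↥(W₁ ⊔ W₂) →* ℂˣ) → (G → ℂ)} (hd : TIData S W₁ W₂ μ δ η) (hCF : PropCoreFactor G)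
  (hRed : PropReducible G)

include hd hCF hRed

omit hG hd hCF hRed in
theorem not_agreeR {ω : ↥(W₁ ⊔ W₂) →* ℂˣ} (hω : TrivL ω) (hω1 : ω ≠ 1) : ¬ AgreeR W₁ W₂ ω 1 :=
  fun h => hω1 (trivL_ext C.data.selfNormalizing.2.2.1 C.data.selfNormalizing.2.2.2.1 hω
    (fun _ _ => rfl) (MonoidHom.ext fun b => h (ctiR W₁ W₂ b) b.2))

omit hG hCF hRed in
theorem inv_cases {ω : ↥(W₁ ⊔ W₂) →* ℂˣ} (hω : TrivL ω) (hω1 : ω ≠ 1) :
    TrivL ω⁻¹ ∧ ω⁻¹ ≠ 1 :=
  ⟨fun w hw => by rw [MonoidHom.inv_apply, hω w hw, inv_one],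
    fun h => hω1 (by rw [← CfsgLib.PF.linInv ω, h, CfsgLib.PF.linInv_one])⟩

theorem bridge_off {ω : ↥(W₁ ⊔ W₂) →* ℂˣ} (hω : TrivL ω) (hω1 : ω ≠ 1) {y : S}
    (hy : bridgeP S W₁ μ ω y ≠ 0) :
    (y : G) ∈ suppA0 S ∧ Nat.card W₂ ∣ orderOf (y : G) ∧
      orderOf (y : G) ∣ Nat.card W₁ * Nat.card W₂ := by
  have hna := C.not_agreeR hω hω1
  rw [bridgeP, Pi.sub_apply, C.ind_B] at hy
  by_cases hyP : (y : G) ∈ Cfsg.fittingHallOf S
  · rw [if_pos hyP] at hy
    have hy1 : (y : G) ≠ 1 := fun e => hy (by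
      rw [show y = 1 from Subtype.ext e, C.μ_one hd hCF hRed hna, sub_self])
    rw [C.P_order hyP hy1]
    exact ⟨C.mem_suppA0_P hG hyP hy1, dvd_rfl, dvd_mul_left _ _⟩
  rw [if_neg hyP] at hy
  by_cases hyd : (y : G) ∈ (⁅S, S⁆ : Subgroup G)
  · rw [if_pos hyd, C.μ_vanish hd hCF hRed hna hyd hyP, sub_self] at hy
    exact absurd rfl hy
  rw [if_neg hyd] at hy
  obtain ⟨k, z, hz, hz2, e, c, hc, w, hw, hw1, ez⟩ := C.exists_conj_W y hyd
  have hμ : μ ω y = (ω ⟨z, hz⟩ : ℂ) := by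
    rw [e, isClassFunction_of_isCharacter (isCharacter_of_irr (hd.μ_irr ω)) z k,
      hd.μ_value ω z hz hz2, C.δ_one hd hG hCF hRed hna, one_mul]
  rw [hμ] at hy
  have hz1 : (z : G) ∉ W₁ := fun h => hy (by rw [hω ⟨z, hz⟩ h, Units.val_one, sub_self])
  have hyz : (y : G) = (k : G) * (z : G) * (k : G)⁻¹ := by rw [e]; rfl
  have hord : orderOf (y : G) = orderOf (z : G) := by
    rw [hyz]
    exact orderOf_injective (MulAut.conj (k : G)).toMonoidHom (MulAut.conj (k : G)).injective _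
  rw [hord, hyz]
  refine ⟨hat_mem_suppA0 (propTypes hG) C.max C.data hz hz1 hz2 k.2, ?_, ?_⟩
  · have hc1 : c ≠ 1 := fun h => hz1 (by rw [ez, h, one_mul]; exact hw)
    have hcm : Commute c w := (C.data.selfNormalizing.2.2.2.1 w hw c hc).symm
    have hoc : orderOf c = Nat.card W₂ := C.P_order (C.W₂_le hc) hc1
    have how : orderOf w = Nat.card W₁ :=
      ((Nat.dvd_prime C.q_prime).mp (Subgroup.orderOf_dvd_natCard _ hw)).resolve_left
        fun h => hw1 (orderOf_eq_one_iff.mp h)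
    rw [ez, hcm.orderOf_mul_eq_mul_orderOf_of_coprime
      (by rw [hoc, how]; exact (Nat.coprime_primes C.p_prime C.q_prime).mpr (Ne.symm C.ne)), hoc]
    exact dvd_mul_right _ _
  · rw [← Nat.card_prod, Nat.card_congr (Equiv.ofBijective _
      (ctiMul_bijective C.data.selfNormalizing.2.2.1 C.data.selfNormalizing.2.2.2.1))]
    exact Subgroup.orderOf_dvd_natCard _ hz

theorem bridge_supp {ω : ↥(W₁ ⊔ W₂) →* ℂˣ} (hω : TrivL ω) (hω1 : ω ≠ 1) (y : S)
    (hy : (y : G) ∉ suppA0 S) : bridgeP S W₁ μ ω y = 0 := by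
  by_contra h
  exact hy (C.bridge_off hG hd hCF hRed hω hω1 h).1

omit hG hCF hRed in
theorem bridge_generalized (ω : ↥(W₁ ⊔ W₂) →* ℂˣ) :
    Cfsg.IsGeneralizedCharacter ↥S (bridgeP S W₁ μ ω) :=
  isGeneralizedCharacter_sub
    (isGeneralizedCharacter_of_isCharacter
      (CfsgLib.Induction.isCharacter_indFun _ (isCharacter_of_irr isIrrCharacter_one)))
    (isGeneralizedCharacter_irr ⟨μ ω, hd.μ_irr ω⟩)

omit hG hCF hRed in
theorem ind_B_μ {ω : ↥(W₁ ⊔ W₂) →* ℂˣ} (hω : TrivL ω) (hω1 : ω ≠ 1) :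
    Cfsg.classInner (Cfsg.indFun ((Cfsg.fittingHallOf S ⊔ W₁).subgroupOf S) (fun _ => (1 : ℂ)))
      (μ ω) = 0 := by
  set B := (Cfsg.fittingHallOf S ⊔ W₁).subgroupOf S with hB
  haveI : Fintype B := Fintype.ofFinite _
  rw [CfsgLib.Induction.classInner_indFun _ _
    (isClassFunction_of_isCharacter (isCharacter_of_irr (hd.μ_irr ω))), Cfsg.classInner]
  refine mul_eq_zero_of_right _ ?_
  simp only [one_mul]
  rw [← map_sum, map_eq_zero]
  set P := (Cfsg.fittingHallOf S).subgroupOf S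
  have hPB : P ≤ B := fun a ha => by
    rw [Subgroup.mem_subgroupOf] at ha
    rw [hB, Subgroup.mem_subgroupOf]
    exact Subgroup.mem_sup_left ha
  have h1 : ∀ n : P, ∑ b : B, μ ω ((n : S) * b) = ∑ b : B, μ ω b := fun n =>
    Fintype.sum_equiv (Equiv.mulLeft ⟨n, hPB n.2⟩) _ _ fun b => rfl
  have h2 : ∑ n : P, ∑ b : B, μ ω ((n : S) * b) = 0 := by
    rw [Finset.sum_comm]
    exact Finset.sum_eq_zero fun b _ => C.sum_P hd (C.not_agreeR hω hω1) (b : S)
  rw [Finset.sum_congr rfl fun n _ => h1 n, Finset.sum_const, nsmul_eq_mul] at h2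
  exact (mul_eq_zero.mp h2).resolve_left (Nat.cast_ne_zero.mpr (Finset.card_ne_zero.mpr ⟨1, mem_univ _⟩))

omit hG hCF hRed in
theorem bridge_norm {ω : ↥(W₁ ⊔ W₂) →* ℂˣ} (hω : TrivL ω) (hω1 : ω ≠ 1) :
    (Nat.card W₁ : ℂ) * Cfsg.classInner (bridgeP S W₁ μ ω) (bridgeP S W₁ μ ω) =
      (Nat.card U : ℂ) + 2 * (Nat.card W₁ : ℂ) - 1 ∧
    Cfsg.classInner (bridgeP S W₁ μ ω) (fun _ => 1) = 1 := by
  set B := (Cfsg.fittingHallOf S ⊔ W₁).subgroupOf S with hB
  haveI : Fintype B := Fintype.ofFinite _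
  set J := Cfsg.indFun B (fun _ => (1 : ℂ)) with hJ
  have hμ1 : Cfsg.classInner (μ ω) (fun _ => 1) = 0 := by
    rw [← hd.μ_one]
    exact classInner_irr_ne (hd.μ_irr ω) (hd.μ_irr 1) fun e => hω1 (hd.μ_inj e)
  have hJ1 : Cfsg.classInner J (fun _ => 1) = 1 := by
    rw [hJ, CfsgLib.Induction.classInner_indFun _ _ (fun _ _ => rfl)]
    exact classInner_irr_self isIrrCharacter_one
  have hJμ := C.ind_B_μ hd hω hω1
  have hμJ : Cfsg.classInner (μ ω) J = 0 := by rw [classInner_conj_symm, hJμ, map_zero]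
  have hBc : Nat.card B = Nat.card (Cfsg.fittingHallOf S) * Nat.card W₁ := by
    rw [← C.card_B]
    exact Nat.card_congr (Subgroup.subgroupOfEquivOfLe C.B_le).toEquiv
  have hv : ∀ b : B, J (b : S) = if ((b : S) : G) ∈ Cfsg.fittingHallOf S then (Nat.card U : ℂ) else 1 := by
    intro b
    rw [show J (b : S) = Cfsg.indFun ((Cfsg.fittingHallOf S ⊔ W₁).subgroupOf S) (fun _ => (1 : ℂ)) (b : S) from rfl,
      C.ind_B]
    split_ifs with h1 h2
    · rfl
    · exact absurd (C.B_inter (Subgroup.mem_subgroupOf.mp b.2) h2) h1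
    · rfl
  have hJJ : (Nat.card W₁ : ℂ) * Cfsg.classInner J J = (Nat.card U : ℂ) + Nat.card W₁ - 1 := by
    rw [hJ, CfsgLib.Induction.classInner_indFun _ _ (CfsgLib.Induction.isClassFunction_indFun _ _),
      Cfsg.classInner]
    have hc : ∀ b : B, (1 : ℂ) * conj (J (b : S)) = J (b : S) := fun b => by
      rw [one_mul, hv]; split_ifs <;> simp
    have hPc : (univ.filter fun b : B => ((b : S) : G) ∈ Cfsg.fittingHallOf S).card =
        Nat.card (Cfsg.fittingHallOf S) := by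
      rw [Nat.card_eq_fintype_card (α := Cfsg.fittingHallOf S), Fintype.card_subtype]
      refine Finset.card_bij (fun b _ => ((b : S) : G)) (fun b hb => by simpa using hb)
        (fun _ _ _ _ e => Subtype.ext (Subtype.ext e)) fun a ha => ?_
      rw [mem_filter] at ha
      exact ⟨⟨⟨a, C.der_le (C.P_le ha.2)⟩, Subgroup.mem_subgroupOf.mpr (Subgroup.mem_sup_left ha.2)⟩,
        by simpa using ha.2, rfl⟩
    have hsum : ∑ b : B, J (b : S) = (Nat.card (Cfsg.fittingHallOf S) : ℂ) * Nat.card U +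
        ((Nat.card B : ℂ) - Nat.card (Cfsg.fittingHallOf S)) := by
      rw [Finset.sum_congr rfl fun b _ => hv b, Finset.sum_ite, Finset.sum_const, Finset.sum_const,
        nsmul_eq_mul, nsmul_one, hPc]
      have h3 := Finset.card_filter_add_card_filter_not (s := (univ : Finset B))
        (fun b : B => ((b : S) : G) ∈ Cfsg.fittingHallOf S)
      rw [Finset.card_univ, ← Nat.card_eq_fintype_card, hPc] at h3
      rw [← h3]
      push_cast
      ring
    rw [← hJ, Finset.sum_congr rfl fun b _ => hc b, hsum, hBc]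
    have : (Nat.card (Cfsg.fittingHallOf S) : ℂ) ≠ 0 := Nat.cast_ne_zero.mpr Nat.card_pos.ne'
    have : (Nat.card W₁ : ℂ) ≠ 0 := Nat.cast_ne_zero.mpr Nat.card_pos.ne'
    push_cast
    field_simp
    ring
  refine ⟨?_, ?_⟩
  · rw [bridgeP, classInner_sub_left, classInner_sub_right, classInner_sub_right, ← hJ, hJμ, hμJ,
      classInner_irr_self (hd.μ_irr ω), sub_zero, zero_sub, sub_neg_eq_add, mul_add, hJJ]
    ring
  · rw [bridgeP, classInner_sub_left, ← hJ, hJ1, hμ1, sub_zero]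

omit C hd hCF hRed in
theorem tau_sub (α β : ↥S → ℂ) : tau S (α - β) = tau S α - tau S β := by
  rw [eq_sub_iff_add_eq]
  show Cfsg.dadeIsometry _ _ _ _ + Cfsg.dadeIsometry _ _ _ _ = Cfsg.dadeIsometry _ _ _ _
  rw [← dadeIsometry_add, sub_add_cancel]

omit hG hCF hRed in
theorem η_agree {ω ω' : ↥(W₁ ⊔ W₂) →* ℂˣ} (hω : TrivL ω) (hω' : TrivL ω') : AgreeL W₁ W₂ ω ω' :=
  fun w hw => by rw [hω w hw, hω' w hw]

theorem tau_μ {ω ω' : ↥(W₁ ⊔ W₂) →* ℂˣ} (hω : TrivL ω) (hω1 : ω ≠ 1) (hω' : TrivL ω')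
    (hω'1 : ω' ≠ 1) : tau S (μ ω - μ ω') = η ω - η ω' := by
  have h1 := C.not_agreeR hω hω1
  have h2 := C.not_agreeR hω' hω'1
  rw [(hd.tau_row ω ω' (C.η_agree hd hω hω') h1 h2
    (by rw [C.μ_one hd hCF hRed h1, C.μ_one hd hCF hRed h2])).2, C.δ_one hd hG hCF hRed h1, one_smul]

/-- The bridges of the side. -/
theorem bridgeData :
    BridgeData W₁ W₂ η (Nat.card U) (fun ω => tau S (bridgeP S W₁ μ ω)) := by
  have hD := C.dadeS hG
  have hsupp := fun ω (hω : TrivL ω) (hω1 : ω ≠ 1) => C.bridge_supp hG hd hCF hRed hω hω1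
  have hcl := fun ω => isClassFunction_of_isGeneralizedCharacter (C.bridge_generalized hd ω)
  refine ⟨fun ω hω hω1 => dade_virtual hD (C.bridge_generalized hd ω) (hsupp ω hω hω1),
    fun ω hω hω1 => ?_, fun ω hω hω1 => ?_, fun ω hω hω1 => ?_, fun ω ω' hω hω1 hω' hω'1 => ?_,
    fun ω hω hω1 g hg => ?_⟩
  · show Cfsg.classInner (tau S _) _ = 1
    rw [C.tau_adjoint hG (hcl ω) (hsupp ω hω hω1) (fun _ _ => rfl)]
    exact (C.bridge_norm hd hω hω1).2
  · show _ * Cfsg.classInner (tau S _) (tau S _) = _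
    rw [show Cfsg.classInner (tau S (bridgeP S W₁ μ ω)) (tau S (bridgeP S W₁ μ ω)) =
      Cfsg.classInner (bridgeP S W₁ μ ω) (bridgeP S W₁ μ ω) from
        dade_isometry hD (hcl ω) (hsupp ω hω hω1) (hcl ω)]
    exact (C.bridge_norm hd hω hω1).1
  · obtain ⟨hi, hi1⟩ := C.inv_cases hd hω hω1
    have e : Cfsg.conjFun (bridgeP S W₁ μ ω) = bridgeP S W₁ μ ω + (μ ω - μ ω⁻¹) := by
      funext y
      show conj (bridgeP S W₁ μ ω y) = _
      rw [bridgeP, Pi.sub_apply, map_sub, show conj (μ ω y) = μ ω⁻¹ y by rw [hd.μ_conj]; rfl]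
      simp only [Pi.add_apply, Pi.sub_apply, C.ind_B]
      split_ifs <;> simp <;> ring
    show Cfsg.conjFun (Cfsg.dadeIsometry _ _ _ _) = _
    rw [← Sec12.dade_conjFun, e, dadeIsometry_add]
    show tau S _ + tau S (μ ω - μ ω⁻¹) = _
    rw [C.tau_μ hG hd hCF hRed hω hω1 hi hi1, add_sub_assoc]
  · show tau S _ - tau S _ = _
    rw [← tau_sub hG, ← C.tau_μ hG hd hCF hRed hω' hω'1 hω hω1]
    congr 1
    simp only [bridgeP]
    abel
  · obtain ⟨s, -, hs, y, rfl⟩ := C.tau_off hG (hcl ω) hg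
    have h := (C.bridge_off hG hd hCF hRed hω hω1 hs).2
    have hord : orderOf (y * (s : G) * y⁻¹) = orderOf (s : G) :=
      orderOf_injective (MulAut.conj y).toMonoidHom (MulAut.conj y).injective _
    rwa [hord]

end BridgeImage

end SideCtx

end CfsgLib.PF.Sec14
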