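import Cfsg.Agent.Lib.PF.Sec14TypeIII

/-!
# Peterfalvi §14: two Frobenius subgroups of Type I that are not conjugate
-/

set_option autoImplicit false
set_option linter.unusedSectionVars false

namespace CfsgLib.PF.Sec14

open scoped Classical ComplexConjugate
open Finset CfsgLib.Characters CfsgLib.OddChar

universe u

variable {G : Type u} [Group G] [Fintype G]

/-- The kernels of conjugate subgroups are conjugate. -/
theorem conj_kernel {L M : Subgroup G} (g : G) (h : M.map (MulAut.conj g).toMonoidHom = L) :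
    (Cfsg.fittingHallOf M).map (MulAut.conj g).toMonoidHom = Cfsg.fittingHallOf L :=
  h ▸ (CfsgLib.OddOrder42.fittingHallOf_cj g M).symm

/-- The supports of two Frobenius subgroups of Type I that are not conjugate are disjoint. -/
theorem supp_disjoint (hG : Cfsg.IsMinSimpleOddOrder G) {L M : Subgroup G} (hL : IsCoatom L)
    (hI : OfTypeI L) (hF : IsFrobF L) (hM : IsCoatom M) (hJ : OfTypeI M) (hK : IsFrobF M)
    (hne : ∀ g : G, M.map (MulAut.conj g).toMonoidHom ≠ L) : Disjoint (supp L) (supp M) :=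
  Set.disjoint_left.mpr fun g hgL hgM =>
    (Set.eq_empty_iff_forall_notMem.mp (propSupports hG L M hL hM hne).2.2.2.2) g
      ⟨supp_subset_tilde hG hL hI hF hgL, supp_subset_tilde hG hM hJ hK hgM⟩

/-- A function vanishing on the support of `L` has coefficient `w χ` times that at `x φ` at `x χ`. -/
theorem inner_x_eq {L : Subgroup G} {I : Finset (↥L → ℂ)} {φ : ↥L → ℂ} {w : (↥L → ℂ) → ℕ}
    {x : (↥L → ℂ) → (G → ℂ)} (d : FrobData L I φ w x) {f : G → ℂ}
    (hf : ∀ g, f g = 0 ∨ g ∉ supp L) {a : ℤ} (ha : Cfsg.classInner f (x φ) = a) {χ : ↥L → ℂ}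
    (hχ : χ ∈ I) : Cfsg.classInner f (x χ) = ((w χ * a : ℤ) : ℂ) := by
  have h : Cfsg.classInner f (tau L (χ - (w χ : ℂ) • φ)) = 0 :=
    classInner_eq_zero_of_disjoint fun g => (hf g).imp_right tau_eq_zero
  rw [d.tau_diff χ hχ, classInner_sub_right, classInner_smul_right, ha, map_natCast, sub_eq_zero] at h
  rw [h]
  push_cast
  ring

/-- Two non-conjugate Frobenius subgroups of Type I: orthogonality of the characters, and parity of
the coefficients of either bridge at the characters of the other. -/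
theorem two_typeI (hG : Cfsg.IsMinSimpleOddOrder G) {L M : Subgroup G} (hL : IsCoatom L)
    (hI : OfTypeI L) (hF : IsFrobF L) (hM : IsCoatom M) (hJ : OfTypeI M) (hK : IsFrobF M)
    {I : Finset (↥L → ℂ)} {φ : ↥L → ℂ} {w : (↥L → ℂ) → ℕ} {x : (↥L → ℂ) → (G → ℂ)}
    (d : FrobData L I φ w x) {J : Finset (↥M → ℂ)} {ψ : ↥M → ℂ} {v : (↥M → ℂ) → ℕ}
    {y : (↥M → ℂ) → (G → ℂ)} (d' : FrobData M J ψ v y)
    (hne : ∀ g : G, M.map (MulAut.conj g).toMonoidHom ≠ L) :
    (∀ χ ∈ I, ∀ χ' ∈ J, Cfsg.classInner (x χ) (y χ') = 0) ∧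
      ∃ a b : ℤ, Odd (a + b) ∧
        (∀ χ ∈ I, Cfsg.classInner (tau M (bridgeI M ψ)) (x χ) = ((w χ * a : ℤ) : ℂ)) ∧
        (∀ χ' ∈ J, Cfsg.classInner (tau L (bridgeI L φ)) (y χ') = ((v χ' * b : ℤ) : ℂ)) := by
  have hdis := supp_disjoint hG hL hI hF hM hJ hK hne
  have horth : ∀ χ ∈ I, ∀ χ' ∈ J, Cfsg.classInner (x χ) (y χ') = 0 := fun χ hχ χ' hχ' => by
    refine (pair_orth (d.x_signed χ hχ) (d'.x_signed χ' hχ') (x_conj_orth hG hL hI hF d hχ) ?_).1
    rw [← d.x_conj χ hχ, ← tau_pair hG hL hI hF d hχ, ← d'.x_conj χ' hχ',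
      ← tau_pair hG hM hJ hK d' hχ']
    exact tau_inner_disjoint hdis _ _
  refine ⟨horth, ?_⟩
  obtain ⟨hgL, -, h1L, hcL⟩ := betaI_props hG hL hI hF d
  obtain ⟨hgM, -, h1M, hcM⟩ := betaI_props hG hM hJ hK d'
  rw [d.x_conj φ d.φ_mem] at hcL
  rw [d'.x_conj ψ d'.φ_mem] at hcM
  have hσ := d.x_signed φ d.φ_mem
  have hρ := d'.x_signed ψ d'.φ_mem
  obtain ⟨a, ha⟩ := classInner_generalized_int hgM hσ.generalized
  obtain ⟨b, hb⟩ := classInner_generalized_int hgL hρ.generalized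
  refine ⟨a, b, ?_, fun χ hχ => inner_x_eq d (fun g => ?_) ha hχ,
    fun χ' hχ' => inner_x_eq d' (fun g => ?_) hb hχ'⟩
  · rw [add_comm]
    exact parity hG.1 hgL hgM hσ hρ h1L h1M (d.x_one φ d.φ_mem) (d'.x_one ψ d'.φ_mem)
      (horth φ d.φ_mem ψ d'.φ_mem) hcL hcM (tau_inner_disjoint hdis _ _) hb ha
  · by_cases hg : g ∈ supp L
    · exact Or.inl (tau_eq_zero (Set.disjoint_left.mp hdis hg))
    · exact Or.inr hg
  · by_cases hg : g ∈ supp M
    · exact Or.inl (tau_eq_zero fun h => Set.disjoint_left.mp hdis h hg)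
    · exact Or.inr hg

end CfsgLib.PF.Sec14
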