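import Cfsg.Agent.Lib.PF.Sec14TypeIIIChars
import Cfsg.Agent.Lib.OddChar.CyclicUnique

/-!
# Peterfalvi (14.16): the bound when the other side has Type III

If `T` has Type III then either `|V| - 1 ≤ p (p q - 1)` or `q (|V| - 1) ≤ p (|U| - 1) + p q`, where
`p = |W₂|` and `q = |W₁|`.
-/

set_option autoImplicit false
set_option linter.unusedSectionVars false
set_option linter.style.haveILetI false

namespace CfsgLib.PF.Sec14

open scoped Classical ComplexConjugate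
open Finset CfsgLib.Characters CfsgLib.OddChar

universe u

variable {G : Type u} [Group G] [Fintype G]

section Cyclic

variable {W₁ W₂ : Subgroup G}

theorem card_W_mul (hW : Cfsg.IsSelfNormalizingCyclic W₁ W₂) :
    Nat.card ↥(W₁ ⊔ W₂) = Nat.card W₁ * Nat.card W₂ := by
  obtain ⟨-, -, hdisj, hcomm, -, -⟩ := id hW
  rw [← Nat.card_prod]
  exact (Nat.card_congr (Equiv.ofBijective _ (ctiMul_bijective hdisj hcomm))).symm

/-- An element of `W` outside `W₁` has order divisible by the prime `|W₂|`. -/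
theorem prime_dvd_orderOf_W (hW : Cfsg.IsSelfNormalizingCyclic W₁ W₂) (hp : (Nat.card W₂).Prime)
    (hne : Nat.card W₁ ≠ Nat.card W₂) (hq : (Nat.card W₁).Prime) {w : G} (hw : w ∈ W₁ ⊔ W₂)
    (hw₁ : w ∉ W₁) : Nat.card W₂ ∣ orderOf w := by
  obtain ⟨-, -, hdisj, hcomm, -, -⟩ := id hW
  by_contra hnd
  obtain ⟨⟨a, b⟩, hab⟩ := (ctiMul_bijective hdisj hcomm).surjective ⟨w, hw⟩
  have hwab : w = (a : G) * b := (congrArg Subtype.val hab).symm
  have h1 : orderOf w ∣ Nat.card W₁ := by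
    refine ((hp.coprime_iff_not_dvd.mpr hnd).symm).dvd_of_dvd_mul_right ?_
    rw [← card_W_mul hW]
    exact Subgroup.orderOf_dvd_natCard _ hw
  have h2 : (w : G) ^ Nat.card W₁ = 1 := orderOf_dvd_iff_pow_eq_one.mp h1
  rw [hwab, (show Commute (a : G) b from hcomm a a.2 b b.2).mul_pow,
    orderOf_dvd_iff_pow_eq_one.mp (Subgroup.orderOf_dvd_natCard _ a.2), one_mul] at h2
  have h3 : orderOf (b : G) = 1 := Nat.Coprime.eq_one_of_dvd
    (((Nat.coprime_primes hp hq).mpr hne.symm).coprime_dvd_left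
      (Subgroup.orderOf_dvd_natCard _ b.2)) (orderOf_dvd_of_pow_eq_one h2)
  rw [orderOf_eq_one_iff.mp h3, mul_one] at hwab
  exact hw₁ (hwab ▸ a.2)

/-- A virtual character of norm two, orthogonal to `1` and vanishing on `W - (W₁ ∪ W₂)`, is
orthogonal to the cyclic family. -/
theorem family_zero (hW : Cfsg.IsSelfNormalizingCyclic W₁ W₂) (hodd : Odd (Nat.card ↥(W₁ ⊔ W₂)))
    {η : (↥(W₁ ⊔ W₂) →* ℂˣ) → (G → ℂ)} (hη : Cfsg.IsCyclicTIFamily W₁ W₂ η) {θ : G → ℂ}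
    (hgen : Cfsg.IsGeneralizedCharacter G θ) (hnorm : Cfsg.classInner θ θ = 2)
    (h1 : Cfsg.classInner θ (fun _ => 1) = 0)
    (hoff : ∀ w : ↥(W₁ ⊔ W₂), (w : G) ∉ W₁ → (w : G) ∉ W₂ → θ w = 0)
    (ω : ↥(W₁ ⊔ W₂) →* ℂˣ) : Cfsg.classInner θ (η ω) = 0 := by
  haveI := Fintype.ofFinite ↥(W₁ ⊔ W₂)
  haveI := finite_linChar hW
  haveI := Fintype.ofFinite (↥(W₁ ⊔ W₂) →* ℂˣ)
  choose c hc using fun ω => classInner_generalized_int hgen (family_signed hη ω).generalized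
  have hc1 : Cfsg.classInner θ (η 1) = 0 := by rw [hη.map_one]; exact h1
  have hrel : ∀ φ ψ, TrivR φ → TrivL ψ →
      Cfsg.classInner θ (η (φ * ψ)) = Cfsg.classInner θ (η φ) + Cfsg.classInner θ (η ψ) := by
    intro φ ψ hφ hψ
    have h := family_coeff η hη (isClassFunction_of_isGeneralizedCharacter hgen) hφ hψ
    have hz : Cfsg.classInner (fun w : ↥(W₁ ⊔ W₂) => θ w) (ctiAlpha φ ψ) = 0 := by
      simp only [Cfsg.classInner]
      refine mul_eq_zero_of_right _ (Finset.sum_eq_zero fun w _ => ?_)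
      by_cases hw : (w : G) ∈ W₁ ∨ (w : G) ∈ W₂
      · rw [ctiAlpha_vanish hφ hψ w hw, map_zero, mul_zero]
      · rw [not_or] at hw
        rw [hoff w hw.1 hw.2, zero_mul]
    rw [hz, hc1] at h
    linear_combination h
  have hb : ∑ ω, c ω * c ω ≤ 2 := by
    have h := TILocal.family_bessel hη c hc
    rw [hnorm, show ((2 : ℂ).re) = ((2 : ℤ) : ℝ) by norm_num] at h
    exact_mod_cast h
  have hfew : (univ.filter fun ω => c ω ≠ 0).card ≤ 2 := by
    have h2 : ((univ.filter fun ω => c ω ≠ 0).card : ℤ) ≤ 2 := by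
      refine le_trans ?_ hb
      rw [Finset.card_eq_sum_ones, Nat.cast_sum]
      refine le_trans (Finset.sum_le_sum fun x hx => ?_)
        (Finset.sum_le_sum_of_subset_of_nonneg (Finset.subset_univ _) fun x _ _ => mul_self_nonneg _)
      have h3 := mul_self_pos.mpr (Finset.mem_filter.mp hx).2
      push_cast
      omega
    exact_mod_cast h2
  have hcard := three_le_card hW hodd
  let f : {φ : ↥(W₁ ⊔ W₂) →* ℂˣ // TrivR φ} → ℂ := fun i => Cfsg.classInner θ (η i.1)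
  let g : {φ : ↥(W₁ ⊔ W₂) →* ℂˣ // TrivL φ} → ℂ := fun j => Cfsg.classInner θ (η j.1)
  obtain ⟨p, hp⟩ := (pairEquiv hW).surjective ω
  rw [← hp, pairEquiv_apply, hrel _ _ p.1.2 p.2.2]
  refine sum_table_two f g ?_ ?_ ?_ p.1 p.2
  · rw [← Nat.card_eq_fintype_card, card_trivR hW]; omega
  · rw [← Nat.card_eq_fintype_card, card_trivL hW]; omega
  · refine le_trans ?_ hfew
    refine le_of_eq_of_le ?_ (Finset.card_le_card (s := (univ.filter fun q =>
      f (Prod.fst q) + g (Prod.snd q) ≠ 0).image (pairEquiv hW)) fun x hx => ?_)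
    · rw [Finset.card_image_of_injective _ (pairEquiv hW).injective]
    · obtain ⟨q, hq, rfl⟩ := Finset.mem_image.mp hx
      refine Finset.mem_filter.mpr ⟨Finset.mem_univ _, fun h0 => (Finset.mem_filter.mp hq).2 ?_⟩
      have := hrel _ _ q.1.2 q.2.2
      rw [← pairEquiv_apply hW, hc, h0, Int.cast_zero] at this
      exact this.symm

end Cyclic

/-- An integer inner product is odd, so its squared modulus is at least one. -/
theorem one_le_normSq_of_odd {k : ℤ} (hk : Odd k) : (1 : ℝ) ≤ Complex.normSq (k : ℂ) := by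
  have h : (1 : ℤ) ≤ k * k := by
    have : k ≠ 0 := fun e => by rw [e] at hk; exact Int.not_odd_zero hk
    have := mul_self_pos.mpr this
    omega
  have h' : ((1 : ℤ) : ℝ) ≤ ((k * k : ℤ) : ℝ) := by exact_mod_cast h
  rw [show Complex.normSq (k : ℂ) = ((k * k : ℤ) : ℝ) by simp]
  exact_mod_cast h'

/-- Bessel's inequality over one member of each conjugate pair and some further vectors. -/
theorem pairs_bessel {T : Subgroup G} {I : Finset (↥T → ℂ)} {μ : (↥T → ℂ) → (G → ℂ)}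
    (hconj : ∀ ζ ∈ I, Cfsg.conjFun ζ ∈ I) (hne : ∀ ζ ∈ I, Cfsg.conjFun ζ ≠ ζ)
    (hμ : ∀ ζ ∈ I, IsSigned (μ ζ) ∧ Cfsg.classInner (μ ζ) (Cfsg.conjFun (μ ζ)) = 0)
    (horth : ∀ ζ ∈ I, ∀ ξ ∈ I, ζ ≠ ξ → ζ ≠ Cfsg.conjFun ξ →
      Cfsg.classInner (μ ζ) (μ ξ) = 0 ∧ Cfsg.classInner (μ ζ) (Cfsg.conjFun (μ ξ)) = 0)
    {J : Type} [Fintype J] (v₀ : J → G → ℂ)
    (h₀ : ∀ i j, Cfsg.classInner (v₀ i) (v₀ j) = if i = j then 1 else 0)
    (h₀μ : ∀ i, ∀ ζ ∈ I, Cfsg.classInner (v₀ i) (μ ζ) = 0 ∧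
      Cfsg.classInner (v₀ i) (Cfsg.conjFun (μ ζ)) = 0)
    (β : G → ℂ) (hodd : ∀ ζ ∈ I, (∃ k : ℤ, Cfsg.classInner β (μ ζ) = k ∧ Odd k) ∧
      ∃ k : ℤ, Cfsg.classInner β (Cfsg.conjFun (μ ζ)) = k ∧ Odd k) :
    ∑ j, Complex.normSq (Cfsg.classInner β (v₀ j)) + (I.card : ℝ) ≤
      (Cfsg.classInner β β).re := by
  let e : (↥T → ℂ) → ℕ := fun ζ => if h : ζ ∈ I then (I.equivFin ⟨ζ, h⟩ : ℕ) else 0
  have einj : ∀ ζ ∈ I, ∀ ξ ∈ I, e ζ = e ξ → ζ = ξ := fun ζ hζ ξ hξ h => by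
    simp only [e, dif_pos hζ, dif_pos hξ] at h
    exact congrArg Subtype.val (I.equivFin.injective (Fin.ext h))
  set P := I.filter fun ζ => e ζ < e (Cfsg.conjFun ζ) with hP
  have hmem : ∀ {ζ}, ζ ∈ P → ζ ∈ I ∧ e ζ < e (Cfsg.conjFun ζ) := fun h => Finset.mem_filter.mp h
  have hsplit : I.card = 2 * P.card := by
    have h1 : (I.filter fun ζ => ¬ e ζ < e (Cfsg.conjFun ζ)) = P.image Cfsg.conjFun := by
      ext ζ
      simp only [Finset.mem_filter, Finset.mem_image]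
      constructor
      · rintro ⟨hζ, hlt⟩
        refine ⟨Cfsg.conjFun ζ, Finset.mem_filter.mpr ⟨hconj ζ hζ, ?_⟩, conjFun_conjFun ζ⟩
        rw [conjFun_conjFun]
        refine lt_of_le_of_ne (not_lt.mp hlt) fun h => hne ζ hζ ?_
        exact einj _ (hconj ζ hζ) _ hζ h
      · rintro ⟨ξ, hξ, rfl⟩
        refine ⟨hconj ξ (hmem hξ).1, ?_⟩
        rw [conjFun_conjFun]
        exact not_lt.mpr (hmem hξ).2.le
    have h2 := Finset.card_filter_add_card_filter_not (s := I)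
      (fun ζ => e ζ < e (Cfsg.conjFun ζ))
    rw [← hP, h1, Finset.card_image_of_injective _ (fun a b h => by
      rw [← conjFun_conjFun a, h, conjFun_conjFun])] at h2
    omega
  have hPorth : ∀ ζ ∈ P, ∀ ξ ∈ P, ζ ≠ ξ →
      Cfsg.classInner (μ ζ) (μ ξ) = 0 ∧ Cfsg.classInner (μ ζ) (Cfsg.conjFun (μ ξ)) = 0 :=
    fun ζ hζ ξ hξ h => horth ζ (hmem hζ).1 ξ (hmem hξ).1 h fun h' => by
      have h1 := (hmem hζ).2
      have h2 := (hmem hξ).2
      rw [h', conjFun_conjFun] at h1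
      omega
  let v : J ⊕ (↥P × Bool) → G → ℂ := Sum.elim v₀ fun x =>
    if x.2 then μ x.1 else Cfsg.conjFun (μ x.1)
  have hv : ∀ i j, Cfsg.classInner (v i) (v j) = if i = j then 1 else 0 := by
    have hz : ∀ i, ∀ x : ↥P × Bool, Cfsg.classInner (v₀ i) (v (Sum.inr x)) = 0 := by
      rintro i ⟨⟨ζ, hζ⟩, b⟩
      cases b
      · exact (h₀μ i ζ (hmem hζ).1).2
      · exact (h₀μ i ζ (hmem hζ).1).1
    rintro (i | ⟨⟨ζ, hζ⟩, b⟩) (j | ⟨⟨ξ, hξ⟩, c⟩)
    · simp only [v, Sum.elim_inl, h₀, Sum.inl.injEq]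
    · rw [show v (Sum.inl i) = v₀ i from rfl, hz, if_neg Sum.inl_ne_inr]
    · rw [show v (Sum.inl j) = v₀ j from rfl, classInner_conj_symm, hz, map_zero,
        if_neg Sum.inr_ne_inl]
    · obtain ⟨hs, hc⟩ := hμ ζ (hmem hζ).1
      simp only [v, Sum.elim_inr, Sum.inr.injEq, Prod.mk.injEq, Subtype.mk.injEq]
      by_cases h : ζ = ξ
      · subst h
        have hc' : Cfsg.classInner (Cfsg.conjFun (μ ζ)) (μ ζ) = 0 := by
          rw [classInner_conj_symm, hc, map_zero]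
        cases b <;> cases c <;> simp [hs.norm_one, (conjFun_signed hs).norm_one, hc, hc']
      · obtain ⟨o1, o2⟩ := hPorth ζ hζ ξ hξ h
        have o3 : Cfsg.classInner (Cfsg.conjFun (μ ζ)) (μ ξ) = 0 := by
          have := classInner_conjFun (μ ζ) (Cfsg.conjFun (μ ξ))
          rwa [conjFun_conjFun, o2, map_zero] at this
        have o4 : Cfsg.classInner (Cfsg.conjFun (μ ζ)) (Cfsg.conjFun (μ ξ)) = 0 := by
          rw [classInner_conjFun, o1, map_zero]
        cases b <;> cases c <;> simp [h, o1, o2, o3, o4]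
  have hB := Sec12.bessel v (fun i j => by convert hv i j) β
  rw [Fintype.sum_sum_type] at hB
  refine le_trans (add_le_add le_rfl ?_) hB
  calc (I.card : ℝ) = ∑ _x : ↥P × Bool, (1 : ℝ) := by
        rw [Finset.sum_const, Finset.card_univ, Fintype.card_prod, Fintype.card_bool,
          Fintype.card_coe, nsmul_eq_mul, mul_one, hsplit, mul_comm]
    _ ≤ _ := Finset.sum_le_sum fun ⟨⟨ζ, hζ⟩, b⟩ _ => by
        obtain ⟨⟨k, hk, hko⟩, ⟨l, hl, hlo⟩⟩ := hodd ζ (hmem hζ).1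
        cases b
        · show _ ≤ Complex.normSq (Cfsg.classInner β (Cfsg.conjFun (μ ζ)))
          rw [hl]; exact one_le_normSq_of_odd hlo
        · show _ ≤ Complex.normSq (Cfsg.classInner β (μ ζ))
          rw [hk]; exact one_le_normSq_of_odd hko

/-- The coefficient at the conjugate when conjugation moves `β` along an orthogonal pair. -/
theorem inner_conjFun_eq {β σ ρ : G → ℂ} {k : ℤ}
    (hc : Cfsg.conjFun β = β + σ - Cfsg.conjFun σ) (hk : Cfsg.classInner β ρ = k)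
    (h1 : Cfsg.classInner σ (Cfsg.conjFun ρ) = 0)
    (h2 : Cfsg.classInner (Cfsg.conjFun σ) (Cfsg.conjFun ρ) = 0) :
    Cfsg.classInner β (Cfsg.conjFun ρ) = k := by
  have h := classInner_conjFun β ρ
  rw [hc, hk, map_intCast, classInner_sub_left, classInner_add_left, h1, h2] at h
  linear_combination h

/-- An element of the support of a Frobenius subgroup of Type I. -/
theorem supp_subset_tilde (hG : Cfsg.IsMinSimpleOddOrder G) {L : Subgroup G} (hL : IsCoatom L)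
    (hI : OfTypeI L) (hF : IsFrobF L) {g : G} (hg : g ∈ supp L) :
    g ∈ Cfsg.tildeOf L (Cfsg.typeA1 L) := by
  have hcore : Cfsg.typeCore L = Cfsg.fittingHallOf L := by
    rw [Cfsg.typeCore, if_neg]
    rintro (⟨W₁, U, W₂, d, -⟩ | ⟨W₁, U, W₂, d, -⟩) <;>
      exact (propTypes hG L hL).2 W₁ U W₂ d hI
  obtain ⟨a, ha, u, hu, x, e⟩ := hg
  have haL : a ∈ L := (frob_dade hG hL hI hF).subset ha
  obtain ⟨h1, h2⟩ := (mem_suppA0 hI hF ⟨a, haL⟩).mp ha
  refine ⟨a, ⟨?_, fun h => h2 (Subtype.ext h)⟩, u, hu, x⁻¹, ?_⟩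
  · rw [hcore]
    exact ⟨⟨a, haL⟩, h1, rfl⟩
  · rw [← e]
    group

/-- A subgroup with type P data is no conjugate of one of Type I. -/
theorem not_conj_typeI (hG : Cfsg.IsMinSimpleOddOrder G) {L T : Subgroup G} (hL : IsCoatom L)
    (hT : IsCoatom T) (hI : OfTypeI L) (hn : ¬ OfTypeI T) (g : G) :
    T.map (MulAut.conj g).toMonoidHom ≠ L := fun e => hn ((ofTypeI_iff hG hT).mpr (by
  rw [← CfsgLib.OddOrder42.kappa_cj g T]
  show Cfsg.kappa (T.map (MulAut.conj g).toMonoidHom) = ∅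
  rw [e]
  exact (ofTypeI_iff hG hL).mp hI))

/-- PF (14.16), the case that `T` has Type III. -/
theorem typeIII_bound (hG : Cfsg.IsMinSimpleOddOrder G) (hP : PropPairFacts G)
    {S T W₁ W₂ U V : Subgroup G} (h : TypePPair S T W₁ W₂ U V) (h34 : Kind34 T W₂ V W₁)
    (_hqp : Nat.card W₁ < Nat.card W₂) {η : (↥(W₁ ⊔ W₂) →* ℂˣ) → (G → ℂ)}
    (hη : Cfsg.IsCyclicTIFamily W₁ W₂ η) (hηc : ∀ ω, η ω⁻¹ = Cfsg.conjFun (η ω))
    {β : (↥(W₁ ⊔ W₂) →* ℂˣ) → (G → ℂ)} (hβ : BridgeData W₁ W₂ η (Nat.card U) β)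
    {L : Subgroup G} (hL : IsCoatom L) (hI : OfTypeI L) (hF : IsFrobF L) {I : Finset (↥L → ℂ)}
    {φ : ↥L → ℂ} {w : (↥L → ℂ) → ℕ} {x : (↥L → ℂ) → (G → ℂ)} (d : FrobData L I φ w x)
    (hidx : (Cfsg.fittingHall ↥L).index = Nat.card W₁ * Nat.card W₂) :
    Nat.card V - 1 ≤ Nat.card W₂ * (Nat.card W₂ * Nat.card W₁ - 1) ∨
      Nat.card W₁ * (Nat.card V - 1) ≤
        Nat.card W₂ * (Nat.card U - 1) + Nat.card W₂ * Nat.card W₁ := by
  obtain ⟨hp, hq, hne, hkinds, -, -, -, hfpf, hTI, hnorm, -⟩ := hP T S W₂ W₁ V U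
    ⟨h.right_max, h.left_max, h.right, h.left, by rw [inf_comm, h.inter, sup_comm],
      h.some_II.symm, h.right_II_V, h.left_II_V⟩
  have s : SideThree T W₁ W₂ V := by
    refine ⟨h.right_max, h34, ?_, hfpf, hTI, hnorm⟩
    rcases hkinds with h2 | ⟨-, hc, -⟩
    · exact absurd h34.normalizer_le h2.normalizer_not_le
    · exact hc
  have hoddG : Odd (Nat.card G) := hG.1
  have hoddT : Odd (Nat.card T) := hG.1.of_dvd_nat (Subgroup.card_subgroup_dvd_card T)
  have hW := h.left.selfNormalizing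
  have hoddW : Odd (Nat.card ↥(W₁ ⊔ W₂)) := hG.1.of_dvd_nat (Subgroup.card_subgroup_dvd_card _)
  haveI := finite_linChar hW
  haveI := Fintype.ofFinite (↥(W₁ ⊔ W₂) →* ℂˣ)
  have hcopW : (Nat.card ↥(W₁ ⊔ W₂)).Coprime (Nat.card (Cfsg.fittingHallOf L)) := by
    rw [card_W_mul hW, ← hidx]
    exact (coprime_index L).symm
  have hcopT : ¬ Nat.card W₂ ∣ Nat.card ↥(⁅T, T⁆ : Subgroup G) := fun hd => by
    have h1 := CfsgLib.OddOrder.card_mul_relIndex_of_le (side_W_le s)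
    rw [← CfsgLib.OddOrder.card_mul_relIndex_of_le (Subgroup.commutator_le_self T),
      CfsgLib.OddOrder.IsComplIn.relIndex_left h34.data.W₁_compl, mul_comm (Nat.card ↥⁅T, T⁆)] at h1
    have h2 := Nat.eq_of_mul_eq_mul_left Nat.card_pos h1
    exact Nat.not_coprime_of_dvd_of_dvd hp.one_lt dvd_rfl (h2 ▸ hd) h34.data.W₁_hall
  -- the characters of `T / Q` and the bridges
  obtain ⟨μ, hμ, hμo⟩ := exists_sigmaT s hG
  set γ : (↥T → ℂ) → (G → ℂ) := fun ζ => tau T (bridgeT T ζ) with hγdef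
  have hγ := fun ζ (hζ : ζ ∈ famQ T) => bridgeT_props s hG hζ
  have hγc : ∀ ζ ∈ famQ T, Cfsg.conjFun (γ ζ) = γ ζ + μ ζ - Cfsg.conjFun (μ ζ) := fun ζ hζ => by
    rw [add_sub_assoc, ← (hμ ζ hζ).2.2]
    exact (hγ ζ hζ).2.2.2.2.2.2
  have hT0 : ∀ (α : ↥T → ℂ), Cfsg.IsClassFunction ↥T α → (∀ y, y ∉ derK T → α y = 0) →
      ∀ g : G, Nat.card W₂ ∣ orderOf g → tau T α g = 0 := fun α hcl hα g hg => by
    by_contra hne0
    exact hcopT (hg.trans (side_tau_supp s hG hcl hα hne0).1)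
  have hpairT : ∀ ζ ∈ famQ T, Cfsg.IsClassFunction ↥T (ζ - Cfsg.conjFun ζ) ∧
      ∀ y, y ∉ derK T → (ζ - Cfsg.conjFun ζ) y = 0 := fun ζ hζ => by
    obtain ⟨hirr, -, hvan, hcm⟩ := famQ_spec s hζ
    obtain ⟨hirr', -, hvan', -⟩ := famQ_spec s hcm
    exact ⟨isClassFunction_sub (isClassFunction_of_isCharacter (isCharacter_of_irr hirr))
      (isClassFunction_of_isCharacter (isCharacter_of_irr hirr')),
      fun y hy => by rw [Pi.sub_apply, hvan y hy, hvan' y hy, sub_zero]⟩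
  have hμη : ∀ ζ ∈ famQ T, ∀ ω, Cfsg.classInner (μ ζ) (η ω) = 0 := by
    intro ζ hζ ω
    obtain ⟨hs, hc, he⟩ := hμ ζ hζ
    have hsc : IsSigned (Cfsg.conjFun (μ ζ)) := conjFun_signed hs
    have hc' : Cfsg.classInner (Cfsg.conjFun (μ ζ)) (μ ζ) = 0 := by
      rw [classInner_conj_symm, hc, map_zero]
    have h0 := family_orth hW hoddW hη hηc (θ := μ ζ - Cfsg.conjFun (μ ζ))
      (isGeneralizedCharacter_sub hs.generalized hsc.generalized)
      (by
        rw [classInner_sub_left, classInner_sub_right, classInner_sub_right, hs.norm_one,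
          hsc.norm_one, hc, hc']
        norm_num)
      (by funext g; simp [Cfsg.conjFun])
      (fun z hz₁ _ => by
        rw [← he]
        exact hT0 _ (hpairT ζ hζ).1 (hpairT ζ hζ).2 _
          (prime_dvd_orderOf_W hW hp hne.symm hq z.2 hz₁)) ω
    rcases hs.cases (family_signed hη ω) with e | e | e
    · rw [classInner_sub_left, e] at h0
      rw [e] at hc'
      rw [hc', sub_zero, (family_signed hη ω).norm_one] at h0
      exact absurd h0 one_ne_zero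
    · rw [classInner_sub_left] at h0
      have e' : η ω = -μ ζ := by rw [e, neg_neg]
      rw [e', classInner_neg_right, classInner_neg_right, hs.norm_one, hc', neg_zero,
        sub_zero] at h0
      exact absurd h0 (by norm_num)
    · exact e
  have hημ : ∀ ζ ∈ famQ T, ∀ ω, Cfsg.classInner (η ω) (μ ζ) = 0 ∧
      Cfsg.classInner (η ω) (Cfsg.conjFun (μ ζ)) = 0 := fun ζ hζ ω => by
    refine ⟨by rw [classInner_conj_symm, hμη ζ hζ, map_zero], ?_⟩
    have := classInner_conjFun (μ ζ) (η ω⁻¹)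
    rw [hηc ω, conjFun_conjFun, ← hηc ω, hμη ζ hζ, map_zero] at this
    rw [classInner_conj_symm, this, map_zero]
  have hη1 : η 1 = fun _ => 1 := hη.map_one
  have h1μ : ∀ ζ ∈ famQ T, Cfsg.classInner (fun _ => 1) (μ ζ) = 0 ∧
      Cfsg.classInner (fun _ => 1) (Cfsg.conjFun (μ ζ)) = 0 := fun ζ hζ => hη1 ▸ hημ ζ hζ 1
  -- the supports of `T` and `L` are disjoint
  have hdisj : ∀ (α : ↥T → ℂ), Cfsg.IsClassFunction ↥T α → (∀ y, y ∉ derK T → α y = 0) →
      ∀ α' : ↥L → ℂ, Cfsg.classInner (tau L α') (tau T α) = 0 := fun α hcl hα α' => by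
    refine classInner_eq_zero_of_disjoint fun g => ?_
    by_cases hgL : g ∈ supp L
    swap
    · exact Or.inl (tau_eq_zero hgL)
    refine Or.inr (by_contra fun hne0 => ?_)
    have he := (propSupports hG L T hL h.right_max
      (not_conj_typeI hG hL h.right_max hI (side_not_typeI s hG))).2.2.2.2
    exact (Set.eq_empty_iff_forall_notMem.mp he) g
      ⟨supp_subset_tilde hG hL hI hF hgL, (side_tau_supp s hG hcl hα hne0).2⟩
  have hxμ : ∀ χ ∈ I, ∀ ζ ∈ famQ T, Cfsg.classInner (x χ) (μ ζ) = 0 ∧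
      Cfsg.classInner (x χ) (Cfsg.conjFun (μ ζ)) = 0 := fun χ hχ ζ hζ => by
    refine pair_orth (d.x_signed χ hχ) (hμ ζ hζ).1 (x_conj_orth hG hL hI hF d hχ) ?_
    rw [← d.x_conj χ hχ, ← tau_pair hG hL hI hF d hχ, ← (hμ ζ hζ).2.2]
    exact hdisj _ (hpairT ζ hζ).1 (hpairT ζ hζ).2 _
  -- the coefficients of the bridges of `T` at the family do not depend on `ζ`
  choose a ha using fun (ζ : {ζ // ζ ∈ famQ T}) (ω : ↥(W₁ ⊔ W₂) →* ℂˣ) =>
    classInner_generalized_int (hγ ζ.1 ζ.2).2.2.2.1 (family_signed hη ω).generalized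
  have hindep : ∀ ζ ξ ω, a ζ ω = a ξ ω := by
    rintro ⟨ζ, hζ⟩ ⟨ξ, hξ⟩ ω
    rcases eq_or_ne ζ ξ with rfl | hne0
    · rfl
    obtain ⟨hclζ, hsζ, hoζ, hgζ, -, h1ζ, -⟩ := hγ ζ hζ
    obtain ⟨hclξ, hsξ, hoξ, hgξ, -, h1ξ, -⟩ := hγ ξ hξ
    have hirrζ := (famQ_spec s hζ).1
    have hirrξ := (famQ_spec s hξ).1
    set α : ↥T → ℂ := ξ - ζ with hα
    have hαcl : Cfsg.IsClassFunction ↥T α :=
      isClassFunction_sub (isClassFunction_of_isCharacter (isCharacter_of_irr hirrξ))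
        (isClassFunction_of_isCharacter (isCharacter_of_irr hirrζ))
    have hdiff : bridgeT T ζ = bridgeT T ξ + α := by rw [hα, bridgeT, bridgeT]; abel
    have hαs : ∀ y : ↥T, (y : G) ∉ suppA0 T → α y = 0 := fun y hy => by
      have h2 := congrFun hdiff y
      rw [Pi.add_apply, hsζ y hy, hsξ y hy, zero_add] at h2
      exact h2.symm
    have hτ : γ ζ - γ ξ = tau T α := by
      show tau T (bridgeT T ζ) - tau T (bridgeT T ξ) = _
      rw [hdiff, sub_eq_iff_eq_add, add_comm]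
      exact dadeIsometry_add _ _
    have h0 := family_zero hW hoddW hη (θ := γ ζ - γ ξ) (isGeneralizedCharacter_sub hgζ hgξ)
      (by
        rw [hτ]
        refine (dade_isometry (side_dade s hG) hαcl hαs hαcl).trans ?_
        rw [hα, classInner_sub_left, classInner_sub_right, classInner_sub_right,
          classInner_irr_self hirrξ, classInner_irr_self hirrζ,
          classInner_irr_ne hirrξ hirrζ hne0.symm, classInner_irr_ne hirrζ hirrξ hne0]
        norm_num)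
      (by rw [classInner_sub_left, h1ζ, h1ξ, sub_self])
      (fun z hz₁ _ => by
        have hz := prime_dvd_orderOf_W hW hp hne.symm hq z.2 hz₁
        show tau T (bridgeT T ζ) z - tau T (bridgeT T ξ) z = 0
        rw [hT0 _ hclζ hoζ _ hz, hT0 _ hclξ hoξ _ hz, sub_zero]) ω
    rw [classInner_sub_left, ha ⟨ζ, hζ⟩ ω, ha ⟨ξ, hξ⟩ ω, sub_eq_zero] at h0
    exact_mod_cast h0
  -- the bridges of `S` at `μ`
  have hβμ : ∀ ζ ∈ famQ T, ∃ k : ℤ, ∀ ω, TrivL ω → ω ≠ 1 →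
      Cfsg.classInner (β ω) (μ ζ) = k ∧ Cfsg.classInner (β ω) (Cfsg.conjFun (μ ζ)) = k := by
    intro ζ hζ
    by_cases hex : ∃ ω₀ : ↥(W₁ ⊔ W₂) →* ℂˣ, TrivL ω₀ ∧ ω₀ ≠ 1
    swap
    · exact ⟨0, fun ω h1 h2 => absurd ⟨ω, h1, h2⟩ hex⟩
    obtain ⟨ω₀, hl₀, hn₀⟩ := hex
    obtain ⟨k, hk⟩ := classInner_generalized_int (hβ.gen ω₀ hl₀ hn₀) (hμ ζ hζ).1.generalized
    refine ⟨k, fun ω hl hn => ?_⟩
    have hk' : Cfsg.classInner (β ω) (μ ζ) = k := by
      have h2 := congrArg (fun f => Cfsg.classInner f (μ ζ)) (hβ.diff ω ω₀ hl hn hl₀ hn₀)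
      simp only [classInner_sub_left, (hημ ζ hζ _).1, sub_self, sub_eq_zero] at h2
      rw [h2, hk]
    have hc' := hβ.conjugate ω hl hn
    rw [hηc] at hc'
    refine ⟨hk', inner_conjFun_eq hc' hk' (hημ ζ hζ ω).2 ?_⟩
    rw [← hηc]
    exact (hημ ζ hζ ω⁻¹).2
  have hpar : ∀ (ζ : {ζ // ζ ∈ famQ T}) (k : ℤ) ω, TrivL ω → ω ≠ 1 →
      Cfsg.classInner (β ω) (μ ζ) = k → Odd (k + a ζ ω) := by
    intro ζ k ω hl hn hk
    have hc' := hβ.conjugate ω hl hn
    rw [hηc] at hc'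
    have hσ1 : Cfsg.classInner (η ω) (fun _ => 1) = 0 := by
      rw [← hη1, hη.orthonormal, if_neg hn]
    refine parity hoddG (hβ.gen ω hl hn) (hγ ζ.1 ζ.2).2.2.2.1 (family_signed hη ω) (hμ ζ.1 ζ.2).1
      (hβ.one_inner ω hl hn) (hγ ζ.1 ζ.2).2.2.2.2.2.1 hσ1 ?_ (hημ ζ.1 ζ.2 ω).1 hc'
      (hγc ζ.1 ζ.2) ?_ hk (ha ζ ω)
    · rw [classInner_conj_symm, (h1μ ζ.1 ζ.2).1, map_zero]
    · refine classInner_eq_zero_of_disjoint fun g => ?_
      by_cases hg : β ω g = 0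
      · exact Or.inl hg
      · exact Or.inr (hT0 _ (hγ ζ.1 ζ.2).1 (hγ ζ.1 ζ.2).2.2.1 g (hβ.off ω hl hn g hg).1)
  have hn := famQ_card s
  set n := (famQ T).card with hndef
  have hp1 := hp.two_le
  rcases Finset.eq_empty_or_nonempty (famQ T) with hemp | ⟨ζ₀, hζ₀⟩
  · left
    rw [hemp, Finset.card_empty] at hndef
    rw [hndef, zero_mul, zero_add] at hn
    omega
  have hfQ : ∀ ζ ∈ famQ T, Cfsg.conjFun ζ ∈ famQ T := fun ζ hζ => (famQ_spec s hζ).2.2.2
  have hfne : ∀ ζ ∈ famQ T, Cfsg.conjFun ζ ≠ ζ := fun ζ hζ => famQ_conj_ne s hoddT hζ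
  have hμ' : ∀ ζ ∈ famQ T, IsSigned (μ ζ) ∧ Cfsg.classInner (μ ζ) (Cfsg.conjFun (μ ζ)) = 0 :=
    fun ζ hζ => ⟨(hμ ζ hζ).1, (hμ ζ hζ).2.1⟩
  obtain ⟨ω₀, hl₀, hn₀⟩ : ∃ ω₀ : ↥(W₁ ⊔ W₂) →* ℂˣ, TrivL ω₀ ∧ ω₀ ≠ 1 := by
    by_contra hex
    push Not at hex
    haveI : Subsingleton {ψ : ↥(W₁ ⊔ W₂) →* ℂˣ // TrivL ψ} :=
      ⟨fun a b => Subtype.ext ((hex a.1 a.2).trans (hex b.1 b.2).symm)⟩
    have h2 := Finite.card_le_one_iff_subsingleton.mpr
      (inferInstance : Subsingleton {ψ : ↥(W₁ ⊔ W₂) →* ℂˣ // TrivL ψ})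
    rw [card_trivL hW] at h2
    omega
  by_cases hodd0 : Odd (a ⟨ζ₀, hζ₀⟩ ω₀)
  · -- the coefficients are odd: the bridge of `L` is odd at every `μ`
    left
    have haodd : ∀ ζ ω, TrivL ω → ω ≠ 1 → Odd (a ζ ω) := by
      intro ζ ω hl hn'
      obtain ⟨k, hk⟩ := hβμ ζ.1 ζ.2
      have h1 := hpar ζ k ω hl hn' (hk ω hl hn').1
      have h2 := hpar ζ k ω₀ hl₀ hn₀ (hk ω₀ hl₀ hn₀).1
      rw [hindep ζ ⟨ζ₀, hζ₀⟩ ω₀] at h2
      rw [Int.odd_add] at h1 h2
      have h3 : ¬ Even (a ⟨ζ₀, hζ₀⟩ ω₀) := Int.not_even_iff_odd.mpr hodd0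
      rw [← Int.not_even_iff_odd] at h1 h2 ⊢
      tauto
    obtain ⟨hgL, hnL, h1L, hcL⟩ := betaI_props hG hL hI hF d
    rw [d.x_conj φ d.φ_mem] at hcL
    have hφc := d.conj_mem φ d.φ_mem
    have hx1' : Cfsg.classInner (fun _ => 1) (x φ) = 0 := by
      rw [classInner_conj_symm, d.x_one φ d.φ_mem, map_zero]
    have hxc1 : Cfsg.classInner (fun _ => 1) (Cfsg.conjFun (x φ)) = 0 := by
      rw [classInner_conj_symm, ← d.x_conj φ d.φ_mem, d.x_one _ hφc, map_zero]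
    have h11 : Cfsg.classInner (fun _ : G => (1 : ℂ)) (fun _ => 1) = 1 :=
      classInner_irr_self isIrrCharacter_one
    have hzero : ∀ ζ : {ζ // ζ ∈ famQ T}, Cfsg.classInner (γ ζ.1) (x φ) = 0 := by
      intro ζ
      set Ω := (univ.filter fun ω : ↥(W₁ ⊔ W₂) →* ℂˣ => TrivL ω).erase 1 with hΩ
      have hΩmem : ∀ ω : ↥Ω, TrivL ω.1 ∧ ω.1 ≠ 1 := fun ω =>
        ⟨(Finset.mem_filter.mp (Finset.mem_erase.mp ω.2).2).2, (Finset.mem_erase.mp ω.2).1⟩
      have hΩcard : Ω.card = Nat.card W₂ - 1 := by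
        rw [hΩ, Finset.card_erase_of_mem (Finset.mem_filter.mpr ⟨Finset.mem_univ _,
          fun _ _ => rfl⟩), ← Fintype.card_subtype, ← Nat.card_eq_fintype_card, card_trivL hW]
      let v₁ : Fin 4 → G → ℂ := ![fun _ => 1, μ ζ.1, Cfsg.conjFun (μ ζ.1), x φ]
      have hs := (hμ ζ.1 ζ.2).1
      have hv₁ : ∀ i j, Cfsg.classInner (v₁ i) (v₁ j) = if i = j then 1 else 0 := by
        have o1 := (hμ ζ.1 ζ.2).2.1
        have o2 : Cfsg.classInner (Cfsg.conjFun (μ ζ.1)) (μ ζ.1) = 0 := by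
          rw [classInner_conj_symm, o1, map_zero]
        obtain ⟨o3, o4⟩ := hxμ φ d.φ_mem ζ.1 ζ.2
        obtain ⟨o5, o6⟩ := h1μ ζ.1 ζ.2
        have o3' : Cfsg.classInner (μ ζ.1) (x φ) = 0 := by
          rw [classInner_conj_symm, o3, map_zero]
        have o4' : Cfsg.classInner (Cfsg.conjFun (μ ζ.1)) (x φ) = 0 := by
          rw [classInner_conj_symm, o4, map_zero]
        have o5' : Cfsg.classInner (μ ζ.1) (fun _ => 1) = 0 := by
          rw [classInner_conj_symm, o5, map_zero]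
        have o6' : Cfsg.classInner (Cfsg.conjFun (μ ζ.1)) (fun _ => 1) = 0 := by
          rw [classInner_conj_symm, o6, map_zero]
        intro i j
        fin_cases i <;> fin_cases j <;>
          simp [v₁, h11, hs.norm_one, (conjFun_signed hs).norm_one, o1, o2, o3, o4, o5, o6, o3',
            o4', o5', o6', hx1', d.x_one φ d.φ_mem, (d.x_signed φ d.φ_mem).norm_one]
      let v : ↥Ω ⊕ Fin 4 → G → ℂ := Sum.elim (fun ω => η ω.1) v₁
      have hz : ∀ ω : ↥Ω, ∀ i, Cfsg.classInner (η ω.1) (v₁ i) = 0 := by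
        intro ω i
        fin_cases i
        · show Cfsg.classInner (η ω.1) (fun _ => 1) = 0
          rw [← hη1, hη.orthonormal, if_neg (hΩmem ω).2]
        · exact (hημ ζ.1 ζ.2 _).1
        · exact (hημ ζ.1 ζ.2 _).2
        · show Cfsg.classInner (η ω.1) (x φ) = 0
          rw [classInner_conj_symm, x_eta_orth hG hL hI hF d hW hcopW hη hηc d.φ_mem, map_zero]
      have hv : ∀ i j, Cfsg.classInner (v i) (v j) = if i = j then 1 else 0 := by
        rintro (i | i) (j | j)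
        · simp only [v, Sum.elim_inl, hη.orthonormal]
          by_cases h0 : i = j
          · rw [h0, if_pos rfl, if_pos rfl]
          · rw [if_neg fun e => h0 (Subtype.ext e), if_neg (fun e => h0 (Sum.inl.inj e))]
        · simp only [v, Sum.elim_inl, Sum.elim_inr, hz, reduceCtorEq, if_false]
        · simp only [v, Sum.elim_inl, Sum.elim_inr, reduceCtorEq, if_false]
          rw [classInner_conj_symm, hz, map_zero]
        · simp only [v, Sum.elim_inr, hv₁, Sum.inr.injEq]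
      obtain ⟨-, -, -, hgen, hnorm', hone', -⟩ := hγ ζ.1 ζ.2
      obtain ⟨m, hm⟩ := classInner_generalized_int hgen hs.generalized
      have hm' : Cfsg.classInner (γ ζ.1) (Cfsg.conjFun (μ ζ.1)) = ((m + 1 : ℤ) : ℂ) := by
        have h2 := classInner_conjFun (γ ζ.1) (Cfsg.conjFun (μ ζ.1))
        rw [conjFun_conjFun, hγc ζ.1 ζ.2, classInner_sub_left, classInner_add_left,
          show Cfsg.classInner (γ ζ.1) (μ ζ.1) = m from hm, hs.norm_one,
          show Cfsg.classInner (Cfsg.conjFun (μ ζ.1)) (μ ζ.1) = 0 by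
            rw [classInner_conj_symm, (hμ ζ.1 ζ.2).2.1, map_zero]] at h2
        have h3 := congrArg (starRingEnd ℂ) h2
        simp only [map_add, map_sub, map_intCast, map_one, map_zero, Complex.conj_conj] at h3
        rw [← h3]
        push_cast
        ring
      have hB := Sec12.bessel v (fun i j => by convert hv i j) (γ ζ.1)
      rw [show (Cfsg.classInner (γ ζ.1) (γ ζ.1)).re = (Nat.card W₂ : ℝ) + 1 by
        rw [show Cfsg.classInner (γ ζ.1) (γ ζ.1) = (Nat.card W₂ : ℂ) + 1 from hnorm']; simp,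
        Fintype.sum_sum_type, Fin.sum_univ_four] at hB
      simp only [v, v₁, Sum.elim_inl, Sum.elim_inr, Matrix.cons_val] at hB
      rw [show Cfsg.classInner (γ ζ.1) (fun _ => 1) = 1 from hone',
        show Cfsg.classInner (γ ζ.1) (μ ζ.1) = m from hm, hm', map_one] at hB
      have h5 : ((Nat.card W₂ : ℝ) - 1) ≤
          ∑ ω : ↥Ω, Complex.normSq (Cfsg.classInner (γ ζ.1) (η ω.1)) := by
        calc ((Nat.card W₂ : ℝ) - 1) = ∑ _ω : ↥Ω, (1 : ℝ) := by
              rw [Finset.sum_const, Finset.card_univ, Fintype.card_coe, hΩcard, nsmul_eq_mul,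
                mul_one, Nat.cast_sub hp.one_le, Nat.cast_one]
          _ ≤ _ := Finset.sum_le_sum fun ω _ => by
            rw [show Cfsg.classInner (γ ζ.1) (η ω.1) = a ζ ω.1 from ha ζ ω.1]
            exact one_le_normSq_of_odd (haodd ζ ω.1 (hΩmem ω).1 (hΩmem ω).2)
      have h6 : (1 : ℝ) ≤ Complex.normSq (m : ℂ) + Complex.normSq ((m + 1 : ℤ) : ℂ) := by
        rcases Int.even_or_odd m with he | ho
        · exact le_add_of_nonneg_of_le (Complex.normSq_nonneg _)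
            (one_le_normSq_of_odd he.add_one)
        · exact le_add_of_le_of_nonneg (one_le_normSq_of_odd ho) (Complex.normSq_nonneg _)
      have h7 : Complex.normSq (Cfsg.classInner (γ ζ.1) (x φ)) ≤ 0 := by linarith
      exact Complex.normSq_eq_zero.mp (le_antisymm h7 (Complex.normSq_nonneg _))
    have hoddL : ∀ ζ ∈ famQ T,
        (∃ k : ℤ, Cfsg.classInner (tau L (bridgeI L φ)) (μ ζ) = k ∧ Odd k) ∧
        ∃ k : ℤ, Cfsg.classInner (tau L (bridgeI L φ)) (Cfsg.conjFun (μ ζ)) = k ∧ Odd k := by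
      intro ζ hζ
      obtain ⟨k, hk⟩ := classInner_generalized_int hgL (hμ ζ hζ).1.generalized
      have hk1 : Odd k := by
        have h2 := parity hoddG hgL (hγ ζ hζ).2.2.2.1 (d.x_signed φ d.φ_mem) (hμ ζ hζ).1 h1L
          (hγ ζ hζ).2.2.2.2.2.1 (d.x_one φ d.φ_mem)
          (by rw [classInner_conj_symm, (h1μ ζ hζ).1, map_zero]) (hxμ φ d.φ_mem ζ hζ).1 hcL
          (hγc ζ hζ) (hdisj _ (hγ ζ hζ).1 (hγ ζ hζ).2.2.1 _) hk
          (a := 0) (by rw [Int.cast_zero]; exact hzero ⟨ζ, hζ⟩)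
        simpa using h2
      refine ⟨⟨k, hk, hk1⟩, k, inner_conjFun_eq hcL hk (hxμ φ d.φ_mem ζ hζ).2 ?_, hk1⟩
      rw [← d.x_conj φ d.φ_mem]
      exact (hxμ _ hφc ζ hζ).2
    let v₀ : Fin 3 → G → ℂ := ![fun _ => 1, x φ, Cfsg.conjFun (x φ)]
    have hxx := x_conj_orth hG hL hI hF d d.φ_mem
    have hxx' : Cfsg.classInner (Cfsg.conjFun (x φ)) (x φ) = 0 := by
      rw [classInner_conj_symm, hxx, map_zero]
    have hxs := d.x_signed φ d.φ_mem
    have hxc1' : Cfsg.classInner (Cfsg.conjFun (x φ)) (fun _ => 1) = 0 := by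
      rw [classInner_conj_symm, hxc1, map_zero]
    have hB := pairs_bessel hfQ hfne hμ' hμo v₀
      (fun i j => by
        fin_cases i <;> fin_cases j <;>
          simp [v₀, h11, hxs.norm_one, (conjFun_signed hxs).norm_one, hxx, hxx', hx1', hxc1,
            hxc1', d.x_one φ d.φ_mem])
      (fun i ζ hζ => by
        fin_cases i
        · exact h1μ ζ hζ
        · exact hxμ φ d.φ_mem ζ hζ
        · show Cfsg.classInner (Cfsg.conjFun (x φ)) _ = 0 ∧
            Cfsg.classInner (Cfsg.conjFun (x φ)) _ = 0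
          rw [← d.x_conj φ d.φ_mem]
          exact hxμ _ hφc ζ hζ)
      (tau L (bridgeI L φ)) hoddL
    obtain ⟨b, hb⟩ := classInner_generalized_int hgL hxs.generalized
    have hb' : Cfsg.classInner (tau L (bridgeI L φ)) (Cfsg.conjFun (x φ)) = ((b + 1 : ℤ) : ℂ) := by
      have h2 := classInner_conjFun (tau L (bridgeI L φ)) (Cfsg.conjFun (x φ))
      rw [conjFun_conjFun, hcL, classInner_sub_left, classInner_add_left, hb, hxs.norm_one,
        hxx'] at h2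
      have h3 := congrArg (starRingEnd ℂ) h2
      simp only [map_add, map_sub, map_intCast, map_one, map_zero, Complex.conj_conj] at h3
      rw [← h3]
      push_cast
      ring
    rw [hnL, Fin.sum_univ_three] at hB
    simp only [v₀, Matrix.cons_val] at hB
    rw [h1L, hb, hb', map_one, hidx] at hB
    have h6 : (1 : ℝ) ≤ Complex.normSq (b : ℂ) + Complex.normSq ((b + 1 : ℤ) : ℂ) := by
      rcases Int.even_or_odd b with he | ho
      · exact le_add_of_nonneg_of_le (Complex.normSq_nonneg _) (one_le_normSq_of_odd he.add_one)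
      · exact le_add_of_le_of_nonneg (one_le_normSq_of_odd ho) (Complex.normSq_nonneg _)
    have h7 : (n : ℝ) + 1 ≤ ((Nat.card W₁ * Nat.card W₂ : ℕ) : ℝ) := by
      simp only [Complex.add_re, Complex.natCast_re, Complex.one_re] at hB
      linarith
    have h8 : n + 1 ≤ Nat.card W₁ * Nat.card W₂ := by exact_mod_cast h7
    have h9 : n * Nat.card W₂ ≤ (Nat.card W₂ * Nat.card W₁ - 1) * Nat.card W₂ :=
      Nat.mul_le_mul_right _ (by rw [mul_comm (Nat.card W₂)]; omega)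
    rw [mul_comm (Nat.card W₂) (Nat.card W₂ * Nat.card W₁ - 1)]
    omega
  · -- the coefficients are even: the bridges of `S` are odd at every `μ`
    right
    have hoddS : ∀ ζ ∈ famQ T, (∃ k : ℤ, Cfsg.classInner (β ω₀) (μ ζ) = k ∧ Odd k) ∧
        ∃ k : ℤ, Cfsg.classInner (β ω₀) (Cfsg.conjFun (μ ζ)) = k ∧ Odd k := by
      intro ζ hζ
      obtain ⟨k, hk⟩ := hβμ ζ hζ
      have h1 := hpar ⟨ζ, hζ⟩ k ω₀ hl₀ hn₀ (hk ω₀ hl₀ hn₀).1
      rw [hindep ⟨ζ, hζ⟩ ⟨ζ₀, hζ₀⟩ ω₀] at h1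
      have hk1 : Odd k := (Int.odd_add.mp h1).mpr (Int.not_odd_iff_even.mp hodd0)
      exact ⟨⟨k, (hk ω₀ hl₀ hn₀).1, hk1⟩, k, (hk ω₀ hl₀ hn₀).2, hk1⟩
    have hB := pairs_bessel hfQ hfne hμ' hμo (fun _ : Unit => fun _ : G => (1 : ℂ))
      (fun _ _ => by rw [if_pos (Subsingleton.elim _ _)]; exact classInner_irr_self isIrrCharacter_one)
      (fun _ ζ hζ => h1μ ζ hζ) (β ω₀) hoddS
    rw [Fintype.sum_unique, hβ.one_inner ω₀ hl₀ hn₀, map_one] at hB
    have hN := hβ.norm ω₀ hl₀ hn₀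
    have h7 : (Nat.card W₁ : ℝ) * (1 + n) ≤ (Nat.card U : ℝ) + 2 * Nat.card W₁ - 1 := by
      have h2 := congrArg Complex.re hN
      simp only [Complex.mul_re, Complex.natCast_re, Complex.natCast_im, Complex.add_re,
        Complex.sub_re, Complex.one_re, Complex.re_ofNat, Complex.im_ofNat, zero_mul, mul_zero,
        sub_zero] at h2
      rw [← h2]
      exact mul_le_mul_of_nonneg_left hB (Nat.cast_nonneg _)
    have hu : 1 ≤ Nat.card U := Nat.card_pos
    have h8 : Nat.card W₁ * n ≤ (Nat.card U - 1) + Nat.card W₁ := by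
      have h9 : ((Nat.card W₁ * n : ℕ) : ℝ) ≤ ((Nat.card U - 1 + Nat.card W₁ : ℕ) : ℝ) := by
        push_cast [Nat.cast_sub hu]
        linarith
      exact_mod_cast h9
    have h10 : Nat.card W₁ * n * Nat.card W₂ ≤
        (Nat.card U - 1 + Nat.card W₁) * Nat.card W₂ := Nat.mul_le_mul_right _ h8
    have h11 : Nat.card V - 1 = n * Nat.card W₂ := by omega
    rw [h11, mul_comm (Nat.card W₂) (Nat.card U - 1), mul_comm (Nat.card W₂) (Nat.card W₁),
      ← mul_assoc, ← add_mul]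
    exact h10

end CfsgLib.PF.Sec14
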