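import Cfsg.Agent.Lib.PF.Sec14Pair
import Cfsg.Agent.Lib.Characters.Monomial
import Cfsg.Agent.Lib.Characters.Ito

/-!
# Peterfalvi (14.16), Type III: the characters of `T / Q`

For `T` of Type III with data `W₂, V, W₁` the characters `Ind_{T'}^T λ`, `λ` a non-principal linear
character of `T' / Q`, their Dade images and those of the differences `Ind_{T'}^T 1 - Ind_{T'}^T λ`.
-/

set_option autoImplicit false
set_option linter.unusedSectionVars false
set_option linter.style.haveILetI false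

namespace CfsgLib.PF.Sec14

open scoped Classical ComplexConjugate
open Finset CfsgLib.Characters CfsgLib.OddChar

universe u

variable {G : Type u} [Group G] [Fintype G]

/-- `T'` inside `T`. -/
abbrev derK (T : Subgroup G) : Subgroup ↥T := (⁅T, T⁆ : Subgroup G).subgroupOf T

/-- The characters induced from the non-principal irreducible characters of `T' / M_F`. -/
noncomputable def famQ (T : Subgroup G) : Finset (↥T → ℂ) :=
  indAboveFinset (derK T) (Cfsg.fittingHall ↥T)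

/-- `Ind_{T'}^T 1 - ζ`. -/
noncomputable def bridgeT (T : Subgroup G) (ζ : ↥T → ℂ) : ↥T → ℂ :=
  Cfsg.indFun (derK T) (fun _ => 1) - ζ

/-- What is used of the side `T` of Type III. -/
structure SideThree (T W₁ W₂ V : Subgroup G) : Prop where
  max : IsCoatom T
  kind : Kind34 T W₂ V W₁
  comm : IsMulCommutative V
  fpf : ∀ w ∈ W₂, w ≠ 1 → ∀ v ∈ V, w * v = v * w → v = 1
  TI : Cfsg.IsTISubset (suppA0 T)
  norm : Subgroup.normalizer (suppA0 T) = T

variable {T W₁ W₂ V : Subgroup G} (s : SideThree T W₁ W₂ V)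

include s

theorem side_W_le : W₂ ≤ T := s.kind.data.W₁_compl.2.1

theorem fittingHall_le_derK : Cfsg.fittingHall ↥T ≤ derK T := fun x hx =>
  Subgroup.mem_subgroupOf.mpr (s.kind.data.U_compl.1 ⟨x, hx, rfl⟩)

theorem derK_index : (derK T).index = Nat.card W₂ :=
  CfsgLib.OddOrder.IsComplIn.relIndex_left s.kind.data.W₁_compl

theorem relIndex_fittingHall : (Cfsg.fittingHall ↥T).relIndex (derK T) = Nat.card V := by
  have e : (Cfsg.fittingHallOf T).subgroupOf T = Cfsg.fittingHall ↥T := by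
    rw [Cfsg.fittingHallOf, Subgroup.subgroupOf,
      Subgroup.comap_map_eq_self_of_injective T.subtype_injective]
  rw [← e, derK, Subgroup.relIndex_subgroupOf (Subgroup.commutator_le_self T)]
  exact CfsgLib.OddOrder.IsComplIn.relIndex_left s.kind.data.U_compl

/-- The derived subgroup of `T'` lies in `M_F`. -/
theorem comm_mem_fittingHall {a b : ↥T} (ha : a ∈ derK T) (hb : b ∈ derK T) :
    a * b * a⁻¹ * b⁻¹ ∈ Cfsg.fittingHall ↥T := by
  haveI := Cfsg.fittingHall_normal ↥T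
  haveI := s.comm
  rw [← QuotientGroup.eq_one_iff]
  have key : ∀ x ∈ derK T, ∃ v : ↥T, (v : G) ∈ V ∧
      QuotientGroup.mk' (Cfsg.fittingHall ↥T) x = QuotientGroup.mk' (Cfsg.fittingHall ↥T) v := by
    intro x hx
    obtain ⟨h, hh, v, hv, e⟩ := s.kind.data.U_compl.2.2.2 (x : G) (Subgroup.mem_subgroupOf.mp hx)
    obtain ⟨h', hh', rfl⟩ := hh
    refine ⟨⟨v, Subgroup.commutator_le_self T (s.kind.data.U_compl.2.1 hv)⟩, hv, ?_⟩
    have e' : x = h' * ⟨v, Subgroup.commutator_le_self T (s.kind.data.U_compl.2.1 hv)⟩ :=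
      Subtype.ext e
    rw [e', map_mul, show QuotientGroup.mk' (Cfsg.fittingHall ↥T) h' = 1 from
      (QuotientGroup.eq_one_iff _).mpr hh', one_mul]
  obtain ⟨v, hv, ev⟩ := key a ha
  obtain ⟨u, hu, eu⟩ := key b hb
  have hvu : v * u = u * v := Subtype.ext
    (congrArg Subtype.val (mul_comm' (⟨v, hv⟩ : V) ⟨u, hu⟩) :)
  show QuotientGroup.mk' (Cfsg.fittingHall ↥T) (a * b * a⁻¹ * b⁻¹) = 1
  rw [map_mul, map_mul, map_mul, map_inv, map_inv, ev, eu, ← map_inv, ← map_inv, ← map_mul,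
    ← map_mul, ← map_mul, hvu]
  simp

section Theta

variable {θ : derK T → ℂ} (hθ : Cfsg.IsIrrCharacter (derK T) θ)
  (hker : ∀ a : derK T, (a : ↥T) ∈ Cfsg.fittingHall ↥T → θ a = θ 1)

include hθ hker

theorem theta_one : θ 1 = 1 := CfsgLib.CharMonomial.degree_one_of_commutator hθ fun a b => hker _ (by
  have := comm_mem_fittingHall s a.2 b.2
  simpa [mul_inv_rev, mul_assoc] using this)

theorem theta_mul (a b : derK T) : θ (a * b) = θ a * θ b :=
  CfsgLib.CharIto.map_mul_of_degree_one (isCharacter_of_irr hθ) (theta_one s hθ hker) a b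

/-- Only the principal character is invariant under an element outside `T'`. -/
theorem theta_moved (hne : θ ≠ fun _ => 1) {x : ↥T} (hx : x ∉ derK T)
    (hn : (derK T).Normal) : CfsgLib.Clifford.conjChar hn θ x ≠ θ := by
  intro e
  obtain ⟨k, hk, w, hw, exk⟩ := s.kind.data.W₁_compl.2.2.2 (x : G) x.2
  have hw1 : w ≠ 1 := fun hw1 => hx (Subgroup.mem_subgroupOf.mpr (by rw [exk, hw1, mul_one]; exact hk))
  have h1 := theta_one s hθ hker
  set wT : ↥T := ⟨w, side_W_le s hw⟩ with hwT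
  set kK : derK T := ⟨⟨k, Subgroup.commutator_le_self T hk⟩, Subgroup.mem_subgroupOf.mpr hk⟩ with hkK
  have hxk : x = (kK : ↥T) * wT := Subtype.ext exk
  have hinv : ∀ y : derK T, θ ⟨wT * y * wT⁻¹, hn.conj_mem _ y.2 wT⟩ = θ y := by
    intro y
    have h2 := congrFun e y
    rw [CfsgLib.Clifford.conjChar] at h2
    have e2 : (⟨x * y * x⁻¹, hn.conj_mem _ y.2 x⟩ : derK T) =
        kK * ⟨wT * y * wT⁻¹, hn.conj_mem _ y.2 wT⟩ * kK⁻¹ := by
      refine Subtype.ext ?_
      simp [hxk, mul_assoc]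
    rw [e2, theta_mul s hθ hker, theta_mul s hθ hker] at h2
    have h3 : θ kK * θ kK⁻¹ = 1 := by rw [← theta_mul s hθ hker, mul_inv_cancel, h1]
    rw [← h2]
    linear_combination (-θ ⟨wT * y * wT⁻¹, hn.conj_mem _ y.2 wT⟩) * h3
  have hWV : W₂ ≤ Subgroup.normalizer (V : Set G) := s.kind.data.U_normal
  haveI := s.comm
  have hV : ∀ v : G, (hv : v ∈ V) →
      θ ⟨⟨v, Subgroup.commutator_le_self T (s.kind.data.U_compl.2.1 hv)⟩,
        Subgroup.mem_subgroupOf.mpr (s.kind.data.U_compl.2.1 hv)⟩ = 1 := by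
    have hcw : ∀ v ∈ V, w * v * w⁻¹ ∈ V := fun v hv =>
      (Subgroup.mem_normalizer_iff.mp (hWV hw) v).mp hv
    let f : V → V := fun v => ⟨w * v * w⁻¹ * (v : G)⁻¹, V.mul_mem (hcw v v.2) (V.inv_mem v.2)⟩
    have hinj : Function.Injective f := by
      intro v v' hvv
      have h2 : w * (v : G) * w⁻¹ * (v : G)⁻¹ = w * (v' : G) * w⁻¹ * (v' : G)⁻¹ :=
        congrArg Subtype.val hvv
      have hc1 : (v : G)⁻¹ * v' = v' * (v : G)⁻¹ := (congrArg Subtype.val (mul_comm' v⁻¹ v') :)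
      have h3 : w * ((v' : G)⁻¹ * v) = (v' : G)⁻¹ * v * w := by
        have h4 : (w * (v' : G) * w⁻¹)⁻¹ * (w * (v : G) * w⁻¹) = (v' : G)⁻¹ * v := by
          calc (w * (v' : G) * w⁻¹)⁻¹ * (w * (v : G) * w⁻¹)
              = (w * (v' : G) * w⁻¹)⁻¹ * (w * (v' : G) * w⁻¹ * ((v' : G)⁻¹ * v)) := by
                congr 1
                calc w * (v : G) * w⁻¹ = w * (v : G) * w⁻¹ * (v : G)⁻¹ * v := by group
                  _ = _ := by rw [h2]; group
            _ = _ := by group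
        calc w * ((v' : G)⁻¹ * v) = (w * (v' : G) * w⁻¹)⁻¹ * (w * (v : G) * w⁻¹) * w := by group
          _ = _ := by rw [h4]
      have h5 := s.fpf w hw hw1 _ (V.mul_mem (V.inv_mem v'.2) v.2) h3
      exact Subtype.ext (inv_mul_eq_one.mp h5).symm
    intro v hv
    obtain ⟨u, hu⟩ := Finite.surjective_of_injective hinj ⟨v, hv⟩
    have hu' : w * (u : G) * w⁻¹ * (u : G)⁻¹ = v := congrArg Subtype.val hu
    set uK : derK T := ⟨⟨u, Subgroup.commutator_le_self T (s.kind.data.U_compl.2.1 u.2)⟩,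
      Subgroup.mem_subgroupOf.mpr (s.kind.data.U_compl.2.1 u.2)⟩ with huK
    have e3 : (⟨⟨v, Subgroup.commutator_le_self T (s.kind.data.U_compl.2.1 hv)⟩,
        Subgroup.mem_subgroupOf.mpr (s.kind.data.U_compl.2.1 hv)⟩ : derK T) =
        ⟨wT * uK * wT⁻¹, hn.conj_mem _ uK.2 wT⟩ * uK⁻¹ := Subtype.ext (Subtype.ext hu'.symm)
    rw [e3, theta_mul s hθ hker, hinv, ← theta_mul s hθ hker, mul_inv_cancel, h1]
  refine hne (funext fun y => ?_)
  obtain ⟨h, ⟨h', hh', rfl⟩, v, hv, ey⟩ :=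
    s.kind.data.U_compl.2.2.2 ((y : ↥T) : G) (Subgroup.mem_subgroupOf.mp y.2)
  have e4 : y = ⟨h', fittingHall_le_derK s hh'⟩ *
      ⟨⟨v, Subgroup.commutator_le_self T (s.kind.data.U_compl.2.1 hv)⟩,
        Subgroup.mem_subgroupOf.mpr (s.kind.data.U_compl.2.1 hv)⟩ := Subtype.ext (Subtype.ext ey)
  rw [e4, theta_mul s hθ hker, hV v hv, hker _ hh', h1, one_mul]

theorem ind_theta_irr (hne : θ ≠ fun _ => 1) :
    Cfsg.IsIrrCharacter ↥T (Cfsg.indFun (derK T) θ) ∧
      Cfsg.indFun (derK T) θ 1 = (Nat.card W₂ : ℂ) := by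
  haveI : (derK T).Normal := derived_subgroupOf_normal T

  have hn : (derK T).Normal := inferInstance
  have hcl := isClassFunction_of_isCharacter (isCharacter_of_irr hθ)
  refine ⟨CfsgLib.Clifford.isIrr_of_norm_one
    (CfsgLib.Induction.isCharacter_indFun _ (isCharacter_of_irr hθ)) ?_, ?_⟩
  · rw [CfsgLib.Clifford.classInner_indFun_indFun hn hcl,
      ← Finset.sum_filter_add_sum_filter_not univ (fun x : ↥T => x ∈ derK T),
      Finset.sum_congr rfl fun x hx => show Cfsg.classInner θ (CfsgLib.Clifford.conjChar hn θ x) = 1 by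
        rw [show CfsgLib.Clifford.conjChar hn θ x = θ from funext fun y => by
          rw [CfsgLib.Clifford.conjChar]
          exact hcl y ⟨x, (Finset.mem_filter.mp hx).2⟩]
        exact classInner_irr_self hθ,
      Finset.sum_eq_zero (s := univ.filter fun x : ↥T => ¬ x ∈ derK T) fun x hx =>
        classInner_irr_ne hθ (CfsgLib.Clifford.isIrrCharacter_conjChar hn hθ x)
          (theta_moved s hθ hker hne (Finset.mem_filter.mp hx).2 hn).symm,
      Finset.sum_const, nsmul_eq_mul, mul_one, add_zero, ← Fintype.card_subtype,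
      ← Nat.card_eq_fintype_card]
    exact inv_mul_cancel₀ (Nat.cast_ne_zero.mpr Nat.card_pos.ne')
  · rw [CfsgLib.Induction.indFun_one_apply, theta_one s hθ hker, mul_one, derK_index s]

end Theta

theorem famQ_spec {ζ : ↥T → ℂ} (h : ζ ∈ famQ T) :
    Cfsg.IsIrrCharacter ↥T ζ ∧ ζ 1 = (Nat.card W₂ : ℂ) ∧ (∀ x : ↥T, x ∉ derK T → ζ x = 0) ∧
      Cfsg.conjFun ζ ∈ famQ T := by
  haveI : (derK T).Normal := derived_subgroupOf_normal T
  have h' : ζ ∈ Cfsg.inducedIrrAbove (derK T) (Cfsg.fittingHall ↥T) := by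
    rw [← coe_indAboveFinset]; exact Finset.mem_coe.mpr h
  refine ⟨?_, ?_, ?_, ?_⟩
  rotate_left 3
  · have h2 := indAbove_conj (derK T) (Cfsg.fittingHall ↥T) h'
    rw [← coe_indAboveFinset] at h2
    exact Finset.mem_coe.mp h2
  all_goals obtain ⟨θ, hθ, h1, hker, rfl⟩ := h'
  · exact (ind_theta_irr s hθ hker h1).1
  · exact (ind_theta_irr s hθ hker h1).2
  · exact fun x hx => CfsgLib.Induction.indFun_normal_eq_zero _ hx

theorem famQ_conj_ne (hodd : Odd (Nat.card T)) {ζ : ↥T → ℂ} (h : ζ ∈ famQ T) :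
    Cfsg.conjFun ζ ≠ ζ := by
  haveI : (derK T).Normal := derived_subgroupOf_normal T
  have h' : ζ ∈ Cfsg.inducedIrrAbove (derK T) (Cfsg.fittingHall ↥T) := by
    rw [← coe_indAboveFinset]; exact Finset.mem_coe.mpr h
  obtain ⟨θ, hθ, h1, -, rfl⟩ := h'

  exact conjFun_indFun_ne hodd hθ h1

theorem famQ_card : (famQ T).card * Nat.card W₂ + 1 = Nat.card V := by
  haveI := Cfsg.fittingHall_normal ↥T
  have h := sum_indAbove (K := derK T) (derived_subgroupOf_normal T) (Cfsg.fittingHall ↥T)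
  rw [derK_index s, relIndex_fittingHall s] at h
  have h2 : ∀ ζ ∈ famQ T, ((natDeg ζ : ℝ) ^ 2 / (natNorm ζ : ℝ)) = (Nat.card W₂ : ℝ) ^ 2 := by
    intro ζ hζ
    obtain ⟨hirr, hdeg, -, -⟩ := famQ_spec s hζ
    have hd := natDeg_spec (isCharacter_of_irr hirr)
    rw [hdeg] at hd
    have hd' : natDeg ζ = Nat.card W₂ := by exact_mod_cast hd.symm
    have hn := natNorm_spec (isCharacter_of_irr hirr)
    rw [classInner_irr_self hirr] at hn
    have hn' : natNorm ζ = 1 := by exact_mod_cast hn.symm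
    rw [hd', hn', Nat.cast_one, div_one]
  rw [show indAboveFinset (derK T) (Cfsg.fittingHall ↥T) = famQ T from rfl,
    Finset.sum_congr rfl h2, Finset.sum_const, nsmul_eq_mul] at h
  have hp : (Nat.card W₂ : ℝ) ≠ 0 := Nat.cast_ne_zero.mpr Nat.card_pos.ne'
  have h3 : (((famQ T).card * Nat.card W₂ + 1 : ℕ) : ℝ) = (Nat.card V : ℝ) := by
    push_cast
    refine mul_left_cancel₀ hp ?_
    linear_combination h
  exact_mod_cast h3

section Dade

variable (hG : Cfsg.IsMinSimpleOddOrder G)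

include hG

theorem side_dade : Cfsg.DadeHypothesis (suppA0 T) T (Cfsg.supportR T) :=
  (propDade hG T _ s.max (Or.inr (Or.inr rfl))).2

theorem side_typeCore : Cfsg.typeCore T = ⁅T, T⁆ := by
  rw [Cfsg.typeCore, if_pos ((propKinds hG T W₂ V W₁ s.max s.kind.data).2.2.1.mpr s.kind)]

theorem side_not_typeI : ¬ OfTypeI T := (propTypes hG T s.max).2 W₂ V W₁ s.kind.data

theorem side_mem_suppA0 {x : ↥T} (hx : x ∈ derK T) (h1 : x ≠ 1) : (x : G) ∈ suppA0 T := by
  refine Or.inl ?_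
  rw [suppA, if_neg (side_not_typeI s hG), side_typeCore s hG]
  exact ⟨Subgroup.mem_subgroupOf.mp hx, fun e => h1 (Subtype.ext e), x,
    Subgroup.mem_subgroupOf.mp hx, fun e => h1 (Subtype.ext e), rfl⟩

theorem side_centralizer {a : G} (ha : a ∈ suppA0 T) :
    Subgroup.centralizer ({a} : Set G) ≤ T := by
  intro c hc
  by_contra hcT
  have h1 : c * a * c⁻¹ = a := by
    rw [Subgroup.mem_centralizer_singleton_iff.mp hc, mul_inv_cancel_right]
  have h2 := s.TI c (by rw [s.norm]; exact hcT) a ha (by rwa [h1])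
  have h3 := (side_dade s hG).one_not_mem
  exact h3 (h2 ▸ ha)

/-- A Dade image of a class function supported on `T'#` lives on the conjugates of `T'#`. -/
theorem side_tau_supp {α : ↥T → ℂ} (hcl : Cfsg.IsClassFunction ↥T α)
    (hα : ∀ x : ↥T, x ∉ derK T → α x = 0) {g : G} (hg : tau T α g ≠ 0) :
    orderOf g ∣ Nat.card ↥(⁅T, T⁆ : Subgroup G) ∧ g ∈ Cfsg.tildeOf T (Cfsg.typeA1 T) := by
  have hD := side_dade s hG
  have hs : g ∈ supp T := by_contra fun h => hg (tau_eq_zero h)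
  obtain ⟨a, ha, u, hu, x, e⟩ := hs
  have hv : tau T α g = α ⟨a, hD.subset ha⟩ :=
    dadeIsometry_apply hD hcl (a := ⟨a, hD.subset ha⟩) (x := x) ha hu e
  have haK : a ∈ (⁅T, T⁆ : Subgroup G) := by
    by_contra h
    exact hg (hv.trans (hα _ fun h' => h (Subgroup.mem_subgroupOf.mp h')))
  have hu1 : u = 1 := by
    have hb := hD.inf_eq_bot a ha
    rw [inf_eq_right.mpr (side_centralizer s hG ha), inf_eq_left.mpr (hD.le_centralizer a ha)] at hb
    rwa [hb, Subgroup.mem_bot] at hu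
  have ha1 : a ≠ 1 := fun h => hD.one_not_mem (h ▸ ha)
  constructor
  · rw [← orderOf_injective (MulAut.conj x).toMonoidHom (MulAut.conj x).injective g]
    simp only [MulEquiv.coe_toMonoidHom, MulAut.conj_apply, e, hu1, mul_one]
    exact Subgroup.orderOf_dvd_natCard _ haK
  · refine ⟨a, ⟨by rw [side_typeCore s hG]; exact haK, ha1⟩, u, hu, x⁻¹, ?_⟩
    rw [← e]
    group

/-- The Dade images of `Ind_{T'}^T 1 - ζ`. -/
theorem bridgeT_props {ζ : ↥T → ℂ} (hζ : ζ ∈ famQ T) :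
    Cfsg.IsClassFunction ↥T (bridgeT T ζ) ∧ (∀ x : ↥T, (x : G) ∉ suppA0 T → bridgeT T ζ x = 0) ∧
      (∀ x : ↥T, x ∉ derK T → bridgeT T ζ x = 0) ∧
      Cfsg.IsGeneralizedCharacter G (tau T (bridgeT T ζ)) ∧
      Cfsg.classInner (tau T (bridgeT T ζ)) (tau T (bridgeT T ζ)) = (Nat.card W₂ : ℂ) + 1 ∧
      Cfsg.classInner (tau T (bridgeT T ζ)) (fun _ => 1) = 1 ∧
      Cfsg.conjFun (tau T (bridgeT T ζ)) = tau T (bridgeT T ζ) + tau T (ζ - Cfsg.conjFun ζ) := by
  haveI : (derK T).Normal := derived_subgroupOf_normal T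

  obtain ⟨hirr, hdeg, hvan, hcmem⟩ := famQ_spec s hζ
  have hD := side_dade s hG
  have hodd : Odd (Nat.card T) := hG.1.of_dvd_nat (Subgroup.card_subgroup_dvd_card T)
  have h11 : Cfsg.IsIrrCharacter (derK T) (fun _ => (1 : ℂ)) := isIrrCharacter_one
  set A := Cfsg.indFun (derK T) (fun _ => (1 : ℂ)) with hA
  have hAc : Cfsg.IsCharacter ↥T A :=
    CfsgLib.Induction.isCharacter_indFun _ (isCharacter_of_irr h11)
  have hgen : Cfsg.IsGeneralizedCharacter ↥T (bridgeT T ζ) :=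
    isGeneralizedCharacter_sub (isGeneralizedCharacter_of_isCharacter hAc)
      (isGeneralizedCharacter_irr ⟨ζ, hirr⟩)
  have hcl := isClassFunction_of_isGeneralizedCharacter hgen
  have hAval : ∀ x : derK T, A x = (Nat.card W₂ : ℂ) := fun x => by
    rw [hA, CfsgLib.Induction.indFun_normal_apply, Finset.sum_const, Finset.card_univ,
      nsmul_eq_mul, mul_one, ← Nat.card_eq_fintype_card, ← Subgroup.card_mul_index (derK T),
      Nat.cast_mul, ← mul_assoc, inv_mul_cancel₀ (Nat.cast_ne_zero.mpr Nat.card_pos.ne'), one_mul,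
      derK_index s]
  have hoff : ∀ x : ↥T, x ∉ derK T → bridgeT T ζ x = 0 := fun x hx => by
    rw [bridgeT, Pi.sub_apply, hvan x hx, CfsgLib.Induction.indFun_normal_eq_zero _ hx, sub_zero]
  have hsupp : ∀ x : ↥T, (x : G) ∉ suppA0 T → bridgeT T ζ x = 0 := fun x hx => by
    by_cases hxK : x ∈ derK T
    · have hx1 : x = 1 := by_contra fun h => hx (side_mem_suppA0 s hG hxK h)
      rw [hx1, bridgeT, Pi.sub_apply, CfsgLib.Induction.indFun_one_apply, derK_index s, hdeg,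
        mul_one, sub_self]
    · exact hoff x hxK
  have hA1 : Cfsg.classInner A (fun _ => 1) = 1 := by
    rw [hA, CfsgLib.Induction.classInner_indFun _ _ (fun _ _ => rfl)]
    exact classInner_irr_self h11
  have hAA : Cfsg.classInner A A = (Nat.card W₂ : ℂ) := by
    rw [hA, CfsgLib.Induction.classInner_indFun _ _ (isClassFunction_of_isCharacter hAc),
      show (fun x : derK T => A x) = (Nat.card W₂ : ℂ) • (fun _ => (1 : ℂ)) from
        funext fun x => by rw [hAval x]; simp,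
      classInner_smul_right, classInner_irr_self h11, mul_one, map_natCast]
  have hζ1 : Cfsg.classInner ζ (fun _ => 1) = 0 :=
    classInner_irr_ne hirr isIrrCharacter_one fun e => famQ_conj_ne s hodd hζ (by
      rw [e]; funext y; simp [Cfsg.conjFun])
  have hAζ : Cfsg.classInner A ζ = 0 := by
    have h' : ζ ∈ Cfsg.inducedIrrAbove (derK T) (Cfsg.fittingHall ↥T) := by
      rw [← coe_indAboveFinset]; exact Finset.mem_coe.mpr hζ
    obtain ⟨θ, hθ, hθ1, -, rfl⟩ := h'
    refine indFun_inner_eq_zero (derived_subgroupOf_normal T) h11 hθ fun e => ?_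
    rw [← e, ← hA, hA1] at hζ1
    exact one_ne_zero hζ1
  have hζA : Cfsg.classInner ζ A = 0 := by rw [classInner_conj_symm, hAζ, map_zero]
  refine ⟨hcl, hsupp, hoff, dade_virtual hD hgen hsupp, ?_, ?_, ?_⟩
  · refine (dade_isometry hD hcl hsupp hcl).trans ?_
    rw [bridgeT, ← hA, classInner_sub_left, classInner_sub_right, classInner_sub_right, hAA, hAζ,
      hζA, classInner_irr_self hirr]
    ring
  · have h1 : Cfsg.classInner (tau T (bridgeT T ζ)) (fun _ => 1) =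
        Cfsg.classInner (bridgeT T ζ) (fun _ => 1) := by
      refine dade_adjoint hD hcl hsupp (fun _ _ => rfl) fun a _ => ?_
      rw [finsum_mem_eq_finite_toFinset_sum _ (Set.toFinite _), Finset.sum_const, nsmul_eq_mul,
        mul_one, ← Nat.card_eq_card_finite_toFinset]
      simp only [SetLike.coe_sort_coe]
      rw [inv_mul_cancel₀ (Nat.cast_ne_zero.mpr Nat.card_pos.ne')]
    rw [h1, bridgeT, ← hA, classInner_sub_left, hA1, hζ1, sub_zero]
  · show Cfsg.conjFun (Cfsg.dadeIsometry _ _ _ _) = _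
    rw [← Sec12.dade_conjFun]
    have e : Cfsg.conjFun (bridgeT T ζ) = bridgeT T ζ + (ζ - Cfsg.conjFun ζ) := by
      funext y
      by_cases hy : y ∈ derK T
      · have := hAval ⟨y, hy⟩
        simp [bridgeT, Cfsg.conjFun, ← hA, this]
      · have : A y = 0 := CfsgLib.Induction.indFun_normal_eq_zero _ hy
        simp [bridgeT, Cfsg.conjFun, ← hA, this] <;> ring
    rw [e, dadeIsometry_add]
    rfl

/-- The signed characters `μ` with `τ(ζ - ζ̄) = μ - μ̄`. -/
theorem exists_sigmaT :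
    ∃ μ : (↥T → ℂ) → (G → ℂ),
      (∀ ζ ∈ famQ T, IsSigned (μ ζ) ∧ Cfsg.classInner (μ ζ) (Cfsg.conjFun (μ ζ)) = 0 ∧
        tau T (ζ - Cfsg.conjFun ζ) = μ ζ - Cfsg.conjFun (μ ζ)) ∧
      ∀ ζ ∈ famQ T, ∀ ξ ∈ famQ T, ζ ≠ ξ → ζ ≠ Cfsg.conjFun ξ →
        Cfsg.classInner (μ ζ) (μ ξ) = 0 ∧ Cfsg.classInner (μ ζ) (Cfsg.conjFun (μ ξ)) = 0 := by
  have hodd : Odd (Nat.card T) := hG.1.of_dvd_nat (Subgroup.card_subgroup_dvd_card T)
  obtain ⟨μ, P, -, -, -, hPo, hμ⟩ := exists_pairs (side_dade s hG) (fun ψ => ψ ∈ famQ T)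
    fun ψ hψ => ⟨(famQ_spec s hψ).1, famQ_conj_ne s hodd hψ, fun g hg hg1 =>
      (famQ_spec s hψ).2.2.1 g fun h => hg (side_mem_suppA0 s hG h hg1)⟩
  refine ⟨μ, fun ζ hζ => ⟨(hμ ζ hζ).1, (hμ ζ hζ).2.1, (hμ ζ hζ).2.2.1⟩,
    fun ζ hζ ξ hξ h1 h2 => ⟨?_, ?_⟩⟩
  · exact hPo ζ ξ hζ hξ h1 h2 _ (by rw [(hμ ζ hζ).2.2.2]; simp) _
      (by rw [(hμ ξ hξ).2.2.2]; simp)
  · have := hPo ζ ξ hζ hξ h1 h2 (μ ζ) (by rw [(hμ ζ hζ).2.2.2]; simp)
      (-Cfsg.conjFun (μ ξ)) (by rw [(hμ ξ hξ).2.2.2]; simp)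
    rwa [classInner_neg_right, neg_eq_zero] at this

end Dade

end CfsgLib.PF.Sec14
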