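import Cfsg.Agent.Lib.PF.Sec12Ind
import Cfsg.Agent.Lib.Characters.Extension
import Cfsg.Agent.Lib.Characters.LinearTwist

/-!
# Characters non-trivial on a normal subgroup `H`: vanishing, and the inertia group (for PF 9.11)
-/

set_option autoImplicit false
set_option linter.style.haveILetI false
set_option linter.unusedSectionVars false

namespace CfsgLib.PF.Sec9Coh

open scoped Classical ComplexConjugate
open Finset CfsgLib.Characters CfsgLib.OddChar CfsgLib.Clifford

universe u

variable {X : Type u} [Group X] [Finite X] {H : Subgroup X} [H.Normal] [Fintype H]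

/-- An irreducible character with `H` outside its kernel sums to zero on every coset of `H`. -/
theorem sum_translate_eq_zero {θ : X → ℂ} (hθ : Cfsg.IsIrrCharacter X θ)
    (hne : ∃ h ∈ H, θ h ≠ θ 1) (x : X) : ∑ h : H, θ (x * h) = 0 := by
  obtain ⟨n, ρ, hρ, rfl⟩ := hθ
  haveI := hρ
  set S : Module.End ℂ (Fin n → ℂ) := ∑ h : H, ρ h with hS
  obtain ⟨c, hc⟩ := CfsgLib.CharExtension.exists_scalar_of_commute ρ S (fun y => by
    rw [hS, Finset.sum_mul, Finset.mul_sum]
    refine Fintype.sum_equiv (MulAut.conjNormal y⁻¹).symm.symm.toEquiv _ _ fun h => ?_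
    rw [← map_mul, ← map_mul]
    congr 1
    simp [mul_assoc])
  obtain ⟨k, hk, hkne⟩ := hne
  have hkS : ρ k * S = S := by
    rw [hS, Finset.mul_sum]
    refine Fintype.sum_equiv (Equiv.mulLeft (⟨k, hk⟩ : H)) _ _ fun h => ?_
    rw [← map_mul]
    rfl
  have hc0 : c = 0 := by
    by_contra hc0
    have h1 : c • ρ k = c • (1 : Module.End ℂ (Fin n → ℂ)) := by
      rw [hc, Algebra.algebraMap_eq_smul_one, mul_smul_comm, mul_one] at hkS
      exact hkS
    refine hkne ?_
    rw [show Representation.character ρ k = LinearMap.trace ℂ _ (ρ k) from rfl,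
      smul_right_injective _ hc0 h1,
      show Representation.character ρ 1 = LinearMap.trace ℂ _ (ρ 1) from rfl, map_one ρ]
  calc ∑ h : H, Representation.character ρ (x * h)
      = LinearMap.trace ℂ _ (ρ x * S) := by
        rw [hS, Finset.mul_sum, map_sum]
        exact Finset.sum_congr rfl fun h _ => by rw [← map_mul]; rfl
    _ = 0 := by rw [hc, hc0, map_zero, mul_zero, map_zero]

/-- A class function summing to zero on the cosets of `H` vanishes at the elements acting without
fixed points on `H`. -/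
theorem apply_eq_zero_of_fpf {χ : X → ℂ} (hχ : Cfsg.IsClassFunction X χ)
    (hsum : ∀ x : X, ∑ h : H, χ (x * h) = 0) {g : X}
    (hg : ∀ h ∈ H, g * h = h * g → h = 1) : χ g = 0 := by
  have hn : H.Normal := inferInstance
  let f : H → H := fun k => ⟨g⁻¹ * ((k : X) * g * (k : X)⁻¹), by
    rw [← mul_assoc, ← mul_assoc]
    exact H.mul_mem (by simpa using hn.conj_mem _ k.2 g⁻¹) (H.inv_mem k.2)⟩
  have hf : Function.Bijective f := by
    rw [← Finite.injective_iff_bijective]
    intro k l e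
    have e' : g⁻¹ * ((k : X) * g * (k : X)⁻¹) = g⁻¹ * ((l : X) * g * (l : X)⁻¹) :=
      congrArg Subtype.val e
    have e2 := mul_left_cancel e'
    have h1 := hg ((l : X)⁻¹ * k) (H.mul_mem (H.inv_mem l.2) k.2) (by
      calc g * ((l : X)⁻¹ * k) = (l : X)⁻¹ * ((l : X) * g * (l : X)⁻¹) * k := by group
        _ = _ := by rw [← e2]; group)
    exact Subtype.ext (inv_mul_eq_one.mp h1).symm
  have h := hsum g
  rw [← hf.sum_comp (fun k : H => χ (g * k))] at h
  simp only [f, mul_inv_cancel_left] at h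
  rw [Finset.sum_congr rfl fun (k : H) _ => hχ g (k : X), Finset.sum_const, Finset.card_univ,
    nsmul_eq_mul] at h
  exact (mul_eq_zero.mp h).resolve_left (Nat.cast_ne_zero.mpr Fintype.card_ne_zero)

omit [Finite X] in
/-- The same sums for an induced function. -/
theorem indFun_sum_translate_eq_zero [Fintype X] (K : Subgroup X) (hHK : H ≤ K) {θ : K → ℂ}
    (hθ : ∀ k : K, ∑ h : H, θ (k * ⟨h, hHK h.2⟩) = 0) (x : X) :
    ∑ h : H, Cfsg.indFun K θ (x * h) = 0 := by
  simp only [CfsgLib.Induction.indFun_apply]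
  rw [← Finset.mul_sum, Finset.sum_comm, Finset.sum_eq_zero, mul_zero]
  intro y _
  by_cases hx : y⁻¹ * x * y ∈ K
  · refine Eq.trans ?_ (hθ ⟨_, hx⟩)
    refine Fintype.sum_equiv (MulAut.conjNormal y⁻¹).toEquiv _ _ fun h => ?_
    have e : y⁻¹ * (x * (h : X)) * y = y⁻¹ * x * y * (y⁻¹ * (h : X) * y) := by group
    have hm : y⁻¹ * (h : X) * y ∈ K := hHK (by
      simpa using (inferInstance : H.Normal).conj_mem _ h.2 y⁻¹)
    rw [e, CfsgLib.Induction.extendByZero_mem _ _ (K.mul_mem hx hm)]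
    exact congrArg θ (Subtype.ext (by simp))
  · refine Finset.sum_eq_zero fun h _ => CfsgLib.Induction.extendByZero_notMem _ _ fun hm => hx ?_
    have hm' : y⁻¹ * (h : X) * y ∈ K := hHK (by
      simpa using (inferInstance : H.Normal).conj_mem _ h.2 y⁻¹)
    have := K.mul_mem hm (K.inv_mem hm')
    simpa [mul_assoc] using this

/-- The inertia group of a linear constituent on `H` of an irreducible character trivial on `C`,
when `H` is abelian modulo `H₀` and `V`, a supplement of `H`, is abelian modulo `C`: its index is the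
degree. -/
theorem exists_inertia {θ : X → ℂ} (hθ : Cfsg.IsIrrCharacter X θ) (H₀ C V : Subgroup X)
    (hH₀ : ∀ h ∈ H₀, θ h = θ 1) (hC : ∀ c ∈ C, θ c = θ 1) (hne : ∃ h ∈ H, θ h ≠ θ 1)
    (hHH : ∀ a ∈ H, ∀ b ∈ H, a * b * a⁻¹ * b⁻¹ ∈ H₀)
    (hCH : ∀ c ∈ C, ∀ b ∈ H, c * b * c⁻¹ * b⁻¹ ∈ H₀)
    (hVV : ∀ a ∈ V, ∀ b ∈ V, a * b * a⁻¹ * b⁻¹ ∈ C)
    (hgen : ∀ x : X, ∃ h ∈ H, ∃ v ∈ V, x = h * v) :
    ∃ (T : Subgroup X) (lam : H →* ℂˣ), lam ≠ 1 ∧ (∀ h : H, (h : X) ∈ H₀ → lam h = 1) ∧
      (∀ x, x ∈ T ↔ x ∈ Sec12.linStab lam) ∧ H ≤ T ∧ C ≤ T ∧ T.index = natDeg θ ∧ T.Normal := by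
  haveI := Fintype.ofFinite X
  have hn : H.Normal := inferInstance
  have hθc := isCharacter_of_irr hθ
  have hres := isCharacter_subtype hθc H
  have h0 : (fun h : H => θ h) ≠ 0 := fun e => by
    obtain ⟨m, hm0, hm⟩ := irr_exists_degree hθ
    have := congrFun e 1
    simp [hm, hm0.ne'] at this
  obtain ⟨μ, hμ⟩ := exists_constituent hres h0
  have hμk : ∀ h : H, (h : X) ∈ H₀ → (μ : H → ℂ) h = (μ : H → ℂ) 1 := fun h hh =>
    constituent_eq_one hres hμ (hH₀ _ hh)
  have hμd : natDeg (μ : H → ℂ) = 1 := by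
    have h1 := sq_natDeg_le μ.2 (⊤ : Subgroup H) fun d _ => norm_eq_of_central μ.2 fun c =>
      hμk _ (hHH _ d.2 _ c.2)
    rw [Subgroup.index_top] at h1
    have h2 := natDeg_pos μ.2
    nlinarith
  obtain ⟨lam, hlam⟩ := CfsgLib.LinearExt.exists_unitsHom (irr_isCharacter μ)
    (by rw [natDeg_spec (irr_isCharacter μ), hμd, Nat.cast_one])
  have hlin : Cfsg.IsIrrCharacter H (Sec12.linFun lam) := Sec12.linFun_irr lam
  have hcon : Cfsg.classInner (fun h : H => θ h) (Sec12.linFun lam) ≠ 0 := by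
    rw [show Sec12.linFun lam = (μ : H → ℂ) from hlam.symm]
    exact hμ
  have hlam₀ : ∀ h : H, (h : X) ∈ H₀ → lam h = 1 := fun h hh => by
    have := hμk h hh
    simp only [hlam, map_one, Units.val_one] at this
    exact Units.val_eq_one.mp this
  set T := CfsgLib.Clifford.inertia hn (Sec12.linFun lam) with hTdef
  have hTmem : ∀ x, x ∈ T ↔ x ∈ Sec12.linStab lam := fun x => by
    rw [hTdef, CfsgLib.Clifford.mem_inertia]
    refine forall_congr' fun h => ?_
    simp only [Sec12.linFun, Units.val_inj]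
    exact Iff.rfl
  have hHT : H ≤ T := CfsgLib.Clifford.le_inertia hn (isClassFunction_of_isCharacter (isCharacter_of_irr hlin))
  have hCT : C ≤ T := fun c hc => (hTmem c).mpr fun h => by
    have e := hlam₀ (MulAut.conjNormal c h * h⁻¹) (by simpa using hCH c hc h h.2)
    rwa [map_mul, map_inv, mul_inv_eq_one] at e
  have hTn : T.Normal := by
    refine ⟨fun t ht g => ?_⟩
    obtain ⟨h, hh, v, hv, rfl⟩ := hgen g
    obtain ⟨k, hk, w, hw, e⟩ := hgen t
    have hwT : w ∈ T := by
      have := T.mul_mem (T.inv_mem (hHT hk)) ht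
      rwa [e, inv_mul_cancel_left] at this
    have h1 : v * t * v⁻¹ ∈ T := by
      have : v * t * v⁻¹ = (v * k * v⁻¹) * ((v * w * v⁻¹ * w⁻¹) * w) := by rw [e]; group
      rw [this]
      exact T.mul_mem (hHT (hn.conj_mem k hk v)) (T.mul_mem (hCT (hVV v hv w hw)) hwT)
    have : h * v * t * (h * v)⁻¹ = h * (v * t * v⁻¹) * h⁻¹ := by group
    rw [this]
    exact T.mul_mem (T.mul_mem (hHT hh) h1) (T.inv_mem (hHT hh))
  obtain ⟨ψ, hψ, hind, hψH⟩ := CfsgLib.Clifford.correspondence hn hlin T hTdef hHT hθ hcon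
  refine ⟨T, lam, ?_, hlam₀, hTmem, hHT, hCT, ?_, hTn⟩
  · rintro rfl
    obtain ⟨h, hh, hne'⟩ := hne
    have h1 := congrFun (CfsgLib.Clifford.clifford hn hθ hlin hcon) ⟨h, hh⟩
    have h2 := congrFun (CfsgLib.Clifford.clifford hn hθ hlin hcon) 1
    simp only [Pi.smul_apply, Finset.sum_apply] at h1 h2
    refine hne' (h1.trans (Eq.trans (congrArg _ (Finset.sum_congr rfl fun φ hφ => ?_)) h2.symm))
    obtain ⟨g, rfl⟩ := (CfsgLib.Clifford.conjOrbit_finite hn _).mem_toFinset.mp hφ
    simp [CfsgLib.Clifford.conjChar, Sec12.linFun]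
  · have hψθ : Cfsg.classInner (fun t : T => θ t) ψ ≠ 0 := by
      rw [← CfsgLib.Induction.classInner_indFun_right T ψ (isClassFunction_of_isCharacter hθc), hind,
        classInner_irr_self hθ]
      exact one_ne_zero
    have hψker : ∀ t : T, θ t = θ 1 → ψ t = ψ 1 := fun t ht =>
      constituent_eq_one (χ := fun t : T => θ t) (isCharacter_subtype hθc T) (ψ := ⟨ψ, hψ⟩) hψθ ht
    -- `H` acts by scalars
    have hnorm : ∀ t : T, (t : X) ∈ H → ‖ψ t‖ = ‖ψ 1‖ := by
      haveI hnT : (H.subgroupOf T).Normal := Subgroup.normal_subgroupOf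
      haveI : Fintype (H.subgroupOf T) := Fintype.ofFinite _
      set e := Subgroup.subgroupOfEquivOfLe hHT with he
      set lam' : H.subgroupOf T →* ℂˣ := lam.comp e.toMonoidHom with hlam'
      have hlin' : Cfsg.IsIrrCharacter (H.subgroupOf T) (fun k => (lam' k : ℂ)) :=
        isIrrCharacter_of_hom lam'
      have hcon' : Cfsg.classInner (fun k : H.subgroupOf T => ψ k) (fun k => (lam' k : ℂ)) ≠ 0 := by
        refine fun h => hcon ?_
        rw [← hψH, ← h, Cfsg.classInner, Cfsg.classInner, Nat.card_congr e.toEquiv]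
        congr 1
        exact (Fintype.sum_equiv e.toEquiv _ _ fun k => rfl).symm
      intro t ht
      have h1 := congrFun (CfsgLib.Clifford.clifford hnT hψ hlin' hcon') ⟨t, ht⟩
      have h2 := congrFun (CfsgLib.Clifford.clifford hnT hψ hlin' hcon') 1
      simp only [Pi.smul_apply, Finset.sum_apply] at h1 h2
      have horb : (CfsgLib.Clifford.conjOrbit_finite hnT
          (fun k : H.subgroupOf T => (lam' k : ℂ))).toFinset = {fun k => (lam' k : ℂ)} := by
        ext φ
        rw [Set.Finite.mem_toFinset, Finset.mem_singleton]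
        constructor
        · rintro ⟨g, rfl⟩
          funext k
          exact congrArg Units.val ((hTmem g).mp g.2 (e k))
        · rintro rfl
          exact ⟨1, (CfsgLib.Clifford.conjChar_one hnT _).symm⟩
      rw [horb, Finset.sum_singleton, smul_eq_mul] at h1 h2
      simp only [map_one, Units.val_one, mul_one] at h2
      simp only [OneMemClass.coe_one] at h2
      rw [h1, ← h2, norm_mul]
      have hroot : ∀ k : H.subgroupOf T, ‖((lam' k : ℂˣ) : ℂ)‖ = 1 := fun k =>
        Complex.norm_eq_one_of_pow_eq_one (n := orderOf k)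
          (by rw [← Units.val_pow_eq_pow_val, ← map_pow, pow_orderOf_eq_one, map_one, Units.val_one])
          (orderOf_pos k).ne'
      exact (mul_eq_left₀ (norm_ne_zero_iff.mpr (by
        obtain ⟨m, hm0, hm⟩ := irr_exists_degree hψ
        rw [hm]; exact Nat.cast_ne_zero.mpr hm0.ne'))).mpr (hroot ⟨t, ht⟩)
    have key : ∀ d c : T, ψ (d * c * d⁻¹ * c⁻¹) = ψ 1 := by
      obtain ⟨m, ρ, hρ, rfl⟩ := hψ
      haveI := hρ
      intro d c
      obtain ⟨h, hh, v, hv, ed⟩ := hgen d
      obtain ⟨k, hk, w, hw, ec⟩ := hgen c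
      have hvT : v ∈ T := by
        have := T.mul_mem (T.inv_mem (hHT hh)) d.2
        rwa [ed, inv_mul_cancel_left] at this
      have hwT : w ∈ T := by
        have := T.mul_mem (T.inv_mem (hHT hk)) c.2
        rwa [ec, inv_mul_cancel_left] at this
      have hsc : ∀ t : T, (t : X) ∈ H → ∀ y, Commute (ρ t) y := by
        intro t ht y
        obtain ⟨z, hz⟩ := (norm_char_eq_iff_scalar ρ t).mp (by
          rw [hnorm t ht, Representation.char_one, Complex.norm_natCast])
        rw [hz]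
        exact (Commute.one_left y).smul_left z
      have hvw : Commute (ρ ⟨v, hvT⟩) (ρ ⟨w, hwT⟩) := by
        set v' : T := ⟨v, hvT⟩
        set w' : T := ⟨w, hwT⟩
        have h1 : ρ (v' * w' * v'⁻¹ * w'⁻¹) = 1 :=
          (char_eq_degree_iff ρ _).mp (by
            rw [hψker _ (hC _ (hVV v hv w hw)), Representation.char_one])
        show ρ v' * ρ w' = ρ w' * ρ v'
        rw [← map_mul, ← map_mul, show v' * w' = v' * w' * v'⁻¹ * w'⁻¹ * (w' * v') by group,
          map_mul, h1, one_mul]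
      have hd : d = ⟨h, hHT hh⟩ * ⟨v, hvT⟩ := Subtype.ext ed
      have hc : c = ⟨k, hHT hk⟩ * ⟨w, hwT⟩ := Subtype.ext ec
      have hcomm : Commute (ρ d) (ρ c) := by
        rw [hd, hc, map_mul, map_mul]
        exact (hsc ⟨h, hHT hh⟩ hh _).mul_left (((hsc ⟨k, hHT hk⟩ hk _).symm).mul_right hvw)
      have h2 : ρ (d * c * d⁻¹ * c⁻¹) = 1 := by
        rw [map_mul, map_mul, map_mul, hcomm.eq, mul_assoc (ρ c), ← map_mul, mul_inv_cancel, map_one,
          mul_one, ← map_mul, mul_inv_cancel, map_one]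
      rw [show Representation.character ρ (d * c * d⁻¹ * c⁻¹) = LinearMap.trace ℂ _ (ρ (d * c * d⁻¹ * c⁻¹))
        from rfl, h2, ← map_one ρ]
      rfl
    suffices hd : natDeg ψ = 1 by
      rw [← hind, natDeg_indFun (isCharacter_of_irr hψ), hd, mul_one]
    have h1 := sq_natDeg_le hψ (⊤ : Subgroup T) fun d _ => norm_eq_of_central hψ (key d)
    rw [Subgroup.index_top] at h1
    have h2 := natDeg_pos hψ
    nlinarith

end CfsgLib.PF.Sec9Coh
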