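import Cfsg.Agent.Lib.PF.Sec9CohTest
import Cfsg.Agent.Lib.PF.Sec9Setup
import Cfsg.Agent.Lib.PF.Props9
import Cfsg.Agent.Lib.PF.TIDataExists
import Cfsg.Agent.Lib.OddChar.CentralSet

/-!
# The setting of PF (9.11) inside a subgroup of Type II–IV
-/

set_option autoImplicit false
set_option linter.style.haveILetI false
set_option linter.unusedSectionVars false

namespace CfsgLib.PF.Sec9Coh

open scoped Classical ComplexConjugate
open Finset CfsgLib.Characters CfsgLib.OddChar CfsgLib.OddOrder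

universe u

variable {G : Type u} [Group G] [Fintype G] {M W₁ U W₂ H₀ C : Subgroup G} {p : ℕ}

/-- `M'` in `M`. -/
noncomputable def Kin (M : Subgroup G) : Subgroup ↥M := (⁅M, M⁆ : Subgroup G).subgroupOf M

/-- `M_F` in `M`. -/
noncomputable def Hin (M : Subgroup G) : Subgroup ↥M := (Cfsg.fittingHallOf M).subgroupOf M

theorem mem_Kin {x : ↥M} : x ∈ Kin M ↔ (x : G) ∈ (⁅M, M⁆ : Subgroup G) := Subgroup.mem_subgroupOf

theorem mem_Hin {x : ↥M} : x ∈ Hin M ↔ (x : G) ∈ Cfsg.fittingHallOf M := Subgroup.mem_subgroupOf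

section

variable (hd : Cfsg.IsTypePWith M W₁ U W₂) (hF : CoreFactor M W₁ U W₂ H₀ C p)
include hd hF

theorem C_le_M : C ≤ M := hF.C_lt.le.trans (TypeP.U_le hd)

theorem H₀_le_M : H₀ ≤ M := hF.lt.le.trans ((TypeP.core_le_derived hd).trans (Subgroup.commutator_le_self M))

theorem HC_normalised : M ≤ Subgroup.normalizer ((Cfsg.fittingHallOf M ⊔ C : Subgroup G) : Set G) := by
  refine TypeP.le_normalizer_of hd (le_sup_left.trans Subgroup.le_normalizer) ?_ ?_
  all_goals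
    refine Subgroup.le_normalizer_iff.2 fun g hg => ?_
    have h1 : g ∈ Subgroup.normalizer (Cfsg.fittingHallOf M : Set G) := by
      first
      | exact TypeP.U_normalizes_core hd hg
      | exact TypeP.W₁_normalizes_core hd hg
    have h2 : g ∈ Subgroup.normalizer (C : Set G) := by
      first
      | exact hF.C_normal (Subgroup.mem_sup_left hg)
      | exact hF.C_normal (Subgroup.mem_sup_right hg)
    suffices h : Cfsg.fittingHallOf M ⊔ C ≤
        (Cfsg.fittingHallOf M ⊔ C).comap (MulAut.conj g).toMonoidHom from fun x hx => h hx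
    exact sup_le (fun x hx => Subgroup.mem_sup_left ((Subgroup.mem_normalizer_iff.mp h1 x).mp hx))
      (fun x hx => Subgroup.mem_sup_right ((Subgroup.mem_normalizer_iff.mp h2 x).mp hx))

theorem index_Kin : (Kin M).index = Nat.card W₁ := IsComplIn.relIndex_left hd.W₁_compl

/-- The setting in `M`. -/
theorem ctx (hq : (Nat.card W₁).Prime) (h3 : 3 ≤ Nat.card W₁) :
    Ctx (Kin M) (Hin M) (H₀.subgroupOf M) (C.subgroupOf M) (U.subgroupOf M) where
  K_normal := derived_subgroupOf_normal M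
  H_normal := Subgroup.normal_subgroupOf_of_le_normalizer (fittingHallOf_normal M)
  H₀_normal := Subgroup.normal_subgroupOf_of_le_normalizer hF.normal
  H_le := fun x hx => mem_Kin.mpr (TypeP.core_le_derived hd (mem_Hin.mp hx))
  H₀_le := fun x hx => mem_Hin.mpr (hF.lt.le (Subgroup.mem_subgroupOf.mp hx))
  C_le := fun x hx => Subgroup.mem_subgroupOf.mpr (hF.C_lt.le (Subgroup.mem_subgroupOf.mp hx))
  V_le := fun x hx => mem_Kin.mpr (hd.U_compl.2.1 (Subgroup.mem_subgroupOf.mp hx))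
  gen := fun x hx => by
    obtain ⟨h, hh, v, hv, e⟩ := hd.U_compl.2.2.2 (x : G) (mem_Kin.mp hx)
    exact ⟨⟨h, Subgroup.commutator_le_self M (TypeP.core_le_derived hd hh)⟩, mem_Hin.mpr hh,
      ⟨v, TypeP.U_le hd hv⟩, Subgroup.mem_subgroupOf.mpr hv, Subtype.ext e⟩
  HH := fun a ha b hb => Subgroup.mem_subgroupOf.mpr
    (hF.comm_mem a (mem_Hin.mp ha) b (mem_Hin.mp hb))
  CH := fun c hc b hb => Subgroup.mem_subgroupOf.mpr
    (((hF.mem_C c).mp (Subgroup.mem_subgroupOf.mp hc)).2 b (mem_Hin.mp hb))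
  VV := fun a ha b hb => Subgroup.mem_subgroupOf.mpr (hF.derived_le
    (Subgroup.commutator_mem_commutator (Subgroup.mem_subgroupOf.mp ha) (Subgroup.mem_subgroupOf.mp hb)))
  chief := fun X hX h0 hH => by
    have hn : M ≤ Subgroup.normalizer ((X.map M.subtype : Subgroup G) : Set G) := by
      refine Subgroup.le_normalizer_iff.2 fun g hg x hx => ?_
      obtain ⟨y, hy, rfl⟩ := hx
      exact ⟨_, hX.conj_mem y hy ⟨g, hg⟩, rfl⟩
    have h0' : H₀ ≤ X.map M.subtype := fun x hx =>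
      ⟨⟨x, H₀_le_M hd hF hx⟩, h0 (Subgroup.mem_subgroupOf.mpr hx), rfl⟩
    have hH' : X.map M.subtype ≤ Cfsg.fittingHallOf M := by
      rintro _ ⟨y, hy, rfl⟩
      exact mem_Hin.mp (hH hy)
    rcases hF.chief _ h0' hH' hn with e | e
    · refine Or.inl (Subgroup.map_injective M.subtype_injective ?_)
      rw [e, Subgroup.map_subgroupOf_eq_of_le (H₀_le_M hd hF)]
    · refine Or.inr (Subgroup.map_injective M.subtype_injective ?_)
      rw [e, Hin, Subgroup.map_subgroupOf_eq_of_le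
        ((TypeP.core_le_derived hd).trans (Subgroup.commutator_le_self M))]
  mem_C := fun v hv h => Subgroup.mem_subgroupOf.mpr ((hF.mem_C v).mpr
    ⟨Subgroup.mem_subgroupOf.mp hv, fun x hx => Subgroup.mem_subgroupOf.mp
      (h ⟨x, Subgroup.commutator_le_self M (TypeP.core_le_derived hd hx)⟩ (mem_Hin.mpr hx))⟩)
  prime := (index_Kin hd hF).symm ▸ hq
  three_le := (index_Kin hd hF).symm ▸ h3
  HC_normal := by
    rw [Hin, ← Subgroup.subgroupOf_sup
      ((TypeP.core_le_derived hd).trans (Subgroup.commutator_le_self M)) (C_le_M hd hF)]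
    exact Subgroup.normal_subgroupOf_of_le_normalizer (HC_normalised hd hF)
  fpf := fun g hg x hx hgx => by
    have hHM : Cfsg.fittingHallOf M ≤ M :=
      (TypeP.core_le_derived hd).trans (Subgroup.commutator_le_self M)
    have hDM : (⁅M, M⁆ : Subgroup G) ≤ M := Subgroup.commutator_le_self M
    haveI hHn : (Hin M).Normal := Subgroup.normal_subgroupOf_of_le_normalizer (fittingHallOf_normal M)
    haveI hKn : (Kin M).Normal := derived_subgroupOf_normal M
    have hHK : Hin M ≤ Kin M := fun y hy => mem_Kin.mpr (TypeP.core_le_derived hd (mem_Hin.mp hy))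
    set N := Hin M ⊔ C.subgroupOf M with hN
    haveI hNn : N.Normal := by
      rw [hN, Hin, ← Subgroup.subgroupOf_sup hHM (C_le_M hd hF)]
      exact Subgroup.normal_subgroupOf_of_le_normalizer (HC_normalised hd hF)
    -- `K` is abelian modulo `N`
    have habel : ∀ a ∈ Kin M, ∀ b ∈ Kin M, ((a * b : ↥M) : ↥M ⧸ N) = ((b * a : ↥M) : ↥M ⧸ N) := by
      intro a ha b hb
      obtain ⟨h, hh, v, hv, e⟩ := hd.U_compl.2.2.2 (a : G) (mem_Kin.mp ha)
      obtain ⟨k, hk, w, hw, e'⟩ := hd.U_compl.2.2.2 (b : G) (mem_Kin.mp hb)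
      have hz : ∀ (z : G) (hzM : z ∈ M), z ∈ Cfsg.fittingHallOf M →
          ((⟨z, hzM⟩ : ↥M) : ↥M ⧸ N) = 1 := fun z hzM hz =>
        (QuotientGroup.eq_one_iff _).mpr (Subgroup.mem_sup_left (mem_Hin.mpr hz))
      have hc : ((⟨v, TypeP.U_le hd hv⟩ * ⟨w, TypeP.U_le hd hw⟩ * ⟨v, TypeP.U_le hd hv⟩⁻¹ *
          ⟨w, TypeP.U_le hd hw⟩⁻¹ : ↥M) : ↥M ⧸ N) = 1 :=
        (QuotientGroup.eq_one_iff _).mpr (Subgroup.mem_sup_right (Subgroup.mem_subgroupOf.mpr
          (hF.derived_le (Subgroup.commutator_mem_commutator hv hw))))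
      rw [show a = ⟨h, hHM hh⟩ * ⟨v, TypeP.U_le hd hv⟩ from Subtype.ext e,
        show b = ⟨k, hHM hk⟩ * ⟨w, TypeP.U_le hd hw⟩ from Subtype.ext e']
      simp only [QuotientGroup.mk_mul, QuotientGroup.mk_inv, hz h _ hh, hz k _ hk, one_mul] at hc ⊢
      rwa [mul_inv_eq_one, mul_inv_eq_iff_eq_mul] at hc
    obtain ⟨d, hdd, w, hw, eg⟩ := hd.W₁_compl.2.2.2 (g : G) g.2
    obtain ⟨h, hh, v, hv, ex⟩ := hd.U_compl.2.2.2 (x : G) (mem_Kin.mp hx)
    set d' : ↥M := ⟨d, hDM hdd⟩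
    set w' : ↥M := ⟨w, TypeP.W₁_le hd hw⟩
    set h' : ↥M := ⟨h, hHM hh⟩
    set v' : ↥M := ⟨v, TypeP.U_le hd hv⟩
    have hw1 : w ≠ 1 := by
      rintro rfl
      exact hg (mem_Kin.mpr (by rw [eg, mul_one]; exact hdd))
    have hg' : g = d' * w' := Subtype.ext eg
    have hx' : x = h' * v' := Subtype.ext ex
    have h1 : ((h' : ↥M) : ↥M ⧸ N) = 1 :=
      (QuotientGroup.eq_one_iff _).mpr (Subgroup.mem_sup_left (mem_Hin.mpr hh))
    have hvK : v' ∈ Kin M := mem_Kin.mpr (hd.U_compl.2.1 hv)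
    have hwv : w' * v' * w'⁻¹ ∈ Kin M := hKn.conj_mem v' hvK w'
    have h2 : ((w' * v' * w'⁻¹ * v'⁻¹ : ↥M) : ↥M ⧸ N) = 1 := by
      rw [← QuotientGroup.eq_one_iff, hg', hx'] at hgx
      simp only [QuotientGroup.mk_mul, QuotientGroup.mk_inv, h1, one_mul, mul_inv_rev] at hgx ⊢
      have e := habel d' (mem_Kin.mpr hdd) _ hwv
      simp only [QuotientGroup.mk_mul, QuotientGroup.mk_inv] at e
      rw [← hgx]
      have e2 : (d' : ↥M ⧸ N) * ((w' : ↥M ⧸ N) * v' * (w' : ↥M ⧸ N)⁻¹) * (d' : ↥M ⧸ N)⁻¹ =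
          (w' : ↥M ⧸ N) * v' * (w' : ↥M ⧸ N)⁻¹ := by rw [e, mul_inv_cancel_right]
      conv_lhs => rw [← e2]
      group
    have h3 : w * v * w⁻¹ * v⁻¹ ∈ C := by
      have h4 := (QuotientGroup.eq_one_iff _).mp h2
      rw [hN] at h4
      obtain ⟨y, hy, c, hc, e⟩ := Subgroup.mem_sup_of_normal_left.mp h4
      have e' : (y : G) * c = w * v * w⁻¹ * v⁻¹ := congrArg Subtype.val e
      have hwvU : w * v * w⁻¹ * v⁻¹ ∈ U :=
        U.mul_mem ((Subgroup.mem_normalizer_iff.mp (hd.U_normal hw) v).mp hv) (U.inv_mem hv)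
      have hyU : (y : G) ∈ U ⊓ Cfsg.fittingHallOf M := ⟨by
        have : (y : G) = w * v * w⁻¹ * v⁻¹ * (c : G)⁻¹ := by rw [← e']; group
        rw [this]
        exact U.mul_mem hwvU (U.inv_mem (hF.C_lt.le (Subgroup.mem_subgroupOf.mp hc))), mem_Hin.mp hy⟩
      rw [TypeP.U_inf_core hd, Subgroup.mem_bot] at hyU
      rw [← e', hyU, one_mul]
      exact Subgroup.mem_subgroupOf.mp hc
    rw [hx']
    exact N.mul_mem (Subgroup.mem_sup_left (mem_Hin.mpr hh))
      (Subgroup.mem_sup_right (Subgroup.mem_subgroupOf.mpr (hF.fpf w hw hw1 v hv h3)))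

/-- `|M' : M_F C| = |U : C|`. -/
theorem relIndex_HC : (Hin M ⊔ C.subgroupOf M).relIndex (Kin M) = C.relIndex U := by
  have hHM : Cfsg.fittingHallOf M ≤ M :=
    (TypeP.core_le_derived hd).trans (Subgroup.commutator_le_self M)
  haveI : (Hin M).Normal := Subgroup.normal_subgroupOf_of_le_normalizer (fittingHallOf_normal M)
  have hle : Hin M ⊔ C.subgroupOf M ≤ Kin M := sup_le
    (fun y hy => mem_Kin.mpr (TypeP.core_le_derived hd (mem_Hin.mp hy)))
    (fun y hy => mem_Kin.mpr (hd.U_compl.2.1 (hF.C_lt.le (Subgroup.mem_subgroupOf.mp hy))))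
  have hdis : Hin M ⊓ C.subgroupOf M = ⊥ := by
    refine le_bot_iff.mp fun y hy => ?_
    have : (y : G) ∈ U ⊓ Cfsg.fittingHallOf M :=
      ⟨hF.C_lt.le (Subgroup.mem_subgroupOf.mp hy.2), mem_Hin.mp hy.1⟩
    rw [TypeP.U_inf_core hd, Subgroup.mem_bot] at this
    exact Subgroup.mem_bot.mpr (Subtype.ext this)
  have h1 := card_mul_relIndex_of_le hle
  rw [Sec12.card_sup_disj hdis] at h1
  have h2 : Nat.card (Kin M) = Nat.card (Cfsg.fittingHallOf M) * Nat.card U := by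
    rw [Kin, Nat.card_congr (Subgroup.subgroupOfEquivOfLe (Subgroup.commutator_le_self M)).toEquiv]
    exact TypeP.card_derived hd
  rw [h2, Hin, Nat.card_congr (Subgroup.subgroupOfEquivOfLe hHM).toEquiv,
    Nat.card_congr (Subgroup.subgroupOfEquivOfLe (C_le_M hd hF)).toEquiv,
    ← card_mul_relIndex_of_le hF.C_lt.le, mul_assoc] at h1
  exact Nat.eq_of_mul_eq_mul_left Nat.card_pos (Nat.eq_of_mul_eq_mul_left Nat.card_pos h1)

/-- `|M' : H₀ C| = |U : C| p^q`. -/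
theorem relIndex_H₀C : ((H₀ ⊔ C).subgroupOf M).relIndex (Kin M) = p ^ Nat.card W₁ * C.relIndex U := by
  have hHM : Cfsg.fittingHallOf M ≤ M :=
    (TypeP.core_le_derived hd).trans (Subgroup.commutator_le_self M)
  haveI : (H₀.subgroupOf M).Normal := Subgroup.normal_subgroupOf_of_le_normalizer hF.normal
  rw [Subgroup.subgroupOf_sup (H₀_le_M hd hF) (C_le_M hd hF)]
  have hle : H₀.subgroupOf M ⊔ C.subgroupOf M ≤ Kin M := sup_le
    (fun y hy => mem_Kin.mpr (TypeP.core_le_derived hd (hF.lt.le (Subgroup.mem_subgroupOf.mp hy))))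
    (fun y hy => mem_Kin.mpr (hd.U_compl.2.1 (hF.C_lt.le (Subgroup.mem_subgroupOf.mp hy))))
  have hdis : H₀.subgroupOf M ⊓ C.subgroupOf M = ⊥ := by
    refine le_bot_iff.mp fun y hy => ?_
    have : (y : G) ∈ U ⊓ Cfsg.fittingHallOf M :=
      ⟨hF.C_lt.le (Subgroup.mem_subgroupOf.mp hy.2), hF.lt.le (Subgroup.mem_subgroupOf.mp hy.1)⟩
    rw [TypeP.U_inf_core hd, Subgroup.mem_bot] at this
    exact Subgroup.mem_bot.mpr (Subtype.ext this)
  have h1 := card_mul_relIndex_of_le hle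
  rw [Sec12.card_sup_disj hdis] at h1
  have h2 : Nat.card (Kin M) = Nat.card (Cfsg.fittingHallOf M) * Nat.card U := by
    rw [Kin, Nat.card_congr (Subgroup.subgroupOfEquivOfLe (Subgroup.commutator_le_self M)).toEquiv]
    exact TypeP.card_derived hd
  rw [h2, Nat.card_congr (Subgroup.subgroupOfEquivOfLe (H₀_le_M hd hF)).toEquiv,
    Nat.card_congr (Subgroup.subgroupOfEquivOfLe (C_le_M hd hF)).toEquiv,
    ← card_mul_relIndex_of_le hF.lt.le, hF.card, ← card_mul_relIndex_of_le hF.C_lt.le] at h1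
  refine Nat.eq_of_mul_eq_mul_left (mul_pos (Nat.card_pos (α := H₀)) (Nat.card_pos (α := C))) ?_
  rw [h1]; ring

/-- A character trivial on `H₀` and `[C, C]` takes its degree on the commutators of `M_F C`. -/
theorem comm_kernel {θ : Kin M → ℂ} (hθ : Cfsg.IsIrrCharacter (Kin M) θ)
    (hA : ∀ k : Kin M, ((k : ↥M) : G) ∈ H₀ ⊔ ⁅C, C⁆ → θ k = θ 1) :
    ∀ a ∈ (Hin M ⊔ C.subgroupOf M).subgroupOf (Kin M),
      ∀ b ∈ (Hin M ⊔ C.subgroupOf M).subgroupOf (Kin M), θ (a * b * a⁻¹ * b⁻¹) = θ 1 := by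
  intro a ha b hb
  obtain ⟨n, ρ, hρ, rfl⟩ := hθ
  haveI : (Hin M).Normal := Subgroup.normal_subgroupOf_of_le_normalizer (fittingHallOf_normal M)
  have hHK : Hin M ≤ Kin M := fun y hy => mem_Kin.mpr (TypeP.core_le_derived hd (mem_Hin.mp hy))
  have hCK : C.subgroupOf M ≤ Kin M := fun y hy =>
    mem_Kin.mpr (hd.U_compl.2.1 (hF.C_lt.le (Subgroup.mem_subgroupOf.mp hy)))
  obtain ⟨h, hh, c, hc, e⟩ := Subgroup.mem_sup_of_normal_left.mp (Subgroup.mem_subgroupOf.mp ha)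
  obtain ⟨k, hk, c', hc', e'⟩ := Subgroup.mem_sup_of_normal_left.mp (Subgroup.mem_subgroupOf.mp hb)
  have hcomm : ∀ s t : Kin M,
      ((s : ↥M) : G) * t * ((s : ↥M) : G)⁻¹ * ((t : ↥M) : G)⁻¹ ∈ H₀ ⊔ ⁅C, C⁆ →
      Commute (ρ s) (ρ t) := by
    intro s t hst
    have h1 : ρ (s * t * s⁻¹ * t⁻¹) = 1 := (char_eq_degree_iff ρ _).mp (by
      rw [hA _ (by simpa using hst), Representation.char_one])
    show ρ s * ρ t = ρ t * ρ s
    rw [← map_mul, ← map_mul, show s * t = s * t * s⁻¹ * t⁻¹ * (t * s) by group, map_mul, h1, one_mul]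
  set h' : Kin M := ⟨h, hHK hh⟩
  set c₁ : Kin M := ⟨c, hCK hc⟩
  set k' : Kin M := ⟨k, hHK hk⟩
  set c₂ : Kin M := ⟨c', hCK hc'⟩
  have hab : Commute (ρ a) (ρ b) := by
    rw [show a = h' * c₁ from Subtype.ext e.symm, show b = k' * c₂ from Subtype.ext e'.symm, map_mul,
      map_mul]
    have r1 : Commute (ρ h') (ρ k') := hcomm _ _
      (Subgroup.mem_sup_left (hF.comm_mem _ (mem_Hin.mp hh) _ (mem_Hin.mp hk)))
    have r2 : Commute (ρ c₂) (ρ h') := hcomm _ _ (Subgroup.mem_sup_left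
      (((hF.mem_C _).mp (Subgroup.mem_subgroupOf.mp hc')).2 _ (mem_Hin.mp hh)))
    have r3 : Commute (ρ c₁) (ρ k') := hcomm _ _ (Subgroup.mem_sup_left
      (((hF.mem_C _).mp (Subgroup.mem_subgroupOf.mp hc)).2 _ (mem_Hin.mp hk)))
    have r4 : Commute (ρ c₁) (ρ c₂) := hcomm _ _ (Subgroup.mem_sup_right
      (Subgroup.commutator_mem_commutator (Subgroup.mem_subgroupOf.mp hc) (Subgroup.mem_subgroupOf.mp hc')))
    exact (r1.mul_right r2.symm).mul_left (r3.mul_right r4)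
  have h2 : ρ (a * b * a⁻¹ * b⁻¹) = 1 := by
    rw [map_mul, map_mul, map_mul, hab.eq, mul_assoc (ρ b), ← map_mul, mul_inv_cancel, map_one, mul_one,
      ← map_mul, mul_inv_cancel, map_one]
  rw [show Representation.character ρ (a * b * a⁻¹ * b⁻¹) = LinearMap.trace ℂ _ (ρ (a * b * a⁻¹ * b⁻¹))
    from rfl, h2, ← map_one ρ]
  rfl

end

end CfsgLib.PF.Sec9Coh
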