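import Cfsg.Agent.Lib.PF.Sec9CohChar

/-!
# The test function for the limiting case of PF (9.11)
-/

set_option autoImplicit false
set_option linter.style.haveILetI false
set_option linter.unusedSectionVars false

namespace CfsgLib.PF.Sec9Coh

open scoped Classical ComplexConjugate
open Finset CfsgLib.Characters CfsgLib.OddChar CfsgLib.Clifford

universe u

variable {L : Type u} [Group L]

/-- `L` has the normal subgroup `K = H V` of prime index, `H₀ ≤ H` an abelian chief factor, `C` the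
kernel of `V` on it, `V` abelian modulo `C` and acted on without fixed points modulo `C` outside `K`. -/
structure Ctx (K H H₀ C V : Subgroup L) : Prop where
  K_normal : K.Normal
  H_normal : H.Normal
  H₀_normal : H₀.Normal
  H_le : H ≤ K
  H₀_le : H₀ ≤ H
  C_le : C ≤ V
  V_le : V ≤ K
  gen : ∀ x ∈ K, ∃ h ∈ H, ∃ v ∈ V, x = h * v
  HH : ∀ a ∈ H, ∀ b ∈ H, a * b * a⁻¹ * b⁻¹ ∈ H₀
  CH : ∀ c ∈ C, ∀ b ∈ H, c * b * c⁻¹ * b⁻¹ ∈ H₀
  VV : ∀ a ∈ V, ∀ b ∈ V, a * b * a⁻¹ * b⁻¹ ∈ C
  chief : ∀ X : Subgroup L, X.Normal → H₀ ≤ X → X ≤ H → X = H₀ ∨ X = H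
  mem_C : ∀ v ∈ V, (∀ h ∈ H, v * h * v⁻¹ * h⁻¹ ∈ H₀) → v ∈ C
  prime : K.index.Prime
  three_le : 3 ≤ K.index
  HC_normal : (H ⊔ C).Normal
  fpf : ∀ g : L, g ∉ K → ∀ x ∈ K, g * x * g⁻¹ * x⁻¹ ∈ H ⊔ C → x ∈ H ⊔ C

variable {K H H₀ C V : Subgroup L}

theorem Ctx.HC_le (hc : Ctx K H H₀ C V) : H ⊔ C ≤ K := sup_le hc.H_le (hc.C_le.trans hc.V_le)

/-- `K` is abelian modulo `H C`. -/
theorem Ctx.comm_mem (hc : Ctx K H H₀ C V) {a b : L} (ha : a ∈ K) (hb : b ∈ K) :
    a * b * a⁻¹ * b⁻¹ ∈ H ⊔ C := by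
  haveI := hc.HC_normal
  obtain ⟨h, hh, v, hv, rfl⟩ := hc.gen a ha
  obtain ⟨k, hk, w, hw, rfl⟩ := hc.gen b hb
  have e : ∀ z ∈ H ⊔ C, (z : L ⧸ (H ⊔ C)) = 1 := fun z hz => (QuotientGroup.eq_one_iff z).mpr hz
  have e1 : ((v * w * v⁻¹ * w⁻¹ : L) : L ⧸ (H ⊔ C)) = 1 :=
    e _ (Subgroup.mem_sup_right (hc.VV v hv w hw))
  rw [← QuotientGroup.eq_one_iff]
  simp only [QuotientGroup.mk_mul, QuotientGroup.mk_inv, e h (Subgroup.mem_sup_left hh),
    e k (Subgroup.mem_sup_left hk), one_mul] at e1 ⊢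
  exact e1

/-- Conjugates of `T` by the powers of an element outside `K` meet in `H C`. -/
theorem Ctx.le_sup_of_powers [Finite L] (hc : Ctx K H H₀ C V) (T : Subgroup L) (hHT : H ≤ T)
    (hCT : C ≤ T) (_hTK : T ≤ K) (hTn : ∀ k ∈ K, ∀ t ∈ T, k * t * k⁻¹ ∈ T) (lam : H →* ℂˣ)
    (hlam : lam ≠ 1) (hlam₀ : ∀ h : H, (h : L) ∈ H₀ → lam h = 1)
    (hTl : ∀ t ∈ T, ∀ h : H, ∀ h' : H, (h' : L) = t * h * t⁻¹ → lam h' = lam h)
    {x y : L} (hx : x ∉ K) (hy : y ∈ K)
    (hyT : ∀ i < K.index - 1, x ^ i * y * (x ^ i)⁻¹ ∈ T) : y ∈ H ⊔ C := by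
  haveI := hc.K_normal
  haveI := hc.H_normal
  haveI := hc.HC_normal
  set q := K.index with hq
  have hq1 : 1 < q := hc.prime.one_lt
  haveI : Fact q.Prime := ⟨hc.prime⟩
  -- the image in `K / H C`
  set N := (H ⊔ C).subgroupOf K with hN
  haveI : IsMulCommutative (K ⧸ N) := ⟨⟨fun a b => by
    obtain ⟨a, rfl⟩ := QuotientGroup.mk_surjective a
    obtain ⟨b, rfl⟩ := QuotientGroup.mk_surjective b
    rw [← QuotientGroup.mk_mul, ← QuotientGroup.mk_mul, eq_comm, QuotientGroup.eq]
    rw [hN, Subgroup.mem_subgroupOf]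
    have := hc.comm_mem (K.inv_mem b.2) (K.inv_mem a.2)
    have e : (((b * a)⁻¹ * (a * b) : K) : L) = (a : L)⁻¹ * (b : L)⁻¹ * a * b := by
      push_cast; group
    rw [e]
    have e' := hc.comm_mem (K.inv_mem a.2) (K.inv_mem b.2)
    simpa [mul_assoc] using e'⟩⟩
  letI : CommGroup (K ⧸ N) := { (inferInstance : Group (K ⧸ N)) with
    mul_comm := fun a b => IsMulCommutative.is_comm.comm a b }
  let z : ℕ → K := fun i => ⟨x ^ i * y * (x ^ i)⁻¹, hc.K_normal.conj_mem y hy _⟩
  set P : K ⧸ N := ∏ i ∈ Finset.range q, (z i : K ⧸ N) with hP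
  have hzq : (z q : K ⧸ N) = z 0 := by
    rw [eq_comm, QuotientGroup.eq, hN, Subgroup.mem_subgroupOf]
    have hxq : x ^ q ∈ K := by
      rw [← QuotientGroup.eq_one_iff, QuotientGroup.mk_pow, hq, Subgroup.index_eq_card]
      exact pow_card_eq_one'
    have := hc.comm_mem hxq (K.inv_mem hy)
    show ((z 0)⁻¹ * z q : K).val ∈ H ⊔ C
    simp only [z, Subgroup.coe_mul, Subgroup.coe_inv, pow_zero, one_mul, inv_one, mul_one]
    have h3 := (H ⊔ C).inv_mem this
    have e : y⁻¹ * (x ^ q * y * (x ^ q)⁻¹) = (x ^ q * y⁻¹ * (x ^ q)⁻¹ * y⁻¹⁻¹)⁻¹ := by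
      group
    rw [e]; exact h3
  have hP1 : P = 1 := by
    obtain ⟨k, hk⟩ := QuotientGroup.mk_surjective P
    let σ₀ : K →* K := CfsgLib.Clifford.conjHom hc.K_normal x
    have hσN : N ≤ N.comap σ₀ := fun n hn => by
      rw [hN, Subgroup.mem_subgroupOf] at hn
      rw [Subgroup.mem_comap, hN, Subgroup.mem_subgroupOf]
      exact hc.HC_normal.conj_mem _ hn x
    let σ : K ⧸ N →* K ⧸ N := QuotientGroup.map N N σ₀ hσN
    have hσ : ∀ i, σ (z i) = z (i + 1) := fun i => by
      rw [QuotientGroup.map_mk]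
      exact congrArg _ (Subtype.ext (show x * (x ^ i * y * (x ^ i)⁻¹) * x⁻¹ = _ by
        simp [z, pow_succ', mul_assoc]))
    have hσP : σ P = P := by
      rw [hP, map_prod, Finset.prod_congr rfl fun i _ => hσ i]
      have h1 := Finset.prod_range_succ (fun i => (z i : K ⧸ N)) q
      rw [Finset.prod_range_succ', hzq, mul_left_inj] at h1
      exact h1
    rw [← hk] at hσP ⊢
    rw [QuotientGroup.map_mk, eq_comm, QuotientGroup.eq, hN, Subgroup.mem_subgroupOf] at hσP
    rw [QuotientGroup.eq_one_iff, hN, Subgroup.mem_subgroupOf]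
    refine hc.fpf x hx k k.2 ?_
    have h2 := hc.HC_normal.conj_mem _ hσP k
    simpa [σ₀, CfsgLib.Clifford.conjHom, mul_assoc] using h2
  -- every conjugate lies in `T`
  have hlast : x ^ (q - 1) * y * (x ^ (q - 1))⁻¹ ∈ T := by
    rw [hP, show q = q - 1 + 1 by omega, Finset.prod_range_succ] at hP1
    have hmem : ∏ i ∈ Finset.range (q - 1), (z i : K ⧸ N) ∈
        (T.subgroupOf K).map (QuotientGroup.mk' N) :=
      Subgroup.prod_mem _ fun i hi => ⟨z i, Subgroup.mem_subgroupOf.mpr (hyT i (Finset.mem_range.mp hi)), rfl⟩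
    rw [eq_inv_of_mul_eq_one_left hP1, Subgroup.inv_mem_iff] at hmem
    obtain ⟨t, ht, e⟩ := hmem
    have e' := QuotientGroup.eq.mp e
    rw [hN, Subgroup.mem_subgroupOf, Subgroup.coe_mul, Subgroup.coe_inv] at e'
    have := T.mul_mem (Subgroup.mem_subgroupOf.mp ht) ((sup_le hHT hCT) e')
    simpa [z] using this
  have hall : ∀ g : L, g * y * g⁻¹ ∈ T := by
    intro g
    haveI : IsCyclic (L ⧸ K) := isCyclic_of_prime_card (p := q) (by rw [hq, Subgroup.index_eq_card])
    have hgen : (g : L ⧸ K) ∈ Subgroup.zpowers (x : L ⧸ K) := by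
      rw [zpowers_eq_top_of_prime_card (p := q) (by rw [hq, Subgroup.index_eq_card])
        (fun e => hx ((QuotientGroup.eq_one_iff x).mp e))]
      exact Subgroup.mem_top _
    obtain ⟨i, hi⟩ := mem_powers_iff_mem_zpowers.mpr hgen
    have hxq' : ((x : L ⧸ K)) ^ q = 1 := by
      rw [hq, Subgroup.index_eq_card]; exact pow_card_eq_one'
    have hi' : ((x ^ (i % q) : L) : L ⧸ K) = g := by
      rw [QuotientGroup.mk_pow, ← hi]
      exact (pow_eq_pow_mod i hxq').symm
    rw [eq_comm, QuotientGroup.eq] at hi'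
    have hlt : i % q < q := Nat.mod_lt _ (by omega)
    have hin : x ^ (i % q) * y * (x ^ (i % q))⁻¹ ∈ T := by
      rcases (Nat.le_sub_one_of_lt hlt).lt_or_eq with h | h
      · exact hyT _ h
      · rw [h]; exact hlast
    have hk2 : g * (x ^ (i % q))⁻¹ ∈ K := by
      have := hc.K_normal.conj_mem _ (K.inv_mem hi') g
      simpa [mul_assoc] using this
    have := hTn _ hk2 _ hin
    simpa [mul_assoc] using this
  obtain ⟨h, hh, v, hv, rfl⟩ := hc.gen y hy
  refine Subgroup.mul_mem _ (Subgroup.mem_sup_left hh) (Subgroup.mem_sup_right (hc.mem_C v hv ?_))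
  have hvT : ∀ g : L, g * v * g⁻¹ ∈ T := fun g => by
    have := T.mul_mem (T.inv_mem (hHT (hc.H_normal.conj_mem h hh g))) (hall g)
    simpa [mul_assoc] using this
  let X : Subgroup L :=
    { carrier := {b | ∃ hb : b ∈ H, ∀ g : L, lam (MulAut.conjNormal g ⟨b, hb⟩) = 1}
      one_mem' := ⟨H.one_mem, fun g => by
        rw [show (⟨1, H.one_mem⟩ : H) = 1 from rfl, map_one, map_one]⟩
      mul_mem' := fun {a b} ha hb => ⟨H.mul_mem ha.1 hb.1, fun g => by
        rw [show (⟨a * b, H.mul_mem ha.1 hb.1⟩ : H) = ⟨a, ha.1⟩ * ⟨b, hb.1⟩ from rfl, map_mul,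
          map_mul, ha.2 g, hb.2 g, one_mul]⟩
      inv_mem' := fun {a} ha => ⟨H.inv_mem ha.1, fun g => by
        rw [show (⟨a⁻¹, H.inv_mem ha.1⟩ : H) = ⟨a, ha.1⟩⁻¹ from rfl, map_inv, map_inv, ha.2 g,
          inv_one]⟩ }
  have hXn : X.Normal := ⟨fun b hb g => ⟨hc.H_normal.conj_mem b hb.1 g, fun g' => by
    rw [← hb.2 (g' * g)]
    congr 1
    exact Subtype.ext (by simp [mul_assoc])⟩⟩
  have hX0 : H₀ ≤ X := fun b hb => ⟨hc.H₀_le hb, fun g => hlam₀ _ (by
    simpa using hc.H₀_normal.conj_mem b hb g)⟩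
  have hXne : X ≠ H := fun e => hlam (MonoidHom.ext fun b => by
    obtain ⟨_, hb⟩ := (e.symm ▸ b.2 : (b : L) ∈ X)
    rw [MonoidHom.one_apply, ← hb 1, map_one, MulAut.one_apply])
  intro b hb
  rw [← (hc.chief X hXn hX0 fun b hb => hb.1).resolve_right hXne]
  have hm : v * b * v⁻¹ * b⁻¹ ∈ H := H.mul_mem (hc.H_normal.conj_mem b hb v) (H.inv_mem hb)
  refine ⟨hm, fun g => ?_⟩
  have e := hTl _ (hvT g) (MulAut.conjNormal g ⟨b, hb⟩)
    (MulAut.conjNormal (g * v) ⟨b, hb⟩) (by simp [mul_assoc])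
  rw [show MulAut.conjNormal g ⟨v * b * v⁻¹ * b⁻¹, hm⟩ =
    MulAut.conjNormal (g * v) ⟨b, hb⟩ * (MulAut.conjNormal g (⟨b, hb⟩ : H))⁻¹ from
    Subtype.ext (by simp [mul_assoc]), map_mul, map_inv, e, mul_inv_cancel]

variable [Fintype L]

/-- The test function. -/
theorem Ctx.exists_test (hc : Ctx K H H₀ C V) [Fintype K] {θ : K → ℂ} (hθ : Cfsg.IsIrrCharacter K θ)
    (hirr : Cfsg.IsIrrCharacter L (Cfsg.indFun K θ))
    (hH₀ : ∀ k : K, (k : L) ∈ H₀ → θ k = θ 1) (hC : ∀ k : K, (k : L) ∈ C → θ k = θ 1)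
    (hne : ∃ k : K, (k : L) ∈ H ∧ θ k ≠ θ 1) :
    ∃ Λ : L → ℂ, Cfsg.IsClassFunction L Λ ∧ Cfsg.IsGeneralizedCharacter L Λ ∧ Λ 1 = 0 ∧
      (∀ x : L, Λ x ≠ 0 → x ∈ K ∧ ∃ h ∈ H, h ≠ 1 ∧ x * h = h * x) ∧
      (∀ η : K → ℂ, Cfsg.IsIrrCharacter K η → (∃ k : K, (k : L) ∈ H ∧ η k ≠ η 1) →
        Cfsg.classInner Λ (Cfsg.indFun K η) =
          -Cfsg.classInner (Cfsg.indFun K θ) (Cfsg.indFun K η)) ∧
      ∃ r : ℝ, Cfsg.classInner Λ Λ = (r : ℂ) ∧
        ((H ⊔ C).relIndex K : ℝ) * (r - natDeg θ - 1) ≤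
          ((K.index : ℝ) - 1) * (natDeg θ : ℝ) ^ (K.index - 1) := by
  haveI := hc.K_normal
  haveI := hc.H_normal
  set Hk := H.subgroupOf K with hHk
  haveI : Hk.Normal := Subgroup.normal_subgroupOf
  haveI : Fintype Hk := Fintype.ofFinite _
  have hneK : ∃ h ∈ Hk, θ h ≠ θ 1 := by
    obtain ⟨k, hk, hk'⟩ := hne
    exact ⟨k, Subgroup.mem_subgroupOf.mpr hk, hk'⟩
  obtain ⟨T, lam, hlam, hlam₀, hTmem, hHT, hCT, hTi, hTn⟩ := exists_inertia hθ (H₀.subgroupOf K)
    (C.subgroupOf K) (V.subgroupOf K) (fun k hk => hH₀ k (Subgroup.mem_subgroupOf.mp hk))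
    (fun k hk => hC k (Subgroup.mem_subgroupOf.mp hk)) hneK
    (fun a ha b hb => Subgroup.mem_subgroupOf.mpr
      (hc.HH a (Subgroup.mem_subgroupOf.mp ha) b (Subgroup.mem_subgroupOf.mp hb)))
    (fun a ha b hb => Subgroup.mem_subgroupOf.mpr
      (hc.CH a (Subgroup.mem_subgroupOf.mp ha) b (Subgroup.mem_subgroupOf.mp hb)))
    (fun a ha b hb => Subgroup.mem_subgroupOf.mpr
      (hc.VV a (Subgroup.mem_subgroupOf.mp ha) b (Subgroup.mem_subgroupOf.mp hb)))
    (fun x => by
      obtain ⟨h, hh, v, hv, e⟩ := hc.gen x x.2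
      exact ⟨⟨h, hc.H_le hh⟩, Subgroup.mem_subgroupOf.mpr hh, ⟨v, hc.V_le hv⟩,
        Subgroup.mem_subgroupOf.mpr hv, Subtype.ext e⟩)
  set a := natDeg θ with ha
  haveI : T.Normal := hTn
  haveI : Fintype T := Fintype.ofFinite _
  have hcT : Cfsg.IsCharacter K (Cfsg.indFun T (fun _ => (1 : ℂ))) :=
    CfsgLib.Induction.isCharacter_indFun T CfsgLib.Induction.isCharacter_const_one
  set φ : K → ℂ := fun k => if k ∈ T then (a : ℂ) else 0 with hφ
  have hφeq : Cfsg.indFun T (fun _ => (1 : ℂ)) = φ := by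
    funext k
    by_cases hk : k ∈ T
    · rw [show (k : K) = ((⟨k, hk⟩ : T) : K) from rfl, CfsgLib.Induction.indFun_normal_apply]
      simp only [hφ, hk, if_true, Finset.sum_const, Finset.card_univ, nsmul_eq_mul, mul_one]
      rw [← Nat.card_eq_fintype_card, ← T.card_mul_index, hTi]
      push_cast
      rw [inv_mul_cancel_left₀ (Nat.cast_ne_zero.mpr Nat.card_pos.ne')]
    · rw [CfsgLib.Induction.indFun_normal_eq_zero T hk]
      simp [hφ, hk]
  have hφc : Cfsg.IsCharacter K φ := hφeq ▸ hcT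
  have hθc := isCharacter_of_irr hθ
  set f : K → ℂ := φ - θ with hf
  have hφcl := isClassFunction_of_isCharacter hφc
  have hθcl := isClassFunction_of_isCharacter hθc
  have hfcl : Cfsg.IsClassFunction K f := isClassFunction_sub hφcl hθcl
  -- orthogonality to the characters non-trivial on `H`
  have horth : ∀ η : K → ℂ, Cfsg.IsIrrCharacter K η →
      (∃ k : K, (k : L) ∈ H ∧ η k ≠ η 1) →
      ∀ g : L, Cfsg.classInner φ (conjChar hc.K_normal η g) = 0 := by
    intro η hη hηne g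
    have hη' := isIrrCharacter_conjChar hc.K_normal hη g
    have hne' : ∃ k ∈ Hk, conjChar hc.K_normal η g k ≠ conjChar hc.K_normal η g 1 := by
      obtain ⟨k, hk, hk'⟩ := hηne
      refine ⟨⟨g⁻¹ * k * g, hc.K_normal.conj_mem' _ k.2 g⟩, Subgroup.mem_subgroupOf.mpr
        (hc.H_normal.conj_mem' _ hk g), ?_⟩
      rw [conjChar_apply_one]
      convert hk' using 2
      exact congrArg η (Subtype.ext (by simp [conjChar, mul_assoc]))
    set η' := conjChar hc.K_normal η g with hη'def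
    have hsum0 : ∑ t : K, (if t ∈ T then η' t else 0) = 0 := by
      have h1 : ∀ h : Hk, ∑ t : K, (if t ∈ T then η' (t * h) else 0) =
          ∑ t : K, (if t ∈ T then η' t else 0) := fun h => by
        refine Fintype.sum_equiv (Equiv.mulRight (h : K)) _ _ fun t => ?_
        simp only [Equiv.coe_mulRight, Subgroup.mul_mem_cancel_right T (hHT h.2)]
      have h2 : ∑ h : Hk, ∑ t : K, (if t ∈ T then η' (t * h) else 0) = 0 := by
        rw [Finset.sum_comm]
        refine Finset.sum_eq_zero fun t _ => ?_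
        split_ifs with ht
        · exact sum_translate_eq_zero hη' hne' t
        · simp
      rw [Finset.sum_congr rfl fun h _ => h1 h, Finset.sum_const, Finset.card_univ, nsmul_eq_mul] at h2
      exact (mul_eq_zero.mp h2).resolve_left (Nat.cast_ne_zero.mpr Fintype.card_ne_zero)
    rw [classInner_conj_symm, Cfsg.classInner, ← map_zero (starRingEnd ℂ)]
    congr 1
    have e : ∀ t : K, η' t * conj (φ t) = (a : ℂ) * (if t ∈ T then η' t else 0) := fun t => by
      simp only [hφ]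
      split_ifs <;> simp [mul_comm]
    rw [Finset.sum_congr rfl fun t _ => e t, ← Finset.mul_sum]
    simp [hsum0]
  refine ⟨Cfsg.indFun K f, CfsgLib.Induction.isClassFunction_indFun K f, ?_, ?_, ?_, ?_, ?_⟩
  · rw [hf, CfsgLib.Induction.indFun_sub]
    exact isGeneralizedCharacter_sub
      (isGeneralizedCharacter_of_isCharacter (CfsgLib.Induction.isCharacter_indFun K hφc))
      (isGeneralizedCharacter_of_isCharacter (CfsgLib.Induction.isCharacter_indFun K hθc))
  · rw [CfsgLib.Induction.indFun_one_apply, hf, Pi.sub_apply, natDeg_spec hθc]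
    simp [hφ, T.one_mem, ha]
  · intro x hx
    have hxK : x ∈ K := by
      by_contra hxK
      exact hx (CfsgLib.Induction.indFun_normal_eq_zero K hxK)
    refine ⟨hxK, ?_⟩
    by_contra hno
    push Not at hno
    refine hx ?_
    rw [show x = ((⟨x, hxK⟩ : K) : L) from rfl, CfsgLib.Induction.indFun_normal_apply,
      Finset.sum_eq_zero, mul_zero]
    intro g _
    set k : K := ⟨g * x * g⁻¹, hc.K_normal.conj_mem x hxK g⟩ with hk
    have hfree : ∀ h ∈ Hk, k * h = h * k → h = 1 := by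
      intro h hh he
      have h1 := congrArg Subtype.val he
      simp only [hk, Subgroup.coe_mul] at h1
      by_contra hne1
      refine hno (g⁻¹ * h * g) (by
        simpa using hc.H_normal.conj_mem _ (Subgroup.mem_subgroupOf.mp hh) g⁻¹) (fun e => hne1 ?_) ?_
      · refine Subtype.ext ?_
        have := congrArg (fun z => g * z * g⁻¹) e
        simpa [mul_assoc] using this
      · calc x * (g⁻¹ * (h : L) * g) = g⁻¹ * (g * x * g⁻¹ * (h : L)) * g := by group
          _ = g⁻¹ * ((h : L) * (g * x * g⁻¹)) * g := by rw [h1]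
          _ = _ := by group
    have hθ0 : θ k = 0 := apply_eq_zero_of_fpf (isClassFunction_of_isCharacter hθc)
      (sum_translate_eq_zero hθ hneK) hfree
    have hkT : k ∉ T := by
      intro hkT
      refine Sec12.fixed_ne_bot hlam ((hTmem k).mp hkT) (le_bot_iff.mp fun h hh => ?_)
      rw [Subgroup.mem_bot]
      exact hfree h hh.1 (Subgroup.mem_centralizer_singleton_iff.mp hh.2).symm
    show f k = 0
    simp [hf, hφ, hkT, hθ0]
  · intro η hη hηne
    have hzero : Cfsg.classInner (Cfsg.indFun K φ) (Cfsg.indFun K η) = 0 := by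
      rw [classInner_indFun_indFun hc.K_normal hφcl, Finset.sum_eq_zero fun x _ => horth η hη hηne x,
        mul_zero]
    rw [hf, CfsgLib.Induction.indFun_sub, classInner_sub_left, hzero, zero_sub]
  · have hφθ : Cfsg.classInner (Cfsg.indFun K φ) (Cfsg.indFun K θ) = 0 := by
      rw [classInner_indFun_indFun hc.K_normal hφcl, Finset.sum_eq_zero fun x _ => horth θ hθ hne x,
        mul_zero]
    -- the conjugates of `T`
    set Tg : L → Subgroup K := fun g => T.comap (conjHom hc.K_normal g) with hTg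
    have hinner : ∀ g : L, Cfsg.classInner φ (conjChar hc.K_normal φ g) =
        (((a : ℝ) ^ 2 / ((T ⊓ Tg g).index : ℝ) : ℝ) : ℂ) := by
      intro g
      have e : ∀ t : K, φ t * conj (conjChar hc.K_normal φ g t) =
          if t ∈ T ⊓ Tg g then (a : ℂ) ^ 2 else 0 := by
        intro t
        show φ t * conj (φ (conjHom hc.K_normal g t)) = _
        simp only [hφ, hTg, Subgroup.mem_inf, Subgroup.mem_comap]
        split_ifs <;> simp_all [sq]
      rw [Cfsg.classInner, Finset.sum_congr rfl fun t _ => e t, ← Finset.sum_filter, Finset.sum_const,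
        nsmul_eq_mul, ← Fintype.card_subtype, ← Nat.card_eq_fintype_card,
        show Nat.card {x // x ∈ T ⊓ Tg g} = Nat.card ↥(T ⊓ Tg g) from rfl, ← (T ⊓ Tg g).card_mul_index]
      push_cast
      have h1 : (Nat.card ↥(T ⊓ Tg g) : ℂ) ≠ 0 := Nat.cast_ne_zero.mpr Nat.card_pos.ne'
      field_simp
    refine ⟨(Nat.card K : ℝ)⁻¹ * ∑ g : L, (a : ℝ) ^ 2 / ((T ⊓ Tg g).index : ℝ) + 1, ?_, ?_⟩
    · rw [hf, CfsgLib.Induction.indFun_sub, classInner_sub_left, classInner_sub_right,
        classInner_sub_right, hφθ, classInner_irr_self hirr,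
        classInner_conj_symm (Cfsg.indFun K φ) (Cfsg.indFun K θ), hφθ, map_zero,
        classInner_indFun_indFun hc.K_normal hφcl, Finset.sum_congr rfl fun g _ => hinner g]
      push_cast
      ring
    · set u := ((H ⊔ C).relIndex K : ℝ) with hu
      have hidx : (Hk ⊔ C.subgroupOf K) = (H ⊔ C).subgroupOf K :=
        (Subgroup.subgroupOf_sup hc.H_le (hc.C_le.trans hc.V_le)).symm
      have hTK : T.map K.subtype ≤ K := Subgroup.map_subtype_le T
      have hmem : ∀ (z : L) (hz : z ∈ K), z ∈ T.map K.subtype ↔ (⟨z, hz⟩ : K) ∈ T :=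
        fun z hz => ⟨fun ⟨w, hw, e⟩ => (Subtype.ext e : w = ⟨z, hz⟩) ▸ hw, fun h => ⟨_, h, rfl⟩⟩
      let lamL : H →* ℂˣ := lam.comp (Subgroup.subgroupOfEquivOfLe hc.H_le).symm.toMonoidHom
      have hone : ∀ g : L, g ∈ K → (a : ℝ) ^ 2 / ((T ⊓ Tg g).index : ℝ) = a := by
        intro g hg
        have : T ⊓ Tg g = T := by
          refine inf_eq_left.mpr fun t ht => ?_
          exact hTn.conj_mem t ht ⟨g, hg⟩
        rw [this, hTi, sq, mul_div_assoc, div_self, mul_one]
        rw [← hTi]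
        exact Nat.cast_ne_zero.mpr Subgroup.index_ne_zero_of_finite
      have hother : ∀ g : L, g ∉ K →
          u * ((a : ℝ) ^ 2 / ((T ⊓ Tg g).index : ℝ)) ≤ (a : ℝ) ^ (K.index - 1) := by
        intro g hg
        have hidxT : ∀ i, (Tg (g ^ i)).index = a := fun i => by
          rw [hTg, Subgroup.index_comap_of_surjective _ (conjHom_surjective hc.K_normal _), hTi]
        have hq3 : 2 ≤ K.index := hc.prime.two_le
        set D : ℕ → Subgroup K := fun n => (Finset.range n).inf fun i => Tg (g ^ i) with hD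
        have hD2 : D 2 = T ⊓ Tg g := by
          have e0 : Tg (g ^ 0) = T := by
            ext t
            rw [pow_zero, hTg]
            show conjHom hc.K_normal 1 t ∈ T ↔ _
            rw [show conjHom hc.K_normal 1 t = t from Subtype.ext (by simp [conjHom])]
          rw [hD]
          rw [pow_zero] at e0
          simp [Finset.range_add_one, e0, inf_comm]
        have hstep : ∀ n, (D (n + 2)).index ≤ (D 2).index * a ^ n := by
          intro n
          induction n with
          | zero => simp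
          | succ n ih =>
            have e : D (n + 1 + 2) = Tg (g ^ (n + 2)) ⊓ D (n + 2) := by
              simp only [hD]
              rw [show n + 1 + 2 = n + 2 + 1 from rfl, Finset.range_add_one, Finset.inf_insert]
            rw [e, pow_succ a n, ← mul_assoc]
            refine (Subgroup.index_inf_le).trans ?_
            rw [hidxT, mul_comm]
            exact Nat.mul_le_mul_right a ih
        have hsub : D (K.index - 1) ≤ (H ⊔ C).subgroupOf K := by
          intro y hy
          rw [Subgroup.mem_subgroupOf]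
          refine hc.le_sup_of_powers (T.map K.subtype)
            (fun h hh => (hmem h (hc.H_le hh)).mpr (hHT (Subgroup.mem_subgroupOf.mpr hh)))
            (fun c hc' => (hmem c (hc.V_le (hc.C_le hc'))).mpr (hCT (Subgroup.mem_subgroupOf.mpr hc')))
            hTK (fun k hk t ht => (hmem _ (K.mul_mem (K.mul_mem hk (hTK ht)) (K.inv_mem hk))).mpr
              (hTn.conj_mem ⟨t, hTK ht⟩ ((hmem t (hTK ht)).mp ht) ⟨k, hk⟩)) lamL ?_ ?_ ?_ hg y.2 ?_
          · intro e
            refine hlam (MonoidHom.ext fun h => ?_)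
            have := DFunLike.congr_fun e (Subgroup.subgroupOfEquivOfLe hc.H_le h)
            simpa [lamL] using this
          · intro h hh
            exact hlam₀ _ (Subgroup.mem_subgroupOf.mpr hh)
          · intro t ht h h' e
            have h1 := (hTmem ⟨t, hTK ht⟩).mp ((hmem t (hTK ht)).mp ht)
              ((Subgroup.subgroupOfEquivOfLe hc.H_le).symm h)
            simp only [lamL, MonoidHom.coe_comp, Function.comp_apply, MulEquiv.coe_toMonoidHom]
            rw [← h1]
            congr 1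
            exact Subtype.ext (Subtype.ext e)
          · intro i hi
            refine (hmem _ (hc.K_normal.conj_mem _ y.2 _)).mpr ?_
            have := (Finset.inf_le (f := fun i => Tg (g ^ i)) (Finset.mem_range.mpr hi)) hy
            exact this
        have hle : (H ⊔ C).relIndex K * a ^ 2 ≤ (T ⊓ Tg g).index * a ^ (K.index - 1) := by
          have h1 : (H ⊔ C).relIndex K ≤ (D (K.index - 1)).index :=
            Nat.le_of_dvd (Nat.pos_of_ne_zero Subgroup.index_ne_zero_of_finite)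
              (Subgroup.index_dvd_of_le hsub)
          obtain ⟨n, hn⟩ : ∃ n, K.index = n + 3 := ⟨K.index - 3, by have := hc.three_le; omega⟩
          rw [hn, show n + 3 - 1 = n + 2 from rfl] at h1 ⊢
          calc _ ≤ (D 2).index * a ^ n * a ^ 2 := Nat.mul_le_mul_right _ (h1.trans (hstep n))
            _ = _ := by rw [hD2]; ring
        rw [mul_div_assoc', div_le_iff₀ (by
          exact_mod_cast Nat.pos_of_ne_zero Subgroup.index_ne_zero_of_finite), hu]
        rw [mul_comm ((a : ℝ) ^ (K.index - 1))]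
        exact_mod_cast hle
      rw [← Finset.sum_filter_add_sum_filter_not Finset.univ (· ∈ K),
        Finset.sum_congr rfl fun g hg => hone g (Finset.mem_filter.mp hg).2, Finset.sum_const,
        nsmul_eq_mul, ← Fintype.card_subtype, ← Nat.card_eq_fintype_card,
        show Nat.card {x // x ∈ K} = Nat.card K from rfl]
      have hK0 : (Nat.card K : ℝ) ≠ 0 := Nat.cast_ne_zero.mpr Nat.card_pos.ne'
      rw [mul_add, inv_mul_cancel_left₀ hK0]
      refine le_trans (le_of_eq (b := (Nat.card K : ℝ)⁻¹ * (u * ∑ g ∈ Finset.univ.filter (fun g => g ∉ K),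
        (a : ℝ) ^ 2 / ((T ⊓ Tg g).index : ℝ))) (by ring)) ?_
      rw [Finset.mul_sum, inv_mul_le_iff₀ (by positivity)]
      refine (Finset.sum_le_card_nsmul _ _ _ fun g hg => hother g (Finset.mem_filter.mp hg).2).trans
        (le_of_eq ?_)
      rw [nsmul_eq_mul]
      have hcard : ((Finset.univ.filter fun g => g ∉ K).card : ℝ) =
          (Nat.card K : ℝ) * ((K.index : ℝ) - 1) := by
        have h1 := Finset.card_filter_add_card_filter_not (s := (Finset.univ : Finset L)) (· ∈ K)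
        rw [← Fintype.card_subtype, ← Nat.card_eq_fintype_card, Finset.card_univ,
          ← Nat.card_eq_fintype_card, ← K.card_mul_index] at h1
        have h2 : ((Nat.card K : ℝ)) + ((Finset.univ.filter fun g => g ∉ K).card : ℝ) =
            (Nat.card K : ℝ) * K.index := by exact_mod_cast h1
        linear_combination h2
      rw [hcard]; ring

end CfsgLib.PF.Sec9Coh
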