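import Cfsg.Agent.Lib.PF.Sec9Coherence
import Cfsg.Agent.Lib.PF.Sec9Chars
import Cfsg.Agent.Lib.PF.Sec8Tame
import Cfsg.Agent.Lib.PF.SubcoherentP

/-!
# Peterfalvi (9.11), with the inputs discharged
-/

set_option autoImplicit false

namespace CfsgLib.PF

universe u

/-- PF (9.11) from `IsMinSimpleOddOrder` alone. -/
theorem propCoreCoherence_full {G : Type u} [Group G] [Fintype G]
    (hG : Cfsg.IsMinSimpleOddOrder G) : PropCoreCoherence G :=
  propCoreCoherence hG (propDade hG) (propTIData hG (propTypes hG) (propDade hG))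
    (subcoherentP hG (propTypes hG) (propDade hG)) propReducible (propNonGalois hG)
    propGaloisDegrees

end CfsgLib.PF
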